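import Mathlib.CategoryTheory.Sites.SheafCohomology.Basic
import Mathlib.CategoryTheory.Adjunction.Whiskering
import Mathlib.Algebra.Category.Grp.Adjunctions
import Mathlib.CategoryTheory.Sites.LeftExact

/-!
# `Hom(ℤ_U, F) ≃ F(U)` for the free abelian sheaf on a representable (helper7)
-/

set_option autoImplicit false

universe v u

namespace Groth.Agent.Lib.helper7.FreeYoneda

open CategoryTheory Opposite

variable {C : Type u} [Category.{v} C] (J : GrothendieckTopology C)
  [HasSheafify J AddCommGrpCat.{v}]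

/-- The free abelian sheaf functor `U ↦ ℤ_U` (as used in Mathlib's `cohomologyPresheafFunctor`). -/
noncomputable abbrev freeSheaf : C ⥤ Sheaf J AddCommGrpCat.{v} :=
  yoneda ⋙ (Functor.whiskeringRight _ _ _).obj AddCommGrpCat.free ⋙ presheafToSheaf J _

/-- `Hom(ℤ_U, F) ≃ F(U)`. -/
noncomputable def homEquiv (U : C) (F : Sheaf J AddCommGrpCat.{v}) :
    ((freeSheaf J).obj U ⟶ F) ≃ F.obj.obj (op U) :=
  ((sheafificationAdjunction J AddCommGrpCat.{v}).homEquiv _ _).trans
    (((AddCommGrpCat.adj.whiskerRight Cᵒᵖ).homEquiv (yoneda.obj U) F.obj).trans yonedaEquiv)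

lemma homEquiv_naturality_left {U V : C} (i : V ⟶ U) (F : Sheaf J AddCommGrpCat.{v})
    (b : (freeSheaf J).obj U ⟶ F) :
    homEquiv J V F ((freeSheaf J).map i ≫ b) = F.obj.map i.op (homEquiv J U F b) := by
  dsimp only [homEquiv, Equiv.trans_apply, freeSheaf, Functor.comp_map]
  rw [Adjunction.homEquiv_naturality_left, Adjunction.homEquiv_naturality_left]
  exact (yonedaEquiv_naturality _ i).symm

lemma homEquiv_naturality_right (U : C) {F G : Sheaf J AddCommGrpCat.{v}} (φ : F ⟶ G)
    (b : (freeSheaf J).obj U ⟶ F) :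
    homEquiv J U G (b ≫ φ) = φ.hom.app (op U) (homEquiv J U F b) := by
  dsimp only [homEquiv, Equiv.trans_apply]
  rw [Adjunction.homEquiv_naturality_right, Adjunction.homEquiv_naturality_right]
  rfl

instance mono_freeSheaf_map {U V : C} (i : V ⟶ U) [Mono i] : Mono ((freeSheaf J).map i) := by
  dsimp only [freeSheaf, Functor.comp_map]
  infer_instance

end Groth.Agent.Lib.helper7.FreeYoneda
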