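import Mathlib.AlgebraicGeometry.Modules.Tilde
import Mathlib.AlgebraicGeometry.AffineScheme
import Mathlib.AlgebraicGeometry.Morphisms.QuasiCompact

/-!
# Sections of quasi-coherent modules over affine opens (helper7)

`exists_pow_smul_eq_zero_of_isAffineOpen`, `exists_pow_smul_eq_map_of_isAffineOpen`: for a
quasi-coherent `F` on a scheme, `U` affine open, `f ∈ Γ(X,U)`: `F(U) → F(D(f))` has the kernel and
image of a localization at `f`.  `exists_pow_smul_eq_zero_of_isCompact`: kernel part for `U`
quasi-compact.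
-/

universe u

open CategoryTheory AlgebraicGeometry TopologicalSpace Opposite

namespace Groth.Agent.Lib.helper7

variable {X : Scheme.{u}} {U : X.Opens} (hU : IsAffineOpen U)

theorem image_le (V : (Spec Γ(X, U)).Opens) : hU.fromSpec ''ᵁ V ≤ U := by
  rintro _ ⟨x, _, rfl⟩
  have : hU.fromSpec x ∈ Set.range hU.fromSpec := ⟨x, rfl⟩
  rw [hU.range_fromSpec] at this
  exact this

/-- translation of scalars -/
theorem scalar_eq (V : (Spec Γ(X, U)).Opens) :
    (Scheme.ΓSpecIso Γ(X, U)).inv ≫ (Spec Γ(X, U)).presheaf.map V.leTop.op ≫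
      (hU.fromSpec.appIso V).inv = X.presheaf.map (homOfLE (image_le hU V)).op := by
  rw [← cancel_mono (hU.fromSpec.appIso V).hom]
  simp only [Category.assoc, Iso.inv_hom_id, Category.comp_id]
  rw [Scheme.Hom.appIso_hom, ← Category.assoc (X.presheaf.map _), Scheme.Hom.naturality]
  rw [hU.fromSpec_app_self]
  simp only [Category.assoc, ← Functor.map_comp]
  rfl

variable (F : X.Modules)

/-- The `Γ(X,U)`-module structure on sections of the restriction of `F` to `Spec Γ(X,U)` is the
restriction of scalars of the structure of `F`. -/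
theorem smul_eq (V : (Spec Γ(X, U)).Opens) (r : Γ(X, U))
    (x : Γ(F.restrict hU.fromSpec, V)) :
    r • x = ((X.presheaf.map (homOfLE (image_le hU V)).op r : Γ(X, hU.fromSpec ''ᵁ V)) •
      (show Γ(F, hU.fromSpec ''ᵁ V) from x) : Γ(F, hU.fromSpec ''ᵁ V)) := by
  rw [Scheme.Modules.smul_Spec_def]
  have h := scalar_eq hU V
  have h2 : (hU.fromSpec.appIso V).inv (((Spec Γ(X, U)).presheaf.map V.leTop.op)
      ((Scheme.ΓSpecIso Γ(X, U)).inv r)) = X.presheaf.map (homOfLE (image_le hU V)).op r := by
    rw [← h]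
    rfl
  rw [← h2]
  rfl

/-- presheaf maps of `F` compose -/
theorem map_map {V₁ V₂ V₃ : X.Opens} (h₁ : V₂ ≤ V₁) (h₂ : V₃ ≤ V₂) (x : Γ(F, V₁)) :
    F.presheaf.map (homOfLE h₂).op (F.presheaf.map (homOfLE h₁).op x) =
      F.presheaf.map (homOfLE (h₂.trans h₁)).op x := by
  rw [← ConcreteCategory.comp_apply, ← Functor.map_comp]
  rfl

theorem map_self {V : X.Opens} (h : V ≤ V) (x : Γ(F, V)) :
    F.presheaf.map (homOfLE h).op x = x := by
  have : (homOfLE h).op = 𝟙 (op V) := rfl
  rw [this, F.presheaf.map_id]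
  rfl

theorem map_injective_of_eq {V₁ V₂ : X.Opens} (e : V₁ = V₂) :
    Function.Injective (F.presheaf.map (homOfLE e.ge).op) := by
  intro x y hxy
  have := congrArg (F.presheaf.map (homOfLE e.le).op) hxy
  rwa [map_map, map_map, map_self, map_self] at this

variable [F.IsQuasicoherent]

theorem isLocalizing_restrict :
    IsLocalizing (modulesSpecToSheaf.obj (F.restrict hU.fromSpec)) :=
  (isIso_fromTildeΓ_iff_isLocalizing _).mp inferInstance

theorem image_top_eq : hU.fromSpec ''ᵁ ⊤ = U := by
  rw [Scheme.Hom.image_top_eq_opensRange, hU.opensRange_fromSpec]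

include hU in
/-- **Quasi-coherent sheaves on affine opens, injectivity part**: a section over an affine open
`U` vanishing on `D(f)` is killed by a power of `f`. -/
theorem exists_pow_smul_eq_zero_of_isAffineOpen (f : Γ(X, U)) (s : Γ(F, U))
    (hs : F.presheaf.map (homOfLE (X.basicOpen_le f)).op s = 0) : ∃ n : ℕ, f ^ n • s = 0 := by
  have e1 : hU.fromSpec ''ᵁ ⊤ = U := image_top_eq hU
  have e2 : hU.fromSpec ''ᵁ (PrimeSpectrum.basicOpen f) = X.basicOpen f :=
    hU.fromSpec_image_basicOpen f
  let s' : Γ(F.restrict hU.fromSpec, ⊤) := F.presheaf.map (homOfLE e1.le).op s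
  have h0 : ((modulesSpecToSheaf.obj (F.restrict hU.fromSpec)).obj.map
      (PrimeSpectrum.basicOpen f).leTop.op).hom s' = 0 := by
    change F.presheaf.map (homOfLE (Scheme.Hom.image_mono _ le_top)).op
      (F.presheaf.map (homOfLE e1.le).op s) = 0
    rw [map_map]
    have : F.presheaf.map (homOfLE (e2.le.trans (X.basicOpen_le f))).op s = 0 := by
      rw [← map_map F (X.basicOpen_le f) e2.le, hs, map_zero]
    exact this
  have hloc := isLocalizing_restrict hU F f
  obtain ⟨⟨_, n, rfl⟩, hn⟩ := (IsLocalizedModule.eq_zero_iff (.powers f) _).mp h0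
  refine ⟨n, ?_⟩
  have hn' : (f ^ n) • s' = 0 := hn
  rw [smul_eq hU F ⊤ (f ^ n) s'] at hn'
  apply map_injective_of_eq F e1.symm
  rw [map_zero]
  exact (Scheme.Modules.map_smul F (homOfLE e1.le) (f ^ n) s).trans hn'

include hU in
/-- **Quasi-coherent sheaves on affine opens, surjectivity part**: a section over `D(f)`, `f` a
function on the affine open `U`, extends to `U` after multiplication by a power of `f`. -/
theorem exists_pow_smul_eq_map_of_isAffineOpen (f : Γ(X, U)) (t : Γ(F, X.basicOpen f)) :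
    ∃ (n : ℕ) (s : Γ(F, U)), F.presheaf.map (homOfLE (X.basicOpen_le f)).op s =
      (X.presheaf.map (homOfLE (X.basicOpen_le f)).op f) ^ n • t := by
  have e1 : hU.fromSpec ''ᵁ ⊤ = U := image_top_eq hU
  have e2 : hU.fromSpec ''ᵁ (PrimeSpectrum.basicOpen f) = X.basicOpen f :=
    hU.fromSpec_image_basicOpen f
  let t' : Γ(F.restrict hU.fromSpec, PrimeSpectrum.basicOpen f) :=
    F.presheaf.map (homOfLE e2.le).op t
  have hloc := isLocalizing_restrict hU F f
  let D : (Spec Γ(X, U)).Opens := PrimeSpectrum.basicOpen f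
  obtain ⟨⟨x, ⟨_, n, rfl⟩⟩, hx⟩ := IsLocalizedModule.surj (.powers f)
    ((modulesSpecToSheaf.obj (F.restrict hU.fromSpec)).obj.map D.leTop.op).hom
    (show ↑((modulesSpecToSheaf.obj (F.restrict hU.fromSpec)).obj.obj (op D)) from t')
  refine ⟨n, F.presheaf.map (homOfLE e1.ge).op x, ?_⟩
  apply map_injective_of_eq F e2.symm
  rw [map_map, map_map]
  have hx' : (f ^ n) • t' =
      F.presheaf.map (homOfLE (Scheme.Hom.image_mono hU.fromSpec le_top)).op x := hx
  rw [smul_eq hU F _ (f ^ n) t'] at hx'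
  refine hx'.symm.trans ?_
  refine Eq.trans ?_ (Scheme.Modules.map_smul F (homOfLE e2.le) _ t).symm
  congr 1
  rw [map_pow, map_pow]
  congr 1
  rw [← ConcreteCategory.comp_apply, ← Functor.map_comp]
  rfl

/-- If a section `s` of a quasi-coherent module over a quasi-compact open `U` vanishes on `D(f)`,
then `f ^ n • s = 0` for some `n`. -/
theorem exists_pow_smul_eq_zero_of_isCompact {U : X.Opens} (hU : IsCompact U.1) (f : Γ(X, U))
    (s : Γ(F, U)) (H : F.presheaf.map (homOfLE (X.basicOpen_le f)).op s = 0) :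
    ∃ n : ℕ, f ^ n • s = 0 := by
  obtain ⟨S, hS, e⟩ := isCompact_and_isOpen_iff_finite_and_eq_biUnion_affineOpens.mp ⟨hU, U.2⟩
  replace e : U = iSup fun i : S => (i : X.Opens) := by
    ext1; simpa using e
  have h₁ (i : S) : i.1.1 ≤ U := by
    rw [e]
    exact le_iSup (fun (i : S) => (i : X.Opens)) _
  have H' := fun i : S =>
    exists_pow_smul_eq_zero_of_isAffineOpen i.1.2 F
      (X.presheaf.map (homOfLE (h₁ i)).op f) (F.presheaf.map (homOfLE (h₁ i)).op s) (by
        rw [map_map]
        have hle : X.basicOpen (X.presheaf.map (homOfLE (h₁ i)).op f) ≤ X.basicOpen f := by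
          rw [Scheme.basicOpen_res]; exact inf_le_right
        rw [← map_map F (X.basicOpen_le f) hle, H, map_zero])
  choose n hn using H'
  have := hS.to_subtype
  cases nonempty_fintype S
  use Finset.univ.sup n
  suffices ∀ i : S, F.presheaf.map (homOfLE (h₁ i)).op (f ^ Finset.univ.sup n • s) = 0 by
    apply TopCat.Sheaf.eq_of_locally_eq' ⟨F.presheaf, F.isSheaf⟩ (fun i : S => (i : X.Opens)) U
      (fun i => homOfLE (h₁ i)) e.le
    intro i
    rw [map_zero]
    exact this i
  intro i
  rw [Scheme.Modules.map_smul, map_pow,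
    ← Nat.sub_add_cancel (Finset.le_sup (Finset.mem_univ i) : n i ≤ Finset.univ.sup n), pow_add,
    mul_smul, hn i, smul_zero]

end Groth.Agent.Lib.helper7
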