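import Mathlib.AlgebraicGeometry.Morphisms.FinitePresentation
import Mathlib.AlgebraicGeometry.Morphisms.FiniteType
import Mathlib.AlgebraicGeometry.Morphisms.Separated
import Mathlib.AlgebraicGeometry.Morphisms.Affine

/-!
# Cancellation for morphisms locally of finite presentation

If `f ≫ g` is locally of finite presentation and `g` is locally of finite type, then `f` is locally
of finite presentation. Consequences: diagonals of morphisms locally of finite type and equalizers
of maps into them are locally of finite presentation.
-/

set_option autoImplicit false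
universe u

open CategoryTheory CategoryTheory.Limits AlgebraicGeometry

namespace Groth.Agent.Lib.helper7

/-- Two-property version of `HasRingHomProperty.of_comp`. -/
theorem hasRingHomProperty_of_comp' {P P' : MorphismProperty Scheme.{u}}
    {Q Q' : ∀ {R S : Type u} [CommRing R] [CommRing S], (R →+* S) → Prop}
    [HasRingHomProperty P Q] [HasRingHomProperty P' Q']
    (H : ∀ {R S T : Type u} [CommRing R] [CommRing S] [CommRing T],
      ∀ (f : R →+* S) (g : S →+* T), Q (g.comp f) → Q' f → Q g)
    {X Y Z : Scheme.{u}} {f : X ⟶ Y} {g : Y ⟶ Z} (h : P (f ≫ g)) (h' : P' g) : P f := by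
  wlog hZ : IsAffine Z generalizing X Y Z
  · rw [IsZariskiLocalAtTarget.iff_of_iSup_eq_top (P := P) _
      (g.iSup_preimage_eq_top (iSup_affineOpens_eq_top Z))]
    intro U
    have H1 := IsZariskiLocalAtTarget.restrict h U.1
    rw [morphismRestrict_comp] at H1
    exact this H1 (IsZariskiLocalAtTarget.restrict h' U.1) inferInstance
  wlog hY : IsAffine Y generalizing X Y
  · rw [IsZariskiLocalAtTarget.iff_of_iSup_eq_top (P := P) _ (iSup_affineOpens_eq_top Y)]
    intro U
    have H1 := HasRingHomProperty.comp_of_isOpenImmersion P (f ⁻¹ᵁ U.1).ι (f ≫ g) h
    rw [← morphismRestrict_ι_assoc] at H1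
    exact this H1 (HasRingHomProperty.comp_of_isOpenImmersion P' U.1.ι g h') inferInstance
  wlog hX : IsAffine X generalizing X
  · rw [IsZariskiLocalAtSource.iff_of_iSup_eq_top (P := P) _ (iSup_affineOpens_eq_top X)]
    intro U
    have H1 := HasRingHomProperty.comp_of_isOpenImmersion P U.1.ι (f ≫ g) h
    rw [← Category.assoc] at H1
    exact this H1 inferInstance
  rw [HasRingHomProperty.iff_of_isAffine (P := P)] at h ⊢
  rw [HasRingHomProperty.iff_of_isAffine (P := P')] at h'
  exact H _ _ h h'

/-- If `f ≫ g` is locally of finite presentation and `g` is locally of finite type, then `f` is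
locally of finite presentation. -/
theorem locallyOfFinitePresentation_of_comp {X Y Z : Scheme.{u}} (f : X ⟶ Y) (g : Y ⟶ Z)
    [h : LocallyOfFinitePresentation (f ≫ g)] [h' : LocallyOfFiniteType g] :
    LocallyOfFinitePresentation f :=
  hasRingHomProperty_of_comp' (P := @LocallyOfFinitePresentation) (P' := @LocallyOfFiniteType)
    (fun f _ hg hf => RingHom.FinitePresentation.of_comp_finiteType f hg hf) h h'

/-- The diagonal of a morphism locally of finite type is locally of finite presentation. -/
instance locallyOfFinitePresentation_diagonal {X Y : Scheme.{u}} (f : X ⟶ Y)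
    [LocallyOfFiniteType f] : LocallyOfFinitePresentation (pullback.diagonal f) := by
  have : LocallyOfFinitePresentation (pullback.diagonal f ≫ pullback.fst f f) := by
    rw [pullback.diagonal_fst]
    infer_instance
  exact locallyOfFinitePresentation_of_comp (pullback.diagonal f) (pullback.fst f f)

set_option backward.isDefEq.respectTransparency false in
/-- Equalizers of morphisms into an `S`-scheme locally of finite type are locally of finite
presentation. -/
theorem locallyOfFinitePresentation_equalizer_ι_left {S : Scheme.{u}} {X Y : Over S}
    [LocallyOfFiniteType Y.hom] (f g : X ⟶ Y) :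
    LocallyOfFinitePresentation (equalizer.ι f g).left := by
  refine MorphismProperty.of_isPullback (P := @LocallyOfFinitePresentation)
    ((Limits.isPullback_equalizer_prod f g).map (Over.forget _)).flip ?_
  rw [← MorphismProperty.cancel_right_of_respectsIso @LocallyOfFinitePresentation _
    (Over.prodLeftIsoPullback Y Y).hom]
  convert! (inferInstance : LocallyOfFinitePresentation (pullback.diagonal Y.hom))
  ext1 <;> simp [← Over.comp_left]

end Groth.Agent.Lib.helper7
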