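import Groth.Prelude.Def_AlgSp4
import Groth.Agent.Lib.Helper11.AlgSpBasic

/-!
# Atlases of fibre products of fppf sheaves with atlases (helper7)
-/

set_option autoImplicit false
universe u

open CategoryTheory CategoryTheory.Limits AlgebraicGeometry Opposite

namespace Groth.Agent.Lib.helper7.AlgSpFibre

open AlgSp

variable {S : Scheme.{u}}

/-- A sheaf has an atlas: an etale surjective chart from a scheme. -/
def HasAtlas (F : Sp S) : Prop :=
  ∃ (U : Over S) (p : (yon S).obj U ⟶ F), RepWith @Etale p ∧ RepWith @Surjective p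

/-- The fibre product `X ×_H Y` of sheaves with atlases over a sheaf with representable diagonal
has an atlas. -/
theorem hasAtlas_of_isPullback {H X Y P : Sp S} (hH : Representable (Limits.diag H))
    (hX : HasAtlas X) (hY : HasAtlas Y) {f : X ⟶ H} {g : Y ⟶ H} {fst : P ⟶ X} {snd : P ⟶ Y}
    (h : IsPullback fst snd f g) : HasAtlas P := by
  obtain ⟨A, a, hae, has⟩ := hX
  obtain ⟨B, b, hbe, hbs⟩ := hY
  -- `Q₁ = h_A ×_X P`
  have sq1 : IsPullback (pullback.fst a fst) (pullback.snd a fst) a fst :=
    IsPullback.of_hasPullback a fst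
  have h1e : RepWith @Etale (pullback.snd a fst) := MorphismProperty.of_isPullback sq1 hae
  have h1s : RepWith @Surjective (pullback.snd a fst) := MorphismProperty.of_isPullback sq1 has
  -- `Q₁ = h_A ×_H Y`
  have sq1' : IsPullback (pullback.snd a fst ≫ snd) (pullback.fst a fst) g (a ≫ f) :=
    sq1.flip.paste_horiz h.flip
  -- `Q₂ = Q₁ ×_Y h_B`
  have sq2 : IsPullback (pullback.fst b (pullback.snd a fst ≫ snd))
      (pullback.snd b (pullback.snd a fst ≫ snd)) b (pullback.snd a fst ≫ snd) :=
    IsPullback.of_hasPullback _ _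
  have h2e : RepWith @Etale (pullback.snd b (pullback.snd a fst ≫ snd)) :=
    MorphismProperty.of_isPullback sq2 hbe
  have h2s : RepWith @Surjective (pullback.snd b (pullback.snd a fst ≫ snd)) :=
    MorphismProperty.of_isPullback sq2 hbs
  -- `Q₂ = h_A ×_H h_B`
  have sq2' : IsPullback (pullback.fst b (pullback.snd a fst ≫ snd))
      (pullback.snd b (pullback.snd a fst ≫ snd) ≫ pullback.fst a fst) (b ≫ g) (a ≫ f) :=
    sq2.paste_vert sq1'
  -- representability
  have hrep : Representable (b ≫ g) := Functor.relativelyRepresentable.of_diag hH (b ≫ g)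
  obtain ⟨V, s, t, sq3⟩ := hrep (a ≫ f)
  let e : (yon S).obj V ≅ pullback b (pullback.snd a fst ≫ snd) := sq3.isoIsPullback _ _ sq2'
  refine ⟨V, e.hom ≫ pullback.snd b (pullback.snd a fst ≫ snd) ≫ pullback.snd a fst, ?_, ?_⟩
  · exact MorphismProperty.RespectsIso.precomp _ _ _
      ((repWith_isMultiplicative (S := S) @Etale).comp_mem _ _ h2e h1e)
  · exact MorphismProperty.RespectsIso.precomp _ _ _
      ((repWith_isMultiplicative (S := S) @Surjective).comp_mem _ _ h2s h1s)

theorem IsAlgSpace.hasAtlas {F : Sp S} (hF : IsAlgSpace F) : HasAtlas F := hF.atlas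

/-- A sheaf with an atlas and compact space of points is quasi-compact. -/
theorem isQuasiCompactSp_of_compactSpace {F : Sp S} (hF : HasAtlas F) [CompactSpace (Points F)] :
    IsQuasiCompactSp F := by
  obtain ⟨W, q, hqe, hqs⟩ := hF
  obtain ⟨V, r, hV, hre, hrs⟩ :=
    Groth.Agent.Lib.helper11.exists_affine_chart_of_compactSpace q hqe hqs
  exact ⟨V, r, hre, hrs, inferInstance⟩

/-- The space of points of a quasi-compact sheaf is compact. -/
theorem compactSpace_of_isQuasiCompactSp {F : Sp S} (hF : IsQuasiCompactSp F) :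
    CompactSpace (Points F) := by
  obtain ⟨U, p, hpe, hps, hU⟩ := hF
  have hU' : CompactSpace ↥U.left := hU
  constructor
  rw [← (Groth.Agent.Lib.helper11.surjective_ofPt p hps).range_eq]
  exact isCompact_range (Points.continuous_ofPt p)

/-- Surjectivity on points is stable under base change. -/
theorem surjective_of_isPullback {F G G' P : Sp S} {fst : P ⟶ F} {snd : P ⟶ G'} {f : F ⟶ G}
    {g : G' ⟶ G} (h : IsPullback fst snd f g) (hf : Function.Surjective (Points.map f)) :
    Function.Surjective (Points.map snd) := by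
  intro z
  obtain ⟨x, hx⟩ := hf (Points.map g z)
  obtain ⟨w, _, hw⟩ := Groth.Agent.Lib.helper10.exists_point_of_isPullback h x z hx
  exact ⟨w, hw⟩

/-- The image of a compact space of points under a surjective morphism. -/
theorem compactSpace_of_surjective {F G : Sp S} (f : F ⟶ G)
    (hf : Function.Surjective (Points.map f)) [CompactSpace (Points F)] :
    CompactSpace (Points G) := by
  constructor
  rw [← hf.range_eq]
  exact isCompact_range (Points.continuous_map f)

end Groth.Agent.Lib.helper7.AlgSpFibre
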