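import Groth.Prelude.Def_AlgSp4
import Groth.Agent.Lib.Helper7.AlgSpFibre
import Groth.Agent.Lib.Helper5.AlgSpUniv

/-!
# Quasi-compactness for fppf sheaves and representable morphisms (helper7)
-/

set_option autoImplicit false
universe u

open CategoryTheory CategoryTheory.Limits AlgebraicGeometry Opposite

namespace Groth.Agent.Lib.helper7.AlgSpQC

open AlgSp Groth.Agent.Lib.helper7.AlgSpFibre

variable {S : Scheme.{u}}

/-- `h_T` is quasi-compact for a quasi-compact scheme `T`. -/
theorem isQuasiCompactSp_yon (T : Over S) [CompactSpace ↥T.left] :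
    IsQuasiCompactSp ((yon S).obj T) :=
  ⟨T, 𝟙 _,
    by rw [← (yon S).map_id]; exact (repWith_yon_map_iff _ _).2 (by dsimp; infer_instance),
    by rw [← (yon S).map_id]; exact (repWith_yon_map_iff _ _).2 (by dsimp; infer_instance),
    inferInstance⟩

/-- If `h_T` is quasi-compact then `T` is quasi-compact. -/
theorem compactSpace_of_isQuasiCompactSp_yon (T : Over S) (h : IsQuasiCompactSp ((yon S).obj T)) :
    CompactSpace ↥T.left := by
  have := compactSpace_of_isQuasiCompactSp h
  exact (Points.schemeHomeo T).symm.compactSpace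

/-- Base change of a represented pullback square along a pullback square of schemes. -/
theorem isPullback_paste_scheme {F G : Sp S} {f : F ⟶ G} {U V : Over S} {g : (yon S).obj U ⟶ G}
    {fst : (yon S).obj V ⟶ F} {snd : V ⟶ U}
    (sq : IsPullback fst ((yon S).map snd) f g) {T T' : Scheme.{u}} {a : T' ⟶ V.left} {b : T' ⟶ T}
    {h : T ⟶ U.left} (sq2 : IsPullback a b snd.left h) :
    ∃ (a' : Over.mk (b ≫ h ≫ U.hom) ⟶ V) (h' : Over.mk (h ≫ U.hom) ⟶ U),
      IsPullback ((yon S).map a' ≫ fst)
        ((yon S).map (Over.homMk b rfl : Over.mk (b ≫ h ≫ U.hom) ⟶ Over.mk (h ≫ U.hom)))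
        f ((yon S).map h' ≫ g) := by
  let b' : Over.mk (b ≫ h ≫ U.hom) ⟶ Over.mk (h ≫ U.hom) := Over.homMk b rfl
  let h' : Over.mk (h ≫ U.hom) ⟶ U := Over.homMk h rfl
  let a' : Over.mk (b ≫ h ≫ U.hom) ⟶ V := Over.homMk a (by
    have := Over.w snd
    dsimp at this ⊢
    rw [← this, ← Category.assoc, sq2.w, Category.assoc])
  have sq3 : IsPullback a' b' snd h' := by
    refine IsPullback.of_map (Over.forget S) ?_ ?_
    · apply Over.OverMorphism.ext
      simpa [a', b', h'] using sq2.w
    · exact sq2
  exact ⟨a', h', (sq3.map (yon S)).paste_horiz sq⟩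

/-- A morphism representable by quasi-compact morphisms is quasi-compact. -/
theorem isQuasiCompactMor_of_repWith {F G : Sp S} {f : F ⟶ G} (hf : RepWith @QuasiCompact f) :
    IsQuasiCompactMor f := by
  intro Z Z' hZ hZc g fst snd sq
  obtain ⟨U, q, hqe, hqs, hU⟩ := hZc
  have hU' : CompactSpace ↥U.left := hU
  have hsnd : Representable snd := Groth.Agent.Lib.helper5.representable_of_isPullback hf.rep sq
  obtain ⟨V, s, fst', sq'⟩ := hsnd q
  have hs : QuasiCompact s.left := hf.2 (q ≫ g) (fst' ≫ fst) s (sq'.paste_horiz sq)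
  have hV : CompactSpace ↥V.left := QuasiCompact.compactSpace_of_compactSpace s.left
  exact ⟨V, fst', MorphismProperty.of_isPullback sq'.flip hqe,
    MorphismProperty.of_isPullback sq'.flip hqs, hV⟩

/-- A representable quasi-compact morphism is representable by quasi-compact morphisms. -/
theorem repWith_of_isQuasiCompactMor {F G : Sp S} {f : F ⟶ G} (hrep : Representable f)
    (hf : IsQuasiCompactMor f) : RepWith @QuasiCompact f := by
  refine ⟨hrep, ?_⟩
  intro U V g fst snd sq
  change QuasiCompact snd.left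
  rw [quasiCompact_iff_forall_isAffineOpen]
  intro W hW
  have sq2 : IsPullback (snd.left ⁻¹ᵁ W).ι (snd.left ∣_ W) snd.left W.ι :=
    (isPullback_morphismRestrict snd.left W).flip
  obtain ⟨a', h', sq3⟩ := isPullback_paste_scheme sq sq2
  have hWc : CompactSpace ↥(Over.mk (W.ι ≫ U.hom)).left := by
    change CompactSpace ↥(W : Scheme.{u})
    exact isCompact_iff_compactSpace.mp hW.isCompact
  have hq := hf (IsAlgSpace.yon_obj _) (isQuasiCompactSp_yon _) _ _ _ sq3
  have hc := compactSpace_of_isQuasiCompactSp_yon _ hq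
  exact isCompact_iff_compactSpace.mpr hc

end Groth.Agent.Lib.helper7.AlgSpQC
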