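import Mathlib.Algebra.Homology.ShortComplex.ModuleCat
import Mathlib.Algebra.Homology.ShortComplex.ShortExact

/-!
# helper7: short exact sequences in `ModuleCat` from linear maps
-/

universe u

open CategoryTheory

namespace Groth.Agent.Lib.helper7.ModSES

variable {A : Type u} [Ring A]
variable {M N P : Type u} [AddCommGroup M] [Module A M] [AddCommGroup N] [Module A N]
  [AddCommGroup P] [Module A P]

/-- the short complex `M ⟶ N ⟶ P` in `ModuleCat` of an exact pair of linear maps. -/
noncomputable def mkSES (f : M →ₗ[A] N) (g : N →ₗ[A] P) (hfg : Function.Exact f g) :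
    ShortComplex (ModuleCat.{u} A) :=
  ShortComplex.mk (ModuleCat.ofHom f) (ModuleCat.ofHom g) (by
    ext x
    exact hfg.apply_apply_eq_zero x)

lemma mkSES_exact (f : M →ₗ[A] N) (g : N →ₗ[A] P) (hfg : Function.Exact f g) :
    (mkSES f g hfg).Exact := by
  rw [ShortComplex.ShortExact.moduleCat_exact_iff_function_exact]
  exact hfg

lemma mkSES_shortExact (f : M →ₗ[A] N) (g : N →ₗ[A] P) (hfg : Function.Exact f g)
    (hf : Function.Injective f) (hg : Function.Surjective g) :
    (mkSES f g hfg).ShortExact := by
  haveI : Mono (mkSES f g hfg).f := (ModuleCat.mono_iff_injective _).2 hf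
  haveI : Epi (mkSES f g hfg).g := (ModuleCat.epi_iff_surjective _).2 hg
  exact ⟨mkSES_exact f g hfg⟩

end Groth.Agent.Lib.helper7.ModSES
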