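import Groth.Prelude.Def_AlgSp4

/-!
# Monomorphisms and isomorphisms for `AlgSp.RepWith` (helper7)

* `mono_of_repWith`: a morphism of sheaves which is representable with a property `P` contained in the
  monomorphisms of schemes is a monomorphism of sheaves.
* `repWith_of_isIso`: an isomorphism of sheaves is `RepWith P` for every `P` containing identities and
  respecting isomorphisms.
* `repWith_diagonal_of_mono`: the diagonal of a monomorphism is `RepWith P` for such `P`.
-/

set_option autoImplicit false
universe u

open CategoryTheory CategoryTheory.Limits AlgebraicGeometry Opposite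

namespace Groth.Agent.Lib.helper7

variable {S : Scheme.{u}}

/-- Two maps `h_T ⟶ F` that agree after composing with a map `f` representable by monomorphisms agree. -/
theorem yon_hom_ext_of_repWith {P : MorphismProperty Scheme.{u}}
    (hP : P ≤ MorphismProperty.monomorphisms Scheme.{u}) {F G : AlgSp.Sp S} {f : F ⟶ G}
    (hf : AlgSp.RepWith P f) {T : Over S} (a b : (AlgSp.yon S).obj T ⟶ F) (h : a ≫ f = b ≫ f) :
    a = b := by
  have hrep := hf.rep
  have hmono : Mono (hrep.snd (a ≫ f)) := by
    have h1 : P (hrep.snd (a ≫ f)).left := hf.property_snd (a ≫ f)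
    have h2 : Mono (hrep.snd (a ≫ f)).left := hP _ h1
    exact (Over.forget S).mono_of_mono_map h2
  have key : hrep.lift (g := a ≫ f) a (𝟙 T) (by simp) =
      hrep.lift (g := a ≫ f) b (𝟙 T) (by simp [← h]) := by
    rw [← cancel_mono (hrep.snd (a ≫ f))]
    simp only [Functor.relativelyRepresentable.lift_snd]
  have h1 := Functor.relativelyRepresentable.lift_fst hrep (g := a ≫ f) a (𝟙 T) (by simp)
  have h2 := Functor.relativelyRepresentable.lift_fst hrep (g := a ≫ f) b (𝟙 T) (by simp [← h])
  rw [← h1, ← h2, key]

/-- A morphism of sheaves representable by monomorphisms of schemes is a monomorphism. -/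
theorem mono_of_repWith {P : MorphismProperty Scheme.{u}}
    (hP : P ≤ MorphismProperty.monomorphisms Scheme.{u}) {F G : AlgSp.Sp S} {f : F ⟶ G}
    (hf : AlgSp.RepWith P f) : Mono f := by
  refine ⟨fun {Z} a b hab => ?_⟩
  apply GrothendieckTopology.hom_ext_uliftYoneda.{u + 1, u, u + 1} (J := AlgSp.J S)
  intro T c
  exact yon_hom_ext_of_repWith hP hf _ _ (by simp only [Category.assoc, hab])

/-- An isomorphism of sheaves is `RepWith P` as soon as `P` contains identities and respects isomorphisms. -/
theorem repWith_of_isIso (P : MorphismProperty Scheme.{u}) [P.ContainsIdentities] [P.RespectsIso]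
    {F G : AlgSp.Sp S} (f : F ⟶ G) [IsIso f] : AlgSp.RepWith P f := by
  refine ⟨Functor.relativelyRepresentable.of_isIso _ f, ?_⟩
  intro U V g fst snd sq
  have h1 : IsIso ((AlgSp.yon S).map snd) := sq.isIso_snd_of_isIso
  have h2 : IsIso snd := isIso_of_fully_faithful (AlgSp.yon S) snd
  have h3 : IsIso snd.left := (Over.forget S).map_isIso snd
  exact P.of_isIso snd.left

/-- The diagonal of a monomorphism of sheaves is `RepWith P`. -/
theorem repWith_diagonal_of_mono (P : MorphismProperty Scheme.{u}) [P.ContainsIdentities] [P.RespectsIso]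
    {F G : AlgSp.Sp S} (f : F ⟶ G) [Mono f] : AlgSp.RepWith P (pullback.diagonal f) :=
  repWith_of_isIso P _

end Groth.Agent.Lib.helper7
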