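import Groth.Prelude.Def_CxOX
import Groth.Agent.Lib.Helper16.CohFinite
import Groth.Agent.S9496
import Groth.Agent.S0046

/-!
# Kernels of morphisms of (quasi-)coherent modules on schemes (helper7)

* `isQuasicoherent_of_presentations`: quasi-coherence from presentations on an open cover.
* `isQuasicoherent_of_affine`: quasi-coherence can be checked after restriction to `Spec Γ(X,U)`
  for all affine opens.
* `isQuasicoherent_kernel`: the kernel of a morphism of quasi-coherent modules is quasi-coherent.
* `isCoh_kernel`: on a locally Noetherian scheme the kernel of a morphism of coherent modules is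
  coherent.
-/

set_option autoImplicit false
universe u v' u'
open CategoryTheory CategoryTheory.Limits AlgebraicGeometry TopologicalSpace Opposite

namespace Groth.Agent.Lib.helper7.CohKer

open Scheme.Modules Groth.Agent.Lib.helper16.CohFinite

section General

variable {C : Type u'} [Category.{v'} C] [HasBinaryProducts C] {J : GrothendieckTopology C}
  {R : Sheaf J RingCat.{u}}
  [HasSheafify J AddCommGrpCat.{u}] [J.WEqualsLocallyBijective AddCommGrpCat.{u}]
  [∀ (X : C), HasSheafify (J.over X) AddCommGrpCat.{u}]
  [∀ (X : C), (J.over X).WEqualsLocallyBijective AddCommGrpCat.{u}]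

theorem isFiniteType_of_epi_general {M N : SheafOfModules.{u} R} (p : M ⟶ N) [Epi p]
    (hM : SheafOfModules.IsFiniteType M) : SheafOfModules.IsFiniteType N := by
  obtain ⟨σ, hσ⟩ := hM.exists_localGeneratorsData
  have hepi : ∀ i, Epi ((SheafOfModules.overFunctor R (σ.X i)).map p) := fun i => by
    have : (SheafOfModules.overFunctor.{u} R (σ.X i)).IsLeftAdjoint := by
      unfold SheafOfModules.overFunctor
      infer_instance
    exact (SheafOfModules.overFunctor.{u} R (σ.X i)).map_epi p
  let τ : SheafOfModules.LocalGeneratorsData.{u'} N :=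
    { I := σ.I
      X := σ.X
      coversTop := σ.coversTop
      generators := fun i => (σ.generators i).ofEpi
        ((SheafOfModules.overFunctor R (σ.X i)).map p) }
  have h : τ.IsFiniteType :=
    @SheafOfModules.LocalGeneratorsData.IsFiniteType.mk _ _ _ _ _ _ _ τ (fun i => by
      have := hσ.isFiniteType i
      exact inferInstanceAs (((σ.generators i).ofEpi
        ((SheafOfModules.overFunctor R (σ.X i)).map p)).IsFiniteType))
  exact @SheafOfModules.IsFiniteType.mk _ _ _ _ _ _ N ⟨τ, h⟩

end General

variable {X : Scheme.{u}}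

/-- A module with presentations on an open cover is quasi-coherent. -/
theorem isQuasicoherent_of_presentations (F : X.Modules) {ι : Type u} (W : ι → X.Opens)
    (hcov : ⨆ i, W i = ⊤) (P : ∀ i, SheafOfModules.Presentation (F.restrict (W i).ι)) :
    F.IsQuasicoherent := by
  let σ : SheafOfModules.QuasicoherentData (R := X.ringCatSheaf) F :=
    { I := ι
      X := W
      coversTop := (Opens.coversTop_iff _ _).mpr hcov
      presentation := fun i => presOver F (W i) (P i) }
  exact σ.isQuasicoherent

set_option backward.isDefEq.respectTransparency false in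
/-- A presentation of `F|_U` from quasi-coherence of the restriction to `Spec Γ(X,U)`. -/
theorem exists_presentation_restrict {U : X.Opens} (F : X.Modules) (hU : IsAffineOpen U)
    (h : (F.restrict hU.fromSpec).IsQuasicoherent) :
    Nonempty (SheafOfModules.Presentation (F.restrict U.ι)) := by
  let N := F.restrict hU.fromSpec
  have h1 : IsIso N.fromTildeΓ := Scheme.Modules.isIso_fromTildeΓ_of_isQuasicoherent N
  let P0 := presentationTilde.{u} ((modulesSpecToSheaf.obj N).presheaf.obj (.op ⊤)) .univ
    (by simp) _ (Submodule.span_eq _)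
  let P1 : SheafOfModules.Presentation N := P0.ofIsIso N.fromTildeΓ
  have : PreservesColimitsOfSize.{u, u} (Scheme.Modules.restrictFunctor hU.isoSpec.hom) :=
    inferInstance
  let P2 := P1.map (Scheme.Modules.restrictFunctor hU.isoSpec.hom)
    (Scheme.Modules.restrictUnitIso _).symm
  let iso : (F.restrict hU.fromSpec).restrict hU.isoSpec.hom ≅ F.restrict U.ι :=
    ((restrictFunctorComp hU.isoSpec.hom hU.fromSpec).app F).symm ≪≫
      (restrictFunctorCongr (by simp)).app F
  exact ⟨P2.ofIsIso iso.hom⟩

/-- Quasi-coherence can be checked on `Spec Γ(X,U)` for all affine opens `U`. -/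
theorem isQuasicoherent_of_affine (F : X.Modules)
    (h : ∀ (U : X.Opens) (hU : IsAffineOpen U), (F.restrict hU.fromSpec).IsQuasicoherent) :
    F.IsQuasicoherent := by
  have hP := fun U : X.affineOpens => exists_presentation_restrict F U.2 (h U.1 U.2)
  exact isQuasicoherent_of_presentations F (fun U : X.affineOpens => U.1)
    (iSup_affineOpens_eq_top X) (fun U => (hP U).some)

/-- The kernel of a morphism of quasi-coherent modules is quasi-coherent. -/
theorem isQuasicoherent_kernel {F G : X.Modules} [F.IsQuasicoherent] [G.IsQuasicoherent]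
    (φ : F ⟶ G) : (kernel φ).IsQuasicoherent := by
  refine isQuasicoherent_of_affine _ (fun U hU => ?_)
  let R := restrictFunctor hU.fromSpec
  have hk := (Groth.Agent.S9496.kercoker Γ(X, U) (R.map φ)).1
  exact (SheafOfModules.isQuasicoherent (Spec Γ(X, U)).ringCatSheaf).prop_of_iso
    (PreservesKernel.iso R φ).symm hk

/-- The cokernel of a morphism of quasi-coherent modules is quasi-coherent. -/
theorem isQuasicoherent_cokernel {F G : X.Modules} [F.IsQuasicoherent] [G.IsQuasicoherent]
    (φ : F ⟶ G) : (cokernel φ).IsQuasicoherent := by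
  refine isQuasicoherent_of_affine _ (fun U hU => ?_)
  let R := restrictFunctor hU.fromSpec
  have hk := (Groth.Agent.S9496.kercoker Γ(X, U) (R.map φ)).2
  exact (SheafOfModules.isQuasicoherent (Spec Γ(X, U)).ringCatSheaf).prop_of_iso
    (PreservesCokernel.iso R φ).symm hk

/-- On a locally Noetherian scheme, the kernel of a morphism of coherent modules is coherent. -/
theorem isCoh_kernel [IsLocallyNoetherian X] {F G : X.Modules} (hF : Coh.IsCoh F)
    (hG : Coh.IsCoh G) (φ : F ⟶ G) : Coh.IsCoh (kernel φ) := by
  have : F.IsQuasicoherent := hF.1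
  have : G.IsQuasicoherent := hG.1
  exact Groth.Agent.S0046.result X F (kernel φ) (kernel.ι φ) hF (isQuasicoherent_kernel φ)

/-- Coherence is invariant under isomorphism (locally Noetherian case). -/
theorem isCoh_of_iso [IsLocallyNoetherian X] {F G : X.Modules} (e : F ≅ G) (hF : Coh.IsCoh F) :
    Coh.IsCoh G :=
  Groth.Agent.S0046.result X F G e.inv hF
    ((SheafOfModules.isQuasicoherent X.ringCatSheaf).prop_of_iso e hF.1)

theorem isQuasicoherent_of_isZero {Z : X.Modules} (hZ : IsZero Z) : Z.IsQuasicoherent := by
  refine isQuasicoherent_of_affine _ (fun U hU => ?_)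
  have h1 : IsZero (Z.restrict hU.fromSpec) := (restrictFunctor hU.fromSpec).map_isZero hZ
  have h2 : IsZero ((tilde.functor Γ(X, U)).obj (ModuleCat.of Γ(X, U) PUnit)) :=
    (tilde.functor Γ(X, U)).map_isZero (ModuleCat.isZero_of_subsingleton _)
  exact (SheafOfModules.isQuasicoherent (Spec Γ(X, U)).ringCatSheaf).prop_of_iso (h2.iso h1)
    (inferInstanceAs ((tilde.functor Γ(X, U)).obj (ModuleCat.of Γ(X, U) PUnit)).IsQuasicoherent)

theorem isCoh_of_isZero {Z : X.Modules} (hZ : IsZero Z) : Coh.IsCoh Z := by
  have := isQuasicoherent_of_isZero hZ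
  refine isCoh_of_finite_sections Z (fun U : X.affineOpens => U.1) (fun U => U.2)
    (iSup_affineOpens_eq_top X) (fun U => ?_)
  have h0 : IsZero Γ(Z, U.1) := by
    rw [IsZero.iff_id_eq_zero, ← Hom.id_app, hZ.eq_of_src (𝟙 Z) 0, Hom.zero_app]
  have : Subsingleton Γ(Z, U.1) := AddCommGrpCat.subsingleton_of_isZero h0
  infer_instance

theorem isFiniteType_of_epi {M N : X.Modules} (p : M ⟶ N) [Epi p]
    (hM : SheafOfModules.IsFiniteType (R := X.ringCatSheaf) M) :
    SheafOfModules.IsFiniteType (R := X.ringCatSheaf) N := by
  have : @Epi (SheafOfModules.{u} X.ringCatSheaf) _ M N p :=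
    ⟨fun g h w => (cancel_epi (C := X.Modules) p).1 w⟩
  exact isFiniteType_of_epi_general (R := X.ringCatSheaf) (M := M) (N := N) p hM

/-- The cokernel of a morphism of coherent modules is coherent. -/
theorem isCoh_cokernel {F G : X.Modules} (hF : Coh.IsCoh F) (hG : Coh.IsCoh G) (φ : F ⟶ G) :
    Coh.IsCoh (cokernel φ) := by
  have : F.IsQuasicoherent := hF.1
  have : G.IsQuasicoherent := hG.1
  exact ⟨isQuasicoherent_cokernel φ, isFiniteType_of_epi (cokernel.π φ) hG.2⟩

end Groth.Agent.Lib.helper7.CohKer
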