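import Groth.Prelude.Def_KZero

/-!
# Basic API for the Grothendieck groups `KZero.K0`, `KZero.K0sub`, `KZero.K0tr` (helper7)

Universal properties (`exists_lift_*`), additivity of the classes, and generation by classes.
-/

set_option autoImplicit false
universe v u

open CategoryTheory CategoryTheory.Limits KZero

namespace Groth.Agent.Lib.helper7.K0API

section Abelian

variable {A : Type u} [Category.{v} A] [Abelian A]

/-! ### `K0` -/

lemma cl_additive (S : ShortComplex A) (hS : S.ShortExact) :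
    cl S.X₂ = cl S.X₁ + cl S.X₃ := by
  have h : FreeAbelianGroup.of S.X₂ - FreeAbelianGroup.of S.X₁ - FreeAbelianGroup.of S.X₃ ∈
      relAb A := AddSubgroup.subset_closure ⟨S, hS, rfl⟩
  have := (QuotientAddGroup.eq_zero_iff _).2 h
  rw [QuotientAddGroup.mk_sub, QuotientAddGroup.mk_sub, sub_sub, sub_eq_zero] at this
  exact this

lemma exists_lift_K0 {G : Type*} [AddCommGroup G] (c : A → G)
    (hc : ∀ S : ShortComplex A, S.ShortExact → c S.X₂ = c S.X₁ + c S.X₃) :
    ∃ φ : K0 A →+ G, ∀ X, φ (cl X) = c X := by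
  refine ⟨QuotientAddGroup.lift (relAb A) (FreeAbelianGroup.lift c) ?_, fun X => ?_⟩
  · refine (AddSubgroup.closure_le _).2 ?_
    rintro x ⟨S, hS, rfl⟩
    simp only [SetLike.mem_coe, AddMonoidHom.mem_ker, map_sub, FreeAbelianGroup.lift_apply_of]
    rw [hc S hS]; abel
  · simp [cl]

lemma closure_cl : AddSubgroup.closure {x : K0 A | ∃ F : A, x = cl F} = ⊤ := by
  rw [eq_top_iff]
  rintro x -
  obtain ⟨y, rfl⟩ := QuotientAddGroup.mk_surjective x
  induction y using FreeAbelianGroup.induction_on with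
  | zero => exact AddSubgroup.zero_mem _
  | of X => exact AddSubgroup.subset_closure ⟨X, rfl⟩
  | neg X ih => rw [QuotientAddGroup.mk_neg]; exact AddSubgroup.neg_mem _ ih
  | add x y hx hy => rw [QuotientAddGroup.mk_add]; exact AddSubgroup.add_mem _ hx hy

/-! ### `K0sub` -/

variable (P : ObjectProperty A)

lemma clSub_of (X : A) (h : P X) :
    clSub P X = QuotientAddGroup.mk (FreeAbelianGroup.of ⟨X, h⟩) := dif_pos h

lemma clSub_additive (S : ShortComplex A) (hS : S.ShortExact) (h₁ : P S.X₁) (h₂ : P S.X₂)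
    (h₃ : P S.X₃) : clSub P S.X₂ = clSub P S.X₁ + clSub P S.X₃ := by
  have h : (FreeAbelianGroup.of ⟨S.X₂, h₂⟩ - FreeAbelianGroup.of ⟨S.X₁, h₁⟩ -
      FreeAbelianGroup.of ⟨S.X₃, h₃⟩ : FreeAbelianGroup (Subtype P)) ∈ relSub P :=
    AddSubgroup.subset_closure ⟨S, h₁, h₂, h₃, hS, rfl⟩
  have := (QuotientAddGroup.eq_zero_iff _).2 h
  rw [QuotientAddGroup.mk_sub, QuotientAddGroup.mk_sub, sub_sub, sub_eq_zero] at this
  rw [clSub_of P _ h₁, clSub_of P _ h₂, clSub_of P _ h₃]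
  exact this

lemma exists_lift_K0sub {G : Type*} [AddCommGroup G] (c : A → G)
    (hc : ∀ S : ShortComplex A, S.ShortExact → P S.X₁ → P S.X₂ → P S.X₃ →
      c S.X₂ = c S.X₁ + c S.X₃) :
    ∃ φ : K0sub P →+ G, ∀ X, P X → φ (clSub P X) = c X := by
  refine ⟨QuotientAddGroup.lift (relSub P) (FreeAbelianGroup.lift (fun X => c X.1)) ?_,
    fun X hX => ?_⟩
  · refine (AddSubgroup.closure_le _).2 ?_
    rintro x ⟨S, h₁, h₂, h₃, hS, rfl⟩
    simp only [SetLike.mem_coe, AddMonoidHom.mem_ker, map_sub, FreeAbelianGroup.lift_apply_of]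
    rw [hc S hS h₁ h₂ h₃]; abel
  · rw [clSub_of P X hX]; simp

lemma closure_clSub : AddSubgroup.closure {x : K0sub P | ∃ F : A, P F ∧ x = clSub P F} = ⊤ := by
  rw [eq_top_iff]
  rintro x -
  obtain ⟨y, rfl⟩ := QuotientAddGroup.mk_surjective x
  induction y using FreeAbelianGroup.induction_on with
  | zero => exact AddSubgroup.zero_mem _
  | of X => exact AddSubgroup.subset_closure ⟨X.1, X.2, (clSub_of P X.1 X.2).symm⟩
  | neg X ih => rw [QuotientAddGroup.mk_neg]; exact AddSubgroup.neg_mem _ ih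
  | add x y hx hy => rw [QuotientAddGroup.mk_add]; exact AddSubgroup.add_mem _ hx hy

end Abelian

section Triangulated

variable {D : Type u} [Category.{v} D] [Preadditive D] [HasZeroObject D] [HasShift D ℤ]
  [∀ n : ℤ, (shiftFunctor D n).Additive] [Pretriangulated D] (Q : ObjectProperty D)

open Pretriangulated

lemma clTr_of (X : D) (h : Q X) :
    clTr Q X = QuotientAddGroup.mk (FreeAbelianGroup.of ⟨X, h⟩) := dif_pos h

lemma clTr_additive (T : Triangle D) (hT : T ∈ distTriang D) (h₁ : Q T.obj₁) (h₂ : Q T.obj₂)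
    (h₃ : Q T.obj₃) : clTr Q T.obj₂ = clTr Q T.obj₁ + clTr Q T.obj₃ := by
  have h : (FreeAbelianGroup.of ⟨T.obj₂, h₂⟩ - FreeAbelianGroup.of ⟨T.obj₁, h₁⟩ -
      FreeAbelianGroup.of ⟨T.obj₃, h₃⟩ : FreeAbelianGroup (Subtype Q)) ∈ relTr Q :=
    AddSubgroup.subset_closure ⟨T, h₁, h₂, h₃, hT, rfl⟩
  have := (QuotientAddGroup.eq_zero_iff _).2 h
  rw [QuotientAddGroup.mk_sub, QuotientAddGroup.mk_sub, sub_sub, sub_eq_zero] at this
  rw [clTr_of Q _ h₁, clTr_of Q _ h₂, clTr_of Q _ h₃]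
  exact this

lemma exists_lift_K0tr {G : Type*} [AddCommGroup G] (d : D → G)
    (hd : ∀ T : Triangle D, T ∈ distTriang D → Q T.obj₁ → Q T.obj₂ → Q T.obj₃ →
      d T.obj₂ = d T.obj₁ + d T.obj₃) :
    ∃ ψ : K0tr Q →+ G, ∀ X, Q X → ψ (clTr Q X) = d X := by
  refine ⟨QuotientAddGroup.lift (relTr Q) (FreeAbelianGroup.lift (fun X => d X.1)) ?_,
    fun X hX => ?_⟩
  · refine (AddSubgroup.closure_le _).2 ?_
    rintro x ⟨T, h₁, h₂, h₃, hT, rfl⟩
    simp only [SetLike.mem_coe, AddMonoidHom.mem_ker, map_sub, FreeAbelianGroup.lift_apply_of]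
    rw [hd T hT h₁ h₂ h₃]; abel
  · rw [clTr_of Q X hX]; simp

lemma closure_clTr : AddSubgroup.closure {x : K0tr Q | ∃ K : D, Q K ∧ x = clTr Q K} = ⊤ := by
  rw [eq_top_iff]
  rintro x -
  obtain ⟨y, rfl⟩ := QuotientAddGroup.mk_surjective x
  induction y using FreeAbelianGroup.induction_on with
  | zero => exact AddSubgroup.zero_mem _
  | of X => exact AddSubgroup.subset_closure ⟨X.1, X.2, (clTr_of Q X.1 X.2).symm⟩
  | neg X ih => rw [QuotientAddGroup.mk_neg]; exact AddSubgroup.neg_mem _ ih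
  | add x y hx hy => rw [QuotientAddGroup.mk_add]; exact AddSubgroup.add_mem _ hx hy

end Triangulated

end Groth.Agent.Lib.helper7.K0API
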