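import Mathlib.CategoryTheory.Abelian.LeftDerived
import Mathlib.Algebra.Homology.HomologySequence
import Mathlib.Algebra.Homology.HomologicalComplexAbelian

/-!
# helper7: long exact sequence of left derived functors attached to a sequence of functors
`F₁ ⟶ F₂ ⟶ F₃` which is short exact on projective objects
-/

universe v u v' u'

open CategoryTheory Category Limits

namespace Groth.Agent.Lib.helper7.NatTransLES

variable {C : Type u} [Category.{v} C] [Abelian C]
variable {D : Type u'} [Category.{v'} D] [Abelian D]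
variable {F₁ F₂ F₃ : C ⥤ D} [F₁.Additive] [F₂.Additive] [F₃.Additive]
variable (α : F₁ ⟶ F₂) (β : F₂ ⟶ F₃) (w : α ≫ β = 0)

include w in
lemma app_zero (P : C) : α.app P ≫ β.app P = 0 := by
  rw [← NatTrans.comp_app, w]; rfl

/-- the short complex of chain complexes `F₁ Q ⟶ F₂ Q ⟶ F₃ Q`. -/
noncomputable def cx {X : C} (Q : ProjectiveResolution X) : ShortComplex (ChainComplex D ℕ) :=
  ShortComplex.mk ((NatTrans.mapHomologicalComplex α (ComplexShape.down ℕ)).app Q.complex)
    ((NatTrans.mapHomologicalComplex β (ComplexShape.down ℕ)).app Q.complex) (by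
      ext n
      simp only [HomologicalComplex.comp_f, NatTrans.mapHomologicalComplex_app_f,
        HomologicalComplex.zero_f]
      exact app_zero α β w _)

variable (hex : ∀ (P : C) [Projective P],
  (ShortComplex.mk (α.app P) (β.app P) (app_zero α β w P)).ShortExact)

include hex in
lemma cx_shortExact {X : C} (Q : ProjectiveResolution X) : (cx α β w Q).ShortExact :=
  HomologicalComplex.shortExact_of_degreewise_shortExact _ fun n => by
    haveI : Projective (Q.complex.X n) := Q.projective n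
    exact hex (Q.complex.X n)

variable [HasProjectiveResolutions C]

/-- iso `L_n F₁ X ≅ H_n(F₁ Q)`. -/
noncomputable def e₁ {X : C} (Q : ProjectiveResolution X) (n : ℕ) :
    (F₁.leftDerived n).obj X ≅ (cx α β w Q).X₁.homology n := Q.isoLeftDerivedObj F₁ n

/-- iso `L_n F₂ X ≅ H_n(F₂ Q)`. -/
noncomputable def e₂ {X : C} (Q : ProjectiveResolution X) (n : ℕ) :
    (F₂.leftDerived n).obj X ≅ (cx α β w Q).X₂.homology n := Q.isoLeftDerivedObj F₂ n

/-- iso `L_n F₃ X ≅ H_n(F₃ Q)`. -/
noncomputable def e₃ {X : C} (Q : ProjectiveResolution X) (n : ℕ) :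
    (F₃.leftDerived n).obj X ≅ (cx α β w Q).X₃.homology n := Q.isoLeftDerivedObj F₃ n

lemma comm₁₂ {X : C} (Q : ProjectiveResolution X) (n : ℕ) :
    (NatTrans.leftDerived α n).app X ≫ (e₂ α β w Q n).hom =
      (e₁ α β w Q n).hom ≫ HomologicalComplex.homologyMap (cx α β w Q).f n := by
  have h : (NatTrans.leftDerived α n).app X = (e₁ α β w Q n).hom ≫
      HomologicalComplex.homologyMap (cx α β w Q).f n ≫ (e₂ α β w Q n).inv :=
    Q.leftDerived_app_eq α n
  rw [h, assoc, assoc, Iso.inv_hom_id, comp_id]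

lemma comm₂₃ {X : C} (Q : ProjectiveResolution X) (n : ℕ) :
    (NatTrans.leftDerived β n).app X ≫ (e₃ α β w Q n).hom =
      (e₂ α β w Q n).hom ≫ HomologicalComplex.homologyMap (cx α β w Q).g n := by
  have h : (NatTrans.leftDerived β n).app X = (e₂ α β w Q n).hom ≫
      HomologicalComplex.homologyMap (cx α β w Q).g n ≫ (e₃ α β w Q n).inv :=
    Q.leftDerived_app_eq β n
  rw [h, assoc, assoc, Iso.inv_hom_id, comp_id]

include w in
lemma app_comp_eq_zero (X : C) (n : ℕ) :
    (NatTrans.leftDerived α n).app X ≫ (NatTrans.leftDerived β n).app X = 0 := by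
  obtain ⟨Q⟩ : Nonempty (ProjectiveResolution X) := HasProjectiveResolution.out
  rw [← cancel_mono (e₃ α β w Q n).hom, assoc, comm₂₃ α β w Q n,
    reassoc_of% (comm₁₂ α β w Q n), zero_comp, ← HomologicalComplex.homologyMap_comp,
    (cx α β w Q).zero, HomologicalComplex.homologyMap_zero, comp_zero]

include hex in
/-- exactness of `L_n F₁ X → L_n F₂ X → L_n F₃ X`. -/
theorem exact₂ (X : C) (n : ℕ) :
    (ShortComplex.mk ((NatTrans.leftDerived α n).app X) ((NatTrans.leftDerived β n).app X)
      (app_comp_eq_zero α β w X n)).Exact := by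
  obtain ⟨Q⟩ : Nonempty (ProjectiveResolution X) := HasProjectiveResolution.out
  refine ShortComplex.exact_of_iso ?_ ((cx_shortExact α β w hex Q).homology_exact₂ n)
  exact (ShortComplex.isoMk (e₁ α β w Q n) (e₂ α β w Q n)
    (e₃ α β w Q n) (comm₁₂ α β w Q n).symm (comm₂₃ α β w Q n).symm).symm

include hex in
/-- `L_0 F₂ X → L_0 F₃ X` is an epimorphism. -/
theorem zero_epi (X : C) : Epi ((NatTrans.leftDerived β 0).app X) := by
  obtain ⟨Q⟩ : Nonempty (ProjectiveResolution X) := HasProjectiveResolution.out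
  have hF := cx_shortExact α β w hex Q
  haveI := hF.epi_g
  haveI : Epi (HomologicalComplex.homologyMap (cx α β w Q).g 0) :=
    HomologicalComplex.epi_homologyMap_of_epi_of_not_rel _ 0 (by simp)
  have h := comm₂₃ α β w Q 0
  have h' : (NatTrans.leftDerived β 0).app X = ((e₂ α β w Q 0).hom ≫
      HomologicalComplex.homologyMap (cx α β w Q).g 0) ≫ (e₃ α β w Q 0).inv := by
    rw [← h, assoc, Iso.hom_inv_id, comp_id]
  rw [h']
  infer_instance

include hex in
/-- the connecting homomorphisms and their exactness. -/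
theorem exists_δ (X : C) (n : ℕ) :
    ∃ (δ : (F₃.leftDerived (n + 1)).obj X ⟶ (F₁.leftDerived n).obj X)
      (w₁ : (NatTrans.leftDerived β (n + 1)).app X ≫ δ = 0)
      (w₂ : δ ≫ (NatTrans.leftDerived α n).app X = 0),
      (ShortComplex.mk ((NatTrans.leftDerived β (n + 1)).app X) δ w₁).Exact ∧
        (ShortComplex.mk δ ((NatTrans.leftDerived α n).app X) w₂).Exact := by
  obtain ⟨Q⟩ : Nonempty (ProjectiveResolution X) := HasProjectiveResolution.out
  have hF := cx_shortExact α β w hex Q
  have hrel : (ComplexShape.down ℕ).Rel (n + 1) n := rfl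
  obtain ⟨δ, hδ⟩ : ∃ δ, δ = (e₃ α β w Q (n + 1)).hom ≫ hF.δ (n + 1) n hrel ≫
      (e₁ α β w Q n).inv := ⟨_, rfl⟩
  have hδ' : δ ≫ (e₁ α β w Q n).hom =
      (e₃ α β w Q (n + 1)).hom ≫ hF.δ (n + 1) n hrel := by
    rw [hδ, assoc, assoc, Iso.inv_hom_id, comp_id]
  have w₁ : (NatTrans.leftDerived β (n + 1)).app X ≫ δ = 0 := by
    rw [← cancel_mono (e₁ α β w Q n).hom, assoc, hδ',
      reassoc_of% (comm₂₃ α β w Q (n + 1)), hF.comp_δ, comp_zero, zero_comp]
  have w₂ : δ ≫ (NatTrans.leftDerived α n).app X = 0 := by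
    rw [← cancel_mono (e₂ α β w Q n).hom, assoc, comm₁₂ α β w Q n, reassoc_of% hδ',
      hF.δ_comp, comp_zero, zero_comp]
  refine ⟨δ, w₁, w₂, ?_, ?_⟩
  · refine ShortComplex.exact_of_iso ?_ (hF.homology_exact₃ (n + 1) n hrel)
    exact (ShortComplex.isoMk (e₂ α β w Q (n + 1)) (e₃ α β w Q (n + 1))
      (e₁ α β w Q n) (comm₂₃ α β w Q (n + 1)).symm hδ'.symm).symm
  · refine ShortComplex.exact_of_iso ?_ (hF.homology_exact₁ (n + 1) n hrel)
    exact (ShortComplex.isoMk (e₃ α β w Q (n + 1)) (e₁ α β w Q n)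
      (e₂ α β w Q n) hδ'.symm (comm₁₂ α β w Q n).symm).symm

/-- naturality of `fromLeftDerivedZero` in the functor. -/
lemma fromLeftDerivedZero_naturality (X : C) :
    (NatTrans.leftDerived α 0).app X ≫ F₂.fromLeftDerivedZero.app X =
      F₁.fromLeftDerivedZero.app X ≫ α.app X := by
  obtain ⟨Q⟩ : Nonempty (ProjectiveResolution X) := HasProjectiveResolution.out
  rw [Q.leftDerived_app_eq α 0, Q.fromLeftDerivedZero_eq F₂, Q.fromLeftDerivedZero_eq F₁]
  simp only [assoc, Iso.inv_hom_id_assoc]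
  congr 1
  have h1 : HomologicalComplex.homologyMap
        ((NatTrans.mapHomologicalComplex α (ComplexShape.down ℕ)).app Q.complex) 0 ≫
      (ChainComplex.isoHomologyι₀ ((F₂.mapHomologicalComplex (ComplexShape.down ℕ)).obj
        Q.complex)).hom =
      (ChainComplex.isoHomologyι₀ ((F₁.mapHomologicalComplex (ComplexShape.down ℕ)).obj
        Q.complex)).hom ≫ HomologicalComplex.opcyclesMap
          ((NatTrans.mapHomologicalComplex α (ComplexShape.down ℕ)).app Q.complex) 0 :=
    HomologicalComplex.homologyι_naturality _ 0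
  have h2 : HomologicalComplex.opcyclesMap
      ((NatTrans.mapHomologicalComplex α (ComplexShape.down ℕ)).app Q.complex) 0 ≫
        Q.fromLeftDerivedZero' F₂ = Q.fromLeftDerivedZero' F₁ ≫ α.app X := by
    rw [← cancel_epi (HomologicalComplex.pOpcycles _ 0), HomologicalComplex.p_opcyclesMap_assoc,
      ProjectiveResolution.pOpcycles_comp_fromLeftDerivedZero',
      ProjectiveResolution.pOpcycles_comp_fromLeftDerivedZero'_assoc]
    simp only [NatTrans.mapHomologicalComplex_app_f]
    exact (α.naturality (Q.π.f 0)).symm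
  have h3 : HomologicalComplex.homologyMap
        ((NatTrans.mapHomologicalComplex α (ComplexShape.down ℕ)).app Q.complex) 0 ≫
      (ChainComplex.isoHomologyι₀ ((F₂.mapHomologicalComplex (ComplexShape.down ℕ)).obj
        Q.complex)).hom ≫ Q.fromLeftDerivedZero' F₂ =
      ((ChainComplex.isoHomologyι₀ ((F₁.mapHomologicalComplex (ComplexShape.down ℕ)).obj
        Q.complex)).hom ≫ Q.fromLeftDerivedZero' F₁) ≫ α.app X := by
    rw [reassoc_of% h1, h2, assoc]
  first | exact h3 | exact h3.trans (assoc _ _ _)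

end Groth.Agent.Lib.helper7.NatTransLES
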