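import Mathlib.Algebra.Homology.DerivedCategory.Ext.ExactSequences
import Mathlib.Algebra.Homology.DerivedCategory.Ext.EnoughInjectives
import Mathlib.CategoryTheory.Abelian.Injective.Basic

/-!
# Dimension shifting for `Ext P (-)` on a class of objects containing the injectives (helper7)
-/

set_option autoImplicit false

universe w v u

namespace Groth.Agent.Lib.helper7.DimShift

open CategoryTheory Abelian Limits

variable {A : Type u} [Category.{v} A] [Abelian A] [HasExt.{w} A] [EnoughInjectives A]

/-- The short exact sequence `0 → F → I(F) → I(F)/F → 0`. -/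
noncomputable def injSES (F : A) : ShortComplex A :=
  ShortComplex.mk (Injective.ι F) (cokernel.π (Injective.ι F)) (cokernel.condition _)

lemma injSES_shortExact (F : A) : (injSES F).ShortExact where
  exact := ShortComplex.exact_cokernel _
  mono_f := by dsimp [injSES]; infer_instance
  epi_g := by dsimp [injSES]; infer_instance

instance (F : A) : Injective (injSES F).X₂ := by dsimp [injSES]; infer_instance

/-- Acyclicity by dimension shifting: if a class `𝒞` of objects contains the injectives, is
stable under cokernels of monomorphisms between its members, and `Hom(P, -)` is right exact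
on short exact sequences starting in `𝒞`, then `Ext^{n+1}(P, F) = 0` for `F ∈ 𝒞`. -/
theorem ext_succ_eq_zero (P : A) (𝒞 : A → Prop)
    (hinj : ∀ I : A, Injective I → 𝒞 I)
    (hquot : ∀ S : ShortComplex A, S.ShortExact → 𝒞 S.X₁ → 𝒞 S.X₂ → 𝒞 S.X₃)
    (hsurj : ∀ S : ShortComplex A, S.ShortExact → 𝒞 S.X₁ →
      ∀ g : P ⟶ S.X₃, ∃ g' : P ⟶ S.X₂, g' ≫ S.g = g)
    (n : ℕ) : ∀ F : A, 𝒞 F → ∀ x : Ext P F (n + 1), x = 0 := by
  induction n with
  | zero =>
    intro F hF x
    have hS := injSES_shortExact F
    have h1 : x.comp (Ext.mk₀ (injSES F).f) (add_zero 1) = 0 := Ext.eq_zero_of_injective _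
    obtain ⟨x₃, hx₃⟩ := Ext.covariant_sequence_exact₁ P hS x h1 (zero_add 1)
    obtain ⟨g, rfl⟩ := (Ext.mk₀_bijective P (injSES F).X₃).2 x₃
    obtain ⟨g', rfl⟩ := hsurj (injSES F) hS hF g
    rw [← hx₃, ← Ext.mk₀_comp_mk₀, Ext.comp_assoc_of_second_deg_zero, hS.comp_extClass,
      Ext.comp_zero]
    rfl
  | succ n ih =>
    intro F hF x
    have hS := injSES_shortExact F
    have h1 : x.comp (Ext.mk₀ (injSES F).f) (add_zero (n + 1 + 1)) = 0 :=
      Ext.eq_zero_of_injective _
    obtain ⟨x₃, hx₃⟩ := Ext.covariant_sequence_exact₁ P hS x h1 (rfl : n + 1 + 1 = n + 1 + 1)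
    have hQ : 𝒞 (injSES F).X₃ := hquot _ hS hF (hinj _ inferInstance)
    rw [← hx₃, ih _ hQ x₃, Ext.zero_comp]
    rfl

end Groth.Agent.Lib.helper7.DimShift
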