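import Groth.Agent.Lib.Helper7.CohKer
import Groth.Agent.Lib.Helper27.SerreVan3
import Groth.Agent.Lib.Helper27.CechLeray
import Groth.Agent.Lib.Helper21.ModSh

/-!
# Extensions of quasi-coherent modules are quasi-coherent (helper7)

* `toSheaf_shortExact_general`: the forgetful functor to abelian sheaves preserves short exact
  sequences.
* `surjective_app_of_shortExact`: for a short exact sequence of `O_X`-modules with quasi-coherent
  kernel, sections over affine opens surject (uses helper27's affine Serre vanishing).
* `isQuasicoherent_of_extension_spec`, `isQuasicoherent_of_extension`.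
-/

set_option autoImplicit false
universe u
open CategoryTheory CategoryTheory.Limits AlgebraicGeometry TopologicalSpace Opposite
open Scheme.Modules Groth.Agent.Lib.helper7

namespace Groth.Agent.Lib.helper7.QCohExt

section General
variable {C : Type u} [SmallCategory C] {J : GrothendieckTopology C} (R : Sheaf J RingCat.{u})

theorem toSheaf_shortExact_general (S : ShortComplex (SheafOfModules.{u} R)) (hS : S.ShortExact) :
    (S.map (SheafOfModules.toSheaf R)).ShortExact := by
  have h1 := Groth.Agent.Lib.Helper21.ModSh.toSheaf_preservesColimits R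
  have h2 : PreservesFiniteColimits (SheafOfModules.toSheaf.{u} R) :=
    PreservesColimitsOfSize.preservesFiniteColimits _
  exact hS.map_of_exact (SheafOfModules.toSheaf R)

end General

variable {X : Scheme.{u}}

theorem surjective_app_of_shortExact (S : ShortComplex X.Modules) (hS : S.ShortExact)
    [S.X₁.IsQuasicoherent] (V : X.Opens) (hV : IsAffineOpen V) :
    Function.Surjective (S.g.app V) := by
  have hS' := toSheaf_shortExact_general X.ringCatSheaf S hS
  have hvan := Groth.Agent.Lib.helper27.SerreVan.subsingleton_HU_of_isAffineOpen S.X₁ V hV 0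
  have := Groth.Agent.Lib.helper27.CechLeray.surjective_of_ext_one (Opens.grothendieckTopology X) _ hS' V hvan
  exact this

theorem isQuasicoherent_of_extension_spec (A : CommRingCat.{u}) (S : ShortComplex (Spec A).Modules)
    (hS : S.ShortExact) [S.X₁.IsQuasicoherent] [S.X₃.IsQuasicoherent] :
    S.X₂.IsQuasicoherent := by
  let Γ := moduleSpecΓFunctor (R := A)
  let T := tilde.functor A
  have hΓlim : PreservesLimitsOfSize.{u, u} Γ := (tilde.adjunction (R := A)).rightAdjoint_preservesLimits
  have hΓ : PreservesFiniteLimits Γ := PreservesLimitsOfSize.preservesFiniteLimits _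
  have hΓadd : Γ.Additive := (tilde.adjunction (R := A)).right_adjoint_additive
  have key : ∀ (S : ShortComplex (Spec A).Modules), S.ShortExact →
      (S.map Γ).Exact ∧ Mono (Γ.map S.f) :=
    ((Functor.preservesFiniteLimits_tfae Γ).out 3 0).1 hΓ
  obtain ⟨hex, hm⟩ := key S hS
  have hsurj : Function.Surjective (S.g.app ⊤) :=
    surjective_app_of_shortExact S hS ⊤ (isAffineOpen_top (Spec A))
  have hepi : Epi (Γ.map S.g) := by
    rw [ModuleCat.epi_iff_surjective]
    intro z
    obtain ⟨y, hy⟩ := hsurj z
    exact ⟨y, hy⟩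
  have hΓS : (S.map Γ).ShortExact := ShortComplex.ShortExact.mk' hex hm hepi
  have := Groth.Agent.S9498.preservesFiniteLimits_tilde A
  have := Groth.Agent.S9498.preservesFiniteColimits_tilde A
  have hTΓS : ((S.map Γ).map T).ShortExact := hΓS.map_of_exact T
  let ε := (tilde.adjunction (R := A)).counit
  let φ : (S.map Γ).map T ⟶ S :=
    { τ₁ := ε.app S.X₁
      τ₂ := ε.app S.X₂
      τ₃ := ε.app S.X₃
      comm₁₂ := (ε.naturality S.f).symm
      comm₂₃ := (ε.naturality S.g).symm }
  have h1 : IsIso φ.τ₁ := Groth.Agent.S9497.isIso_counit A S.X₁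
  have h3 : IsIso φ.τ₃ := Groth.Agent.S9497.isIso_counit A S.X₃
  have h2 : IsIso φ.τ₂ := ShortComplex.isIso₂_of_shortExact_of_isIso₁₃ φ hTΓS hS
  exact (SheafOfModules.isQuasicoherent (Spec A).ringCatSheaf).prop_of_iso
    (@asIso _ _ _ _ φ.τ₂ h2)
    (inferInstanceAs ((tilde.functor A).obj (Γ.obj S.X₂)).IsQuasicoherent)

theorem isQuasicoherent_of_extension (S : ShortComplex X.Modules) (hS : S.ShortExact)
    [S.X₁.IsQuasicoherent] [S.X₃.IsQuasicoherent] : S.X₂.IsQuasicoherent := by
  refine CohKer.isQuasicoherent_of_affine _ (fun U hU => ?_)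
  let R := restrictFunctor hU.fromSpec
  have hRS : (S.map R).ShortExact := hS.map_of_exact R
  have h1 : (S.map R).X₁.IsQuasicoherent :=
    inferInstanceAs ((restrictFunctor hU.fromSpec).obj S.X₁).IsQuasicoherent
  have h3 : (S.map R).X₃.IsQuasicoherent :=
    inferInstanceAs ((restrictFunctor hU.fromSpec).obj S.X₃).IsQuasicoherent
  exact isQuasicoherent_of_extension_spec Γ(X, U) (S.map R) hRS

end Groth.Agent.Lib.helper7.QCohExt
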