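import Groth.Agent.Lib.Helper7.QCohExt

/-!
# Vanishing of quasi-coherent modules and ACC for quasi-coherent submodules (helper7)

* `subsingleton_basicOpen`, `isZero_of_subsingleton_sections`: a quasi-coherent module whose
  sections vanish on an affine open cover is zero.
* `isIso_ofLE_of_secRange_eq`, `acc_qcoh_subobjects`: ACC for quasi-coherent subobjects of a
  coherent module on a Noetherian scheme.
-/

set_option autoImplicit false
universe u
open CategoryTheory CategoryTheory.Limits AlgebraicGeometry TopologicalSpace Opposite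
open Scheme.Modules Groth.Agent.Lib.helper7

namespace Groth.Agent.Lib.helper7.QCohZero

variable {X : Scheme.{u}}

theorem subsingleton_basicOpen (C : X.Modules) [C.IsQuasicoherent] {U : X.Opens}
    (hU : IsAffineOpen U) (h0 : Subsingleton Γ(C, U)) (f : Γ(X, U)) :
    Subsingleton Γ(C, X.basicOpen f) := by
  refine ⟨fun a b => ?_⟩
  suffices H : ∀ t : Γ(C, X.basicOpen f), t = 0 by rw [H a, H b]
  intro t
  obtain ⟨n, s, hs⟩ := exists_pow_smul_eq_map_of_isAffineOpen hU C f t
  have hs0 : s = 0 := Subsingleton.elim _ _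
  rw [hs0, map_zero] at hs
  have hunit : IsUnit (X.presheaf.map (homOfLE (X.basicOpen_le f)).op f) :=
    RingedSpace.isUnit_res_basicOpen X.toRingedSpace f
  obtain ⟨v, hv⟩ := hunit.pow n
  have := congrArg (fun z => (↑v⁻¹ : Γ(X, X.basicOpen f)) • z) hs
  simpa [← hv, smul_smul] using this.symm

theorem isZero_of_subsingleton_sections (C : X.Modules) [C.IsQuasicoherent] {ι : Type*}
    (𝒰 : ι → X.Opens) (h𝒰 : ∀ i, IsAffineOpen (𝒰 i)) (hcov : ∀ x : X, ∃ i, x ∈ 𝒰 i)
    (h0 : ∀ i, Subsingleton Γ(C, 𝒰 i)) : IsZero C := by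
  have key : ∀ (W : X.Opens) (s : Γ(C, W)), s = 0 := by
    intro W s
    refine TopCat.Presheaf.IsSheaf.section_ext C.isSheaf (U := op W) (fun x hx => ?_)
    obtain ⟨i, hi⟩ := hcov x
    obtain ⟨f, hfW, hxf⟩ := (h𝒰 i).exists_basicOpen_le (V := W) ⟨x, hx⟩ hi
    have := subsingleton_basicOpen C (h𝒰 i) (h0 i) f
    exact ⟨X.basicOpen f, hfW, hxf, Subsingleton.elim _ _⟩
  rw [IsZero.iff_id_eq_zero]
  refine Scheme.Modules.hom_ext _ _ (fun W => ?_)
  ext s
  rw [key W ((ConcreteCategory.hom ((𝟙 C : C ⟶ C).app W)) s),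
    key W ((ConcreteCategory.hom ((0 : C ⟶ C).app W)) s)]

section ACC

variable (M : X.Modules) (F : ℕ →o Subobject M)

/-- the map on sections over `U` of the inclusion of the `n`-th subobject, as a linear map -/
noncomputable def secMap (n : ℕ) (U : X.Opens) :
    Γ((F n : X.Modules), U) →ₗ[Γ(X, U)] Γ(M, U) :=
  { toFun := ((F n).arrow.app U).hom
    map_add' := map_add _
    map_smul' := fun r m => (F n).arrow.app_smul r m }

/-- the chain of submodules of `Γ(M,U)` -/
noncomputable def secRange (U : X.Opens) : ℕ →o Submodule Γ(X, U) Γ(M, U) where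
  toFun n := LinearMap.range (secMap M F n U)
  monotone' := by
    intro n m hnm
    rintro _ ⟨s, rfl⟩
    refine ⟨((Subobject.ofLE (F n) (F m) (F.monotone hnm)).app U).hom s, ?_⟩
    change ((F m).arrow.app U).hom (((Subobject.ofLE (F n) (F m) (F.monotone hnm)).app U).hom s) =
      ((F n).arrow.app U).hom s
    rw [← ConcreteCategory.comp_apply, ← Scheme.Modules.Hom.comp_app, Subobject.ofLE_arrow]

theorem isIso_ofLE_of_secRange_eq [hM : ∀ n, (F n : X.Modules).IsQuasicoherent] {ι : Type*}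
    (𝒰 : ι → X.Opens) (h𝒰 : ∀ i, IsAffineOpen (𝒰 i)) (hcov : ∀ x : X, ∃ i, x ∈ 𝒰 i)
    (n m : ℕ) (hnm : n ≤ m) (heq : ∀ i, secRange M F (𝒰 i) n = secRange M F (𝒰 i) m) :
    IsIso (Subobject.ofLE (F n) (F m) (F.monotone hnm)) := by
  let j := Subobject.ofLE (F n) (F m) (F.monotone hnm)
  have hj : j ≫ (F m).arrow = (F n).arrow := Subobject.ofLE_arrow _
  let S : ShortComplex X.Modules := ShortComplex.mk j (cokernel.π j) (cokernel.condition j)
  have hS : S.ShortExact :=
    { exact := ShortComplex.exact_of_g_is_cokernel _ (cokernelIsCokernel j)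
      mono_f := inferInstanceAs (Mono j)
      epi_g := inferInstanceAs (Epi (cokernel.π j)) }
  have hqc : S.X₁.IsQuasicoherent := hM n
  have hC : (cokernel j).IsQuasicoherent := CohKer.isQuasicoherent_cokernel j
  have h0 : ∀ i, Subsingleton Γ(cokernel j, 𝒰 i) := by
    intro i
    refine ⟨fun a b => ?_⟩
    suffices H : ∀ c : Γ(cokernel j, 𝒰 i), c = 0 by rw [H a, H b]
    intro c
    obtain ⟨t, rfl⟩ := QCohExt.surjective_app_of_shortExact S hS (𝒰 i) (h𝒰 i) c
    have ht : secMap M F m (𝒰 i) t ∈ secRange M F (𝒰 i) m := ⟨t, rfl⟩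
    rw [← heq i] at ht
    obtain ⟨s, hs⟩ := ht
    have hinj : Function.Injective ((F m).arrow.app (𝒰 i)).hom :=
      Groth.Agent.S2542.injective_app_of_mono (F m).arrow (𝒰 i)
    have hst : (j.app (𝒰 i)).hom s = t := by
      apply hinj
      rw [← ConcreteCategory.comp_apply, ← Scheme.Modules.Hom.comp_app, hj]
      exact hs
    rw [← hst]
    change ((cokernel.π j).app (𝒰 i)).hom ((j.app (𝒰 i)).hom s) = 0
    rw [← ConcreteCategory.comp_apply, ← Scheme.Modules.Hom.comp_app, cokernel.condition,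
      Scheme.Modules.Hom.zero_app]
    rfl
  have hz : IsZero (cokernel j) := isZero_of_subsingleton_sections _ 𝒰 h𝒰 hcov h0
  have : Epi j := Abelian.epi_of_cokernel_π_eq_zero j (hz.eq_of_tgt _ _)
  exact isIso_of_mono_of_epi j

end ACC

theorem acc_qcoh_subobjects (X : Scheme.{u}) [IsNoetherian X] (M : X.Modules)
    (hM : Coh.IsCoh M) (F : ℕ →o Subobject M)
    (hF : ∀ n, ((F n : Subobject M) : X.Modules).IsQuasicoherent) :
    ∃ n : ℕ, ∀ m : ℕ, n ≤ m → F m = F n := by
  classical
  have hcover : (Set.univ : Set X) ⊆ ⋃ U : X.affineOpens, (U.1 : Set X) := by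
    intro x _
    have : x ∈ (⨆ U : X.affineOpens, (U.1 : X.Opens)) := by
      rw [iSup_affineOpens_eq_top]; trivial
    obtain ⟨U, hU⟩ := Opens.mem_iSup.1 this
    exact Set.mem_iUnion.2 ⟨U, hU⟩
  obtain ⟨t, ht⟩ := isCompact_univ.elim_finite_subcover
    (fun U : X.affineOpens => (U.1 : Set X)) (fun U => U.1.2) hcover
  have hstab : ∀ U : X.affineOpens, ∃ n, ∀ m, n ≤ m →
      secRange M F U.1 n = secRange M F U.1 m := by
    intro U
    have : IsNoetherianRing Γ(X, U.1) := IsLocallyNoetherian.component_noetherian U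
    have : Module.Finite Γ(X, U.1) Γ(M, U.1) :=
      Groth.Agent.Lib.helper16.CohFinite.finite_sections_of_isCoh M hM U.2
    have hN : IsNoetherian Γ(X, U.1) Γ(M, U.1) := isNoetherian_of_isNoetherianRing_of_finite _ _
    exact monotone_stabilizes_iff_noetherian.mpr hN (secRange M F U.1)
  choose nU hnU using hstab
  refine ⟨t.sup nU, fun m hm => ?_⟩
  have heq : ∀ i : t, secRange M F i.1.1 (t.sup nU) = secRange M F i.1.1 m := by
    intro i
    have h1 : nU i.1 ≤ t.sup nU := Finset.le_sup i.2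
    rw [← hnU i.1 _ h1, ← hnU i.1 m (h1.trans hm)]
  have hcov : ∀ x : X, ∃ i : t, x ∈ i.1.1 := by
    intro x
    obtain ⟨U, hU⟩ := Set.mem_iUnion.1 (ht (Set.mem_univ x))
    obtain ⟨hUt, hxU⟩ := Set.mem_iUnion.1 hU
    exact ⟨⟨U, hUt⟩, hxU⟩
  have hiso := isIso_ofLE_of_secRange_eq M F (fun i : t => i.1.1) (fun i => i.1.2) hcov
    (t.sup nU) m hm heq
  refine le_antisymm ?_ (F.monotone hm)
  refine Subobject.le_of_comm (inv (Subobject.ofLE (F (t.sup nU)) (F m) (F.monotone hm))) ?_
  rw [IsIso.inv_comp_eq, Subobject.ofLE_arrow]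

end Groth.Agent.Lib.helper7.QCohZero
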