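import Groth.Agent.Lib.Helper7.QCohLoc
import Groth.Agent.Lib.Helper16.QCohPush

/-!
# Pushforward of quasi-coherent modules along qcqs morphisms (helper7)

`isQuasicoherent_pushforward`: for `f : X ⟶ Y` quasi-compact and quasi-separated and `F`
quasi-coherent on `X`, `f_* F` is quasi-coherent.
-/

set_option autoImplicit false
universe u
open CategoryTheory CategoryTheory.Limits AlgebraicGeometry TopologicalSpace Opposite
open Scheme.Modules Groth.Agent.Lib.helper7 Groth.Agent.Lib.helper16.QCohPush

namespace Groth.Agent.Lib.helper7.QCohPushQC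

/-- **Pushforward along a qcqs morphism preserves quasi-coherence.** -/
theorem isQuasicoherent_pushforward {X Y : Scheme.{u}} (f : X ⟶ Y) [QuasiCompact f]
    [QuasiSeparated f] (F : X.Modules) [F.IsQuasicoherent] :
    ((Scheme.Modules.pushforward f).obj F).IsQuasicoherent := by
  refine QCohLoc.isQuasicoherent_of_loc (push f F) ?_ ?_
  · intro V hV g s hs
    have hc : IsCompact (f ⁻¹ᵁ V).1 := f.isCompact_preimage hV.isCompact
    have heq : f ⁻¹ᵁ Y.basicOpen g = X.basicOpen ((f.app V).hom g) := Scheme.preimage_basicOpen f g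
    have hs' : (F.presheaf.map (homOfLE (preimage_mono f (Y.basicOpen_le g))).op).hom
        (show Γ(F, f ⁻¹ᵁ V) from s) = 0 := hs
    obtain ⟨n, hn⟩ := exists_pow_smul_eq_zero_of_isCompact F hc ((f.app V).hom g)
      (show Γ(F, f ⁻¹ᵁ V) from s) (by
        rw [← map_map F (preimage_mono f (Y.basicOpen_le g)) heq.ge, hs', map_zero])
    refine ⟨n, ?_⟩
    rw [push_smul, map_pow]
    exact hn
  · intro V hV g t
    have hc : IsCompact (f ⁻¹ᵁ V).1 := f.isCompact_preimage hV.isCompact
    have hqs : IsQuasiSeparated (f ⁻¹ᵁ V).1 := f.isQuasiSeparated_preimage hV.isQuasiSeparated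
    have heq : f ⁻¹ᵁ Y.basicOpen g = X.basicOpen ((f.app V).hom g) := Scheme.preimage_basicOpen f g
    obtain ⟨n, s, hs⟩ := exists_pow_smul_eq_map_of_isCompact_of_isQuasiSeparated F hc hqs
      ((f.app V).hom g) (F.presheaf.map (homOfLE heq.ge).op (show Γ(F, f ⁻¹ᵁ Y.basicOpen g) from t))
    refine ⟨n, (show Γ(push f F, V) from s), ?_⟩
    have goal' : F.presheaf.map (homOfLE (preimage_mono f (Y.basicOpen_le g))).op s =
        ((f.app (Y.basicOpen g)).hom ((Y.presheaf.map (homOfLE (Y.basicOpen_le g)).op).hom g ^ n) •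
          (@id Γ(F, f ⁻¹ᵁ Y.basicOpen g) t) : Γ(F, f ⁻¹ᵁ Y.basicOpen g)) := by
      apply map_injective_of_eq F heq
      rw [map_map]
      refine hs.trans ?_
      rw [Scheme.Modules.map_smul]
      congr 1
      rw [map_pow, map_pow]
      congr 1
      rw [app_res]
      exact (Groth.Agent.Lib.helper16.QCohPush.res_res _ _ _).symm
    exact goal'

end Groth.Agent.Lib.helper7.QCohPushQC
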