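import Groth.Agent.Lib.Helper7.KerSections
import Groth.Agent.Lib.Helper7.QCohPushQC
import Groth.Prelude.Def_ClSub2

/-!
# The ideal sheaf as an `O_X`-module: `ClSub.idealMod`, `ClSub.quotMod` (helper7, LT6)

* `structureModule_qcoh`, `quotMod_qcoh`, `idealMod_qcoh`: quasi-coherence instances.
* `idealModι_app_injective`, `mem_range_idealModι_iff` (any open `V`: sections of the ideal sheaf
  are the functions vanishing on the closed subscheme), `mem_range_idealModι_iff_of_affine`
  (affine `U`: they are `I.ideal U`), `sectionsEquiv I U : Γ(idealMod I, U) ≃ₗ[Γ(X,U)] I.ideal U`.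
* `epi_toSubscheme`, `idealSeq`, `idealSeq_shortExact`: `0 → I → O_X → O_X/I → 0`;
  `cokernelIdealModιIso`.
-/

set_option autoImplicit false
universe u
open CategoryTheory CategoryTheory.Limits AlgebraicGeometry TopologicalSpace Opposite
open Scheme.Modules Groth.Agent.Lib.helper7

namespace Groth.Agent.Lib.helper7.IdealMod

variable {X : Scheme.{u}} (I : X.IdealSheafData)

instance structureModule_qcoh : (Coh.structureModule X).IsQuasicoherent := by
  have h : (SheafOfModules.free (R := X.ringCatSheaf) PUnit.{u + 1}).IsQuasicoherent :=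
    inferInstance
  let e : SheafOfModules.free (R := X.ringCatSheaf) PUnit.{u + 1} ≅
      SheafOfModules.unit X.ringCatSheaf :=
    coproductUniqueIso (fun _ : PUnit.{u + 1} => SheafOfModules.unit X.ringCatSheaf)
  exact (SheafOfModules.isQuasicoherent X.ringCatSheaf).prop_of_iso e h

instance : QuasiSeparated I.subschemeι := inferInstance

instance quotMod_qcoh : (ClSub.quotMod I).IsQuasicoherent :=
  QCohPushQC.isQuasicoherent_pushforward I.subschemeι _

instance idealMod_qcoh : (ClSub.idealMod I).IsQuasicoherent :=
  CohKer.isQuasicoherent_kernel (ClSub.toSubscheme I)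

theorem toSubscheme_app (V : X.Opens) (s : Γ(X, V)) :
    ((ClSub.toSubscheme I).app V).hom s = (I.subschemeι.app V).hom s := rfl

theorem idealModι_app_injective (V : X.Opens) :
    Function.Injective ((ClSub.idealModι I).app V).hom :=
  KerSections.kernel_ι_app_injective (ClSub.toSubscheme I) V

theorem mem_range_idealModι_iff (V : X.Opens) (s : Γ(X, V)) :
    s ∈ Set.range ((ClSub.idealModι I).app V).hom ↔ (I.subschemeι.app V).hom s = 0 := by
  have := KerSections.range_kernel_ι_app (ClSub.toSubscheme I) V
  change s ∈ Set.range ((kernel.ι (ClSub.toSubscheme I)).app V).hom ↔ _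
  rw [this]
  rfl

theorem mem_range_idealModι_iff_of_affine (U : X.affineOpens) (s : Γ(X, U.1)) :
    s ∈ Set.range ((ClSub.idealModι I).app U.1).hom ↔ s ∈ I.ideal U := by
  rw [mem_range_idealModι_iff, ← I.ker_subschemeι_app U, RingHom.mem_ker]

theorem idealModι_app_mem (U : X.affineOpens) (t : Γ(ClSub.idealMod I, U.1)) :
    ((ClSub.idealModι I).app U.1).hom t ∈ I.ideal U :=
  (mem_range_idealModι_iff_of_affine I U _).mp ⟨t, rfl⟩

theorem idealModι_app_smul (V : X.Opens) (a : Γ(X, V)) (t : Γ(ClSub.idealMod I, V)) :
    (show Γ(X, V) from ((ClSub.idealModι I).app V).hom (a • t)) =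
      a * (show Γ(X, V) from ((ClSub.idealModι I).app V).hom t) :=
  (ClSub.idealModι I).app_smul a t

/-- the inclusion of sections of the ideal sheaf over an affine open into the ideal -/
noncomputable def sectionsMap (U : X.affineOpens) :
    Γ(ClSub.idealMod I, U.1) →ₗ[Γ(X, U.1)] I.ideal U where
  toFun t := ⟨((ClSub.idealModι I).app U.1).hom t, idealModι_app_mem I U t⟩
  map_add' a b := Subtype.ext (map_add _ a b)
  map_smul' a t := Subtype.ext (idealModι_app_smul I U.1 a t)

theorem sectionsMap_coe (U : X.affineOpens) (t : Γ(ClSub.idealMod I, U.1)) :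
    ((sectionsMap I U t : I.ideal U) : Γ(X, U.1)) = ((ClSub.idealModι I).app U.1).hom t := rfl

theorem sectionsMap_bijective (U : X.affineOpens) : Function.Bijective (sectionsMap I U) :=
  ⟨fun a b hab => idealModι_app_injective I U.1 (congrArg Subtype.val hab),
   fun ⟨s, hs⟩ => by
    obtain ⟨t, ht⟩ := (mem_range_idealModι_iff_of_affine I U s).mpr hs
    exact ⟨t, Subtype.ext ht⟩⟩

/-- Sections of the ideal sheaf over an affine open are the ideal. -/
noncomputable def sectionsEquiv (U : X.affineOpens) :
    Γ(ClSub.idealMod I, U.1) ≃ₗ[Γ(X, U.1)] I.ideal U :=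
  LinearEquiv.ofBijective (sectionsMap I U) (sectionsMap_bijective I U)

theorem sectionsEquiv_coe (U : X.affineOpens) (t : Γ(ClSub.idealMod I, U.1)) :
    ((sectionsEquiv I U t : I.ideal U) : Γ(X, U.1)) = ((ClSub.idealModι I).app U.1).hom t := rfl

instance epi_toSubscheme : Epi (ClSub.toSubscheme I) := by
  refine KerSections.epi_of_surjective_affine (ClSub.toSubscheme I) (fun U hU => ?_)
  exact I.subschemeι_app_surjective ⟨U, hU⟩

/-- The short exact sequence `0 → I → O_X → O_X/I → 0`. -/
noncomputable def idealSeq : ShortComplex X.Modules :=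
  ShortComplex.mk (ClSub.idealModι I) (ClSub.toSubscheme I) (kernel.condition _)

theorem idealSeq_shortExact : (idealSeq I).ShortExact :=
  { exact := ShortComplex.exact_of_f_is_kernel _ (kernelIsKernel (ClSub.toSubscheme I))
    mono_f := inferInstanceAs (Mono (kernel.ι (ClSub.toSubscheme I)))
    epi_g := epi_toSubscheme I }

instance mono_idealModι : Mono (ClSub.idealModι I) :=
  inferInstanceAs (Mono (kernel.ι (ClSub.toSubscheme I)))

/-- The cokernel of the inclusion of the ideal sheaf is `O_X/I`. -/
noncomputable def cokernelIdealModιIso : cokernel (ClSub.idealModι I) ≅ ClSub.quotMod I :=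
  haveI : Epi (idealSeq I).g := epi_toSubscheme I
  ((idealSeq_shortExact I).exact.gIsCokernel.coconePointUniqueUpToIso
    (colimit.isColimit (parallelPair (ClSub.idealModι I) 0))).symm

end Groth.Agent.Lib.helper7.IdealMod
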