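import Groth.Agent.Lib.Helper7.QCohExt
import Mathlib.CategoryTheory.ObjectProperty.FiniteProducts

/-!
# Finite products and pullbacks of quasi-coherent modules (helper7)

* `qcProp X : ObjectProperty X.Modules`, the property of being quasi-coherent; it is closed under
  isomorphisms, contains zero, and is closed under finite products.
* `isQuasicoherent_biprod`, `isQuasicoherent_prod`, `isQuasicoherent_piObj` (finite index).
* `isQuasicoherent_pullback`: fibre products of quasi-coherent modules are quasi-coherent.
-/

set_option autoImplicit false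
universe u
open CategoryTheory CategoryTheory.Limits AlgebraicGeometry TopologicalSpace Opposite
open Scheme.Modules Groth.Agent.Lib.helper7
open scoped ZeroObject

namespace Groth.Agent.Lib.helper7.QCohProd

variable {X : Scheme.{u}}

/-- quasi-coherence as an object property on `X.Modules` -/
def qcProp (X : Scheme.{u}) : ObjectProperty X.Modules := fun F => F.IsQuasicoherent

theorem qcProp_iff (F : X.Modules) : qcProp X F ↔ F.IsQuasicoherent := Iff.rfl

theorem isQuasicoherent_of_iso {F G : X.Modules} (e : F ≅ G) (hF : F.IsQuasicoherent) :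
    G.IsQuasicoherent :=
  (SheafOfModules.isQuasicoherent X.ringCatSheaf).prop_of_iso e hF

instance : (qcProp X).IsClosedUnderIsomorphisms where
  of_iso e h := isQuasicoherent_of_iso e h

instance : (qcProp X).ContainsZero where
  exists_zero := by
    have : HasZeroObject X.Modules := inferInstance
    exact ⟨(0 : X.Modules), isZero_zero _, CohKer.isQuasicoherent_of_isZero (isZero_zero _)⟩

theorem isQuasicoherent_biprod (A B : X.Modules) (hA : A.IsQuasicoherent)
    (hB : B.IsQuasicoherent) : (A ⊞ B).IsQuasicoherent := by
  let S : ShortComplex X.Modules :=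
    ShortComplex.mk (biprod.inl : A ⟶ A ⊞ B) (biprod.snd : A ⊞ B ⟶ B) (by simp)
  have hS : S.ShortExact := (ShortComplex.Splitting.ofHasBinaryBiproduct A B).shortExact
  have : S.X₁.IsQuasicoherent := hA
  have : S.X₃.IsQuasicoherent := hB
  exact QCohExt.isQuasicoherent_of_extension S hS

theorem isQuasicoherent_prod (A B : X.Modules) (hA : A.IsQuasicoherent)
    (hB : B.IsQuasicoherent) : (A ⨯ B).IsQuasicoherent :=
  isQuasicoherent_of_iso (biprod.isoProd A B) (isQuasicoherent_biprod A B hA hB)

instance : (qcProp X).IsClosedUnderBinaryProducts where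
  limitsOfShape_le := by
    rintro M ⟨p⟩
    refine (qcProp X).prop_of_iso ?_ (isQuasicoherent_prod _ _
      (p.prop_diag_obj (.mk .left)) (p.prop_diag_obj (.mk .right)))
    exact IsLimit.conePointUniqueUpToIso (prodIsProd _ _)
      ((IsLimit.postcomposeHomEquiv (diagramIsoPair p.diag) _).2 p.isLimit)

instance : (qcProp X).IsClosedUnderFiniteProducts := .mk'

/-- A finite product of quasi-coherent modules is quasi-coherent. -/
theorem isQuasicoherent_piObj {J : Type*} [Finite J] (f : J → X.Modules) [HasProduct f]
    (h : ∀ j, (f j).IsQuasicoherent) : (∏ᶜ f).IsQuasicoherent :=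
  (qcProp X).prop_product h

/-- Fibre products of quasi-coherent modules are quasi-coherent. -/
theorem isQuasicoherent_pullback {A B C : X.Modules} (hA : A.IsQuasicoherent)
    (hB : B.IsQuasicoherent) (hC : C.IsQuasicoherent) (f : A ⟶ C) (g : B ⟶ C) :
    (pullback f g).IsQuasicoherent := by
  have : (A ⊞ B).IsQuasicoherent := isQuasicoherent_biprod A B hA hB
  have : C.IsQuasicoherent := hC
  have hk : (kernel (biprod.desc f (-g))).IsQuasicoherent :=
    CohKer.isQuasicoherent_kernel (biprod.desc f (-g))
  let e : pullback f g ≅ kernel (biprod.desc f (-g)) :=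
    IsLimit.conePointUniqueUpToIso
      (Abelian.PullbackToBiproductIsKernel.isLimitPullbackToBiproduct f g)
      (limit.isLimit _)
  exact isQuasicoherent_of_iso e.symm hk

end Groth.Agent.Lib.helper7.QCohProd
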