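import Groth.Agent.Lib.Helper7.QCohZero

/-!
# Sections of kernels; affine-local criteria for mono/epi/iso of quasi-coherent modules (helper7)

* `sections_leftExact`: sections over any open of a left exact sequence of `O_X`-modules are left
  exact.  `kernel_ι_app_injective`, `exists_kernel_section`, `range_kernel_ι_app`.
* For quasi-coherent `A`, `B` and `φ : A ⟶ B`: `mono_of_injective_affine`,
  `epi_of_surjective_affine`, `isIso_of_bijective_affine` (check on sections over affine opens).
-/

set_option autoImplicit false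
universe u v' u'
open CategoryTheory CategoryTheory.Limits AlgebraicGeometry TopologicalSpace Opposite
open Scheme.Modules Groth.Agent.Lib.helper7

namespace Groth.Agent.Lib.helper7.KerSections

section General

variable {C : Type u'} [Category.{v'} C] {J : GrothendieckTopology C}
  {R : Sheaf J RingCat.{u}}
  [HasSheafify J AddCommGrpCat.{u}] [J.WEqualsLocallyBijective AddCommGrpCat.{u}]

/-- For a left exact sequence `0 → A → B → C` of sheaves of modules, sections are left exact. -/
theorem sections_leftExact_general (S : ShortComplex (SheafOfModules.{u} R)) (hS : S.Exact)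
    [Mono S.f] (V : Cᵒᵖ) :
    Function.Injective (S.f.val.app V).hom ∧
      ∀ b : S.X₂.val.obj V, (S.g.val.app V).hom b = 0 → ∃ a : S.X₁.val.obj V,
        (S.f.val.app V).hom a = b := by
  let E := SheafOfModules.evaluation.{u} R V
  have hE : PreservesFiniteLimits E := inferInstance
  have hA : E.Additive := by
    change (SheafOfModules.forget.{u} R ⋙ PresheafOfModules.evaluation _ V).Additive
    infer_instance
  have key : ∀ (S : ShortComplex (SheafOfModules.{u} R)), S.Exact ∧ Mono S.f →
      (S.map E).Exact ∧ Mono (E.map S.f) :=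
    ((Functor.preservesFiniteLimits_tfae E).out 3 1).1 hE
  obtain ⟨hex, hm⟩ := key S ⟨hS, inferInstance⟩
  constructor
  · exact (ModuleCat.mono_iff_injective _).mp hm
  · intro b hb
    exact (ShortComplex.moduleCat_exact_iff (S.map E)).mp hex b hb

end General

variable {X : Scheme.{u}}

/-- Sections of a left exact sequence of `O_X`-modules are left exact. -/
theorem sections_leftExact (S : ShortComplex X.Modules) (hS : S.Exact) [hm : Mono S.f]
    (V : X.Opens) :
    Function.Injective (S.f.app V).hom ∧
      ∀ b : Γ(S.X₂, V), (S.g.app V).hom b = 0 → ∃ a : Γ(S.X₁, V), (S.f.app V).hom a = b := by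
  have hm' : Mono (C := SheafOfModules.{u} X.ringCatSheaf) S.f :=
    ⟨fun g h w => (cancel_mono (C := X.Modules) S.f).1 w⟩
  exact @sections_leftExact_general _ _ _ X.ringCatSheaf _ _ S hS hm' (op V)

theorem kernel_ι_app_injective {F G : X.Modules} (φ : F ⟶ G) (V : X.Opens) :
    Function.Injective ((kernel.ι φ).app V).hom :=
  (sections_leftExact (ShortComplex.mk (kernel.ι φ) φ (kernel.condition φ))
    (ShortComplex.exact_of_f_is_kernel _ (kernelIsKernel φ)) V).1

theorem exists_kernel_section {F G : X.Modules} (φ : F ⟶ G) (V : X.Opens) (s : Γ(F, V))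
    (hs : (φ.app V).hom s = 0) : ∃ t : Γ(kernel φ, V), ((kernel.ι φ).app V).hom t = s :=
  (sections_leftExact (ShortComplex.mk (kernel.ι φ) φ (kernel.condition φ))
    (ShortComplex.exact_of_f_is_kernel _ (kernelIsKernel φ)) V).2 s hs

theorem kernel_ι_app_comp {F G : X.Modules} (φ : F ⟶ G) (V : X.Opens) (t : Γ(kernel φ, V)) :
    (φ.app V).hom (((kernel.ι φ).app V).hom t) = 0 := by
  have h := kernel.condition φ
  have h2 := congrArg (fun ψ => (Scheme.Modules.Hom.app ψ V).hom t) h
  exact h2

theorem range_kernel_ι_app {F G : X.Modules} (φ : F ⟶ G) (V : X.Opens) :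
    Set.range ((kernel.ι φ).app V).hom = {s | (φ.app V).hom s = 0} := by
  ext s
  constructor
  · rintro ⟨t, rfl⟩
    exact kernel_ι_app_comp φ V t
  · intro hs
    exact exists_kernel_section φ V s hs

section QCohAffine

variable {A B : X.Modules} [A.IsQuasicoherent] [B.IsQuasicoherent] (φ : A ⟶ B)

/-- A morphism of quasi-coherent modules which is injective on sections over an affine open cover
is a monomorphism. -/
theorem mono_of_injective_cover {ι : Type*} (𝒰 : ι → X.Opens) (h𝒰 : ∀ i, IsAffineOpen (𝒰 i))
    (hcov : ∀ x : X, ∃ i, x ∈ 𝒰 i)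
    (h : ∀ i, Function.Injective (φ.app (𝒰 i)).hom) : Mono φ := by
  have : (kernel φ).IsQuasicoherent := CohKer.isQuasicoherent_kernel φ
  have hz : IsZero (kernel φ) := by
    refine QCohZero.isZero_of_subsingleton_sections (kernel φ) 𝒰 h𝒰 hcov
      (fun i => ⟨fun a b => ?_⟩)
    apply kernel_ι_app_injective φ (𝒰 i)
    apply h i
    rw [kernel_ι_app_comp, kernel_ι_app_comp]
  exact (Preadditive.mono_iff_isZero_kernel φ).mpr hz

/-- A morphism of quasi-coherent modules which is surjective on sections over an affine open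
cover is an epimorphism. -/
theorem epi_of_surjective_cover {ι : Type*} (𝒰 : ι → X.Opens) (h𝒰 : ∀ i, IsAffineOpen (𝒰 i))
    (hcov : ∀ x : X, ∃ i, x ∈ 𝒰 i)
    (h : ∀ i, Function.Surjective (φ.app (𝒰 i)).hom) : Epi φ := by
  have : (cokernel φ).IsQuasicoherent := CohKer.isQuasicoherent_cokernel φ
  have : (kernel (cokernel.π φ)).IsQuasicoherent := CohKer.isQuasicoherent_kernel (cokernel.π φ)
  let S : ShortComplex X.Modules :=
    ShortComplex.mk (kernel.ι (cokernel.π φ)) (cokernel.π φ) (kernel.condition _)
  have hS : S.ShortExact :=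
    { exact := ShortComplex.exact_of_f_is_kernel _ (kernelIsKernel (cokernel.π φ))
      mono_f := inferInstanceAs (Mono (kernel.ι (cokernel.π φ)))
      epi_g := inferInstanceAs (Epi (cokernel.π φ)) }
  have : S.X₁.IsQuasicoherent := inferInstanceAs (kernel (cokernel.π φ)).IsQuasicoherent
  have hz : IsZero (cokernel φ) := by
    refine QCohZero.isZero_of_subsingleton_sections (cokernel φ) 𝒰 h𝒰 hcov
      (fun i => ⟨fun a b => ?_⟩)
    suffices H : ∀ c : Γ(cokernel φ, 𝒰 i), c = 0 by rw [H a, H b]
    intro c
    obtain ⟨b', rfl⟩ := QCohExt.surjective_app_of_shortExact S hS (𝒰 i) (h𝒰 i) c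
    obtain ⟨a', rfl⟩ := h i b'
    have hc := cokernel.condition φ
    exact congrArg (fun ψ => (Scheme.Modules.Hom.app ψ (𝒰 i)).hom a') hc
  exact (Preadditive.epi_iff_isZero_cokernel φ).mpr hz

/-- A morphism of quasi-coherent modules which is bijective on sections over an affine open
cover is an isomorphism. -/
theorem isIso_of_bijective_cover {ι : Type*} (𝒰 : ι → X.Opens) (h𝒰 : ∀ i, IsAffineOpen (𝒰 i))
    (hcov : ∀ x : X, ∃ i, x ∈ 𝒰 i)
    (h : ∀ i, Function.Bijective (φ.app (𝒰 i)).hom) : IsIso φ := by
  have := mono_of_injective_cover φ 𝒰 h𝒰 hcov (fun i => (h i).1)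
  have := epi_of_surjective_cover φ 𝒰 h𝒰 hcov (fun i => (h i).2)
  exact isIso_of_mono_of_epi φ

theorem exists_affine_mem (x : X) : ∃ U : X.affineOpens, x ∈ U.1 := by
  obtain ⟨U, hU, hxU, -⟩ := Opens.isBasis_iff_nbhd.mp X.isBasis_affineOpens
    (show x ∈ (⊤ : X.Opens) from trivial)
  exact ⟨⟨U, hU⟩, hxU⟩

theorem mono_of_injective_affine
    (h : ∀ U : X.Opens, IsAffineOpen U → Function.Injective (φ.app U).hom) : Mono φ :=
  mono_of_injective_cover φ (fun U : X.affineOpens => U.1) (fun U => U.2) exists_affine_mem
    (fun U => h U.1 U.2)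

theorem epi_of_surjective_affine
    (h : ∀ U : X.Opens, IsAffineOpen U → Function.Surjective (φ.app U).hom) : Epi φ :=
  epi_of_surjective_cover φ (fun U : X.affineOpens => U.1) (fun U => U.2) exists_affine_mem
    (fun U => h U.1 U.2)

theorem isIso_of_bijective_affine
    (h : ∀ U : X.Opens, IsAffineOpen U → Function.Bijective (φ.app U).hom) : IsIso φ :=
  isIso_of_bijective_cover φ (fun U : X.affineOpens => U.1) (fun U => U.2) exists_affine_mem
    (fun U => h U.1 U.2)

/-- On an affine scheme, a morphism of quasi-coherent modules which is bijective on global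
sections is an isomorphism. -/
theorem isIso_of_bijective_top [IsAffine X]
    (h : Function.Bijective (φ.app ⊤).hom) : IsIso φ :=
  isIso_of_bijective_cover φ (fun _ : Unit => (⊤ : X.Opens)) (fun _ => isAffineOpen_top X)
    (fun _ => ⟨(), trivial⟩) (fun _ => h)

end QCohAffine

end Groth.Agent.Lib.helper7.KerSections
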