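import Groth.Agent.Lib.Helper7.QCohAffine
import Mathlib.Topology.QuasiSeparated

/-!
# Extending sections of quasi-coherent modules from `X_f` (helper7)

`exists_pow_smul_eq_map_of_qcqs`: on a quasi-compact quasi-separated scheme, a section of a
quasi-coherent module over `X_f` extends to `X` after multiplication by a power of `f`.
-/

universe u

open CategoryTheory AlgebraicGeometry TopologicalSpace Opposite

namespace Groth.Agent.Lib.helper7

variable {X : Scheme.{u}} (F : X.Modules)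

/-- restriction of a global function to an open -/
noncomputable abbrev res (f : Γ(X, ⊤)) (V : X.Opens) : Γ(X, V) :=
  X.presheaf.map (homOfLE (le_top : V ≤ ⊤)).op f

theorem res_res (f : Γ(X, ⊤)) {V V' : X.Opens} (h : V' ≤ V) :
    X.presheaf.map (homOfLE h).op (res f V) = res f V' := by
  unfold res
  rw [← ConcreteCategory.comp_apply, ← Functor.map_comp]
  rfl

theorem map_res_pow_smul (f : Γ(X, ⊤)) {V V' : X.Opens} (h : V' ≤ V) (k : ℕ) (x : Γ(F, V)) :
    F.presheaf.map (homOfLE h).op ((res f V) ^ k • x) =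
      (res f V') ^ k • F.presheaf.map (homOfLE h).op x := by
  rw [Scheme.Modules.map_smul, map_pow, res_res]

theorem basicOpen_res_eq (f : Γ(X, ⊤)) (V : X.Opens) :
    X.basicOpen (res f V) = V ⊓ X.basicOpen f :=
  Scheme.basicOpen_res _ _ _

variable [F.IsQuasicoherent]

/-- injectivity part, in terms of a global function -/
theorem exists_res_pow_smul_eq_zero {U : X.Opens} (hU : IsCompact U.1) (f : Γ(X, ⊤))
    (s : Γ(F, U))
    (H : F.presheaf.map (homOfLE (inf_le_left : U ⊓ X.basicOpen f ≤ U)).op s = 0) :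
    ∃ n : ℕ, (res f U) ^ n • s = 0 := by
  apply exists_pow_smul_eq_zero_of_isCompact F hU (res f U) s
  have e := basicOpen_res_eq f U
  rw [← map_map F (inf_le_left : U ⊓ X.basicOpen f ≤ U) e.le, H, map_zero]

/-- surjectivity part, in terms of a global function -/
theorem exists_res_pow_smul_eq_map {U : X.Opens} (hU : IsAffineOpen U) (f : Γ(X, ⊤))
    (t : Γ(F, U ⊓ X.basicOpen f)) :
    ∃ (n : ℕ) (s : Γ(F, U)),
      F.presheaf.map (homOfLE (inf_le_left : U ⊓ X.basicOpen f ≤ U)).op s =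
        (res f (U ⊓ X.basicOpen f)) ^ n • t := by
  have e := basicOpen_res_eq f U
  obtain ⟨n, s, hs⟩ := exists_pow_smul_eq_map_of_isAffineOpen hU F (res f U)
    (F.presheaf.map (homOfLE e.le).op t)
  refine ⟨n, s, ?_⟩
  apply map_injective_of_eq F e.symm
  rw [map_map]
  refine hs.trans ?_
  rw [res_res, ← map_res_pow_smul]

/-- **Extension of sections from `X_f`** on a quasi-compact quasi-separated scheme. -/
theorem exists_pow_smul_eq_map_of_qcqs [CompactSpace X] [QuasiSeparatedSpace X] (f : Γ(X, ⊤))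
    (t : Γ(F, X.basicOpen f)) :
    ∃ (n : ℕ) (s : Γ(F, ⊤)),
      F.presheaf.map (homOfLE (le_top : X.basicOpen f ≤ ⊤)).op s =
        (res f (X.basicOpen f)) ^ n • t := by
  classical
  obtain ⟨S, hS, e⟩ := isCompact_and_isOpen_iff_finite_and_eq_biUnion_affineOpens.mp
    ⟨(CompactSpace.isCompact_univ : IsCompact (Set.univ : Set X)), isOpen_univ⟩
  have := hS.to_subtype
  cases nonempty_fintype S
  let U : S → X.Opens := fun i => i.1.1
  have hcov : (⊤ : X.Opens) ≤ iSup U := by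
    intro x _
    have hx : x ∈ (Set.univ : Set X) := trivial
    rw [e] at hx
    simp only [Set.mem_iUnion] at hx
    obtain ⟨i, hi, hxi⟩ := hx
    exact Opens.mem_iSup.mpr ⟨⟨i, hi⟩, hxi⟩
  -- step 1: local extensions
  have h1 : ∀ i : S, ∃ (n : ℕ) (s : Γ(F, U i)),
      F.presheaf.map (homOfLE (inf_le_left : U i ⊓ (X.basicOpen f) ≤ U i)).op s =
        (res f (U i ⊓ (X.basicOpen f))) ^ n • F.presheaf.map (homOfLE (inf_le_right : U i ⊓ (X.basicOpen f) ≤ (X.basicOpen f))).op t :=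
    fun i => exists_res_pow_smul_eq_map F i.1.2 f _
  choose n s hs using h1
  let N := Finset.univ.sup n
  let s' : ∀ i : S, Γ(F, U i) := fun i => (res f (U i)) ^ (N - n i) • s i
  have hs' : ∀ i : S, F.presheaf.map (homOfLE (inf_le_left : U i ⊓ (X.basicOpen f) ≤ U i)).op (s' i) =
      (res f (U i ⊓ (X.basicOpen f))) ^ N • F.presheaf.map (homOfLE (inf_le_right : U i ⊓ (X.basicOpen f) ≤ (X.basicOpen f))).op t := by
    intro i
    rw [map_res_pow_smul, hs i, ← mul_smul, ← pow_add,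
      Nat.sub_add_cancel (Finset.le_sup (Finset.mem_univ i))]
  -- step 2: differences on overlaps are killed by a power of `f`
  have h2 : ∀ p : S × S, ∃ m : ℕ, (res f (U p.1 ⊓ U p.2)) ^ m •
      (F.presheaf.map (homOfLE (inf_le_left : U p.1 ⊓ U p.2 ≤ U p.1)).op (s' p.1) -
        F.presheaf.map (homOfLE (inf_le_right : U p.1 ⊓ U p.2 ≤ U p.2)).op (s' p.2)) = 0 := by
    intro p
    have hc : IsCompact (U p.1 ⊓ U p.2 : X.Opens).1 :=
      QuasiSeparatedSpace.inter_isCompact _ _ (U p.1).2 p.1.1.2.isCompact (U p.2).2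
        p.2.1.2.isCompact
    apply exists_res_pow_smul_eq_zero F hc f
    rw [map_sub, map_map, map_map]
    have e1 : F.presheaf.map (homOfLE ((inf_le_left : U p.1 ⊓ U p.2 ⊓ (X.basicOpen f) ≤ U p.1 ⊓ U p.2).trans
        inf_le_left)).op (s' p.1) = (res f (U p.1 ⊓ U p.2 ⊓ (X.basicOpen f))) ^ N •
          F.presheaf.map (homOfLE (inf_le_right : U p.1 ⊓ U p.2 ⊓ (X.basicOpen f) ≤ (X.basicOpen f))).op t := by
      rw [← map_map F (inf_le_left : U p.1 ⊓ (X.basicOpen f) ≤ U p.1)
        (inf_le_inf_right (X.basicOpen f) inf_le_left : U p.1 ⊓ U p.2 ⊓ (X.basicOpen f) ≤ U p.1 ⊓ (X.basicOpen f)), hs', map_res_pow_smul,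
        map_map]
    have e2 : F.presheaf.map (homOfLE ((inf_le_left : U p.1 ⊓ U p.2 ⊓ (X.basicOpen f) ≤ U p.1 ⊓ U p.2).trans
        inf_le_right)).op (s' p.2) = (res f (U p.1 ⊓ U p.2 ⊓ (X.basicOpen f))) ^ N •
          F.presheaf.map (homOfLE (inf_le_right : U p.1 ⊓ U p.2 ⊓ (X.basicOpen f) ≤ (X.basicOpen f))).op t := by
      rw [← map_map F (inf_le_left : U p.2 ⊓ (X.basicOpen f) ≤ U p.2)
        (inf_le_inf_right (X.basicOpen f) inf_le_right : U p.1 ⊓ U p.2 ⊓ (X.basicOpen f) ≤ U p.2 ⊓ (X.basicOpen f)), hs', map_res_pow_smul,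
        map_map]
    rw [e1, e2, sub_self]
  choose m hm using h2
  let M := Finset.univ.sup m
  let s'' : ∀ i : S, Γ(F, U i) := fun i => (res f (U i)) ^ M • s' i
  have compat : TopCat.Presheaf.IsCompatible F.presheaf U s'' := by
    intro i j
    change F.presheaf.map (homOfLE (inf_le_left : U i ⊓ U j ≤ U i)).op (s'' i) =
      F.presheaf.map (homOfLE (inf_le_right : U i ⊓ U j ≤ U j)).op (s'' j)
    have hi : F.presheaf.map (homOfLE (inf_le_left : U i ⊓ U j ≤ U i)).op (s'' i) =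
        (res f (U i ⊓ U j)) ^ M •
          F.presheaf.map (homOfLE (inf_le_left : U i ⊓ U j ≤ U i)).op (s' i) :=
      map_res_pow_smul F f _ M (s' i)
    have hj : F.presheaf.map (homOfLE (inf_le_right : U i ⊓ U j ≤ U j)).op (s'' j) =
        (res f (U i ⊓ U j)) ^ M •
          F.presheaf.map (homOfLE (inf_le_right : U i ⊓ U j ≤ U j)).op (s' j) :=
      map_res_pow_smul F f _ M (s' j)
    have hM : M = (M - m (i, j)) + m (i, j) :=
      (Nat.sub_add_cancel (Finset.le_sup (Finset.mem_univ (i, j)) : m (i, j) ≤ M)).symm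
    rw [hi, hj, ← sub_eq_zero, ← smul_sub, hM, pow_add, mul_smul, hm (i, j), smul_zero]
  obtain ⟨g, hg, -⟩ := TopCat.Sheaf.existsUnique_gluing' ⟨F.presheaf, F.isSheaf⟩ U ⊤
    (fun i => homOfLE le_top) hcov s'' compat
  refine ⟨N + M, g, ?_⟩
  have hcovW : (X.basicOpen f) ≤ iSup fun i : S => U i ⊓ (X.basicOpen f) := by
    intro x hx
    obtain ⟨i, hi⟩ := Opens.mem_iSup.mp (hcov (show x ∈ (⊤ : X.Opens) from trivial))
    exact Opens.mem_iSup.mpr ⟨i, hi, hx⟩
  apply TopCat.Sheaf.eq_of_locally_eq' ⟨F.presheaf, F.isSheaf⟩ (fun i : S => U i ⊓ (X.basicOpen f)) (X.basicOpen f)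
    (fun i => homOfLE inf_le_right) hcovW
  intro i
  change F.presheaf.map (homOfLE (inf_le_right : U i ⊓ (X.basicOpen f) ≤ (X.basicOpen f))).op
      (F.presheaf.map (homOfLE (le_top : (X.basicOpen f) ≤ ⊤)).op g) =
    F.presheaf.map (homOfLE (inf_le_right : U i ⊓ (X.basicOpen f) ≤ (X.basicOpen f))).op ((res f (X.basicOpen f)) ^ (N + M) • t)
  rw [map_map, map_res_pow_smul,
    ← map_map F (le_top : U i ≤ ⊤) (inf_le_left : U i ⊓ (X.basicOpen f) ≤ U i)]
  have hgi : F.presheaf.map (homOfLE (le_top : U i ≤ ⊤)).op g = s'' i := hg i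
  rw [hgi]
  have hi : F.presheaf.map (homOfLE (inf_le_left : U i ⊓ (X.basicOpen f) ≤ U i)).op (s'' i) =
      (res f (U i ⊓ X.basicOpen f)) ^ M •
        F.presheaf.map (homOfLE (inf_le_left : U i ⊓ (X.basicOpen f) ≤ U i)).op (s' i) :=
    map_res_pow_smul F f _ M (s' i)
  rw [hi, hs' i, ← mul_smul, ← pow_add, add_comm]

end Groth.Agent.Lib.helper7
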