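import Mathlib.AlgebraicGeometry.IdealSheaf.Functorial

/-!
# Pullback of ideal sheaves on affine charts (helper7)

`ideal_comap`: for `f : X ⟶ Y`, `I` an ideal sheaf on `Y`, affine opens `U ⊆ Y`, `V ⊆ f⁻¹U`:
`(I.comap f).ideal V = (I.ideal U).map (f.appLE U V)`.
-/

set_option autoImplicit false
universe u
open CategoryTheory CategoryTheory.Limits AlgebraicGeometry TopologicalSpace Opposite

namespace Groth.Agent.Lib.helper7.IdealComap

open Scheme.IdealSheafData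

/-- affine case -/
theorem ideal_comap_of_isAffine {X Y : Scheme.{u}} [IsAffine X] [IsAffine Y] (f : X ⟶ Y)
    (J : Y.IdealSheafData) :
    (J.comap f).ideal ⟨⊤, isAffineOpen_top X⟩ =
      (J.ideal ⟨⊤, isAffineOpen_top Y⟩).map f.appTop.hom := by
  apply le_antisymm
  · let K : X.IdealSheafData := ofIdealTop ((J.ideal ⟨⊤, isAffineOpen_top Y⟩).map f.appTop.hom)
    have hK : K.ideal ⟨⊤, isAffineOpen_top X⟩ =
        (J.ideal ⟨⊤, isAffineOpen_top Y⟩).map f.appTop.hom := by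
      simp [K]
    have h1 : J ≤ K.map f := by
      apply le_of_isAffine
      rw [ideal_map_of_isAffineHom K f ⟨⊤, isAffineOpen_top Y⟩]
      change _ ≤ (K.ideal ⟨⊤, isAffineOpen_top X⟩).comap f.appTop.hom
      rw [hK]
      exact Ideal.le_comap_map
    have h2 : J.comap f ≤ K := le_map_iff_comap_le.mp h1
    exact (h2 ⟨⊤, isAffineOpen_top X⟩).trans hK.le
  · rw [Ideal.map_le_iff_le_comap]
    have h1 : J ≤ (J.comap f).map f := le_map_comap (f := f) (J := J)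
    have h2 := h1 ⟨⊤, isAffineOpen_top Y⟩
    rw [ideal_map_of_isAffineHom (J.comap f) f ⟨⊤, isAffineOpen_top Y⟩] at h2
    exact h2

theorem ideal_comap_aux {X Y : Scheme.{u}} (f : X ⟶ Y) (I : Y.IdealSheafData)
    {U U' : Y.Opens} (hU : IsAffineOpen U) (hU' : IsAffineOpen U') (hUU' : U' = U)
    {V V' : X.Opens} (hV : IsAffineOpen V) (hV' : IsAffineOpen V') (hVV' : V' = V)
    (e : V ≤ f ⁻¹ᵁ U) (e' : V' ≤ f ⁻¹ᵁ U')
    (H : (I.comap f).ideal ⟨V', hV'⟩ = (I.ideal ⟨U', hU'⟩).map (f.appLE U' V' e').hom) :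
    (I.comap f).ideal ⟨V, hV⟩ = (I.ideal ⟨U, hU⟩).map (f.appLE U V e).hom := by
  subst hUU' hVV'
  exact H

set_option backward.isDefEq.respectTransparency false in
/-- **pullback of an ideal sheaf on affine charts** -/
theorem ideal_comap {X Y : Scheme.{u}} (f : X ⟶ Y) (I : Y.IdealSheafData)
    {U : Y.Opens} (hU : IsAffineOpen U) {V : X.Opens} (hV : IsAffineOpen V) (e : V ≤ f ⁻¹ᵁ U) :
    (I.comap f).ideal ⟨V, hV⟩ = (I.ideal ⟨U, hU⟩).map (f.appLE U V e).hom := by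
  have : IsAffine U.toScheme := hU
  have : IsAffine V.toScheme := hV
  have hcomp : (I.comap f).comap V.ι = (I.comap U.ι).comap (f.resLE U V e) := by
    rw [← comap_comp, ← comap_comp, Scheme.Hom.resLE_comp_ι]
  have h1 : ((I.comap f).comap V.ι).ideal ⟨⊤, isAffineOpen_top _⟩ =
      ((I.comap U.ι).comap (f.resLE U V e)).ideal ⟨⊤, isAffineOpen_top _⟩ := by rw [hcomp]
  have hL := ideal_comap_of_isOpenImmersion (I.comap f) V.ι ⟨⊤, isAffineOpen_top _⟩
  have hR := ideal_comap_of_isAffine (f.resLE U V e) (I.comap U.ι)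
  have hR2 := ideal_comap_of_isOpenImmersion I U.ι ⟨⊤, isAffineOpen_top _⟩
  rw [hL, hR, hR2, Scheme.Opens.ι_appIso, Scheme.Opens.ι_appIso] at h1
  simp only [Iso.refl_inv] at h1
  have hid : ∀ (R : CommRingCat.{u}) (K : Ideal R),
      Ideal.comap (CommRingCat.Hom.hom (𝟙 R)) K = K := fun R K => Ideal.ext fun _ => Iff.rfl
  have e' : V.ι ''ᵁ ⊤ ≤ f ⁻¹ᵁ (U.ι ''ᵁ ⊤) := by
    rw [V.ι_image_top, U.ι_image_top]; exact e
  refine ideal_comap_aux f I hU ((isAffineOpen_top _).image_of_isOpenImmersion U.ι) U.ι_image_top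
    hV ((isAffineOpen_top _).image_of_isOpenImmersion V.ι) V.ι_image_top e e' ?_
  have hφ : (f.resLE U V e).appTop = f.appLE (U.ι ''ᵁ ⊤) (V.ι ''ᵁ ⊤) e' := by
    rw [Scheme.Hom.appTop, Scheme.Hom.app_eq_appLE, Scheme.Hom.resLE_appLE]
    rfl
  have h2 := congrArg (fun ψ : Γ(Y, U.ι ''ᵁ ⊤) ⟶ Γ(X, V.ι ''ᵁ ⊤) =>
    Ideal.map ψ.hom (I.ideal ⟨U.ι ''ᵁ ⊤, (isAffineOpen_top _).image_of_isOpenImmersion U.ι⟩)) hφ
  exact (hid _ _).symm.trans (h1.trans ((congrArg _ (hid _ _)).trans h2))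

end Groth.Agent.Lib.helper7.IdealComap
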