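import Groth.Agent.Lib.Helper7.QCohExt
import Groth.Prelude.Def_FlatMod2

/-!
# Local lifting along epimorphisms of `O_X`-modules (helper7)

* `exists_local_lift`: an epimorphism of `O_X`-modules is locally surjective on sections.
* `secOfTop`, `sections_ext_top`: global sections as elements of `SheafOfModules.sections`.
* `exists_lift_of_free`: maps out of a finite free module lift locally along epimorphisms.
* `exists_local_lift_of_isFinLocFree`: the same for finite locally free modules.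
-/

set_option autoImplicit false
universe u
open CategoryTheory CategoryTheory.Limits AlgebraicGeometry TopologicalSpace Opposite
open Scheme.Modules Groth.Agent.Lib.helper7

namespace Groth.Agent.Lib.helper7.LocalLift

variable {Y : Scheme.{u}}

theorem app_naturality' {M N : Y.Modules} (φ : M ⟶ N) {A B : Y.Opens} (i : op A ⟶ op B) :
    M.presheaf.map i ≫ φ.app B = φ.app A ≫ N.presheaf.map i := by
  simpa using φ.mapPresheaf.naturality i

theorem exists_local_lift {G F : Y.Modules} (q : G ⟶ F) [hq : Epi q] (V : Y.Opens) (s : Γ(F, V))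
    (y : Y) (hy : y ∈ V) :
    ∃ (W : Y.Opens) (hW : W ≤ V), y ∈ W ∧
      ∃ t : Γ(G, W), q.app W t = F.presheaf.map (homOfLE hW).op s := by
  have h1 := Groth.Agent.Lib.Helper21.ModSh.toSheaf_preservesColimits Y.ringCatSheaf
  have hq' : Epi (C := SheafOfModules.{u} Y.ringCatSheaf) q :=
    ⟨fun g h w => (cancel_epi (C := Y.Modules) q).1 w⟩
  have h2 : Epi ((SheafOfModules.toSheaf.{u} Y.ringCatSheaf).map q) :=
    (SheafOfModules.toSheaf.{u} Y.ringCatSheaf).map_epi q
  have h3 := (TopCat.Sheaf.isLocallySurjective_iff_epi (C := AddCommGrpCat.{u}) (X := Y.toTopCat)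
    ((SheafOfModules.toSheaf.{u} Y.ringCatSheaf).map q)).mpr h2
  rw [TopCat.Presheaf.isLocallySurjective_iff] at h3
  obtain ⟨W, hW, ⟨t, ht⟩, hyW⟩ := h3 V s y hy
  exact ⟨W, hW, hyW, t, ht⟩

/-- the element of `N.sections` given by a global section -/
noncomputable def secOfTop (N : Y.Modules) (s : Γ(N, ⊤)) :
    SheafOfModules.sections (R := Y.ringCatSheaf) N :=
  PresheafOfModules.sectionsMk (M := N.val)
    (fun V => N.presheaf.map (homOfLE (le_top : V.unop ≤ ⊤)).op s)
    (fun V W f => by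
      change N.presheaf.map f (N.presheaf.map (homOfLE (le_top : V.unop ≤ ⊤)).op s) =
        N.presheaf.map (homOfLE (le_top : W.unop ≤ ⊤)).op s
      rw [← ConcreteCategory.comp_apply, ← Functor.map_comp]
      rfl)

theorem sections_ext_top (N : Y.Modules) (s t : SheafOfModules.sections (R := Y.ringCatSheaf) N)
    (h : s.val (op ⊤) = t.val (op ⊤)) : s = t := by
  apply PresheafOfModules.sections_ext
  intro V
  have hs := s.2 (homOfLE (le_top : V.unop ≤ ⊤)).op
  have ht := t.2 (homOfLE (le_top : V.unop ≤ ⊤)).op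
  rw [← hs, ← ht, h]

theorem exists_lift_of_free {M G F : Y.Modules} {n : ℕ}
    (e : M ≅ ∐ fun _ : Fin n => SheafOfModules.unit Y.ringCatSheaf)
    (q : G ⟶ F) [Epi q] (φ : M ⟶ F) (y : Y) :
    ∃ W : Y.Opens, y ∈ W ∧ ∀ {Z : Scheme.{u}} (ι : Z ⟶ Y) [IsOpenImmersion ι], ι.opensRange ≤ W →
      ∃ ψ : (restrictFunctor ι).obj M ⟶ (restrictFunctor ι).obj G,
        ψ ≫ (restrictFunctor ι).map q = (restrictFunctor ι).map φ := by
  let O : Y.Modules := SheafOfModules.unit Y.ringCatSheaf
  let σ : Fin n → (O ⟶ F) := fun k => Sigma.ι (fun _ : Fin n => O) k ≫ e.inv ≫ φ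
  let s : Fin n → Γ(F, ⊤) := fun k => (Scheme.Modules.Hom.app (σ k) ⊤).hom (1 : Γ(Y, ⊤))
  have hl := fun k => exists_local_lift q ⊤ (s k) y trivial
  choose W hW hyW t ht using hl
  refine ⟨⨅ k, W k, ?_, ?_⟩
  · change y ∈ ((⨅ k, W k : Y.Opens) : Set Y)
    rw [Opens.coe_iInf]
    exact Set.mem_iInter.mpr hyW
  · intro Z ι _ hι
    let R := restrictFunctor ι
    let P := pushforward ι
    let adj : R ⊣ P := restrictAdjunction ι
    have hle : ∀ k, ι ''ᵁ (ι ⁻¹ᵁ ⊤) ≤ W k := fun k =>
      ((ι.image_preimage_eq_opensRange_inf ⊤).le.trans inf_le_left).trans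
        (hι.trans (iInf_le W k))
    -- the sections of `P (R G)` over `⊤`
    let t'' : Fin n → Γ(P.obj (R.obj G), ⊤) := fun k =>
      G.presheaf.map (homOfLE (hle k)).op (t k)
    let u : Fin n → SheafOfModules.sections (R := Y.ringCatSheaf) (P.obj (R.obj G)) := fun k =>
      secOfTop (P.obj (R.obj G)) (t'' k)
    let d : (∐ fun _ : Fin n => O) ⟶ P.obj (R.obj G) :=
      Sigma.desc (fun k => (SheafOfModules.unitHomEquiv (R := Y.ringCatSheaf) _).symm (u k))
    refine ⟨(adj.homEquiv M (R.obj G)).symm (e.hom ≫ d), ?_⟩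
    apply (adj.homEquiv M (R.obj F)).injective
    rw [Adjunction.homEquiv_naturality_right, Equiv.apply_symm_apply]
    have h1 : adj.homEquiv M (R.obj F) (R.map φ) = φ ≫ adj.unit.app F := by
      rw [Adjunction.homEquiv_unit]
      exact (adj.unit.naturality φ).symm
    rw [h1]
    rw [← cancel_epi e.inv, Category.assoc, Iso.inv_hom_id_assoc]
    apply Sigma.hom_ext
    intro k
    have hd : Sigma.ι (fun _ : Fin n => O) k ≫ d =
        (SheafOfModules.unitHomEquiv (R := Y.ringCatSheaf) _).symm (u k) :=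
      Sigma.ι_desc _ _
    have hσ : Sigma.ι (fun _ : Fin n => O) k ≫ e.inv ≫ φ ≫ adj.unit.app F =
        σ k ≫ adj.unit.app F := by
      simp only [σ, Category.assoc]
    rw [reassoc_of% hd, hσ]
    apply (SheafOfModules.unitHomEquiv (R := Y.ringCatSheaf) (P.obj (R.obj F))).injective
    apply sections_ext_top
    -- both sides at `⊤`
    have e1 : ((SheafOfModules.unitHomEquiv (R := Y.ringCatSheaf) (P.obj (R.obj F)))
        ((SheafOfModules.unitHomEquiv (R := Y.ringCatSheaf) _).symm (u k) ≫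
          P.map (R.map q))).val (op ⊤) =
        (Scheme.Modules.Hom.app q (ι ''ᵁ (ι ⁻¹ᵁ ⊤))).hom (t'' k) := by
      rw [SheafOfModules.unitHomEquiv_symm_comp, Equiv.apply_symm_apply]
      change (Scheme.Modules.Hom.app q (ι ''ᵁ (ι ⁻¹ᵁ ⊤))).hom
        (G.presheaf.map (homOfLE (le_refl (ι ''ᵁ (ι ⁻¹ᵁ ⊤)))).op (t'' k)) = _
      rw [map_self]
    have e2 : ((SheafOfModules.unitHomEquiv (R := Y.ringCatSheaf) (P.obj (R.obj F)))
        (σ k ≫ adj.unit.app F)).val (op ⊤) =
        F.presheaf.map (homOfLE (ι.image_preimage_le ⊤)).op (s k) := rfl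
    refine e1.trans (Eq.trans ?_ e2.symm)
    change (Scheme.Modules.Hom.app q (ι ''ᵁ (ι ⁻¹ᵁ ⊤))).hom
      (G.presheaf.map (homOfLE (hle k)).op (t k)) = _
    have nat := app_naturality' q (homOfLE (hle k)).op
    have nat' := congr($(nat).hom (t k))
    simp only [AddCommGrpCat.hom_comp, AddMonoidHom.coe_comp, Function.comp_apply] at nat'
    refine nat'.trans ?_
    rw [ht k]
    exact map_map F _ _ _

/-- **Local lifting of maps from finite locally free modules along epimorphisms.** -/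
theorem exists_local_lift_of_isFinLocFree {X : Scheme.{u}} {E F G : X.Modules} (p : G ⟶ F) [Epi p] (φ : E ⟶ F)
    (hE : FlatMod.IsFinLocFree E) (x : X) :
    ∃ (V : X.Opens) (ψ : E.restrict V.ι ⟶ G.restrict V.ι), x ∈ V ∧
      ψ ≫ (Scheme.Modules.restrictFunctor V.ι).map p = (Scheme.Modules.restrictFunctor V.ι).map φ := by
  obtain ⟨U, n, hxU, ⟨e⟩⟩ := hE x
  have hepi : Epi ((restrictFunctor U.ι).map p) := inferInstance
  obtain ⟨W, hyW, H⟩ := exists_lift_of_free (Y := (↑U : Scheme.{u})) e ((restrictFunctor U.ι).map p)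
    ((restrictFunctor U.ι).map φ) ⟨x, hxU⟩
  let V : X.Opens := U.ι ''ᵁ W
  have hVU : V ≤ U := by
    intro z hz
    obtain ⟨w, -, rfl⟩ := hz
    exact w.2
  have hxV : x ∈ V := ⟨⟨x, hxU⟩, hyW, rfl⟩
  let ι : (↑V : Scheme.{u}) ⟶ ↑U := X.homOfLE hVU
  have hι : ι.opensRange ≤ W := by
    rw [Scheme.opensRange_homOfLE]
    exact (U.ι.preimage_image_eq W).le
  obtain ⟨ψ', hψ'⟩ := H ι hι
  let θ : restrictFunctor U.ι ⋙ restrictFunctor ι ≅ restrictFunctor V.ι :=
    (restrictFunctorComp ι U.ι).symm ≪≫ restrictFunctorCongr (by simp [ι])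
  refine ⟨V, θ.inv.app E ≫ ψ' ≫ θ.hom.app G, hxV, ?_⟩
  have n1 := θ.hom.naturality p
  have n2 := θ.hom.naturality φ
  simp only [Functor.comp_map] at n1 n2
  rw [Category.assoc, Category.assoc, ← n1, reassoc_of% hψ', n2, Iso.inv_hom_id_app_assoc]

end Groth.Agent.Lib.helper7.LocalLift
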