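import Groth.Agent.Lib.Helper7.QCohPushQC
import Groth.Prelude.Def_CohB1

/-!
# Restriction to an open and supports (helper7)

* `isZero_iff_subsingleton_sections`: an `O_X`-module is zero iff all its sections vanish.
* `isZero_restrict_iff_support`: `K|_U = 0 ↔ Supp K ⊆ Uᶜ` (support via stalks, `CohB1.support`).
* `isIso_restrict_map_iff`: `f|_U` is an isomorphism iff kernel and cokernel of `f` are supported
  off `U`.
-/

set_option autoImplicit false
universe u
open CategoryTheory CategoryTheory.Limits AlgebraicGeometry TopologicalSpace Opposite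
open Scheme.Modules Groth.Agent.Lib.helper7

namespace Groth.Agent.Lib.helper7.RestrictSupport

variable {X : Scheme.{u}}

theorem isZero_iff_subsingleton_sections (M : X.Modules) :
    IsZero M ↔ ∀ V : X.Opens, Subsingleton Γ(M, V) := by
  constructor
  · intro h V
    refine ⟨fun a b => ?_⟩
    have h0 : (𝟙 M : M ⟶ M) = 0 := (IsZero.iff_id_eq_zero M).mp h
    have ha : ((𝟙 M : M ⟶ M).app V).hom a = ((0 : M ⟶ M).app V).hom a := by rw [h0]
    have hb : ((𝟙 M : M ⟶ M).app V).hom b = ((0 : M ⟶ M).app V).hom b := by rw [h0]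
    have ea : ((𝟙 M : M ⟶ M).app V).hom a = a := rfl
    have eb : ((𝟙 M : M ⟶ M).app V).hom b = b := rfl
    have za : ((0 : M ⟶ M).app V).hom a = 0 := rfl
    have zb : ((0 : M ⟶ M).app V).hom b = 0 := rfl
    rw [← ea, ← eb, ha, hb, za, zb]
  · intro h
    rw [IsZero.iff_id_eq_zero]
    refine Scheme.Modules.hom_ext _ _ (fun W => ?_)
    ext s
    exact (h W).elim _ _

theorem isZero_restrict_iff (K : X.Modules) (U : X.Opens) :
    IsZero ((restrictFunctor U.ι).obj K) ↔ ∀ V : X.Opens, V ≤ U → Subsingleton Γ(K, V) := by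
  rw [isZero_iff_subsingleton_sections]
  constructor
  · intro h V hV
    have e : U.ι ''ᵁ (U.ι ⁻¹ᵁ V) = V := by
      rw [Scheme.Hom.image_preimage_eq_opensRange_inf, Scheme.Opens.opensRange_ι]
      exact inf_eq_right.mpr hV
    have := h (U.ι ⁻¹ᵁ V)
    change Subsingleton Γ(K, U.ι ''ᵁ (U.ι ⁻¹ᵁ V)) at this
    rwa [e] at this
  · intro h W
    change Subsingleton Γ(K, U.ι ''ᵁ W)
    apply h
    intro x hx
    obtain ⟨y, -, rfl⟩ := hx
    exact y.2

theorem subsingleton_sections_iff_support (K : X.Modules) (U : X.Opens) :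
    (∀ V : X.Opens, V ≤ U → Subsingleton Γ(K, V)) ↔ CohB1.support K ⊆ (U : Set X)ᶜ := by
  constructor
  · intro h x hx hxU
    apply hx
    refine ⟨fun a b => ?_⟩
    suffices H : ∀ t : K.presheaf.stalk x, t = 0 by rw [H a, H b]
    intro t
    obtain ⟨V, hxV, s, rfl⟩ := TopCat.Presheaf.exists_germ_eq K.presheaf t
    have hsub := h (V ⊓ U) inf_le_right
    have h1 := TopCat.Presheaf.germ_res_apply K.presheaf (homOfLE (inf_le_left : V ⊓ U ≤ V)) x
      ⟨hxV, hxU⟩ s
    rw [← h1, Subsingleton.elim (K.presheaf.map (homOfLE (inf_le_left : V ⊓ U ≤ V)).op s) 0,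
      map_zero]
  · intro h V hV
    refine ⟨fun a b => ?_⟩
    refine TopCat.Presheaf.section_ext ⟨K.presheaf, K.isSheaf⟩ V a b (fun x hx => ?_)
    have hx' : x ∉ CohB1.support K := fun hmem => h hmem (hV hx)
    have : Subsingleton (K.presheaf.stalk x) := not_not.mp hx'
    exact Subsingleton.elim _ _

theorem isZero_restrict_iff_support (K : X.Modules) (U : X.Opens) :
    IsZero ((restrictFunctor U.ι).obj K) ↔ CohB1.support K ⊆ (U : Set X)ᶜ :=
  (isZero_restrict_iff K U).trans (subsingleton_sections_iff_support K U)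

theorem isIso_restrict_map_iff {A B : X.Modules} (f : A ⟶ B) (U : X.Opens) :
    IsIso ((restrictFunctor U.ι).map f) ↔
      CohB1.support (kernel f) ⊆ (U : Set X)ᶜ ∧ CohB1.support (cokernel f) ⊆ (U : Set X)ᶜ := by
  rw [← isZero_restrict_iff_support, ← isZero_restrict_iff_support, isIso_iff_mono_and_epi,
    Preadditive.mono_iff_isZero_kernel, Preadditive.epi_iff_isZero_cokernel]
  rw [(PreservesKernel.iso (restrictFunctor U.ι) f).isZero_iff,
    (PreservesCokernel.iso (restrictFunctor U.ι) f).isZero_iff]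

end Groth.Agent.Lib.helper7.RestrictSupport
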