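import Mathlib
import Groth.Prelude.Def_Curv2
import Groth.Prelude.Def_FGA
import Groth.Agent.Lib.Lead.ModTensor

/-!
# `Curv2.tensorPows` versus `FGA.tensorList` / `FGA.multiTwist` (helper7)

* `foldT G l`: left-nested iterated tensor product `((G ⊗ a₁) ⊗ a₂) ⊗ ⋯`
* `foldTIso : foldT G l ≅ G ⊗ tensorList l`
* `tensorPows_eq_foldT`
* `multiTwistIso : multiTwist L m ⊗ F ≅ tensorPows F n L m`
-/

set_option autoImplicit false
universe u

open CategoryTheory AlgebraicGeometry

namespace Groth.Agent.Lib.helper7.SnapperList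

open Groth.Agent.Lib.Lead.ModTensor

variable {X : Scheme.{u}}

/-- left-nested iterated tensor product -/
noncomputable def foldT (G : X.Modules) (l : List X.Modules) : X.Modules :=
  l.foldl CohB1.tensorMod G

theorem foldT_nil (G : X.Modules) : foldT G [] = G := rfl

theorem foldT_cons (G a : X.Modules) (l : List X.Modules) :
    foldT G (a :: l) = foldT (CohB1.tensorMod G a) l := rfl

theorem foldT_concat (G a : X.Modules) (l : List X.Modules) :
    foldT G (l ++ [a]) = CohB1.tensorMod (foldT G l) a := by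
  unfold foldT
  rw [List.foldl_append]
  rfl

/-- `((G ⊗ a₁) ⊗ ⋯) ⊗ a_m ≅ G ⊗ (a₁ ⊗ (⋯ ⊗ (a_m ⊗ O)))` -/
noncomputable def foldTIso : (l : List X.Modules) → (G : X.Modules) →
    (foldT G l ≅ CohB1.tensorMod G (FGA.tensorList l))
  | [], G => (rightUnitor G).symm
  | a :: l, G => foldTIso l (CohB1.tensorMod G a) ≪≫ assoc G a (FGA.tensorList l)

theorem tensorPows_eq_foldT (F : X.Modules) : ∀ (r : ℕ) (L : Fin r → X.Modules) (n : Fin r → ℕ),
    Curv2.tensorPows F r L n = foldT F (List.ofFn fun i => CohB1.tensorPow (L i) (n i))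
  | 0, _, _ => by simp [Curv2.tensorPows, foldT]
  | r + 1, L, n => by
    rw [List.ofFn_succ', List.concat_eq_append, foldT_concat]
    show CohB1.tensorMod (Curv2.tensorPows F r _ _) _ = _
    rw [tensorPows_eq_foldT F r]

/-- `multiTwist L m ⊗ F ≅ tensorPows F n L m` -/
noncomputable def multiTwistIso (F : X.Modules) (n : ℕ) (L : Fin n → X.Modules) (m : Fin n → ℕ) :
    CohB1.tensorMod (FGA.multiTwist L m) F ≅ Curv2.tensorPows F n L m :=
  braid _ _ ≪≫ (foldTIso _ F).symm ≪≫ eqToIso (by
    rw [tensorPows_eq_foldT, List.ofFn_eq_map])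

end Groth.Agent.Lib.helper7.SnapperList
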