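import Mathlib

/-!
# Finite differences and numerical polynomials in several variables (helper7)

For `f : (ι → ℕ) → ℤ` we say `DegLT d f` when all `d`-fold iterated first differences of `f`
(in coordinate directions) vanish.  This is the finite-difference form of "`f` is a numerical
polynomial of total degree `< d`".

* `DegLT.add`, `DegLT.sub`, `DegLT.neg`, `DegLT.mono`, `DegLT.of_fwdDiff`
* `DegLT.exists_poly`: `DegLT (d+1) f → ∃ P : MvPolynomial ι ℚ, P.totalDegree ≤ d ∧ ∀ n, f n = P(n)`.
-/

set_option autoImplicit false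

namespace Groth.Agent.Lib.helper7.SnapperDiff

open Finset MvPolynomial fwdDiff

variable {ι : Type*} [DecidableEq ι]

/-- the `i`-th unit vector of `ι → ℕ` -/
abbrev e (i : ι) : ι → ℕ := Pi.single i 1

/-- all `d`-fold iterated first differences vanish -/
def DegLT : ℕ → ((ι → ℕ) → ℤ) → Prop
  | 0, f => ∀ n, f n = 0
  | d + 1, f => ∀ i, DegLT d (Δ_[e i] f)

theorem degLT_zero_iff (f : (ι → ℕ) → ℤ) : DegLT 0 f ↔ ∀ n, f n = 0 := Iff.rfl

theorem degLT_succ_iff (d : ℕ) (f : (ι → ℕ) → ℤ) :
    DegLT (d + 1) f ↔ ∀ i, DegLT d (Δ_[e i] f) := Iff.rfl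

theorem DegLT.of_fwdDiff {d : ℕ} {f : (ι → ℕ) → ℤ} (h : ∀ i, DegLT d (Δ_[e i] f)) :
    DegLT (d + 1) f := h

theorem degLT_zero_fun (d : ℕ) : DegLT d (fun _ : ι → ℕ => (0 : ℤ)) := by
  induction d with
  | zero => intro n; rfl
  | succ d ih =>
    intro i
    have : Δ_[e i] (fun _ : ι → ℕ => (0 : ℤ)) = fun _ => 0 := by
      funext n; simp [fwdDiff]
    rw [this]
    exact ih

theorem DegLT.congr {d : ℕ} {f g : (ι → ℕ) → ℤ} (h : ∀ n, f n = g n) (hf : DegLT d f) :
    DegLT d g := by
  have : f = g := funext h
  rwa [← this]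

theorem DegLT.add {d : ℕ} {f g : (ι → ℕ) → ℤ} (hf : DegLT d f) (hg : DegLT d g) :
    DegLT d (fun n => f n + g n) := by
  induction d generalizing f g with
  | zero => intro n; show f n + g n = 0; rw [hf n, hg n, add_zero]
  | succ d ih =>
    intro i
    have : Δ_[e i] (fun n => f n + g n) = fun n => Δ_[e i] f n + Δ_[e i] g n := by
      funext n; simp only [fwdDiff]; ring
    rw [this]
    exact ih (hf i) (hg i)

theorem DegLT.neg {d : ℕ} {f : (ι → ℕ) → ℤ} (hf : DegLT d f) :
    DegLT d (fun n => - f n) := by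
  induction d generalizing f with
  | zero => intro n; show - f n = 0; rw [hf n, neg_zero]
  | succ d ih =>
    intro i
    have : Δ_[e i] (fun n => - f n) = fun n => - Δ_[e i] f n := by
      funext n; simp only [fwdDiff]; ring
    rw [this]
    exact ih (hf i)

theorem DegLT.sub {d : ℕ} {f g : (ι → ℕ) → ℤ} (hf : DegLT d f) (hg : DegLT d g) :
    DegLT d (fun n => f n - g n) := by
  have := hf.add hg.neg
  exact this.congr (fun n => by ring)

theorem DegLT.succ {d : ℕ} {f : (ι → ℕ) → ℤ} (hf : DegLT d f) : DegLT (d + 1) f := by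
  induction d generalizing f with
  | zero =>
    intro i n
    show f (n + e i) - f n = 0
    rw [hf, hf, sub_zero]
  | succ d ih =>
    intro i
    exact ih (hf i)

theorem DegLT.mono {d d' : ℕ} (h : d ≤ d') {f : (ι → ℕ) → ℤ} (hf : DegLT d f) : DegLT d' f := by
  induction h with
  | refl => exact hf
  | step _ ih => exact ih.succ

/-- iterated differences in a fixed direction -/
theorem DegLT.iterate {m : ℕ} (a : ι) (k : ℕ) {f : (ι → ℕ) → ℤ} (hf : DegLT (k + m) f) :
    DegLT m ((fwdDiff (e a))^[k] f) := by
  induction k generalizing f with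
  | zero => simpa using hf
  | succ k ih =>
    rw [Function.iterate_succ_apply]
    apply ih
    have : k + 1 + m = (k + m) + 1 := by ring
    rw [this] at hf
    exact hf a

theorem DegLT.iterate_eq_zero {m : ℕ} (a : ι) {k : ℕ} (hk : m ≤ k) {f : (ι → ℕ) → ℤ}
    (hf : DegLT m f) (n : ι → ℕ) : (fwdDiff (e a))^[k] f n = 0 := by
  have h1 : DegLT (k + 0) f := hf.mono (by omega)
  exact (h1.iterate a k) n

/-- multiplication by a nonzero integer can be cancelled -/
theorem DegLT.of_mul {d : ℕ} (c : ℤ) (hc : c ≠ 0) {f : (ι → ℕ) → ℤ}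
    (hf : DegLT d (fun n => c * f n)) : DegLT d f := by
  induction d generalizing f with
  | zero =>
    intro n
    have := hf n
    simpa [hc] using this
  | succ d ih =>
    intro i
    apply ih
    have := hf i
    refine this.congr (fun n => ?_)
    simp only [fwdDiff]; ring

theorem DegLT.mul_left {d : ℕ} (c : ℤ) {f : (ι → ℕ) → ℤ} (hf : DegLT d f) :
    DegLT d (fun n => c * f n) := by
  induction d generalizing f with
  | zero => intro n; show c * f n = 0; rw [hf n, mul_zero]
  | succ d ih =>
    intro i
    refine (ih (hf i)).congr (fun n => ?_)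
    simp only [fwdDiff]; ring

section Poly

/-- the binomial coefficient `C(x_a, k)` as a polynomial -/
noncomputable def binomPoly (a : ι) (k : ℕ) : MvPolynomial ι ℚ :=
  C ((k.factorial : ℚ)⁻¹) * Polynomial.aeval (X a : MvPolynomial ι ℚ) (descPochhammer ℚ k)

omit [DecidableEq ι] in
theorem totalDegree_aeval_descPochhammer (a : ι) (k : ℕ) :
    (Polynomial.aeval (X a : MvPolynomial ι ℚ) (descPochhammer ℚ k)).totalDegree ≤ k := by
  induction k with
  | zero => simp [descPochhammer_zero]
  | succ k ih =>
    rw [descPochhammer_succ_right, map_mul]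
    refine (totalDegree_mul _ _).trans ?_
    have h2 : (Polynomial.aeval (X a : MvPolynomial ι ℚ)
        (Polynomial.X - (k : Polynomial ℚ))).totalDegree ≤ 1 := by
      rw [map_sub, Polynomial.aeval_X, map_natCast]
      have : ((k : MvPolynomial ι ℚ)) = C (k : ℚ) := by simp
      rw [this]
      refine (totalDegree_sub_C_le _ _).trans ?_
      rw [totalDegree_X]
    omega

theorem totalDegree_binomPoly (a : ι) (k : ℕ) : (binomPoly a k).totalDegree ≤ k := by
  unfold binomPoly
  refine (totalDegree_mul _ _).trans ?_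
  rw [totalDegree_C, zero_add]
  exact totalDegree_aeval_descPochhammer a k

theorem eval_binomPoly (a : ι) (k : ℕ) (n : ι → ℕ) :
    eval (fun i => (n i : ℚ)) (binomPoly a k) = ((n a).choose k : ℚ) := by
  unfold binomPoly
  rw [map_mul, eval_C, Nat.cast_choose_eq_descPochhammer_div ℚ (n a) k]
  have : eval (fun i => (n i : ℚ)) (Polynomial.aeval (X a : MvPolynomial ι ℚ) (descPochhammer ℚ k)) =
      (descPochhammer ℚ k).eval ((n a : ℕ) : ℚ) := by
    have hφ : (eval (fun i => (n i : ℚ))).comp (algebraMap ℚ (MvPolynomial ι ℚ)) = RingHom.id ℚ := by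
      ext x
      simp [MvPolynomial.algebraMap_eq]
    rw [Polynomial.aeval_def, Polynomial.hom_eval₂, eval_X, hφ, Polynomial.eval₂_id]
  rw [this]
  ring

end Poly

/-- `n` cut down to the coordinates in `s` -/
def cut (s : Finset ι) (n : ι → ℕ) : ι → ℕ := fun i => if i ∈ s then n i else 0

theorem cut_insert {s : Finset ι} {a : ι} (ha : a ∉ s) (n : ι → ℕ) :
    cut (insert a s) n = cut s n + n a • e a := by
  funext i
  simp only [cut, Pi.add_apply, Pi.smul_apply, smul_eq_mul, Finset.mem_insert]
  by_cases hia : i = a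
  · subst hia
    simp [ha, e]
  · simp [hia, e]

theorem exists_poly_cut (s : Finset ι) : ∀ (d : ℕ) (g : (ι → ℕ) → ℤ), DegLT (d + 1) g →
    ∃ P : MvPolynomial ι ℚ, P.totalDegree ≤ d ∧
      ∀ n : ι → ℕ, (g (cut s n) : ℚ) = eval (fun i => (n i : ℚ)) P := by
  induction s using Finset.induction_on with
  | empty =>
    intro d g _
    refine ⟨C (g 0 : ℚ), by rw [totalDegree_C]; exact Nat.zero_le _, fun n => ?_⟩
    have : cut (∅ : Finset ι) n = 0 := by funext i; simp [cut]
    rw [this, eval_C]
  | insert a s ha ih =>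
    intro d g hg
    -- the polynomials for the iterated differences
    have hk : ∀ k : ℕ, k ≤ d → ∃ P : MvPolynomial ι ℚ, P.totalDegree ≤ d - k ∧
        ∀ n : ι → ℕ, (((fwdDiff (e a))^[k] g) (cut s n) : ℚ) = eval (fun i => (n i : ℚ)) P := by
      intro k hkd
      apply ih (d - k) ((fwdDiff (e a))^[k] g)
      apply DegLT.iterate a k
      have : k + (d - k + 1) = d + 1 := by omega
      rw [this]
      exact hg
    choose! Pk hPk1 hPk2 using hk
    refine ⟨∑ k ∈ Finset.range (d + 1), binomPoly a k * Pk k, ?_, fun n => ?_⟩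
    · apply totalDegree_finsetSum_le
      intro k hk
      have hkd : k ≤ d := by simpa [Nat.lt_succ_iff] using hk
      refine (totalDegree_mul _ _).trans ?_
      have h1 := totalDegree_binomPoly a k
      have h2 := hPk1 k hkd
      omega
    · rw [cut_insert ha, shift_eq_sum_fwdDiff_iter (e a) g (n a) (cut s n)]
      -- truncate / extend the sum to `range (max (n a) d + 1)`
      set N := max (n a) d with hN
      have hsum1 : ∑ k ∈ Finset.range (n a + 1), (n a).choose k • (fwdDiff (e a))^[k] g (cut s n) =
          ∑ k ∈ Finset.range (N + 1), (n a).choose k • (fwdDiff (e a))^[k] g (cut s n) := by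
        apply Finset.sum_subset
        · intro k hk
          simp only [Finset.mem_range] at hk ⊢
          have : n a ≤ N := le_max_left _ _
          omega
        · intro k _ hk
          simp only [Finset.mem_range, not_lt] at hk
          rw [Nat.choose_eq_zero_of_lt (by omega), zero_smul]
      have hsum2 : ∑ k ∈ Finset.range (d + 1), (n a).choose k • (fwdDiff (e a))^[k] g (cut s n) =
          ∑ k ∈ Finset.range (N + 1), (n a).choose k • (fwdDiff (e a))^[k] g (cut s n) := by
        apply Finset.sum_subset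
        · intro k hk
          simp only [Finset.mem_range] at hk ⊢
          have : d ≤ N := le_max_right _ _
          omega
        · intro k _ hk
          simp only [Finset.mem_range, not_lt] at hk
          rw [DegLT.iterate_eq_zero a (by omega) hg, smul_zero]
      rw [hsum1, ← hsum2]
      push_cast
      rw [map_sum]
      apply Finset.sum_congr rfl
      intro k hk
      have hkd : k ≤ d := by simpa [Nat.lt_succ_iff] using hk
      rw [map_mul, eval_binomPoly, ← hPk2 k hkd]
      simp

/-- **Newton expansion**: a function all of whose `(d+1)`-fold differences vanish is a polynomial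
of total degree at most `d`. -/
theorem DegLT.exists_poly [Fintype ι] {d : ℕ} {f : (ι → ℕ) → ℤ} (hf : DegLT (d + 1) f) :
    ∃ P : MvPolynomial ι ℚ, P.totalDegree ≤ d ∧
      ∀ n : ι → ℕ, (f n : ℚ) = eval (fun i => (n i : ℚ)) P := by
  obtain ⟨P, hP1, hP2⟩ := exists_poly_cut (Finset.univ : Finset ι) d f hf
  refine ⟨P, hP1, fun n => ?_⟩
  rw [← hP2 n]
  congr 2
  funext i
  simp [cut]

end Groth.Agent.Lib.helper7.SnapperDiff
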