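import Mathlib
import Groth.Agent.Lib.Helper7.SnapperDiff

/-!
# Alternating sums over subsets and top coefficients (helper7)

* `ind I`: the indicator vector of a finset
* `sum_powerset_eq_zero`: `DegLT s.card f → ∑_{I ⊆ s} (-1)^{|I|} f (y + ind I) = 0`
* `eq_of_eval_nat_eq`: polynomials over `ℚ` agreeing on `ℕ^r` are equal
* `coeff_ones_eq`: for `P` of total degree `≤ r` in `r` variables, the coefficient of
  `x_0 ⋯ x_{r-1}` is `∑_I (-1)^{r-|I|} P(ind I)`
* `coeff_ones_of_degLT`: for `f` with `DegLT (r+1) f` computed by `P`, the same coefficient is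
  `∑_I (-1)^{r-|I|} f (ind I)`, in particular an integer.
-/

set_option autoImplicit false
set_option linter.unusedSectionVars false

namespace Groth.Agent.Lib.helper7.SnapperDiff

open Finset MvPolynomial fwdDiff

variable {ι : Type*} [DecidableEq ι]

/-- the indicator vector of a finset -/
def ind (I : Finset ι) : ι → ℕ := fun i => if i ∈ I then 1 else 0

theorem ind_empty : ind (∅ : Finset ι) = 0 := by
  funext i; simp [ind]

theorem ind_insert {a : ι} {t : Finset ι} (ha : a ∉ t) : ind (insert a t) = ind t + e a := by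
  funext i
  simp only [ind, Finset.mem_insert, Pi.add_apply, e, Pi.single_apply]
  by_cases hia : i = a
  · subst hia; simp [ha]
  · simp [hia]

theorem sum_powerset_eq_zero (s : Finset ι) : ∀ (f : (ι → ℕ) → ℤ), DegLT s.card f →
    ∀ y : ι → ℕ, ∑ I ∈ s.powerset, (-1 : ℤ) ^ I.card * f (y + ind I) = 0 := by
  induction s using Finset.induction_on with
  | empty =>
    intro f hf y
    simp only [Finset.card_empty] at hf
    simp [hf (y + ind ∅)]
  | insert a s ha ih =>
    intro f hf y
    rw [Finset.card_insert_of_notMem ha] at hf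
    have h1 := ih (Δ_[e a] f) (hf a) y
    rw [Finset.sum_powerset_insert ha]
    have h2 : ∀ t ∈ s.powerset, (-1 : ℤ) ^ (insert a t).card * f (y + ind (insert a t)) =
        - ((-1 : ℤ) ^ t.card * f (y + ind t + e a)) := by
      intro t ht
      have hat : a ∉ t := fun h => ha (Finset.mem_powerset.mp ht h)
      rw [Finset.card_insert_of_notMem hat, ind_insert hat, pow_succ, add_assoc]
      ring
    rw [Finset.sum_congr rfl h2, Finset.sum_neg_distrib, ← sub_eq_add_neg, ← Finset.sum_sub_distrib]
    have h3 : ∀ t ∈ s.powerset, (-1 : ℤ) ^ t.card * f (y + ind t) -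
        (-1 : ℤ) ^ t.card * f (y + ind t + e a) = - ((-1 : ℤ) ^ t.card * Δ_[e a] f (y + ind t)) := by
      intro t _
      simp only [fwdDiff]
      ring
    rw [Finset.sum_congr rfl h3, Finset.sum_neg_distrib, h1, neg_zero]

section Poly

variable {r : ℕ}

/-- polynomials over `ℚ` which agree on `ℕ^r` are equal -/
theorem eq_of_eval_nat_eq (P Q : MvPolynomial (Fin r) ℚ)
    (h : ∀ n : Fin r → ℕ, eval (fun i => (n i : ℚ)) P = eval (fun i => (n i : ℚ)) Q) : P = Q := by
  rw [← sub_eq_zero]
  set R := P - Q with hR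
  let N := R.totalDegree
  apply MvPolynomial.eq_zero_of_eval_zero_at_prod_finset R
    (fun _ => (Finset.range (N + 1)).image (Nat.cast : ℕ → ℚ))
  · intro i
    rw [Finset.card_image_of_injective _ Nat.cast_injective, Finset.card_range]
    exact Nat.lt_succ_of_le (degreeOf_le_totalDegree R i)
  · intro x hx
    have hx' : ∀ i, ∃ n : ℕ, (n : ℚ) = x i := by
      intro i
      obtain ⟨n, -, hn⟩ := Finset.mem_image.mp (hx i)
      exact ⟨n, hn⟩
    choose n hn using hx'
    have : x = fun i => (n i : ℚ) := funext fun i => (hn i).symm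
    rw [this, hR, map_sub, h n, sub_self]

/-- the exponent vector `(1, …, 1)` -/
noncomputable abbrev ones (r : ℕ) : Fin r →₀ ℕ := Finsupp.equivFunOnFinite.symm fun _ : Fin r => 1

theorem key_monomial (m : Fin r →₀ ℕ) (hm : (m.sum fun _ e => e) ≤ r) :
    ∑ I ∈ (Finset.univ : Finset (Fin r)).powerset, (-1 : ℚ) ^ (r - I.card) *
      ∏ i, ((ind I i : ℕ) : ℚ) ^ m i = if m = ones r then 1 else 0 := by
  have h1 : ∀ I ∈ (Finset.univ : Finset (Fin r)).powerset, (-1 : ℚ) ^ (r - I.card) *
      ∏ i, ((ind I i : ℕ) : ℚ) ^ m i =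
      (∏ i ∈ I, (1 : ℚ)) * ∏ i ∈ Finset.univ \ I, (- (0 : ℚ) ^ m i) := by
    intro I _
    have hc : (Finset.univ \ I).card = r - I.card := by
      rw [Finset.card_sdiff_of_subset (Finset.subset_univ I), Finset.card_univ, Fintype.card_fin]
    rw [Finset.prod_const_one, one_mul, Finset.prod_neg, hc]
    congr 1
    rw [← Finset.prod_sdiff (Finset.subset_univ I)]
    have h2 : ∏ i ∈ I, ((ind I i : ℕ) : ℚ) ^ m i = 1 := by
      apply Finset.prod_eq_one
      intro i hi
      simp [ind, hi]
    rw [h2, mul_one]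
    apply Finset.prod_congr rfl
    intro i hi
    have : i ∉ I := (Finset.mem_sdiff.mp hi).2
    simp [ind, this]
  rw [Finset.sum_congr rfl h1, ← Finset.prod_add]
  by_cases hmo : m = ones r
  · rw [if_pos hmo]
    apply Finset.prod_eq_one
    intro i _
    have : m i = 1 := by rw [hmo]; rfl
    rw [this]; norm_num
  · rw [if_neg hmo]
    -- some exponent is zero
    have hex : ∃ i, m i = 0 := by
      by_contra hne
      push Not at hne
      apply hmo
      have hge : ∀ i, 1 ≤ m i := fun i => Nat.one_le_iff_ne_zero.mpr (hne i)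
      have hsum : (m.sum fun _ e => e) = ∑ i, m i := by
        rw [Finsupp.sum_fintype]; intro i; rfl
      rw [hsum] at hm
      have hall : ∀ i, m i = 1 := by
        by_contra hcon
        push Not at hcon
        obtain ⟨j, hj⟩ := hcon
        have hj2 : 2 ≤ m j := by have := hge j; omega
        have hlt : ∑ i : Fin r, 1 < ∑ i, m i := by
          apply Finset.sum_lt_sum
          · intro i _; exact hge i
          · exact ⟨j, Finset.mem_univ _, by omega⟩
        simp at hlt
        omega
      ext i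
      rw [hall i]; rfl
    obtain ⟨i, hi⟩ := hex
    apply Finset.prod_eq_zero (Finset.mem_univ i)
    rw [hi]; norm_num

/-- the coefficient of `x_0 ⋯ x_{r-1}` of a polynomial of total degree at most `r` -/
theorem coeff_ones_eq (P : MvPolynomial (Fin r) ℚ) (hP : P.totalDegree ≤ r) :
    MvPolynomial.coeff (ones r) P =
      ∑ I ∈ (Finset.univ : Finset (Fin r)).powerset, (-1 : ℚ) ^ (r - I.card) *
        eval (fun i => ((ind I i : ℕ) : ℚ)) P := by
  have hev : ∀ I : Finset (Fin r), eval (fun i => ((ind I i : ℕ) : ℚ)) P =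
      ∑ m ∈ P.support, coeff m P * ∏ i, ((ind I i : ℕ) : ℚ) ^ m i := by
    intro I
    rw [MvPolynomial.eval_eq']
  simp_rw [hev, Finset.mul_sum]
  rw [Finset.sum_comm]
  have h2 : ∀ m ∈ P.support, ∑ I ∈ (Finset.univ : Finset (Fin r)).powerset,
      (-1 : ℚ) ^ (r - I.card) * (coeff m P * ∏ i, ((ind I i : ℕ) : ℚ) ^ m i) =
      coeff m P * (if m = ones r then 1 else 0) := by
    intro m hm
    have hdeg : (m.sum fun _ e => e) ≤ r := (le_totalDegree hm).trans hP
    rw [← key_monomial m hdeg, Finset.mul_sum]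
    apply Finset.sum_congr rfl
    intro I _
    ring
  rw [Finset.sum_congr rfl h2]
  simp only [mul_ite, mul_one, mul_zero]
  rw [Finset.sum_ite_eq' P.support (ones r) (fun m => coeff m P)]
  by_cases hmem : ones r ∈ P.support
  · rw [if_pos hmem]
  · rw [if_neg hmem]
    exact MvPolynomial.notMem_support_iff.mp hmem

/-- the top mixed coefficient of the polynomial computing a function with `DegLT (r+1)` -/
theorem coeff_ones_of_degLT (f : (Fin r → ℕ) → ℤ) (hf : DegLT (r + 1) f)
    (P : MvPolynomial (Fin r) ℚ) (hP : ∀ n : Fin r → ℕ, (f n : ℚ) = eval (fun i => (n i : ℚ)) P) :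
    MvPolynomial.coeff (ones r) P =
      ((∑ I ∈ (Finset.univ : Finset (Fin r)).powerset, (-1 : ℤ) ^ (r - I.card) * f (ind I) : ℤ) : ℚ) := by
  obtain ⟨P', hP'1, hP'2⟩ := hf.exists_poly
  have hPP' : P = P' := eq_of_eval_nat_eq P P' (fun n => by rw [← hP n, ← hP'2 n])
  rw [hPP', coeff_ones_eq P' hP'1]
  push_cast
  apply Finset.sum_congr rfl
  intro I _
  rw [hP'2]

end Poly

end Groth.Agent.Lib.helper7.SnapperDiff
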