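import Mathlib
import Groth.Prelude.Def_Curv2
import Groth.Agent.Lib.Lead.ModTensor
import Groth.Agent.Lib.Helper12.TensorInv
import Groth.Agent.Lib.Helper12.PullAmple
import Groth.Agent.Lib.Helper11.InvMod

/-!
# Formal properties of `Curv2.tensorPows` (helper7)

* `tensorPowsIso`: functoriality in isomorphisms of the first argument
* `tensorPowsTensor`: `tensorPows (F ⊗ A) r L n ≅ tensorPows F r L n ⊗ A`
* `twist r L n := tensorPows O r L n`, invertible when all `L i` are
* `tensorPowsTwist`: `tensorPows F r L n ≅ F ⊗ twist r L n`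
* `nonempty_shift`: `tensorPows F r L (n + e_i) ≅ tensorPows F r L n ⊗ L i`
* `pullTwistIso`: `h^*(twist r L n) ≅ twist r (h^* L) n`
-/

set_option autoImplicit false
universe u

open CategoryTheory AlgebraicGeometry

namespace Groth.Agent.Lib.helper7.SnapperTensor

open Groth.Agent.Lib.Lead.ModTensor Groth.Agent.Lib.helper12.TensorInv
open Groth.Agent.Lib.helper11.InvMod

variable {X : Scheme.{u}}

/-- isomorphism invariance in the first argument -/
noncomputable def tensorPowsIso {F G : X.Modules} (e : F ≅ G) :
    (r : ℕ) → (L : Fin r → X.Modules) → (n : Fin r → ℕ) →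
      (Curv2.tensorPows F r L n ≅ Curv2.tensorPows G r L n)
  | 0, _, _ => e
  | r + 1, L, n => tensorIso (tensorPowsIso e r (fun i => L i.castSucc) (fun i => n i.castSucc))
      (Iso.refl _)

/-- `(T ⊗ A) ⊗ P ≅ (T ⊗ P) ⊗ A` -/
noncomputable def swapRight (T A P : X.Modules) :
    CohB1.tensorMod (CohB1.tensorMod T A) P ≅ CohB1.tensorMod (CohB1.tensorMod T P) A :=
  assoc T A P ≪≫ tensorIso (Iso.refl T) (braid A P) ≪≫ (assoc T P A).symm

/-- a factor in the first argument can be pulled out -/
noncomputable def tensorPowsTensor (F A : X.Modules) :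
    (r : ℕ) → (L : Fin r → X.Modules) → (n : Fin r → ℕ) →
      (Curv2.tensorPows (CohB1.tensorMod F A) r L n ≅
        CohB1.tensorMod (Curv2.tensorPows F r L n) A)
  | 0, _, _ => Iso.refl _
  | r + 1, L, n =>
      tensorIso (tensorPowsTensor F A r (fun i => L i.castSucc) (fun i => n i.castSucc))
        (Iso.refl _) ≪≫ swapRight _ _ _

/-- the invertible module `L_0^{n_0} ⊗ ⋯ ⊗ L_{r-1}^{n_{r-1}}` -/
noncomputable abbrev twist (r : ℕ) (L : Fin r → X.Modules) (n : Fin r → ℕ) : X.Modules :=
  Curv2.tensorPows (Coh.structureModule X) r L n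

theorem isInvertible_twist : ∀ (r : ℕ) (L : Fin r → X.Modules) (_ : ∀ i, PicF.IsInvertible (L i))
    (n : Fin r → ℕ), PicF.IsInvertible (twist r L n)
  | 0, _, _, _ => isInvertible_structureModule X
  | r + 1, L, hL, n =>
      isInvertible_tensorMod
        (isInvertible_twist r (fun i => L i.castSucc) (fun _ => hL _) (fun i => n i.castSucc))
        (isInvertible_tensorPow (hL _) _)

/-- `tensorPows F r L n ≅ F ⊗ twist r L n` -/
noncomputable def tensorPowsTwist (F : X.Modules) (r : ℕ) (L : Fin r → X.Modules)
    (n : Fin r → ℕ) :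
    Curv2.tensorPows F r L n ≅ CohB1.tensorMod F (twist r L n) :=
  tensorPowsIso (leftUnitor F).symm r L n ≪≫
    tensorPowsTensor (Coh.structureModule X) F r L n ≪≫ braid _ _

/-- raising the `i`-th exponent by one tensors with `L i` -/
theorem nonempty_shift' (F : X.Modules) : ∀ (r : ℕ) (L : Fin r → X.Modules) (n n' : Fin r → ℕ)
    (i : Fin r), n' = n + Pi.single i 1 → Nonempty (Curv2.tensorPows F r L n' ≅
      CohB1.tensorMod (Curv2.tensorPows F r L n) (L i))
  | 0, _, _, _, i, _ => i.elim0
  | r + 1, L, n, n', i, hn' => by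
    induction i using Fin.lastCases with
    | last =>
      have h1 : (fun k : Fin r => n' k.castSucc) = fun k => n k.castSucc := by
        funext k
        rw [hn']
        simp [Fin.castSucc_ne_last]
      have h2 : n' (Fin.last r) = n (Fin.last r) + 1 := by rw [hn']; simp
      show Nonempty (CohB1.tensorMod
        (Curv2.tensorPows F r (fun k => L k.castSucc) (fun k => n' k.castSucc))
        (CohB1.tensorPow (L (Fin.last r)) (n' (Fin.last r))) ≅ _)
      rw [h1, h2]
      exact ⟨(assoc _ _ _).symm⟩
    | cast j =>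
      have h1 : (fun k : Fin r => n' k.castSucc) =
          (fun k => n k.castSucc) + Pi.single j 1 := by
        funext k
        rw [hn']
        simp only [Pi.add_apply, Pi.single_apply, Fin.castSucc_inj]
      have h2 : n' (Fin.last r) = n (Fin.last r) := by
        rw [hn']
        simp [(Fin.castSucc_ne_last j).symm]
      show Nonempty (CohB1.tensorMod
        (Curv2.tensorPows F r (fun k => L k.castSucc) (fun k => n' k.castSucc))
        (CohB1.tensorPow (L (Fin.last r)) (n' (Fin.last r))) ≅ _)
      rw [h2]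
      obtain ⟨e⟩ := nonempty_shift' F r (fun k => L k.castSucc) (fun k => n k.castSucc)
        (fun k => n' k.castSucc) j h1
      exact ⟨tensorIso e (Iso.refl _) ≪≫ swapRight _ _ _⟩

theorem nonempty_shift (F : X.Modules) (r : ℕ) (L : Fin r → X.Modules) (n : Fin r → ℕ)
    (i : Fin r) : Nonempty (Curv2.tensorPows F r L (n + Pi.single i 1) ≅
      CohB1.tensorMod (Curv2.tensorPows F r L n) (L i)) :=
  nonempty_shift' F r L n _ i rfl

section Pullback

open Groth.Agent.Lib.helper12.PullTensor Groth.Agent.Lib.helper12.PullAmple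

variable {Y : Scheme.{u}} (h : Y ⟶ X)

/-- pullback commutes with `twist` -/
noncomputable def pullTwistIso : (r : ℕ) → (L : Fin r → X.Modules) →
    (∀ i, PicF.IsInvertible (L i)) → (n : Fin r → ℕ) →
    ((Scheme.Modules.pullback h).obj (twist r L n) ≅
      twist r (fun i => (Scheme.Modules.pullback h).obj (L i)) n)
  | 0, _, _, _ => Groth.Agent.Lib.helper11.InvMod.pullbackUnitIso h
  | r + 1, L, hL, n =>
      pullTensorIso h _ _ (isInvertible_tensorPow (hL (Fin.last r)) (n (Fin.last r))) ≪≫
        tensorIso (pullTwistIso r (fun i => L i.castSucc) (fun _ => hL _) (fun i => n i.castSucc))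
          (pullTensorPowIso h (hL (Fin.last r)) (n (Fin.last r)))

end Pullback

end Groth.Agent.Lib.helper7.SnapperTensor
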