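import Mathlib
import Groth.Agent.Lib.Helper7.SnapperDiff
import Groth.Agent.Lib.Helper7.SnapperTensor
import Groth.Agent.Lib.Helper9.CurveDegAdd
import Groth.Agent.Lib.Helper18.ProjFormulaLF
import Groth.Agent.Lib.Helper18.HHPush
import Groth.Agent.Lib.Helper18.DegCalc
import Groth.Agent.Lib.Helper8.DevMasterD
import Groth.Agent.Lib.Helper16.FLF5

/-!
# Snapper's theorem (helper7)

For `X` proper over a field `k`, `F` coherent with `dim Supp F < d` and invertible `L_1, …, L_r`
the function `n ↦ χ(X, F ⊗ L_1^{n_1} ⊗ ⋯ ⊗ L_r^{n_r})` has vanishing `d`-fold differences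
(`SnapperDiff.DegLT d`); consequently it is a polynomial of total degree `< d`.

* `chi k X F r L n = χ(X, tensorPows F r L n)`
* `chi_iso`, `chi_eq_twist`, `chi_additive`, `chi_shift`, `chi_push`
* `snapper : dim Supp F < d → DegLT d (chi k X F r L)`
* `snapper_poly : dim Supp F ≤ d → ∃ P, P.totalDegree ≤ d ∧ ∀ n, chi … n = P(n)`
-/

set_option autoImplicit false
set_option linter.unusedSectionVars false
set_option linter.style.haveILetI false
universe u

open CategoryTheory CategoryTheory.Limits AlgebraicGeometry Opposite TopologicalSpace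

namespace Groth.Agent.Lib.helper7.SnapperMain

open Groth.Agent.Lib.helper7.SnapperDiff Groth.Agent.Lib.helper7.SnapperTensor
open Groth.Agent.Lib.Lead.ModTensor Groth.Agent.Lib.helper11.IsoLocus
open Scheme.Modules

section General

variable {X : Scheme.{u}}

/-- the cokernel of a morphism is supported off its iso-locus -/
theorem support_cokernel_subset {A B : X.Modules} (φ : A ⟶ B) :
    CohB1.support (cokernel φ) ⊆ ((isoLocus φ : X.Opens) : Set X)ᶜ := by
  intro x hx hxW
  apply hx
  have key : ∀ a : ((cokernel φ).presheaf.stalk x), a = 0 := by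
    intro a
    obtain ⟨U, hxU, s, rfl⟩ := TopCat.Presheaf.exists_germ_eq _ a
    have h0 : (cokernel φ).presheaf.map (homOfLE (inf_le_left : U ⊓ isoLocus φ ≤ U)).op s = 0 :=
      Groth.Agent.Lib.helper11.TwistH1.eq_zero_of_le_isoLocus φ inf_le_right _
    rw [← TopCat.Presheaf.germ_res_apply _ (homOfLE (inf_le_left : U ⊓ isoLocus φ ≤ U)) x
      ⟨hxU, hxW⟩ s, h0, map_zero]
  exact ⟨fun a b => (key a).trans (key b).symm⟩

/-- a module with empty support is zero -/
theorem isZero_of_support_eq_empty (F : X.Modules) (h : CohB1.support F = ∅) : IsZero F := by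
  apply Groth.Agent.Lib.helper8.PinchMod.isZero_of_subsingleton_sections
  intro U _
  refine ⟨fun s t => ?_⟩
  apply TopCat.Presheaf.section_ext ⟨F.presheaf, F.isSheaf⟩ U
  intro x hx
  have : Subsingleton (F.presheaf.stalk x) := by
    by_contra hn
    have hmem : x ∈ CohB1.support F := hn
    rw [h] at hmem
    exact hmem
  exact Subsingleton.elim _ _

theorem isEmpty_of_dim_lt_zero {T : Type*} [TopologicalSpace T]
    (h : topologicalKrullDim T < ((0 : ℕ) : WithBot ℕ∞)) : IsEmpty T := by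
  by_contra hne
  rw [not_isEmpty_iff] at hne
  obtain ⟨x⟩ := hne
  haveI : Nonempty (IrreducibleCloseds T) :=
    ⟨⟨closure {x}, isIrreducible_singleton.closure, isClosed_closure⟩⟩
  have h0 : (0 : WithBot ℕ∞) ≤ topologicalKrullDim T := Order.krullDim_nonneg
  exact absurd (lt_of_le_of_lt h0 h) (lt_irrefl _)

theorem dim_lt_of_add_one_le {a b : WithBot ℕ∞} {d : ℕ} (h1 : a + 1 ≤ b)
    (h2 : b < ((d + 1 : ℕ) : WithBot ℕ∞)) : a < ((d : ℕ) : WithBot ℕ∞) := by
  have h3 : a + 1 < ((d + 1 : ℕ) : WithBot ℕ∞) := lt_of_le_of_lt h1 h2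
  induction a with
  | bot => exact WithBot.bot_lt_coe _
  | coe a =>
    induction a with
    | top =>
      exfalso
      have : ((⊤ : ℕ∞) : WithBot ℕ∞) + 1 = ((⊤ : ℕ∞) : WithBot ℕ∞) := rfl
      rw [this] at h3
      exact absurd h3 (by
        intro h
        have : ((⊤ : ℕ∞) : WithBot ℕ∞) < (((d + 1 : ℕ) : ℕ∞) : WithBot ℕ∞) := h
        rw [WithBot.coe_lt_coe] at this
        exact absurd this (by simp))
    | coe m =>
      have h4 : (((m + 1 : ℕ) : ℕ∞) : WithBot ℕ∞) < (((d + 1 : ℕ) : ℕ∞) : WithBot ℕ∞) := by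
        exact_mod_cast h3
      rw [WithBot.coe_lt_coe, Nat.cast_lt] at h4
      have : m < d := by omega
      exact_mod_cast this

end General

section Chi

variable (k : Type u) [Field k]

/-- `n ↦ χ(X, F ⊗ L_0^{n_0} ⊗ ⋯ ⊗ L_{r-1}^{n_{r-1}})` -/
noncomputable def chi (X : Scheme.{u}) [X.Over (Spec (CommRingCat.of k))] (F : X.Modules) (r : ℕ)
    (L : Fin r → X.Modules) : (Fin r → ℕ) → ℤ :=
  fun n => Curv2.euler k X (Curv2.tensorPows F r L n)

variable (X : Scheme.{u}) [X.Over (Spec (CommRingCat.of k))]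

theorem chi_iso {F G : X.Modules} (e : F ≅ G) (r : ℕ) (L : Fin r → X.Modules) (n : Fin r → ℕ) :
    chi k X F r L n = chi k X G r L n :=
  Groth.Agent.Lib.Lead.CurveEuler.euler_eq_of_iso k X (tensorPowsIso e r L n)

theorem chi_eq_twist (F : X.Modules) (r : ℕ) (L : Fin r → X.Modules) (n : Fin r → ℕ) :
    chi k X F r L n = Curv2.euler k X (CohB1.tensorMod F (twist r L n)) :=
  Groth.Agent.Lib.Lead.CurveEuler.euler_eq_of_iso k X (tensorPowsTwist F r L n)

theorem isFLF_twist (r : ℕ) (L : Fin r → X.Modules) (hL : ∀ i, PicF.IsInvertible (L i))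
    (n : Fin r → ℕ) : FlatMod.IsFinLocFreeOfRank 1 (twist r L n) :=
  (Groth.Agent.Lib.helper16.FLF.isInvertible_iff_isFinLocFreeOfRank_one _).mp
    (isInvertible_twist r L hL n)

theorem chi_shift (F : X.Modules) (r : ℕ) (L : Fin r → X.Modules) (n : Fin r → ℕ) (i : Fin r) :
    chi k X F r L (n + Pi.single i 1) = chi k X (CohB1.tensorMod F (L i)) r L n := by
  obtain ⟨e⟩ := nonempty_shift F r L n i
  exact Groth.Agent.Lib.Lead.CurveEuler.euler_eq_of_iso k X
    (e ≪≫ (tensorPowsTensor F (L i) r L n).symm)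

variable [IsProper (X ↘ Spec (CommRingCat.of k))]

theorem chi_additive (S : ShortComplex X.Modules) (hS : S.ShortExact)
    (h₁ : Coh.IsCoh S.X₁) (h₃ : Coh.IsCoh S.X₃) (r : ℕ) (L : Fin r → X.Modules)
    (hL : ∀ i, PicF.IsInvertible (L i)) (n : Fin r → ℕ) :
    chi k X S.X₂ r L n = chi k X S.X₁ r L n + chi k X S.X₃ r L n := by
  rw [chi_eq_twist, chi_eq_twist, chi_eq_twist]
  exact Groth.Agent.Lib.Helper18.DegCalc.euler_tensor_additive k X S hS h₁ h₃
    (isFLF_twist X r L hL n)

theorem chi_zero {N : X.Modules} (hN : IsZero N) (r : ℕ) (L : Fin r → X.Modules)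
    (n : Fin r → ℕ) : chi k X N r L n = 0 := by
  rw [chi_eq_twist]
  exact Groth.Agent.Lib.Helper18.DegCalc.euler_eq_zero_of_isZero k X
    (Groth.Agent.Lib.Helper18.Punctual.isZero_tensorMod_left hN _)

end Chi

section Push

variable (k : Type u) [Field k] (X : Scheme.{u}) [X.Over (Spec (CommRingCat.of k))]
  {Z : Scheme.{u}} (i : Z ⟶ X) [IsClosedImmersion i]

/-- the projection formula for `chi` along a closed immersion -/
theorem chi_push (G : Z.Modules) [G.IsQuasicoherent] (r : ℕ) (L : Fin r → X.Modules)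
    (hL : ∀ j, PicF.IsInvertible (L j)) (n : Fin r → ℕ) :
    letI : Z.Over (Spec (CommRingCat.of k)) := ⟨i ≫ (X ↘ Spec (CommRingCat.of k))⟩
    chi k X ((pushforward i).obj G) r L n =
      chi k Z G r (fun j => (Scheme.Modules.pullback i).obj (L j)) n := by
  letI : Z.Over (Spec (CommRingCat.of k)) := ⟨i ≫ (X ↘ Spec (CommRingCat.of k))⟩
  haveI : i.IsOver (Spec (CommRingCat.of k)) := ⟨rfl⟩
  rw [chi_eq_twist, chi_eq_twist]
  have hE : FlatMod.IsFinLocFree (twist r L n) :=
    Groth.Agent.Lib.helper16.FLF.isFinLocFree_of_isInvertible (isInvertible_twist r L hL n)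
  have e1 := Groth.Agent.Lib.Helper18.ProjFormulaLF.projIso i G (twist r L n) hE
  rw [Groth.Agent.Lib.Lead.CurveEuler.euler_eq_of_iso k X e1]
  have hinv : PicF.IsInvertible ((Scheme.Modules.pullback i).obj (twist r L n)) :=
    Groth.Agent.Lib.helper11.InvMod.isInvertible_pullback i (isInvertible_twist r L hL n)
  haveI : ((Scheme.Modules.pullback i).obj (twist r L n)).IsQuasicoherent :=
    (Groth.Agent.Lib.Lead.CurveInv.isCoh_of_isInvertible Z hinv).1
  haveI : (CohB1.tensorMod G ((Scheme.Modules.pullback i).obj (twist r L n))).IsQuasicoherent :=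
    Groth.Agent.Lib.helper2.TensorQCoh.isQuasicoherent_tensorMod _ _
  have e2 : Curv2.euler k X ((pushforward i).obj
      (CohB1.tensorMod G ((Scheme.Modules.pullback i).obj (twist r L n)))) =
      Curv2.euler k Z (CohB1.tensorMod G ((Scheme.Modules.pullback i).obj (twist r L n))) := by
    unfold Curv2.euler
    congr 1
    funext p
    congr 2
    exact Groth.Agent.Lib.Helper18.HH.finrank_push i _ k p
  rw [e2]
  exact Groth.Agent.Lib.Lead.CurveEuler.euler_eq_of_iso k Z
    (tensorIso (Iso.refl G) (pullTwistIso i r L hL n))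

end Push

section Main

variable (k : Type u) [Field k]

/-- the inductive statement -/
def Statement (d : ℕ) : Prop :=
  ∀ (X : Scheme.{u}) [X.Over (Spec (CommRingCat.of k))] [IsProper (X ↘ Spec (CommRingCat.of k))]
    (F : X.Modules), Coh.IsCoh F →
    topologicalKrullDim (CohB1.support F) < ((d : ℕ) : WithBot ℕ∞) →
    ∀ (r : ℕ) (L : Fin r → X.Modules), (∀ i, PicF.IsInvertible (L i)) → DegLT d (chi k X F r L)

theorem statement_zero : Statement.{u} k 0 := by
  intro X _ _ F hF hd r L hL n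
  have hE : IsEmpty (CohB1.support F) := isEmpty_of_dim_lt_zero hd
  have h0 : CohB1.support F = ∅ := Set.isEmpty_coe_sort.mp hE
  exact chi_zero k X (isZero_of_support_eq_empty F h0) r L n

/-- the integral case of the inductive step -/
theorem integral_step (d : ℕ) (ih : Statement.{u} k d)
    (Z : Scheme.{u}) [Z.Over (Spec (CommRingCat.of k))] [IsProper (Z ↘ Spec (CommRingCat.of k))]
    [IsIntegral Z] (hdim : topologicalKrullDim Z < ((d + 1 : ℕ) : WithBot ℕ∞))
    (r : ℕ) (L : Fin r → Z.Modules) (hL : ∀ i, PicF.IsInvertible (L i)) :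
    DegLT (d + 1) (chi k Z (Coh.structureModule Z) r L) := by
  intro j
  obtain ⟨G, p, q, W, hG, hp, hq, hWp, hWq, hWne⟩ :=
    Groth.Agent.Lib.helper9.CurveDegAdd.exists_common_submodule k Z (hL j)
  haveI := hp
  haveI := hq
  have hLc := Groth.Agent.Lib.Lead.CurveInv.isCoh_of_isInvertible Z (hL j)
  have hOc := Groth.Agent.Lib.helper8.Dev.isCoh_structureModule Z
  have hQ1 : Coh.IsCoh (cokernel p) := Groth.Agent.Lib.helper7.CohKer.isCoh_cokernel hG hLc p
  have hQ2 : Coh.IsCoh (cokernel q) := Groth.Agent.Lib.helper7.CohKer.isCoh_cokernel hG hOc q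
  have hS1 := Groth.Agent.Lib.helper8.Dev.shortExact_cokernel p
  have hS2 := Groth.Agent.Lib.helper8.Dev.shortExact_cokernel q
  -- dimension of the supports of the cokernels
  have hC : IsClosed (((W : Z.Opens) : Set Z)ᶜ) := W.isOpen.isClosed_compl
  have hCne : ((W : Z.Opens) : Set Z)ᶜ ≠ Set.univ := by
    intro h
    obtain ⟨x, hx⟩ := hWne
    have : x ∈ ((W : Z.Opens) : Set Z)ᶜ := by rw [h]; trivial
    exact this hx
  have hdimC : topologicalKrullDim ↥(((W : Z.Opens) : Set Z)ᶜ) < ((d : ℕ) : WithBot ℕ∞) := by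
    have h1 := Groth.Agent.Lib.helper8.DimLt.topologicalKrullDim_add_one_le
      (Set.subset_univ _) hC (IrreducibleSpace.isIrreducible_univ Z) hCne
    have h2 : topologicalKrullDim ↥(Set.univ : Set Z) = topologicalKrullDim Z :=
      (Homeomorph.Set.univ Z).isHomeomorph.topologicalKrullDim_eq
    rw [h2] at h1
    exact dim_lt_of_add_one_le h1 hdim
  have hsub : ∀ {A B : Z.Modules} (φ : A ⟶ B), (W ≤ isoLocus φ) →
      topologicalKrullDim ↥(CohB1.support (cokernel φ)) < ((d : ℕ) : WithBot ℕ∞) := by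
    intro A B φ hW
    refine lt_of_le_of_lt (Groth.Agent.Lib.helper8.DimLt.topologicalKrullDim_le_of_subset ?_) hdimC
    intro x hx hxW
    exact support_cokernel_subset φ hx (hW hxW)
  have hD1 := ih Z (cokernel p) hQ1 (hsub p hWp) r L hL
  have hD2 := ih Z (cokernel q) hQ2 (hsub q hWq) r L hL
  refine (hD1.sub hD2).congr (fun n => ?_)
  show _ = chi k Z (Coh.structureModule Z) r L (n + Pi.single j 1) - chi k Z _ r L n
  rw [chi_shift, chi_iso k Z (leftUnitor (L j)) r L n]
  have a1 := chi_additive k Z _ hS1 hG hQ1 r L hL n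
  have a2 := chi_additive k Z _ hS2 hG hQ2 r L hL n
  simp only at a1 a2
  rw [a1, a2]
  ring

theorem statement_succ (d : ℕ) (ih : Statement.{u} k d) : Statement.{u} k (d + 1) := by
  intro X _ _ F hF hd r L hL
  haveI := Groth.Agent.Lib.Lead.CurveEuler.isNoetherian k X
  let P : X.Modules → Prop := fun G => DegLT (d + 1) (chi k X G r L)
  have hPiso : ∀ M N : X.Modules, Nonempty (M ≅ N) → P M → P N := by
    rintro M N ⟨e⟩ hM
    exact hM.congr (fun n => chi_iso k X e r L n)
  have h23 : ∀ S : ShortComplex X.Modules, S.ShortExact → Coh.IsCoh S.X₁ → Coh.IsCoh S.X₂ →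
      Coh.IsCoh S.X₃ →
      (P S.X₁ → P S.X₂ → P S.X₃) ∧ (P S.X₁ → P S.X₃ → P S.X₂) ∧ (P S.X₂ → P S.X₃ → P S.X₁) := by
    intro S hS h1 h2 h3
    have hadd := chi_additive k X S hS h1 h3 r L hL
    refine ⟨fun a b => ?_, fun a b => ?_, fun a b => ?_⟩
    · exact (b.sub a).congr (fun n => by rw [hadd n]; ring)
    · exact (a.add b).congr (fun n => (hadd n).symm)
    · exact (a.sub b).congr (fun n => by rw [hadd n]; ring)
  refine Groth.Agent.Lib.helper8.Dev.devissage_master_aux P hPiso (CohB1.support F) ?_ ?_ ?_ F hF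
    subset_rfl
  · intro N hN
    exact (degLT_zero_fun (d + 1)).congr (fun n => (chi_zero k X hN r L n).symm)
  · intro S hS h1 h2 h3 _ a b
    exact (h23 S hS h1 h2 h3).2.1 a b
  · intro Z i _ _ hT hsmall I ι hι hIq hI0
    haveI := hι
    haveI : I.IsQuasicoherent := hIq
    letI : Z.Over (Spec (CommRingCat.of k)) := ⟨i ≫ (X ↘ Spec (CommRingCat.of k))⟩
    haveI : IsProper (Z ↘ Spec (CommRingCat.of k)) := by
      show IsProper (i ≫ (X ↘ Spec (CommRingCat.of k)))
      infer_instance
    have hyp : Groth.Agent.Lib.helper8.Dev.Hyp i P :=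
      { iso := hPiso
        tot := fun S hS h1 h2 h3 _ => h23 S hS h1 h2 h3
        small := hsmall }
    -- dimension of `Z`
    have hdimZ : topologicalKrullDim Z < ((d + 1 : ℕ) : WithBot ℕ∞) := by
      refine lt_of_le_of_lt ?_ hd
      have hind : Topology.IsInducing (Set.codRestrict i.base (CohB1.support F)
          (fun z => hT ⟨z, rfl⟩)) :=
        (Topology.IsInducing.codRestrict i.isClosedEmbedding.isInducing _)
      exact hind.topologicalKrullDim_le
    -- `P (i_* O_Z)`
    have hPO : P ((pushforward i).obj (Coh.structureModule Z)) := by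
      have h1 := integral_step k d ih Z hdimZ r
        (fun j => (Scheme.Modules.pullback i).obj (L j))
        (fun j => Groth.Agent.Lib.helper11.InvMod.isInvertible_pullback i (hL j))
      haveI : (Coh.structureModule Z).IsQuasicoherent :=
        (Groth.Agent.Lib.helper8.Dev.isCoh_structureModule Z).1
      exact h1.congr (fun n => (chi_push k X i (Coh.structureModule Z) r L hL n).symm)
    obtain ⟨U, x₀, hx₀⟩ := Groth.Agent.Lib.helper8.Dev.exists_section_ne_zero i I hI0
    have hιx₀ : (ι.app (i ⁻¹ᵁ U.1)).hom x₀ ≠ 0 := by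
      intro h0'
      apply hx₀
      apply Groth.Agent.S2542.injective_app_of_mono ι (i ⁻¹ᵁ U.1)
      rw [h0', map_zero]
    have hnt : Nontrivial Γ(Z, i ⁻¹ᵁ U.1) := by
      by_contra hn
      rw [not_nontrivial_iff_subsingleton] at hn
      exact hιx₀ (Subsingleton.elim (α := Γ(Z, i ⁻¹ᵁ U.1)) _ _)
    haveI : (Coh.structureModule Z).IsQuasicoherent :=
      (Groth.Agent.Lib.helper8.Dev.isCoh_structureModule Z).1
    exact Groth.Agent.Lib.helper8.Dev.P_push_ideal_of_rankOne hyp U (Coh.structureModule Z)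
      (Groth.Agent.Lib.helper8.Dev.isCoh_push_structureModule i) hPO
      (1 : Γ(Z, i ⁻¹ᵁ U.1)) (fun c hc => by
        have h : (c * 1 : Γ(Z, i ⁻¹ᵁ U.1)) = 0 := hc
        rwa [mul_one] at h)
      (1 : Γ(Z, i ⁻¹ᵁ U.1)) one_ne_zero (fun m => ⟨m, by
        show ((1 : Γ(Z, i ⁻¹ᵁ U.1)) * (show Γ(Z, i ⁻¹ᵁ U.1) from m) : Γ(Z, i ⁻¹ᵁ U.1)) =
          ((show Γ(Z, i ⁻¹ᵁ U.1) from m) * (1 : Γ(Z, i ⁻¹ᵁ U.1)) : Γ(Z, i ⁻¹ᵁ U.1))
        rw [one_mul, mul_one]⟩) I ι x₀ hιx₀

/-- **Snapper's theorem**, finite difference form -/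
theorem snapper (d : ℕ) : Statement.{u} k d := by
  induction d with
  | zero => exact statement_zero k
  | succ d ih => exact statement_succ k d ih

/-- **Snapper's theorem**, polynomial form -/
theorem snapper_poly (X : Scheme.{u}) [X.Over (Spec (CommRingCat.of k))]
    [IsProper (X ↘ Spec (CommRingCat.of k))] (F : X.Modules) (hF : Coh.IsCoh F) (d : ℕ)
    (hd : topologicalKrullDim (CohB1.support F) ≤ ((d : ℕ) : WithBot ℕ∞))
    (r : ℕ) (L : Fin r → X.Modules) (hL : ∀ i, PicF.IsInvertible (L i)) :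
    ∃ P : MvPolynomial (Fin r) ℚ, P.totalDegree ≤ d ∧
      ∀ n : Fin r → ℕ, (chi k X F r L n : ℚ) = MvPolynomial.eval (fun i => (n i : ℚ)) P := by
  have h : topologicalKrullDim (CohB1.support F) < ((d + 1 : ℕ) : WithBot ℕ∞) := by
    refine lt_of_le_of_lt hd ?_
    exact_mod_cast Nat.lt_succ_self d
  exact (snapper k (d + 1) X F hF h r L hL).exists_poly

end Main

end Groth.Agent.Lib.helper7.SnapperMain
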