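import Mathlib
import Groth.Agent.Lib.Helper7.SnapperMain
import Groth.Agent.Lib.Helper7.SnapperAlt
import Groth.Agent.Lib.Helper8.SupportProper

/-!
# Snapper's theorem for structure sheaves of closed subschemes (helper7)

* `isCoh_quotMod`, `support_quotMod_subset`
* `degLT_quotMod`: `dim D.support ≤ d → DegLT (d+1) (chi k X (quotMod D) r L)`
-/

set_option autoImplicit false
set_option linter.unusedSectionVars false
universe u

open CategoryTheory CategoryTheory.Limits AlgebraicGeometry Opposite TopologicalSpace

namespace Groth.Agent.Lib.helper7.SnapperQuot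

open Groth.Agent.Lib.helper7.SnapperDiff Groth.Agent.Lib.helper7.SnapperMain

section A

variable {X : Scheme.{u}}

theorem isCoh_quotMod (D : X.IdealSheafData) : Coh.IsCoh (ClSub.quotMod D) :=
  Groth.Agent.Lib.helper8.Dev.isCoh_push_structureModule D.subschemeι

theorem support_quotMod_subset (D : X.IdealSheafData) :
    CohB1.support (ClSub.quotMod D) ⊆ (D.support : Set X) := by
  have h := Groth.Agent.Lib.helper8.SchemeSupport.support_subset_range_of_iso
    (ClSub.quotMod D) D.subschemeι (Coh.structureModule _) (Iso.refl _)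
  rwa [Scheme.IdealSheafData.range_subschemeι] at h

theorem dim_support_quotMod_le (D : X.IdealSheafData) :
    topologicalKrullDim (CohB1.support (ClSub.quotMod D)) ≤
      topologicalKrullDim (D.support : Set X) :=
  Groth.Agent.Lib.helper8.DimLt.topologicalKrullDim_le_of_subset (support_quotMod_subset D)

end A

variable (k : Type u) [Field k] (X : Scheme.{u}) [X.Over (Spec (CommRingCat.of k))]
  [IsProper (X ↘ Spec (CommRingCat.of k))]

theorem degLT_of_dim_le (F : X.Modules) (hF : Coh.IsCoh F) (d : ℕ)
    (hd : topologicalKrullDim (CohB1.support F) ≤ ((d : ℕ) : WithBot ℕ∞))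
    (r : ℕ) (L : Fin r → X.Modules) (hL : ∀ i, PicF.IsInvertible (L i)) :
    DegLT (d + 1) (chi k X F r L) := by
  have h : topologicalKrullDim (CohB1.support F) < ((d + 1 : ℕ) : WithBot ℕ∞) := by
    refine lt_of_le_of_lt hd ?_
    exact_mod_cast Nat.lt_succ_self d
  exact snapper k (d + 1) X F hF h r L hL

theorem degLT_quotMod (D : X.IdealSheafData) (d : ℕ)
    (hD : topologicalKrullDim (D.support : Set X) ≤ ((d : ℕ) : WithBot ℕ∞))
    (r : ℕ) (L : Fin r → X.Modules) (hL : ∀ i, PicF.IsInvertible (L i)) :
    DegLT (d + 1) (chi k X (ClSub.quotMod D) r L) :=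
  degLT_of_dim_le k X _ (isCoh_quotMod D) d ((dim_support_quotMod_le D).trans hD) r L hL

end Groth.Agent.Lib.helper7.SnapperQuot
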