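import Mathlib
import Groth.Agent.Lib.Helper7.SnapperQuot
import Groth.Agent.Lib.Helper7.SnapperList
import Groth.Agent.Lib.Lead.ProperDim

/-!
# Splitting off the first line bundle; `FGA.intNum` in terms of `chi` (helper7)

* `sum_split`: `Σ_{I ⊆ Fin (r+1)} (-1)^|I| H(1_I) = Σ_{J ⊆ Fin r} (-1)^|J| (H(0, 1_J) − H(1, 1_J))`
* `tensorPows_succ_eq`, `chi_cons`, `chi_cons_zero`, `chi_cons_one`
* `intNum_eq`: `FGA.intNum k X d M F = Σ_I (-1)^|I| chi F r M 1_I`
* `intNum_iso`, `intNum_eq_zero` (vanishing for small support), `intNum_succ`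
-/

set_option autoImplicit false
set_option linter.unusedSectionVars false
set_option linter.style.haveILetI false
universe u

open CategoryTheory CategoryTheory.Limits AlgebraicGeometry Opposite TopologicalSpace

namespace Groth.Agent.Lib.helper7.SnapperSplit

open Groth.Agent.Lib.helper7.SnapperDiff Groth.Agent.Lib.helper7.SnapperMain
open Groth.Agent.Lib.helper7.SnapperTensor Groth.Agent.Lib.helper7.SnapperList
open Groth.Agent.Lib.helper7.SnapperQuot
open Groth.Agent.Lib.Lead.ModTensor

section Comb

variable {r : ℕ}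

theorem univ_eq_insert (r : ℕ) :
    (Finset.univ : Finset (Fin (r + 1))) = insert 0 (Finset.univ.image Fin.succ) := by
  ext i
  simp only [Finset.mem_univ, Finset.mem_insert, Finset.mem_image, true_and, true_iff]
  rcases Fin.eq_zero_or_eq_succ i with h | ⟨j, hj⟩
  · exact Or.inl h
  · exact Or.inr ⟨j, hj.symm⟩

theorem zero_notMem_image_succ (J : Finset (Fin r)) : (0 : Fin (r + 1)) ∉ J.image Fin.succ := by
  intro h
  obtain ⟨j, -, hj⟩ := Finset.mem_image.mp h
  exact Fin.succ_ne_zero j hj

theorem ind_image_succ (J : Finset (Fin r)) :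
    ind (J.image Fin.succ) = (Fin.cons 0 (ind J) : Fin (r + 1) → ℕ) := by
  funext i
  refine Fin.cases ?_ (fun j => ?_) i
  · simp only [ind, Fin.cons_zero]
    rw [if_neg (zero_notMem_image_succ J)]
  · simp only [ind, Fin.cons_succ]
    have : j.succ ∈ J.image Fin.succ ↔ j ∈ J := by
      constructor
      · intro h
        obtain ⟨j', hj', h'⟩ := Finset.mem_image.mp h
        rwa [← Fin.succ_injective _ h']
      · intro h
        exact Finset.mem_image.mpr ⟨j, h, rfl⟩
    by_cases hj : j ∈ J
    · rw [if_pos hj, if_pos (this.mpr hj)]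
    · rw [if_neg hj, if_neg (fun h => hj (this.mp h))]

theorem ind_insert_zero (J : Finset (Fin r)) :
    ind (insert 0 (J.image Fin.succ)) = (Fin.cons 1 (ind J) : Fin (r + 1) → ℕ) := by
  funext i
  refine Fin.cases ?_ (fun j => ?_) i
  · simp only [ind, Fin.cons_zero]
    rw [if_pos (Finset.mem_insert_self _ _)]
  · have h1 := congrFun (ind_image_succ J) j.succ
    simp only [Fin.cons_succ] at h1 ⊢
    rw [← h1]
    simp only [ind]
    have : j.succ ∈ insert 0 (J.image Fin.succ) ↔ j.succ ∈ J.image Fin.succ := by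
      rw [Finset.mem_insert]
      constructor
      · rintro (h | h)
        · exact absurd h (Fin.succ_ne_zero j)
        · exact h
      · exact Or.inr
    by_cases hj : j.succ ∈ J.image Fin.succ
    · rw [if_pos hj, if_pos (this.mpr hj)]
    · rw [if_neg hj, if_neg (fun h => hj (this.mp h))]

/-- splitting an alternating sum over subsets of `Fin (r+1)` according to whether `0` belongs -/
theorem sum_split (H : (Fin (r + 1) → ℕ) → ℤ) :
    ∑ I : Finset (Fin (r + 1)), (-1 : ℤ) ^ I.card * H (ind I) =
      ∑ J : Finset (Fin r), (-1 : ℤ) ^ J.card *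
        (H (Fin.cons 0 (ind J)) - H (Fin.cons 1 (ind J))) := by
  classical
  rw [← Finset.powerset_univ, univ_eq_insert,
    Finset.sum_powerset_insert (zero_notMem_image_succ _), Finset.powerset_image,
    Finset.sum_image (fun a _ b _ h => Finset.image_injective (Fin.succ_injective _) h),
    Finset.sum_image (fun a _ b _ h => Finset.image_injective (Fin.succ_injective _) h),
    Finset.powerset_univ, ← Finset.sum_add_distrib]
  apply Finset.sum_congr rfl
  intro J _
  rw [ind_image_succ, ind_insert_zero, Finset.card_insert_of_notMem (zero_notMem_image_succ J),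
    Finset.card_image_of_injective _ (Fin.succ_injective _)]
  ring

end Comb

section Cons

variable {X : Scheme.{u}}

/-- peeling off the first line bundle -/
theorem tensorPows_succ_eq (F : X.Modules) (r : ℕ) (L : Fin (r + 1) → X.Modules)
    (n : Fin (r + 1) → ℕ) :
    Curv2.tensorPows F (r + 1) L n =
      Curv2.tensorPows (CohB1.tensorMod F (CohB1.tensorPow (L 0) (n 0))) r
        (fun i => L i.succ) (fun i => n i.succ) := by
  rw [tensorPows_eq_foldT, tensorPows_eq_foldT, List.ofFn_succ, foldT_cons]

end Cons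

section Chi

variable (k : Type u) [Field k] (X : Scheme.{u}) [X.Over (Spec (CommRingCat.of k))]

theorem chi_cons (F : X.Modules) (r : ℕ) (L : Fin (r + 1) → X.Modules) (n : Fin (r + 1) → ℕ) :
    chi k X F (r + 1) L n =
      chi k X (CohB1.tensorMod F (CohB1.tensorPow (L 0) (n 0))) r
        (fun i => L i.succ) (fun i => n i.succ) := by
  unfold chi
  rw [tensorPows_succ_eq]

theorem chi_cons_zero (F : X.Modules) (r : ℕ) (A : X.Modules) (M : Fin r → X.Modules)
    (m : Fin r → ℕ) :
    chi k X F (r + 1) (Fin.cons A M) (Fin.cons 0 m) = chi k X F r M m := by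
  rw [chi_cons]
  simp only [Fin.cons_zero, Fin.cons_succ]
  exact chi_iso k X (rightUnitor F) r M m

theorem chi_cons_one (F : X.Modules) (r : ℕ) (A : X.Modules) (M : Fin r → X.Modules)
    (m : Fin r → ℕ) :
    chi k X F (r + 1) (Fin.cons A M) (Fin.cons 1 m) = chi k X (CohB1.tensorMod F A) r M m := by
  rw [chi_cons]
  simp only [Fin.cons_zero, Fin.cons_succ]
  exact chi_iso k X (tensorIso (Iso.refl F) (tensorPowOne A)) r M m

end Chi

section Dict

variable {X : Scheme.{u}}

theorem nonempty_tensorList_filter {r : ℕ} (M : Fin r → X.Modules) (I : Finset (Fin r))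
    (l : List (Fin r)) :
    Nonempty (FGA.tensorList (l.map fun i => CohB1.tensorPow (M i) (ind I i)) ≅
      FGA.tensorList ((l.filter (· ∈ I)).map M)) := by
  induction l with
  | nil => exact ⟨Iso.refl _⟩
  | cons a l ih =>
    obtain ⟨e⟩ := ih
    by_cases ha : a ∈ I
    · rw [List.filter_cons_of_pos (by simpa using ha)]
      have h1 : ind I a = 1 := by simp [ind, ha]
      simp only [List.map_cons]
      rw [h1]
      exact ⟨tensorIso (tensorPowOne (M a)) e⟩
    · rw [List.filter_cons_of_neg (by simpa using ha)]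
      have h0 : ind I a = 0 := by simp [ind, ha]
      simp only [List.map_cons]
      rw [h0]
      exact ⟨leftUnitor _ ≪≫ e⟩

theorem filter_finRange_eq_sort {r : ℕ} (I : Finset (Fin r)) :
    (List.finRange r).filter (· ∈ I) = I.sort (· ≤ ·) := by
  apply List.Perm.eq_of_pairwise (le := (· ≤ ·))
  · intro a b _ _ hab hba
    exact le_antisymm hab hba
  · exact ((List.pairwise_lt_finRange r).imp (fun h => le_of_lt h)).filter _
  · exact Finset.pairwise_sort I (· ≤ ·)
  · rw [List.perm_ext_iff_of_nodup ((List.nodup_finRange r).filter _) (Finset.sort_nodup I _)]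
    intro a
    simp

/-- the module of `FGA.intNum` attached to `I` is the one of `chi` at the indicator of `I` -/
theorem nonempty_intNum_iso {r : ℕ} (M : Fin r → X.Modules) (I : Finset (Fin r)) (F : X.Modules) :
    Nonempty (CohB1.tensorMod (FGA.tensorList ((I.sort (· ≤ ·)).map M)) F ≅
      Curv2.tensorPows F r M (ind I)) := by
  obtain ⟨e⟩ := nonempty_tensorList_filter M I (List.finRange r)
  rw [filter_finRange_eq_sort] at e
  refine ⟨braid _ _ ≪≫ tensorIso (Iso.refl F) e.symm ≪≫ (foldTIso _ F).symm ≪≫ eqToIso ?_⟩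
  rw [tensorPows_eq_foldT, List.ofFn_eq_map]

end Dict

section IntNum

variable (k : Type u) [Field k] (X : Scheme.{u}) [X.Over (Spec (CommRingCat.of k))]
  [IsProper (X ↘ Spec (CommRingCat.of k))]

theorem eulerCharLE_eq (d : ℕ) (hd : topologicalKrullDim X ≤ d) (G : X.Modules) :
    FGA.eulerCharLE k X G d = Curv2.euler k X G := by
  rw [Groth.Agent.Lib.Lead.ProperDim.euler_eq_sum k X d hd G]
  rfl

/-- the dictionary -/
theorem intNum_eq (d : ℕ) (hd : topologicalKrullDim X ≤ d) {r : ℕ} (M : Fin r → X.Modules)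
    (F : X.Modules) :
    FGA.intNum k X d M F = ∑ I : Finset (Fin r), (-1 : ℤ) ^ I.card * chi k X F r M (ind I) := by
  unfold FGA.intNum
  apply Finset.sum_congr rfl
  intro I _
  congr 1
  rw [eulerCharLE_eq k X d hd]
  obtain ⟨e⟩ := nonempty_intNum_iso M I F
  exact Groth.Agent.Lib.Lead.CurveEuler.euler_eq_of_iso k X e

theorem intNum_iso (d : ℕ) (hd : topologicalKrullDim X ≤ d) {r : ℕ} (M : Fin r → X.Modules)
    {F G : X.Modules} (e : F ≅ G) : FGA.intNum k X d M F = FGA.intNum k X d M G := by
  rw [intNum_eq k X d hd, intNum_eq k X d hd]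
  apply Finset.sum_congr rfl
  intro I _
  rw [chi_iso k X e]

/-- vanishing for small support -/
theorem intNum_eq_zero (d : ℕ) (hd : topologicalKrullDim X ≤ d) {r : ℕ} (M : Fin r → X.Modules)
    (hM : ∀ i, PicF.IsInvertible (M i)) (F : X.Modules) (hF : Coh.IsCoh F)
    (hr : topologicalKrullDim (CohB1.support F) < r) : FGA.intNum k X d M F = 0 := by
  rw [intNum_eq k X d hd]
  have hsn := snapper k r X F hF hr r M hM
  have hcard : (Finset.univ : Finset (Fin r)).card = r := Finset.card_fin r
  have hsn' : DegLT (Finset.univ : Finset (Fin r)).card (chi k X F r M) := by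
    rw [hcard]; exact hsn
  have h0 := sum_powerset_eq_zero (Finset.univ : Finset (Fin r)) _ hsn' 0
  rw [Finset.powerset_univ] at h0
  rw [← h0]
  apply Finset.sum_congr rfl
  intro I _
  rw [zero_add]

/-- `∫ c(A) c(M_1) ⋯ c(M_r) F = ∫ c(M) F − ∫ c(M) (F ⊗ A)` -/
theorem intNum_cons (d : ℕ) (hd : topologicalKrullDim X ≤ d) {r : ℕ} (A : X.Modules)
    (M : Fin r → X.Modules) (F : X.Modules) :
    FGA.intNum k X d (Fin.cons A M : Fin (r + 1) → X.Modules) F =
      FGA.intNum k X d M F - FGA.intNum k X d M (CohB1.tensorMod F A) := by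
  rw [intNum_eq k X d hd, intNum_eq k X d hd, intNum_eq k X d hd, sum_split,
    ← Finset.sum_sub_distrib]
  apply Finset.sum_congr rfl
  intro J _
  rw [chi_cons_zero, chi_cons_one]
  ring

end IntNum

end Groth.Agent.Lib.helper7.SnapperSplit
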