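import Mathlib
import Groth.Agent.Lib.Helper11.TensorASec2
import Groth.Agent.Lib.Helper12.PullTensor
import Groth.Agent.Lib.Helper16.QCohAss
import Groth.Agent.Lib.Helper7.IdealMod
import Groth.Agent.Lib.Helper7.KerSections
import Groth.Agent.Lib.Helper7.CohKer
import Groth.Agent.Lib.Helper18.DegCalc

/-!
# Tensoring `0 → I_D → O → O_D → 0` with a module having no associated point on `D` (helper7)

* `lTensor_injective_of_regular` (algebra)
* `smul_eq_zero_imp`: a local equation of `D` is a nonzerodivisor on `F(W)`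
* `mono_tensorMap_idealModι`: `F ⊗ I_D → F ⊗ O` is a monomorphism
* `shortExact_tensor_idealSeq`
-/

set_option autoImplicit false
set_option linter.unusedSectionVars false
set_option linter.style.haveILetI false
universe u

open CategoryTheory CategoryTheory.Limits AlgebraicGeometry Opposite TopologicalSpace TensorProduct

namespace Groth.Agent.Lib.helper7.TensorReg

open Groth.Agent.Lib.Lead.ModTensor

section Alg

variable {A : Type*} [CommRing A] {N J : Type*} [AddCommGroup N] [Module A N]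
  [AddCommGroup J] [Module A J]

/-- `n ⊗ j ↦ ι(j) • n` -/
noncomputable def mulMap (ι : J →ₗ[A] A) : N ⊗[A] J →ₗ[A] N :=
  (TensorProduct.rid A N).toLinearMap ∘ₗ LinearMap.lTensor N ι

theorem mulMap_tmul (ι : J →ₗ[A] A) (n : N) (j : J) : mulMap ι (n ⊗ₜ[A] j) = ι j • n := by
  simp [mulMap]

theorem mulMap_injective (ι : J →ₗ[A] A) (hι : Function.Injective ι) (a : A)
    (hrange : LinearMap.range ι = Ideal.span {a})
    (hreg : ∀ n : N, a • n = 0 → n = 0) : Function.Injective (mulMap (N := N) ι) := by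
  rw [injective_iff_map_eq_zero]
  intro x hx
  obtain ⟨j₀, hj₀⟩ : ∃ j₀, ι j₀ = a := by
    have : a ∈ LinearMap.range ι := by
      rw [hrange]; exact Ideal.subset_span rfl
    exact this
  have hsurj : Function.Surjective (LinearMap.toSpanSingleton A J j₀) := by
    intro j
    have hj : ι j ∈ Ideal.span {a} := by
      rw [← hrange]; exact ⟨j, rfl⟩
    obtain ⟨r, hr⟩ := Ideal.mem_span_singleton'.mp hj
    refine ⟨r, hι ?_⟩
    rw [LinearMap.toSpanSingleton_apply, map_smul, hj₀, smul_eq_mul, hr]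
  obtain ⟨y, rfl⟩ := LinearMap.lTensor_surjective N hsurj x
  obtain ⟨n, rfl⟩ : ∃ n : N, y = n ⊗ₜ[A] (1 : A) :=
    ⟨TensorProduct.rid A N y, by
      rw [← TensorProduct.rid_symm_apply, LinearEquiv.symm_apply_apply]⟩
  rw [LinearMap.lTensor_tmul, mulMap_tmul, LinearMap.toSpanSingleton_apply, one_smul, hj₀] at hx
  rw [hreg n hx, TensorProduct.zero_tmul, map_zero]

end Alg

section Geo

variable {X : Scheme.{u}}

theorem mem_basicOpen_iff {U : X.Opens} (hU : IsAffineOpen U) (x : X) (hx : x ∈ U) (s : Γ(X, U)) :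
    x ∈ X.basicOpen s ↔ s ∉ (hU.primeIdealOf ⟨x, hx⟩).asIdeal := by
  have h1 : hU.fromSpec (hU.primeIdealOf ⟨x, hx⟩) = x := hU.fromSpec_primeIdealOf ⟨x, hx⟩
  have h2 := hU.fromSpec_preimage_basicOpen s
  have h3 : hU.primeIdealOf ⟨x, hx⟩ ∈ hU.fromSpec ⁻¹ᵁ X.basicOpen s ↔ x ∈ X.basicOpen s := by
    show hU.fromSpec (hU.primeIdealOf ⟨x, hx⟩) ∈ X.basicOpen s ↔ _
    rw [h1]
  rw [← h3, h2]
  rfl

/-- a local equation of `D` is a nonzerodivisor on the sections of a quasi-coherent module without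
associated points on `D` -/
theorem smul_eq_zero_imp (F : X.Modules) [F.IsQuasicoherent] (D : X.IdealSheafData)
    (hass : ∀ x ∈ D.support, ¬ Curv2.IsAssPoint F x)
    {W : X.Opens} (hW : IsAffineOpen W) (a : Γ(X, W)) (ha : D.ideal ⟨W, hW⟩ = Ideal.span {a})
    (n : Γ(F, W)) (hn : a • n = 0) : n = 0 := by
  by_contra hne
  have hann : Groth.Agent.Lib.helper16.QCohAss.ann Γ(X, W) n ≠ ⊤ := by
    intro h
    have h1 : (1 : Γ(X, W)) ∈ Groth.Agent.Lib.helper16.QCohAss.ann Γ(X, W) n := by
      rw [h]; trivial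
    rw [Groth.Agent.Lib.helper16.QCohAss.mem_ann, one_smul] at h1
    exact hne h1
  obtain ⟨p, hp⟩ := Ideal.nonempty_minimalPrimes hann
  haveI : p.IsPrime := hp.1.1
  have hap : a ∈ p := hp.1.2 (Groth.Agent.Lib.helper16.QCohAss.mem_ann.mpr hn)
  set Q : PrimeSpectrum Γ(X, W) := ⟨p, inferInstance⟩ with hQ
  set x := hW.fromSpec Q with hx_def
  have hx : x ∈ W := Groth.Agent.Lib.helper16.QCohAss.fromSpec_mem hW Q
  have hQ' : hW.primeIdealOf ⟨x, hx⟩ = Q :=
    Groth.Agent.Lib.helper16.QCohAss.primeIdealOf_fromSpec hW Q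
  have hweak : Curv2.IsWeakAssPoint F x := by
    rw [Groth.Agent.Lib.helper16.QCohAss.isWeakAssPoint_iff F hW x hx]
    refine ⟨n, ?_⟩
    rw [hQ']
    exact hp
  have hassx : Curv2.IsAssPoint F x :=
    (Groth.Agent.Lib.helper16.QCohAss.isAssPoint_iff_isWeakAssPoint F x).mpr hweak
  refine hass x ?_ hassx
  rw [Scheme.IdealSheafData.mem_support_iff_of_mem (U := ⟨W, hW⟩) hx, Scheme.mem_zeroLocus_iff]
  intro f hf
  rw [mem_basicOpen_iff hW x hx, not_not, hQ']
  rw [ha] at hf
  obtain ⟨r, rfl⟩ := Ideal.mem_span_singleton'.mp hf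
  exact p.mul_mem_left r hap

variable (F : X.Modules) (D : X.IdealSheafData)

/-- `F ⊗ I_D → F ⊗ O ≅ F` -/
noncomputable def mulHom : CohB1.tensorMod F (ClSub.idealMod D) ⟶ F :=
  tensorMap (𝟙 F) (ClSub.idealModι D) ≫ (SecTwist.unitorR F).hom

theorem mulHom_tmul (W : X.Opens) (f : F.val.obj (op W)) (i : (ClSub.idealMod D).val.obj (op W))
    (r : X.ringCatSheaf.obj.obj (op W))
    (hr : ((ClSub.idealModι D).val.app (op W)).hom i =
      (r : (Coh.structureModule X).val.obj (op W))) :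
    ((mulHom F D).val.app (op W)).hom (SecTwist.tmul F (ClSub.idealMod D) W f i) = r • f := by
  unfold mulHom
  have h1 := Groth.Agent.Lib.helper12.PullTensor.tensorMap_tmul (𝟙 F) (ClSub.idealModι D) W f i
  have h2 := SecTwist.unitorR_tmul F W f r
  rw [← h2, ← hr]
  erw [← h1]
  rfl

open Groth.Agent.Lib.helper11.TensorASec Groth.Agent.Lib.helper7.IdealMod in
/-- injectivity of `F ⊗ I_D → F` on sections over an affine open where `D` has an equation -/
theorem mulHom_app_injective [F.IsQuasicoherent] [(ClSub.idealMod D).IsQuasicoherent]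
    (hass : ∀ x ∈ D.support, ¬ Curv2.IsAssPoint F x)
    {W : X.Opens} (hW : IsAffineOpen W) (a : Γ(X, W)) (ha : D.ideal ⟨W, hW⟩ = Ideal.span {a}) :
    Function.Injective ((mulHom F D).app W).hom := by
  let ιW : Γ(ClSub.idealMod D, W) →ₗ[Γ(X, W)] Γ(X, W) :=
    (D.ideal ⟨W, hW⟩).subtype ∘ₗ (sectionsEquiv D ⟨W, hW⟩).toLinearMap
  have hιinj : Function.Injective ιW :=
    (Submodule.injective_subtype _).comp (sectionsEquiv D ⟨W, hW⟩).injective
  have hrange : LinearMap.range ιW = Ideal.span {a} := by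
    rw [LinearMap.range_comp, LinearEquiv.range, Submodule.map_top, Submodule.range_subtype, ha]
  have hμ : Function.Injective (mulMap (N := Γ(F, W)) ιW) :=
    mulMap_injective ιW hιinj a hrange (fun n hn => smul_eq_zero_imp F D hass hW a ha n hn)
  have hc := bijective_cW F (ClSub.idealMod D) W hW
  have key : ∀ z : Γ(F, W) ⊗[Γ(X, W)] Γ(ClSub.idealMod D, W),
      ((mulHom F D).app W).hom (cW F (ClSub.idealMod D) W z) = mulMap ιW z := by
    intro z
    induction z using TensorProduct.induction_on with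
    | zero => rw [map_zero, map_zero, map_zero]
    | tmul f i =>
      rw [mulMap_tmul]
      exact mulHom_tmul F D W f i (ιW i) rfl
    | add x y hx hy => rw [map_add, map_add, hx, hy, map_add]
  intro y₁ y₂ h
  obtain ⟨z₁, rfl⟩ := hc.2 y₁
  obtain ⟨z₂, rfl⟩ := hc.2 y₂
  rw [key, key] at h
  rw [hμ h]

/-- `F ⊗ I_D → F` is a monomorphism when no associated point of `F` lies on the effective Cartier
divisor `D` -/
theorem mono_mulHom [F.IsQuasicoherent] [(ClSub.idealMod D).IsQuasicoherent]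
    (hD : BlowUp.IsEffCartierIdeal D)
    (hass : ∀ x ∈ D.support, ¬ Curv2.IsAssPoint F x) : Mono (mulHom F D) := by
  haveI : (CohB1.tensorMod F (ClSub.idealMod D)).IsQuasicoherent :=
    Groth.Agent.Lib.helper2.TensorQCoh.isQuasicoherent_tensorMod _ _
  choose U hxU a ha using hD
  refine KerSections.mono_of_injective_cover (mulHom F D) (fun x : X => (U x).1)
    (fun x => (U x).2) (fun x => ⟨x, hxU x⟩) (fun x => ?_)
  exact mulHom_app_injective F D hass (U x).2 (a x) (ha x).2

theorem mono_tensorMap_idealModι [F.IsQuasicoherent] [(ClSub.idealMod D).IsQuasicoherent]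
    (hD : BlowUp.IsEffCartierIdeal D)
    (hass : ∀ x ∈ D.support, ¬ Curv2.IsAssPoint F x) :
    Mono (tensorMap (𝟙 F) (ClSub.idealModι D)) := by
  have h := mono_mulHom F D hD hass
  unfold mulHom at h
  exact mono_of_mono (tensorMap (𝟙 F) (ClSub.idealModι D)) (SecTwist.unitorR F).hom

end Geo

end Groth.Agent.Lib.helper7.TensorReg
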