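import Mathlib
import Groth.Agent.Lib.Helper7.SnapperSplit
import Groth.Agent.Lib.Helper7.TensorReg
import Groth.Agent.Lib.Helper9.CurveHopf

/-!
# `(L_1 ⋯ L_r · O(D); F) = (L_1 ⋯ L_r; F ⊗ O_D)` (helper7)

* `sum_split_last`, `chi_snoc_zero`, `chi_snoc_one`, `intNum_snoc`
* `intNum_additive`
* `shortExact_tensor_of_mono`, `shortExact_tensor_idealSeq`
* `intNum_snoc_idealMod`: the statement of S14522
-/

set_option autoImplicit false
set_option linter.unusedSectionVars false
set_option linter.style.haveILetI false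
universe u

open CategoryTheory CategoryTheory.Limits AlgebraicGeometry Opposite TopologicalSpace

namespace Groth.Agent.Lib.helper7.SnapperCartier2

open Groth.Agent.Lib.helper7.SnapperDiff Groth.Agent.Lib.helper7.SnapperMain
open Groth.Agent.Lib.helper7.SnapperSplit Groth.Agent.Lib.helper7.SnapperQuot
open Groth.Agent.Lib.helper7.SnapperTensor
open Groth.Agent.Lib.Lead.ModTensor

section Comb

variable {r : ℕ}

theorem univ_eq_insert_last (r : ℕ) :
    (Finset.univ : Finset (Fin (r + 1))) = insert (Fin.last r) (Finset.univ.image Fin.castSucc) := by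
  ext i
  simp only [Finset.mem_univ, Finset.mem_insert, Finset.mem_image, true_and, true_iff]
  rcases Fin.eq_castSucc_or_eq_last i with ⟨j, hj⟩ | h
  · exact Or.inr ⟨j, hj.symm⟩
  · exact Or.inl h

theorem last_notMem_image_castSucc (J : Finset (Fin r)) :
    Fin.last r ∉ J.image Fin.castSucc := by
  intro h
  obtain ⟨j, -, hj⟩ := Finset.mem_image.mp h
  exact Fin.castSucc_ne_last j hj

theorem castSucc_mem_image_iff (J : Finset (Fin r)) (j : Fin r) :
    j.castSucc ∈ J.image Fin.castSucc ↔ j ∈ J := by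
  constructor
  · intro h
    obtain ⟨j', hj', h'⟩ := Finset.mem_image.mp h
    rwa [← Fin.castSucc_injective _ h']
  · intro h
    exact Finset.mem_image.mpr ⟨j, h, rfl⟩

theorem ind_image_castSucc (J : Finset (Fin r)) :
    ind (J.image Fin.castSucc) = (Fin.snoc (ind J) 0 : Fin (r + 1) → ℕ) := by
  funext i
  refine Fin.lastCases ?_ (fun j => ?_) i
  · simp only [ind, Fin.snoc_last]
    rw [if_neg (last_notMem_image_castSucc J)]
  · simp only [ind, Fin.snoc_castSucc]
    by_cases hj : j ∈ J
    · rw [if_pos hj, if_pos ((castSucc_mem_image_iff J j).mpr hj)]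
    · rw [if_neg hj, if_neg (fun h => hj ((castSucc_mem_image_iff J j).mp h))]

theorem ind_insert_last (J : Finset (Fin r)) :
    ind (insert (Fin.last r) (J.image Fin.castSucc)) = (Fin.snoc (ind J) 1 : Fin (r + 1) → ℕ) := by
  funext i
  refine Fin.lastCases ?_ (fun j => ?_) i
  · simp only [ind, Fin.snoc_last]
    rw [if_pos (Finset.mem_insert_self _ _)]
  · simp only [ind, Fin.snoc_castSucc]
    have : j.castSucc ∈ insert (Fin.last r) (J.image Fin.castSucc) ↔ j ∈ J := by
      rw [Finset.mem_insert, castSucc_mem_image_iff]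
      constructor
      · rintro (h | h)
        · exact absurd h (Fin.castSucc_ne_last j)
        · exact h
      · exact Or.inr
    by_cases hj : j ∈ J
    · rw [if_pos hj, if_pos (this.mpr hj)]
    · rw [if_neg hj, if_neg (fun h => hj (this.mp h))]

/-- splitting an alternating sum over subsets of `Fin (r+1)` according to whether `last` belongs -/
theorem sum_split_last (H : (Fin (r + 1) → ℕ) → ℤ) :
    ∑ I : Finset (Fin (r + 1)), (-1 : ℤ) ^ I.card * H (ind I) =
      ∑ J : Finset (Fin r), (-1 : ℤ) ^ J.card *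
        (H (Fin.snoc (ind J) 0) - H (Fin.snoc (ind J) 1)) := by
  classical
  rw [← Finset.powerset_univ, univ_eq_insert_last,
    Finset.sum_powerset_insert (last_notMem_image_castSucc _), Finset.powerset_image,
    Finset.sum_image (fun a _ b _ h => Finset.image_injective (Fin.castSucc_injective _) h),
    Finset.sum_image (fun a _ b _ h => Finset.image_injective (Fin.castSucc_injective _) h),
    Finset.powerset_univ, ← Finset.sum_add_distrib]
  apply Finset.sum_congr rfl
  intro J _
  rw [ind_image_castSucc, ind_insert_last,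
    Finset.card_insert_of_notMem (last_notMem_image_castSucc J),
    Finset.card_image_of_injective _ (Fin.castSucc_injective _)]
  ring

end Comb

section Chi

variable (k : Type u) [Field k] (X : Scheme.{u}) [X.Over (Spec (CommRingCat.of k))]

theorem chi_snoc_zero (F : X.Modules) (r : ℕ) (A : X.Modules) (M : Fin r → X.Modules)
    (m : Fin r → ℕ) :
    chi k X F (r + 1) (Fin.snoc M A) (Fin.snoc m 0) = chi k X F r M m := by
  show Curv2.euler k X (CohB1.tensorMod
      (Curv2.tensorPows F r (fun i => (Fin.snoc M A : Fin (r + 1) → X.Modules) i.castSucc)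
        (fun i => (Fin.snoc m 0 : Fin (r + 1) → ℕ) i.castSucc))
      (CohB1.tensorPow ((Fin.snoc M A : Fin (r + 1) → X.Modules) (Fin.last r))
        ((Fin.snoc m 0 : Fin (r + 1) → ℕ) (Fin.last r)))) = _
  simp only [Fin.snoc_castSucc, Fin.snoc_last]
  exact Groth.Agent.Lib.Lead.CurveEuler.euler_eq_of_iso k X (rightUnitor _)

theorem chi_snoc_one (F : X.Modules) (r : ℕ) (A : X.Modules) (M : Fin r → X.Modules)
    (m : Fin r → ℕ) :
    chi k X F (r + 1) (Fin.snoc M A) (Fin.snoc m 1) = chi k X (CohB1.tensorMod F A) r M m := by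
  show Curv2.euler k X (CohB1.tensorMod
      (Curv2.tensorPows F r (fun i => (Fin.snoc M A : Fin (r + 1) → X.Modules) i.castSucc)
        (fun i => (Fin.snoc m 1 : Fin (r + 1) → ℕ) i.castSucc))
      (CohB1.tensorPow ((Fin.snoc M A : Fin (r + 1) → X.Modules) (Fin.last r))
        ((Fin.snoc m 1 : Fin (r + 1) → ℕ) (Fin.last r)))) =
    Curv2.euler k X (Curv2.tensorPows (CohB1.tensorMod F A) r M m)
  rw [Groth.Agent.Lib.Lead.CurveEuler.euler_eq_of_iso k X (tensorPowsTensor F A r M m)]
  simp only [Fin.snoc_castSucc, Fin.snoc_last]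
  exact Groth.Agent.Lib.Lead.CurveEuler.euler_eq_of_iso k X
    (tensorIso (Iso.refl _) (tensorPowOne A))

end Chi

section IntNum

variable (k : Type u) [Field k] (X : Scheme.{u}) [X.Over (Spec (CommRingCat.of k))]
  [IsProper (X ↘ Spec (CommRingCat.of k))]

/-- `∫ c(M_1) ⋯ c(M_r) c(A) F = ∫ c(M) F − ∫ c(M) (F ⊗ A)` -/
theorem intNum_snoc (d : ℕ) (hd : topologicalKrullDim X ≤ d) {r : ℕ} (A : X.Modules)
    (M : Fin r → X.Modules) (F : X.Modules) :
    FGA.intNum k X d (Fin.snoc M A : Fin (r + 1) → X.Modules) F =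
      FGA.intNum k X d M F - FGA.intNum k X d M (CohB1.tensorMod F A) := by
  rw [intNum_eq k X d hd, intNum_eq k X d hd, intNum_eq k X d hd, sum_split_last,
    ← Finset.sum_sub_distrib]
  apply Finset.sum_congr rfl
  intro J _
  rw [chi_snoc_zero, chi_snoc_one]
  ring

/-- additivity of the intersection symbol on short exact sequences -/
theorem intNum_additive (d : ℕ) (hd : topologicalKrullDim X ≤ d) {r : ℕ}
    (M : Fin r → X.Modules) (hM : ∀ i, PicF.IsInvertible (M i))
    (S : ShortComplex X.Modules) (hS : S.ShortExact)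
    (h₁ : Coh.IsCoh S.X₁) (h₃ : Coh.IsCoh S.X₃) :
    FGA.intNum k X d M S.X₂ = FGA.intNum k X d M S.X₁ + FGA.intNum k X d M S.X₃ := by
  rw [intNum_eq k X d hd, intNum_eq k X d hd, intNum_eq k X d hd, ← Finset.sum_add_distrib]
  apply Finset.sum_congr rfl
  intro I _
  rw [chi_additive k X S hS h₁ h₃ r M hM]
  ring

end IntNum

section SES

variable {X : Scheme.{u}}

open Groth.Agent.Lib.Helper21.TensorAdj Groth.Agent.Lib.Helper21.TensorMon in
/-- `− ⊗ G` preserves a short exact sequence as soon as it preserves the monomorphism -/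
theorem shortExact_tensor_of_mono (S : ShortComplex X.Modules) (hS : S.ShortExact)
    (G : X.Modules) (hm : Mono (tensorMap S.f (𝟙 G))) :
    ∃ w, (ShortComplex.mk (tensorMap S.f (𝟙 G)) (tensorMap S.g (𝟙 G)) w).ShortExact := by
  haveI := Groth.Agent.Lib.Helper21.FlatSES.additive_tens (O := X.sheaf) G
  let S' : ShortComplex (ModSite.Mod X.sheaf) := S
  have h := Groth.Agent.Lib.Helper18.DegCalc.shortExact_map_tens_of_mono (O := X.sheaf) S' hS G hm
  exact ⟨(S'.map (tens X.sheaf G)).zero, h⟩

/-- `0 → I_D ⊗ F → O ⊗ F → O_D ⊗ F → 0` -/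
theorem shortExact_tensor_idealSeq (F : X.Modules) (D : X.IdealSheafData)
    [F.IsQuasicoherent] [(ClSub.idealMod D).IsQuasicoherent]
    (hD : BlowUp.IsEffCartierIdeal D)
    (hass : ∀ x ∈ D.support, ¬ Curv2.IsAssPoint F x) :
    ∃ w, (ShortComplex.mk (tensorMap (ClSub.idealModι D) (𝟙 F))
      (tensorMap (ClSub.toSubscheme D) (𝟙 F)) w).ShortExact := by
  have hm : Mono (tensorMap (ClSub.idealModι D) (𝟙 F)) := by
    haveI := Groth.Agent.Lib.helper7.TensorReg.mono_tensorMap_idealModι F D hD hass
    have h := Groth.Agent.Lib.helper9.CurveHopf.braid_naturality (ClSub.idealModι D) (𝟙 F)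
    have h2 : tensorMap (ClSub.idealModι D) (𝟙 F) =
        (braid _ _).hom ≫ tensorMap (𝟙 F) (ClSub.idealModι D) ≫ (braid _ _).inv := by
      rw [← Category.assoc, ← h, Category.assoc, Iso.hom_inv_id, Category.comp_id]
    rw [h2]
    infer_instance
  exact shortExact_tensor_of_mono (Groth.Agent.Lib.helper7.IdealMod.idealSeq D)
    (Groth.Agent.Lib.helper7.IdealMod.idealSeq_shortExact D) F hm

end SES

section Main

variable (k : Type u) [Field k] (X : Scheme.{u}) [X.Over (Spec (CommRingCat.of k))]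
  [IsProper (X ↘ Spec (CommRingCat.of k))]

/-- **S14522** -/
theorem intNum_snoc_idealMod (d : ℕ) (hd : topologicalKrullDim X ≤ d) {r : ℕ}
    (M : Fin r → X.Modules) (hM : ∀ i, PicF.IsInvertible (M i))
    (F : X.Modules) (hF : Coh.IsCoh F)
    (D : X.IdealSheafData) (hD : BlowUp.IsEffCartierIdeal D)
    (hass : ∀ x ∈ D.support, ¬ Curv2.IsAssPoint F x) :
    FGA.intNum k X d (Fin.snoc M (ClSub.idealMod D)) F =
      FGA.intNum k X d M (CohB1.tensorMod F (ClSub.quotMod D)) := by
  haveI := Groth.Agent.Lib.Lead.CurveEuler.isNoetherian k X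
  have hO : Coh.IsCoh (Coh.structureModule X) :=
    Groth.Agent.Lib.helper8.Dev.isCoh_structureModule X
  have hQ : Coh.IsCoh (ClSub.quotMod D) := isCoh_quotMod D
  have hI : Coh.IsCoh (ClSub.idealMod D) :=
    Groth.Agent.Lib.helper7.CohKer.isCoh_kernel hO hQ (ClSub.toSubscheme D)
  haveI : F.IsQuasicoherent := hF.1
  haveI : (ClSub.idealMod D).IsQuasicoherent := hI.1
  obtain ⟨w, hS⟩ := shortExact_tensor_idealSeq F D hD hass
  have hadd := intNum_additive k X d hd M hM _ hS
    (Groth.Agent.Lib.Helper18.DegCalc.isCoh_tensorMod hI hF)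
    (Groth.Agent.Lib.Helper18.DegCalc.isCoh_tensorMod hQ hF)
  change FGA.intNum k X d M (CohB1.tensorMod (Coh.structureModule X) F) =
    FGA.intNum k X d M (CohB1.tensorMod (ClSub.idealMod D) F) +
      FGA.intNum k X d M (CohB1.tensorMod (ClSub.quotMod D) F) at hadd
  rw [intNum_iso k X d hd M (leftUnitor F), intNum_iso k X d hd M (braid (ClSub.idealMod D) F),
    intNum_iso k X d hd M (braid (ClSub.quotMod D) F)] at hadd
  rw [intNum_snoc k X d hd, hadd]
  ring

end Main

end Groth.Agent.Lib.helper7.SnapperCartier2
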