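import Groth.Agent.Lib.Helper7.ThickAff4

set_option autoImplicit false
universe u
open CategoryTheory CategoryTheory.Limits AlgebraicGeometry TopologicalSpace Opposite

namespace Groth.Agent.Lib.helper7.ThickAff

variable {X X' : Scheme.{u}} (t : X ⟶ X') [IsClosedImmersion t]

theorem exists_affine_nhd_basicOpen [IsAffine X] (ht : Function.Surjective t) (x' : X') :
    ∃ (W' : X'.affineOpens) (g : Γ(X, ⊤)), x' ∈ W'.1 ∧ t ⁻¹ᵁ W'.1 = X.basicOpen g := by
  obtain ⟨x, rfl⟩ := ht x'
  obtain ⟨W₁, hx⟩ := KerSections.exists_affine_mem (t x)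
  obtain ⟨_, ⟨_, ⟨g, rfl⟩, rfl⟩, hxg, hgle⟩ := (isBasis_basicOpen X).exists_subset_of_mem_open
    (show x ∈ ((t ⁻¹ᵁ W₁.1 : X.Opens) : Set X) from hx) (t ⁻¹ᵁ W₁.1).2
  obtain ⟨h, hh⟩ := t.app_surjective W₁.1 W₁.2 (X.presheaf.map (homOfLE le_top).op g)
  have key : t ⁻¹ᵁ X'.basicOpen h = X.basicOpen g := by
    rw [Scheme.preimage_basicOpen]
    have : (t.app W₁.1).hom h = X.presheaf.map (homOfLE le_top).op g := hh
    rw [this, Scheme.basicOpen_res]
    exact inf_eq_right.mpr hgle
  refine ⟨⟨X'.basicOpen h, W₁.2.basicOpen h⟩, g, ?_, key⟩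
  show x ∈ t ⁻¹ᵁ X'.basicOpen h
  rw [key]
  exact hxg

omit [IsClosedImmersion t] in
theorem compactSpace_of_surjective [IsAffine X] (ht : Function.Surjective t) : CompactSpace X' := by
  constructor
  rw [← Set.range_eq_univ.mpr ht]
  exact isCompact_range t.continuous

theorem quasiSeparatedSpace_of_surjective [IsAffine X] (ht : Function.Surjective t) :
    QuasiSeparatedSpace X' := by
  let e : X ≃ₜ X' := t.isClosedEmbedding.isEmbedding.toHomeomorphOfSurjective ht
  exact QuasiSeparatedSpace.of_isOpenEmbedding e.symm.isOpenEmbedding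

theorem isNilpotent_of_mem_ker (ht : Function.Surjective t) (U : X'.affineOpens)
    (a : Γ(X', U.1)) (ha : a ∈ t.ker.ideal U) : IsNilpotent a := by
  rw [Scheme.isNilpotent_iff_basicOpen_eq_bot_of_isCompact U.2.isCompact, eq_bot_iff]
  intro x' hx'
  obtain ⟨x, rfl⟩ := ht x'
  have h1 : x ∈ t ⁻¹ᵁ X'.basicOpen a := hx'
  rw [Scheme.preimage_basicOpen] at h1
  rw [Scheme.Hom.ker_apply, RingHom.mem_ker] at ha
  have h2 : (t.app U.1).hom a = 0 := ha
  rw [h2, Scheme.basicOpen_zero] at h1
  exact h1.elim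

/-- **A scheme receiving a surjective closed immersion from an affine scheme is affine.** -/
theorem isAffine_of_thickening [IsAffine X] (ht : Function.Surjective t) : IsAffine X' := by
  classical
  have := compactSpace_of_surjective t ht
  have := quasiSeparatedSpace_of_surjective t ht
  choose W g hxW hWg using exists_affine_nhd_basicOpen t ht
  obtain ⟨s, hs⟩ := CompactSpace.elim_nhds_subcover (fun x' => ((W x').1 : Set X'))
    (fun x' => (W x').1.2.mem_nhds (hxW x'))
  have hcov : ⨆ k : s, (W k.1).1 = ⊤ := by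
    rw [eq_top_iff]
    intro x _
    have : x ∈ ⋃ y ∈ s, ((W y).1 : Set X') := by rw [hs]; trivial
    obtain ⟨y, hy, hxy⟩ := Set.mem_iUnion₂.mp this
    exact Opens.mem_iSup.mpr ⟨⟨y, hy⟩, hxy⟩
  -- the `g k` generate the unit ideal
  have hspan : Ideal.span (Set.range fun k : s => g k.1) = ⊤ := by
    rw [← (isAffineOpen_top X).self_le_iSup_basicOpen_iff]
    intro x _
    have : t x ∈ (⊤ : X'.Opens) := trivial
    rw [← hcov] at this
    obtain ⟨k, hk⟩ := Opens.mem_iSup.mp this
    have hk' : x ∈ t ⁻¹ᵁ (W k.1).1 := hk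
    rw [hWg] at hk'
    exact Opens.mem_iSup.mpr ⟨⟨g k.1, k, rfl⟩, hk'⟩
  obtain ⟨a, ha⟩ := (Ideal.mem_span_range_iff_exists_fun (R := Γ(X, ⊤))).mp
    (hspan ▸ Submodule.mem_top : (1 : Γ(X, ⊤)) ∈ Ideal.span (Set.range fun k : s => g k.1))
  -- lift `g k` and `a k` modulo a finite type ideal
  obtain ⟨G, hGN, hGft, hG⟩ := exists_ideal_lift_family t (fun k : s => W k.1) hcov
    (Sum.elim (fun k : s => g k.1) a)
  obtain ⟨m, hm⟩ := exists_pow_eq_bot G hGft
    (fun U b hb => isNilpotent_of_mem_ker t ht U b (hGN U hb))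
  have hker : G.subschemeι.ker = G := G.ker_subschemeι
  let u : X ⟶ G.subscheme := IsClosedImmersion.lift G.subschemeι t (by rw [hker]; exact hGN)
  have hu : u ≫ G.subschemeι = t := IsClosedImmersion.lift_fac _ _ _
  have hlift := hG G.subschemeι u hu hker.ge
  choose g' hg' using fun k : s => hlift (Sum.inl k)
  choose a' ha' using fun k : s => hlift (Sum.inr k)
  have husurj : Function.Surjective u := by
    intro y
    obtain ⟨x, hx⟩ := ht (G.subschemeι y)
    refine ⟨x, G.subschemeι.isClosedEmbedding.injective ?_⟩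
    rw [← hx, ← hu]
    rfl
  have hYc : CompactSpace G.subscheme := by
    constructor
    rw [← Set.range_eq_univ.mpr husurj]
    exact isCompact_range u.continuous
  -- `G.subscheme` is affine
  have hY : IsAffine G.subscheme := by
    refine isAffine_of_isAffineOpen_basicOpen (Set.range g') ?_ ?_
    · -- `∑ a' k * g' k` is a unit
      have h1 : u.appTop.hom (∑ k, a' k * g' k - 1) = 0 := by
        rw [map_sub, map_sum, map_one]
        simp only [map_mul, hg', ha', Sum.elim_inl, Sum.elim_inr]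
        rw [ha, sub_self]
      have h2 : IsNilpotent (∑ k, a' k * g' k - 1) := by
        rw [Scheme.isNilpotent_iff_basicOpen_eq_bot, eq_bot_iff]
        intro y hy
        obtain ⟨x, rfl⟩ := husurj y
        have h3 : x ∈ u ⁻¹ᵁ (G.subscheme).basicOpen (∑ k, a' k * g' k - 1) := hy
        rw [Scheme.preimage_basicOpen] at h3
        have h4 : (u.app ⊤).hom (∑ k, a' k * g' k - 1) = 0 := h1
        rw [h4, Scheme.basicOpen_zero] at h3
        exact h3.elim
      have h5 : IsUnit (∑ k, a' k * g' k) := by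
        have := h2.isUnit_add_one
        rwa [sub_add_cancel] at this
      rw [Ideal.eq_top_iff_one]
      obtain ⟨v, hv⟩ := h5.exists_right_inv
      rw [← hv, Finset.sum_mul]
      refine Ideal.sum_mem _ (fun k _ => ?_)
      rw [mul_comm (a' k), mul_assoc]
      exact Ideal.mul_mem_right _ _ (Ideal.subset_span ⟨k, rfl⟩)
    · rintro _ ⟨k, rfl⟩
      have h6 : (G.subscheme).basicOpen (g' k) = G.subschemeι ⁻¹ᵁ (W k.1).1 := by
        ext y
        obtain ⟨x, rfl⟩ := husurj y
        have e1 : u x ∈ (G.subscheme).basicOpen (g' k) ↔ x ∈ X.basicOpen (g k.1) := by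
          have : x ∈ u ⁻¹ᵁ (G.subscheme).basicOpen (g' k) ↔ x ∈ X.basicOpen (g k.1) := by
            rw [Scheme.preimage_basicOpen]
            have : (u.app ⊤).hom (g' k) = g k.1 := hg' k
            rw [this]
            exact Iff.rfl
          exact this
        have e2 : u x ∈ G.subschemeι ⁻¹ᵁ (W k.1).1 ↔ x ∈ X.basicOpen (g k.1) := by
          rw [← hWg k.1]
          show G.subschemeι (u x) ∈ (W k.1).1 ↔ t x ∈ (W k.1).1
          rw [← hu]
          rfl
        exact e1.trans e2.symm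
      rw [h6]
      exact (W k.1).2.preimage G.subschemeι
  exact isAffine_of_ker_pow_eq_bot G.subschemeι m (by rw [hker]; exact hm)

end Groth.Agent.Lib.helper7.ThickAff

namespace Groth.Agent.Lib.helper7.ThickAff

theorem isIntegral_of_nil {B' B A' A : Type*} [CommRing B'] [CommRing B] [CommRing A'] [CommRing A]
    (φ' : B' →+* A') (φ : B →+* A) (πB : B' →+* B) (πA : A' →+* A)
    (hcomm : πA.comp φ' = φ.comp πB) (hπB : Function.Surjective πB)
    (hnil : ∀ a ∈ RingHom.ker πA, IsNilpotent a) (hφ : φ.IsIntegral) : φ'.IsIntegral := by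
  intro a'
  obtain ⟨p, hp, hroot⟩ := hφ (πA a')
  obtain ⟨q, hq, -, hqm⟩ := Polynomial.lifts_and_natDegree_eq_and_monic
    ((Polynomial.mem_lifts p).mpr (Polynomial.map_surjective πB hπB p)) hp
  have h1 : πA (Polynomial.eval₂ φ' a' q) = 0 := by
    rw [Polynomial.hom_eval₂, hcomm, ← Polynomial.eval₂_map, hq]
    exact hroot
  obtain ⟨m, hm⟩ := hnil _ h1
  refine ⟨q ^ m, hqm.pow m, ?_⟩
  rw [Polynomial.eval₂_pow, hm]

end Groth.Agent.Lib.helper7.ThickAff
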