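import Groth.Prelude.Def_CohTop
import Mathlib.Topology.Sheaves.AddCommGrpCat
import Mathlib.Topology.Sheaves.LocallySurjective
import Mathlib.Algebra.Homology.ShortComplex.ShortExact

/-!
# Short exact sequences of abelian sheaves on a space from sectionwise data (helper7)

* `mono_of_injective_app`, `app_injective_of_mono`, `isIso_of_bijective_app`,
  `exists_kernel_section`, `epi_of_locally_surjective`, `shortExact_of_sections`.
-/

set_option autoImplicit false
universe u
open CategoryTheory CategoryTheory.Limits TopologicalSpace Opposite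

namespace Groth.Agent.Lib.helper7.AbSheafExact

variable {T : TopCat.{u}}

theorem mono_of_injective_app {F G : CohTop.Ab T} (f : F ⟶ G)
    (h : ∀ U : Opens T, Function.Injective (f.hom.app (op U))) : Mono f := by
  have : ∀ U : (Opens T)ᵒᵖ, Mono (f.hom.app U) := fun U =>
    (AddCommGrpCat.mono_iff_injective _).mpr (h U.unop)
  have : Mono f.hom := NatTrans.mono_of_mono_app f.hom
  exact Sheaf.Hom.mono_of_presheaf_mono _ _ f

theorem app_injective_of_mono {F G : CohTop.Ab T} (f : F ⟶ G) [Mono f] (U : Opens T) :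
    Function.Injective (f.hom.app (op U)) := by
  have : Mono f.hom := (Sheaf.Hom.mono_iff_presheaf_mono _ _ f).mp inferInstance
  have : Mono (f.hom.app (op U)) := inferInstance
  exact (AddCommGrpCat.mono_iff_injective _).mp this

theorem isIso_of_bijective_app {F G : CohTop.Ab T} (f : F ⟶ G)
    (h : ∀ U : Opens T, Function.Bijective (f.hom.app (op U))) : IsIso f := by
  have : ∀ U : (Opens T)ᵒᵖ, IsIso (f.hom.app U) := fun U =>
    (ConcreteCategory.isIso_iff_bijective _).mpr (h U.unop)
  have : IsIso f.hom := NatIso.isIso_of_isIso_app f.hom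
  have : IsIso ((sheafToPresheaf (Opens.grothendieckTopology T) AddCommGrpCat.{u}).map f) := this
  exact isIso_of_reflects_iso f (sheafToPresheaf _ _)

/-- sections of the kernel: every section killed by `g` comes from the kernel -/
theorem exists_kernel_section {F G : CohTop.Ab T} (g : F ⟶ G) (U : Opens T)
    (s : F.obj.obj (op U)) (h : g.hom.app (op U) s = 0) :
    ∃ t : (kernel g).obj.obj (op U), (kernel.ι g).hom.app (op U) t = s := by
  let S : ShortComplex (TopCat.Sheaf AddCommGrpCat.{u} T) :=
    ShortComplex.mk (kernel.ι g) g (kernel.condition g)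
  have hS : S.Exact := ShortComplex.exact_of_f_is_kernel _ (kernelIsKernel g)
  have hm : Mono S.f := inferInstanceAs (Mono (kernel.ι g))
  exact TopCat.Sheaf.sections_exact_of_left_exact (S := S) hS hm s h

theorem epi_of_locally_surjective {F G : CohTop.Ab T} (g : F ⟶ G)
    (h : ∀ (U : Opens T) (s : G.obj.obj (op U)) (x : T), x ∈ U →
      ∃ (W : Opens T) (hW : W ≤ U), x ∈ W ∧
        ∃ t : F.obj.obj (op W), g.hom.app (op W) t = G.obj.map (homOfLE hW).op s) : Epi g := by
  have h3 : TopCat.Presheaf.IsLocallySurjective (X := T) (C := AddCommGrpCat.{u}) g.hom := by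
    rw [TopCat.Presheaf.isLocallySurjective_iff]
    intro U s x hx
    obtain ⟨W, hW, hxW, t, ht⟩ := h U s x hx
    exact ⟨W, hW, ⟨t, ht⟩, hxW⟩
  exact (TopCat.Sheaf.isLocallySurjective_iff_epi (C := AddCommGrpCat.{u}) (X := T) g).mp h3

theorem shortExact_of_sections (S : ShortComplex (CohTop.Ab T))
    (hinj : ∀ U : Opens T, Function.Injective (S.f.hom.app (op U)))
    (hex : ∀ (U : Opens T) (s : S.X₂.obj.obj (op U)), S.g.hom.app (op U) s = 0 →
      ∃ t, S.f.hom.app (op U) t = s)
    (hsurj : ∀ (U : Opens T) (s : S.X₃.obj.obj (op U)) (x : T), x ∈ U →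
      ∃ (W : Opens T) (hW : W ≤ U), x ∈ W ∧
        ∃ t : S.X₂.obj.obj (op W), S.g.hom.app (op W) t = S.X₃.obj.map (homOfLE hW).op s) :
    S.ShortExact := by
  have hmono : Mono S.f := mono_of_injective_app S.f hinj
  have hepi : Epi S.g := epi_of_locally_surjective S.g hsurj
  let k : S.X₁ ⟶ kernel S.g := kernel.lift S.g S.f S.zero
  have hk : k ≫ kernel.ι S.g = S.f := kernel.lift_ι _ _ _
  have hkapp : ∀ (U : Opens T) (t : S.X₁.obj.obj (op U)),
      (kernel.ι S.g).hom.app (op U) (k.hom.app (op U) t) = S.f.hom.app (op U) t := by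
    intro U t
    rw [← hk]
    rfl
  have hiso : IsIso k := by
    refine isIso_of_bijective_app k (fun U => ⟨?_, ?_⟩)
    · intro a b hab
      apply hinj U
      rw [← hkapp, ← hkapp, hab]
    · intro z
      have hz : S.g.hom.app (op U) ((kernel.ι S.g).hom.app (op U) z) = 0 := by
        have := congrArg (fun φ : kernel S.g ⟶ S.X₃ => φ.hom.app (op U) z) (kernel.condition S.g)
        exact this
      obtain ⟨t, ht⟩ := hex U _ hz
      refine ⟨t, ?_⟩
      apply app_injective_of_mono (kernel.ι S.g) U
      rw [hkapp, ht]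
  have hlim : IsLimit (KernelFork.ofι S.f S.zero) :=
    IsLimit.ofIsoLimit (kernelIsKernel S.g) (Fork.ext (asIso k).symm (by
      change inv k ≫ S.f = kernel.ι S.g
      rw [IsIso.inv_comp_eq, hk]))
  exact { exact := ShortComplex.exact_of_f_is_kernel S hlim, mono_f := hmono, epi_g := hepi }

end Groth.Agent.Lib.helper7.AbSheafExact
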