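import Groth.Agent.Lib.Helper7.ThickAff1
import Groth.Agent.Lib.Helper7.CohKer
import Groth.Agent.Lib.Helper7.KerSections
import Groth.Agent.Lib.Helper7.QCohPushQC
import Groth.Agent.Lib.Helper18.HHConseq
import Groth.Agent.S0007
import Groth.Agent.S0009
import Groth.Agent.S0012

/-!
# Thickenings of affine schemes II: nilpotent thickenings (helper7)

`i : Y ⟶ X` a closed immersion with nilpotent kernel ideal sheaf and `Y` affine ⟹ `X` affine.
Proof by Serre's criterion: every quasi-coherent `F` on `X` has a finite filtration whose graded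
pieces are push-forwards from `Y`.
-/

set_option autoImplicit false
universe u
open CategoryTheory CategoryTheory.Limits AlgebraicGeometry TopologicalSpace

namespace Groth.Agent.Lib.helper7.ThickAff

open Groth.Agent.Lib.helper8.PullbackUnit Groth.Agent.Lib.helper8.ClosedImmUnit
open Scheme.Modules

variable {Y X : Scheme.{u}} (i : Y ⟶ X)

/-- the unit `F ⟶ i_* i^* F` -/
noncomputable abbrev un (F : X.Modules) : F ⟶ (pushforward i).obj ((Scheme.Modules.pullback i).obj F) :=
  (pullbackPushforwardAdjunction i).unit.app F

theorem un_app_surjective [IsClosedImmersion i] (F : X.Modules) [F.IsQuasicoherent]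
    {U : X.Opens} (hU : IsAffineOpen U) : Function.Surjective ((un i F).app U).hom := by
  have hV : IsAffineOpen (i ⁻¹ᵁ U) := hU.preimage i
  have hbc := isBC_ρ i hU hV le_rfl F
  have hsurj : Function.Surjective (i.appLE U (i ⁻¹ᵁ U) le_rfl).hom := by
    rw [Scheme.Hom.appLE_eq_app]
    exact i.app_surjective U hU
  have h1 := IsBC.surjective_of_surjective hbc hsurj
  intro b
  obtain ⟨a, ha⟩ := h1 b
  exact ⟨a, (ρ_self_apply i F U a).symm.trans ha⟩

theorem un_app_ker [IsClosedImmersion i] (F : X.Modules) [F.IsQuasicoherent]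
    {U : X.Opens} (hU : IsAffineOpen U) (s : Γ(F, U)) (hs : ((un i F).app U).hom s = 0) :
    s ∈ (RingHom.ker (i.app U).hom) • (⊤ : Submodule Γ(X, U) Γ(F, U)) := by
  have hV : IsAffineOpen (i ⁻¹ᵁ U) := hU.preimage i
  have hbc := isBC_ρ i hU hV le_rfl F
  have hsurj : Function.Surjective (i.appLE U (i ⁻¹ᵁ U) le_rfl).hom := by
    rw [Scheme.Hom.appLE_eq_app]
    exact i.app_surjective U hU
  have h1 := IsBC.mem_smul_top_of_map_eq_zero hbc hsurj s ((ρ_self_apply i F U s).trans hs)
  rwa [Scheme.Hom.appLE_eq_app] at h1

/-- `J F = 0`, tested on affine opens. -/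
def KilledBy (J : X.IdealSheafData) (F : X.Modules) : Prop :=
  ∀ (U : X.affineOpens) (a : Γ(X, U.1)), a ∈ J.ideal U → ∀ s : Γ(F, U.1), a • s = 0

theorem subsingleton_HH_of_iso {M N : X.Modules} (e : M ≅ N) (q : ℕ)
    (h : Subsingleton (Coh.HH X N q)) : Subsingleton (Coh.HH X M q) :=
  @Equiv.subsingleton _ _
    ((Groth.Agent.Lib.Helper18.HH.functor X q).mapIso e).toLinearEquiv.toEquiv h

/-- `H¹` of a push-forward from an affine scheme along a closed immersion vanishes -/
theorem subsingleton_H1_push [IsClosedImmersion i] [IsAffine Y] (M : Y.Modules)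
    [M.IsQuasicoherent] : Subsingleton (Coh.HH X ((pushforward i).obj M) 1) := by
  obtain ⟨e⟩ := Groth.Agent.S0012.result i M 1
  have := Groth.Agent.S0007.result Y M 1 one_pos
  exact e.symm.toEquiv.subsingleton

theorem KilledBy.mono {J J' : X.IdealSheafData} (h : J ≤ J') {F : X.Modules}
    (hF : KilledBy J' F) : KilledBy J F :=
  fun U a ha s => hF U a (h U ha) s

/-- the key induction: a quasi-coherent module killed by a power of the ideal of `i` has no `H¹` -/
theorem subsingleton_H1_of_killedBy [IsClosedImmersion i] [IsAffine Y] (n : ℕ) :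
    ∀ (F : X.Modules) [F.IsQuasicoherent], KilledBy (i.ker ^ (n + 1)) F →
      Subsingleton (Coh.HH X F 1) := by
  induction n with
  | zero =>
    intro F _ hF
    rw [zero_add, pow_one] at hF
    have hiso : IsIso (un i F) := (isIso_unit_iff_of_isClosedImmersion i F).mpr hF
    have : ((Scheme.Modules.pullback i).obj F).IsQuasicoherent :=
      Groth.Agent.Lib.helper16.QCohPullback.isQuasicoherent_pullback i F
    exact subsingleton_HH_of_iso (asIso (un i F)) 1 (subsingleton_H1_push i _)
  | succ n ih =>
    intro F _ hF
    have hqp : ((Scheme.Modules.pullback i).obj F).IsQuasicoherent :=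
      Groth.Agent.Lib.helper16.QCohPullback.isQuasicoherent_pullback i F
    have hq : ((pushforward i).obj ((Scheme.Modules.pullback i).obj F)).IsQuasicoherent :=
      Groth.Agent.Lib.helper7.QCohPushQC.isQuasicoherent_pushforward i _
    have hepi : Epi (un i F) :=
      Groth.Agent.Lib.helper7.KerSections.epi_of_surjective_affine (un i F)
        (fun U hU => un_app_surjective i F hU)
    have hK : (kernel (un i F)).IsQuasicoherent :=
      Groth.Agent.Lib.helper7.CohKer.isQuasicoherent_kernel (un i F)
    let S : ShortComplex X.Modules :=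
      ShortComplex.mk (kernel.ι (un i F)) (un i F) (kernel.condition _)
    have hS : S.ShortExact :=
      { exact := ShortComplex.exact_of_f_is_kernel _ (kernelIsKernel (un i F))
        mono_f := inferInstanceAs (Mono (kernel.ι (un i F)))
        epi_g := hepi }
    have h3 : Subsingleton (Coh.HH X S.X₃ 1) := subsingleton_H1_push i _
    have h1 : Subsingleton (Coh.HH X S.X₁ 1) := by
      refine ih (kernel (un i F)) ?_
      intro U a ha s
      apply Groth.Agent.Lib.helper7.KerSections.kernel_ι_app_injective (un i F) U.1
      rw [map_zero]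
      have hlin : ((kernel.ι (un i F)).app U.1).hom (a • s) =
          a • ((kernel.ι (un i F)).app U.1).hom s := Scheme.Modules.Hom.app_smul _ _ _
      rw [hlin]
      have hmem := un_app_ker i F U.2 _
        (Groth.Agent.Lib.helper7.KerSections.kernel_ι_app_comp (un i F) U.1 s)
      rw [← Scheme.Hom.ker_apply] at hmem
      rw [Scheme.IdealSheafData.ideal_pow, Pi.pow_apply] at ha
      refine Submodule.smul_induction_on hmem ?_ ?_
      · intro b hb m _
        rw [smul_smul]
        refine hF U (a * b) ?_ m
        rw [Scheme.IdealSheafData.ideal_pow, Pi.pow_apply, pow_succ]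
        exact Ideal.mul_mem_mul ha hb
      · intro x y hx hy
        rw [smul_add, hx, hy, add_zero]
    exact Groth.Agent.Lib.Helper18.HH.subsingleton_X₂ hS 1 h1 h3

theorem surjective_of_ker_pow_eq_bot [IsClosedImmersion i] (n : ℕ) (hn : i.ker ^ (n + 1) = ⊥) :
    Function.Surjective i := by
  have h1 : i.ker.support = ⊤ := by
    rw [← Scheme.IdealSheafData.support_pow_succ i.ker n, hn, Scheme.IdealSheafData.support_bot]
  have h2 := Scheme.Hom.support_ker i
  rw [h1] at h2
  have h3 : closure (Set.range i) = Set.range i := i.isClosedEmbedding.isClosed_range.closure_eq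
  rw [h3] at h2
  rw [← Set.range_eq_univ]
  exact h2.symm

/-- **Nilpotent thickening of an affine scheme is affine.** -/
theorem isAffine_of_ker_pow_eq_bot [IsClosedImmersion i] [IsAffine Y] (n : ℕ)
    (hn : i.ker ^ (n + 1) = ⊥) : IsAffine X := by
  have hs := surjective_of_ker_pow_eq_bot i n hn
  have : CompactSpace X := by
    constructor
    rw [← Set.range_eq_univ.mpr hs]
    exact isCompact_range i.continuous
  refine Groth.Agent.S0009.result X (fun I j _ hI => ?_)
  have : I.IsQuasicoherent := hI
  refine subsingleton_H1_of_killedBy i n I ?_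
  intro U a ha s
  rw [hn] at ha
  have : a = 0 := ha
  rw [this, zero_smul]

end Groth.Agent.Lib.helper7.ThickAff
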