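import Groth.Agent.Lib.Helper8.ClosedImmUnit

/-!
# Thickenings of affine schemes I: base change along a surjection (helper7)

`IsBC φ k` with `φ` surjective: `k` is surjective and its kernel is `(ker φ) • ⊤`.
-/

set_option autoImplicit false
universe u
open CategoryTheory AlgebraicGeometry

namespace Groth.Agent.Lib.helper7.ThickAff

open Groth.Agent.Lib.helper8.PullbackUnit

variable {R R' : Type u} [CommRing R] [CommRing R'] {φ : R →+* R'} {N P : Type u}
    [AddCommGroup N] [Module R N] [AddCommGroup P] [Module R' P] {k : N →+ P}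

theorem IsBC.surjective_of_surjective (hk : IsBC φ k) (hφ : Function.Surjective φ) :
    Function.Surjective k := by
  -- the image of `k` is an `R'`-submodule
  let S : Submodule R' P :=
    { carrier := Set.range k
      add_mem' := by
        rintro _ _ ⟨a, rfl⟩ ⟨b, rfl⟩
        exact ⟨a + b, map_add k a b⟩
      zero_mem' := ⟨0, map_zero k⟩
      smul_mem' := by
        rintro r' _ ⟨a, rfl⟩
        obtain ⟨r, rfl⟩ := hφ r'
        exact ⟨r • a, hk.map_smul r a⟩ }
  obtain ⟨h', -, hu⟩ := hk.existsUnique_lift (P ⧸ S) (0 : N →+ P ⧸ S) (by intro r n; simp)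
  have h1 : S.mkQ = h' := hu S.mkQ (by
    intro n
    show S.mkQ (k n) = 0
    rw [Submodule.mkQ_apply, Submodule.Quotient.mk_eq_zero]
    exact ⟨n, rfl⟩)
  have h2 : (0 : P →ₗ[R'] P ⧸ S) = h' := hu 0 (by intro n; rfl)
  have h3 : S.mkQ = 0 := h1.trans h2.symm
  intro p
  have : S.mkQ p = 0 := by rw [h3]; rfl
  rw [Submodule.mkQ_apply, Submodule.Quotient.mk_eq_zero] at this
  exact this

theorem IsBC.mem_smul_top_of_map_eq_zero (hk : IsBC φ k) (hφ : Function.Surjective φ) (n : N)
    (hn : k n = 0) : n ∈ (RingHom.ker φ) • (⊤ : Submodule R N) := by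
  let I := RingHom.ker φ
  let e : R' ≃+* R ⧸ I := (RingHom.quotientKerEquivOfSurjective hφ).symm
  let : Module R' (N ⧸ I • (⊤ : Submodule R N)) := Module.compHom _ e.toRingHom
  have he : ∀ r : R, e (φ r) = Ideal.Quotient.mk I r := by
    intro r
    apply (RingHom.quotientKerEquivOfSurjective hφ).injective
    rw [RingEquiv.apply_symm_apply]
    rfl
  let q : N →+ N ⧸ I • (⊤ : Submodule R N) := (Submodule.mkQ _).toAddMonoidHom
  have hq : ∀ (r : R) (m : N), q (r • m) = φ r • q m := by
    intro r m
    show (Submodule.Quotient.mk (r • m) : N ⧸ I • (⊤ : Submodule R N)) =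
      e (φ r) • (Submodule.Quotient.mk m : N ⧸ I • (⊤ : Submodule R N))
    rw [he]
    rfl
  obtain ⟨h', hh', -⟩ := hk.existsUnique_lift _ q hq
  have : q n = 0 := by rw [← hh' n, hn, map_zero]
  exact (Submodule.Quotient.mk_eq_zero _).mp this

end Groth.Agent.Lib.helper7.ThickAff
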