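import Mathlib.AlgebraicGeometry.Group.Smooth
import Mathlib.FieldTheory.Perfect

/-! Reduced group schemes l.f.t. over a perfect field are smooth. -/

set_option autoImplicit false
universe u
open CategoryTheory AlgebraicGeometry Limits

namespace Groth.Agent.Lib.helper7.GrpPerfect

variable {K : Type u} [Field K] {G : Scheme.{u}} (f : G ⟶ Spec (.of K))
    [LocallyOfFiniteType f] [GrpObj (Over.mk f)]

set_option backward.defeqAttrib.useBackward true in
set_option backward.isDefEq.respectTransparency false in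
open MonObj MonoidalCategory CartesianMonoidalCategory in
/-- group scheme l.f.t. over an algebraically closed field with nonempty smooth locus is smooth -/
lemma smooth_of_nonempty_smoothLocus [IsAlgClosed K]
    (hne : (f.smoothLocus : Set G).Nonempty) : Smooth f := by
  have := LocallyOfFiniteType.jacobsonSpace f
  have : Nonempty G := ⟨η[Over.mk f].1 (IsLocalRing.closedPoint _)⟩
  rw [← Scheme.Hom.smoothLocus_eq_top_iff, ← TopologicalSpace.Opens.coe_eq_univ,
    ← not_ne_iff, ← Set.nonempty_compl]
  intro H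
  obtain ⟨x, hx, hxc⟩ :=
    nonempty_inter_closedPoints H f.smoothLocus.2.isClosed_compl.isLocallyClosed
  obtain ⟨y, hy : y ∈ f.smoothLocus, hyc⟩ := nonempty_inter_closedPoints
    hne f.smoothLocus.2.isLocallyClosed
  let x' : 𝟙_ _ ⟶ Over.mk f := Over.homMk _ ((pointEquivClosedPoint f).symm ⟨x, hxc⟩).2
  let y' : 𝟙_ _ ⟶ Over.mk f := Over.homMk _ ((pointEquivClosedPoint f).symm ⟨y, hyc⟩).2
  let α := (GrpObj.mulRight (A := Over.mk f) x').symm ≪≫
    (GrpObj.mulRight (A := Over.mk f) y')
  have hα : x' ≫ α.hom = y' := by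
    dsimp only [Iso.trans_hom, Iso.symm_hom, α]
    rw [← Category.assoc, ← Iso.eq_comp_inv]
    simp [comp_lift_assoc]
  have hα' : α.hom.left x = y := by
    simpa [x', y', pointEquivClosedPoint] using congr(($hα).left (IsLocalRing.closedPoint K))
  rw! [← hα', ← α.hom.left.mem_preimage, Scheme.Hom.preimage_smoothLocus_eq,
    show α.hom.left ≫ f = f from α.hom.w] at hy
  exact hx hy

lemma smooth_smoothLocus_ι {X S : Scheme.{u}} (f : X ⟶ S) [LocallyOfFinitePresentation f] :
    Smooth (f.smoothLocus.ι ≫ f) := by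
  rw [← Scheme.Hom.smoothLocus_eq_top_iff, ← Scheme.Hom.preimage_smoothLocus_eq]
  simp

lemma mem_smoothLocus_of_smooth_ι {X S : Scheme.{u}} (f : X ⟶ S) [LocallyOfFinitePresentation f]
    (U : X.Opens) (hU : Smooth (U.ι ≫ f)) {x : X} (hx : x ∈ U) : x ∈ f.smoothLocus := by
  have h1 : U.ι ⁻¹ᵁ f.smoothLocus = ⊤ := by
    rw [Scheme.Hom.preimage_smoothLocus_eq, Scheme.Hom.smoothLocus_eq_top_iff]; exact hU
  have : (⟨x, hx⟩ : U) ∈ U.ι ⁻¹ᵁ f.smoothLocus := by rw [h1]; trivial
  exact this

/-- the smooth locus pulls back into the smooth locus of the base change -/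
lemma mem_smoothLocus_pullback {X S S' : Scheme.{u}} (f : X ⟶ S) (g : S' ⟶ S)
    [LocallyOfFinitePresentation f] (x' : (pullback f g : Scheme.{u}))
    (hx : (pullback.fst f g) x' ∈ f.smoothLocus) :
    x' ∈ (pullback.snd f g).smoothLocus := by
  set U := f.smoothLocus
  set U' := (pullback.fst f g) ⁻¹ᵁ U
  have hU : Smooth (U.ι ≫ f) := smooth_smoothLocus_ι f
  refine mem_smoothLocus_of_smooth_ι (pullback.snd f g) U' ?_ hx
  have h1 := isPullback_morphismRestrict (pullback.fst f g) U
  have h2 : IsPullback (pullback.fst f g) (pullback.snd f g) f g := IsPullback.of_hasPullback f g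
  have h3 := h1.paste_vert h2
  exact MorphismProperty.of_isPullback (P := @Smooth) h3 hU

open MonObj in
/-- a group scheme l.f.t. over a field with nonempty smooth locus is smooth -/
lemma smooth_of_nonempty_smoothLocus' (hne : (f.smoothLocus : Set G).Nonempty) : Smooth f := by
  let Ω : Type u := AlgebraicClosure K
  let g : Spec (.of Ω) ⟶ Spec (.of K) := Spec.map (CommRingCat.ofHom <| algebraMap K Ω)
  apply MorphismProperty.of_pullback_snd_of_descendsAlong
    (Q := @Surjective ⊓ @Flat ⊓ @QuasiCompact) (g := g)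
  · exact ⟨⟨inferInstance, inferInstance⟩, inferInstance⟩
  · let : GrpObj (Over.mk (Limits.pullback.snd f g)) := Over.grpObjMkPullbackSnd
    apply smooth_of_nonempty_smoothLocus
    obtain ⟨y, hy⟩ := hne
    obtain ⟨y', rfl⟩ := (pullback.fst f g).surjective y
    exact ⟨y', mem_smoothLocus_pullback f g y' hy⟩

open MonObj in
/-- a reduced group scheme l.f.t. over a perfect field is smooth -/
lemma smooth_of_perfectField_of_isReduced [PerfectField K] [IsReduced G] : Smooth f := by
  have : Nonempty G := ⟨η[Over.mk f].1 (IsLocalRing.closedPoint _)⟩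
  exact smooth_of_nonempty_smoothLocus' f f.dense_smoothLocus_of_perfectField.nonempty

end Groth.Agent.Lib.helper7.GrpPerfect
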