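import Groth.Agent.Lib.Helper7.IdealMod
import Groth.Agent.Lib.Helper7.LocalLift
import Groth.Prelude.Def_Pic
import Groth.Prelude.Def_BlowUp2

/-!
# Invertible ideal sheaves = effective Cartier ideals (helper7)

* `restrict_smul'`, `restrict_smul`, `structure_smul`: unfolding scalar multiplications.
* `effCartier_of_invertible`, `invertible_of_effCartier`, `isInvertible_idealMod_iff`:
  `ClSub.idealMod I` is invertible iff `I` is locally generated by a nonzerodivisor.
-/

set_option autoImplicit false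
set_option linter.style.haveILetI false
universe u
open CategoryTheory CategoryTheory.Limits AlgebraicGeometry TopologicalSpace Opposite
open Scheme.Modules Groth.Agent.Lib.helper7

namespace Groth.Agent.Lib.helper7.IdealCartier

variable {X : Scheme.{u}}

theorem restrict_smul' {Y : Scheme.{u}} (j : Y ⟶ X) [IsOpenImmersion j] (N : X.Modules)
    (W : Y.Opens) (r : Γ(Y, W)) (y : Γ(N.restrict j, W)) :
    r • y = (((j.appIso W).inv.hom r) • (show Γ(N, j ''ᵁ W) from y) : Γ(N, j ''ᵁ W)) := rfl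

theorem restrict_smul (V : X.Opens) (N : X.Modules) (W : (↑V : Scheme.{u}).Opens)
    (r : Γ((↑V : Scheme.{u}), W)) (y : Γ(N.restrict V.ι, W)) :
    r • y = ((show Γ(X, V.ι ''ᵁ W) from r) • (show Γ(N, V.ι ''ᵁ W) from y) : Γ(N, V.ι ''ᵁ W)) := by
  rw [restrict_smul']
  congr 1
  rw [Scheme.Opens.ι_appIso]
  rfl

theorem structure_smul (Y : Scheme.{u}) (W : Y.Opens) (r s : Γ(Y, W)) :
    (r • (show Γ(Coh.structureModule Y, W) from s) : Γ(Coh.structureModule Y, W)) = r * s := rfl

variable (I : X.IdealSheafData)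

theorem effCartier_of_invertible (h : PicF.IsInvertible (ClSub.idealMod I)) :
    BlowUp.IsEffCartierIdeal I := by
  intro x
  obtain ⟨V, hxV, ⟨e⟩⟩ := h x
  obtain ⟨W, hxW⟩ := KerSections.exists_affine_mem (X := (↑V : Scheme.{u})) ⟨x, hxV⟩
  let U' : X.affineOpens := ⟨V.ι ''ᵁ W.1, W.2.image_of_isOpenImmersion V.ι⟩
  refine ⟨U', ⟨⟨x, hxV⟩, hxW, rfl⟩, ?_⟩
  let M := (ClSub.idealMod I).restrict V.ι
  let O := Coh.structureModule (↑V : Scheme.{u})
  let one : Γ(O, W.1) := (1 : Γ((↑V : Scheme.{u}), W.1))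
  let g : Γ(M, W.1) := (e.inv.app W.1).hom one
  -- the inclusion of the sections of the ideal, with explicit types
  let ι : Γ(M, W.1) → Γ(X, U'.1) := fun t =>
    ((ClSub.idealModι I).app U'.1).hom (show Γ(ClSub.idealMod I, U'.1) from t)
  have hι_inj : Function.Injective ι := IdealMod.idealModι_app_injective I U'.1
  have hι_zero : ι 0 = 0 := map_zero ((ClSub.idealModι I).app U'.1).hom
  let f : Γ(X, U'.1) := ι g
  -- key: every section `t` of the ideal over `U'` is `a • g` with `a = e.hom t`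
  have key : ∀ t : Γ(M, W.1), ∃ a : Γ((↑V : Scheme.{u}), W.1), t = a • g := by
    intro t
    let a : Γ((↑V : Scheme.{u}), W.1) := (e.hom.app W.1).hom t
    refine ⟨a, ?_⟩
    have h1 : (e.inv.app W.1).hom ((e.hom.app W.1).hom t) = t := by
      rw [← ConcreteCategory.comp_apply, ← Scheme.Modules.Hom.comp_app, e.hom_inv_id]
      rfl
    have h2 : (e.hom.app W.1).hom t = a • one := by
      change _ = a * (1 : Γ((↑V : Scheme.{u}), W.1))
      rw [mul_one]
    rw [← Scheme.Modules.Hom.app_smul, ← h2, h1]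
  -- relation between the two scalar multiplications
  have hsm : ∀ (b : Γ((↑V : Scheme.{u}), W.1)) (t : Γ(M, W.1)),
      ι (b • t) = (show Γ(X, U'.1) from b) * ι t := by
    intro b t
    change ((ClSub.idealModι I).app U'.1).hom (show Γ(ClSub.idealMod I, U'.1) from (b • t)) = _
    rw [restrict_smul]
    exact IdealMod.idealModι_app_smul I U'.1 b _
  refine ⟨f, ?_, ?_⟩
  · rw [mem_nonZeroDivisors_iff_right]
    intro b hb
    let b' : Γ((↑V : Scheme.{u}), W.1) := b
    have h1 : (b' • g : Γ(M, W.1)) = 0 := by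
      apply hι_inj
      rw [hι_zero]
      exact (hsm b' g).trans hb
    have h2 := congrArg (e.hom.app W.1).hom h1
    rw [Scheme.Modules.Hom.app_smul, map_zero] at h2
    have h3 : (e.hom.app W.1).hom g = one := by
      change (e.hom.app W.1).hom ((e.inv.app W.1).hom one) = one
      rw [← ConcreteCategory.comp_apply, ← Scheme.Modules.Hom.comp_app, e.inv_hom_id]
      rfl
    rw [h3] at h2
    have h4 : b' * (1 : Γ((↑V : Scheme.{u}), W.1)) = 0 := h2
    rw [mul_one] at h4
    exact h4
  · apply le_antisymm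
    · intro s hs
      obtain ⟨t, ht⟩ := (IdealMod.mem_range_idealModι_iff_of_affine I U' s).mpr hs
      obtain ⟨a, hta⟩ := key (show Γ(M, W.1) from t)
      rw [Ideal.mem_span_singleton']
      refine ⟨(show Γ(X, U'.1) from a), ?_⟩
      have h5 : ι (show Γ(M, W.1) from t) = s := ht
      rw [← h5, hta]
      exact (hsm a g).symm
    · rw [Ideal.span_le, Set.singleton_subset_iff]
      exact IdealMod.idealModι_app_mem I U' _

theorem invertible_of_effCartier (h : BlowUp.IsEffCartierIdeal I) :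
    PicF.IsInvertible (ClSub.idealMod I) := by
  intro x
  obtain ⟨U, hxU, f, hf, hI⟩ := h x
  refine ⟨U.1, hxU, ?_⟩
  have eU : U.1.ι ''ᵁ ⊤ = U.1 := Scheme.Opens.ι_image_top U.1
  let U' : X.affineOpens := ⟨U.1.ι ''ᵁ ⊤, by rw [eU]; exact U.2⟩
  have hUU' : U' = U := Subtype.ext eU
  let P : X.affineOpens → Prop := fun U₀ =>
    ∃ f' : Γ(X, U₀.1), f' ∈ nonZeroDivisors Γ(X, U₀.1) ∧ I.ideal U₀ = Ideal.span {f'}
  have hP : P U' := hUU'.symm ▸ (⟨f, hf, hI⟩ : P U)
  obtain ⟨f', hf', hI'⟩ := hP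
  haveI : IsAffine (↑U.1 : Scheme.{u}) := U.2
  let M := (ClSub.idealMod I).restrict U.1.ι
  let O := Coh.structureModule (↑U.1 : Scheme.{u})
  have hmem : f' ∈ I.ideal U' := by rw [hI']; exact Ideal.mem_span_singleton_self f'
  let g₀ : Γ(M, ⊤) := (IdealMod.sectionsEquiv I U').symm ⟨f', hmem⟩
  let ι : Γ(M, ⊤) → Γ(X, U'.1) := fun t =>
    ((ClSub.idealModι I).app U'.1).hom (show Γ(ClSub.idealMod I, U'.1) from t)
  have hι_inj : Function.Injective ι := IdealMod.idealModι_app_injective I U'.1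
  have hι_zero : ι 0 = 0 := map_zero ((ClSub.idealModι I).app U'.1).hom
  have hιg : ι g₀ = f' := by
    have := IdealMod.sectionsEquiv_coe I U' ((IdealMod.sectionsEquiv I U').symm ⟨f', hmem⟩)
    rw [LinearEquiv.apply_symm_apply] at this
    exact this.symm
  have hsm : ∀ (b : Γ((↑U.1 : Scheme.{u}), ⊤)) (t : Γ(M, ⊤)),
      ι (b • t) = (show Γ(X, U'.1) from b) * ι t := by
    intro b t
    change ((ClSub.idealModι I).app U'.1).hom (show Γ(ClSub.idealMod I, U'.1) from (b • t)) = _
    rw [restrict_smul]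
    exact IdealMod.idealModι_app_smul I U'.1 b _
  let ψ : O ⟶ M := (SheafOfModules.unitHomEquiv (R := (↑U.1 : Scheme.{u}).ringCatSheaf) M).symm
    (LocalLift.secOfTop M g₀)
  have hψ : ∀ a : Γ((↑U.1 : Scheme.{u}), ⊤), (ψ.app ⊤).hom (show Γ(O, ⊤) from a) = a • g₀ := by
    intro a
    change a • (M.presheaf.map (homOfLE (le_top : (⊤ : (↑U.1 : Scheme.{u}).Opens) ≤ ⊤)).op g₀) = a • g₀
    rw [map_self]
  have hbij : Function.Bijective (ψ.app ⊤).hom := by
    constructor
    · rw [injective_iff_map_eq_zero]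
      intro a ha
      have h1 : (show Γ((↑U.1 : Scheme.{u}), ⊤) from a) • g₀ = 0 := (hψ a).symm.trans ha
      have h2 := congrArg ι h1
      rw [hsm, hι_zero, hιg] at h2
      exact (mem_nonZeroDivisors_iff_right.mp hf') _ h2
    · intro t
      have ht : ι t ∈ I.ideal U' := IdealMod.idealModι_app_mem I U' _
      rw [hI', Ideal.mem_span_singleton'] at ht
      obtain ⟨c, hc⟩ := ht
      refine ⟨(show Γ((↑U.1 : Scheme.{u}), ⊤) from c), ?_⟩
      refine (hψ _).trans ?_
      apply hι_inj
      rw [hsm, hιg]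
      exact hc
  haveI hMq : M.IsQuasicoherent := by
    change ((ClSub.idealMod I).restrict U.1.ι).IsQuasicoherent
    infer_instance
  haveI hOq : O.IsQuasicoherent := by
    change (Coh.structureModule (↑U.1 : Scheme.{u})).IsQuasicoherent
    infer_instance
  haveI := KerSections.isIso_of_bijective_top ψ hbij
  exact ⟨(asIso ψ).symm⟩


theorem isInvertible_idealMod_iff :
    PicF.IsInvertible (ClSub.idealMod I) ↔ BlowUp.IsEffCartierIdeal I :=
  ⟨effCartier_of_invertible I, invertible_of_effCartier I⟩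

end Groth.Agent.Lib.helper7.IdealCartier
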