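import Mathlib.AlgebraicGeometry.Modules.Sheaf
import Mathlib.Topology.Sheaves.SheafCondition.Sites

/-!
# Morphisms of `O_X`-modules from compatible maps on a basis (helper7)

`exists_hom_of_basis`: compatible additive, linear maps `Γ(M, B i) → Γ(N, B i)` on a basis of opens
glue to a unique morphism `M ⟶ N` of `O_X`-modules.
-/

set_option autoImplicit false
universe u
open CategoryTheory AlgebraicGeometry TopologicalSpace Opposite

namespace Groth.Agent.Lib.helper7.ModBasisHom

variable {X : Scheme.{u}} {M N : X.Modules} {ι : Type*} (B : ι → X.Opens)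
  (hB : Opens.IsBasis (Set.range B))

/-- the natural transformation on the basis -/
noncomputable def basisNatTrans (a : ∀ i, Γ(M, B i) →+ Γ(N, B i))
    (hnat : ∀ (i j : ι) (h : B j ≤ B i) (x : Γ(M, B i)),
      a j (M.presheaf.map (homOfLE h).op x) = N.presheaf.map (homOfLE h).op (a i x)) :
    (inducedFunctor B).op ⋙ M.presheaf ⟶ (inducedFunctor B).op ⋙ N.presheaf where
  app i := AddCommGrpCat.ofHom (a i.unop)
  naturality i j g := by
    ext x
    exact hnat i.unop j.unop (leOfHom ((inducedFunctor B).map g.unop)) x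

include hB in
theorem exists_hom_of_basis (a : ∀ i, Γ(M, B i) →+ Γ(N, B i))
    (hnat : ∀ (i j : ι) (h : B j ≤ B i) (x : Γ(M, B i)),
      a j (M.presheaf.map (homOfLE h).op x) = N.presheaf.map (homOfLE h).op (a i x))
    (hlin : ∀ (i : ι) (r : Γ(X, B i)) (x : Γ(M, B i)), a i (r • x) = r • a i x) :
    ∃ φ : M ⟶ N, ∀ (i : ι) (x : Γ(M, B i)), φ.app (B i) x = a i x := by
  let N' : TopCat.Sheaf Ab X := ⟨N.presheaf, N.isSheaf⟩
  let α : M.presheaf ⟶ N.presheaf :=
    TopCat.Sheaf.restrictHomEquivHom M.presheaf N' hB (basisNatTrans B a hnat)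
  have hα : ∀ (i : ι) (x : Γ(M, B i)), α.app (op (B i)) x = a i x := by
    intro i x
    have h1 := TopCat.Sheaf.extend_hom_app M.presheaf N' hB (basisNatTrans B a hnat) i
    exact congr($h1 x)
  have hαnat : ∀ {W W' : X.Opens} (h : W' ≤ W) (x : Γ(M, W)),
      α.app (op W') (M.presheaf.map (homOfLE h).op x) =
        N.presheaf.map (homOfLE h).op (α.app (op W) x) := by
    intro W W' h x
    exact congr($(α.naturality (homOfLE h).op) x)
  have hlinα : ∀ (W : X.Opens) (r : Γ(X, W)) (m : Γ(M, W)),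
      α.app (op W) (r • m) = r • (α.app (op W) m : Γ(N, W)) := by
    intro W r m
    refine TopCat.Presheaf.IsSheaf.section_ext N.isSheaf (fun p hp => ?_)
    obtain ⟨_, ⟨i, rfl⟩, hpi, hiW⟩ := Opens.isBasis_iff_nbhd.mp hB (show p ∈ W from hp)
    refine ⟨B i, hiW, hpi, ?_⟩
    have e1 := hαnat hiW (r • m)
    have e2 := hαnat hiW m
    have e3 : M.presheaf.map (homOfLE hiW).op (r • m) =
        (X.presheaf.map (homOfLE hiW).op r : Γ(X, B i)) • M.presheaf.map (homOfLE hiW).op m :=
      Scheme.Modules.map_smul M (homOfLE hiW) r m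
    have e4 : N.presheaf.map (homOfLE hiW).op (r • (α.app (op W) m : Γ(N, W))) =
        (X.presheaf.map (homOfLE hiW).op r : Γ(X, B i)) •
          N.presheaf.map (homOfLE hiW).op (α.app (op W) m : Γ(N, W)) :=
      Scheme.Modules.map_smul N (homOfLE hiW) r (α.app (op W) m)
    refine e1.symm.trans ?_
    rw [e3, hα, hlin, ← hα, e2]
    exact e4.symm
  refine ⟨⟨PresheafOfModules.homMk α (fun W r m => hlinα W.unop r m)⟩, fun i x => ?_⟩
  exact hα i x

theorem app_map (φ : M ⟶ N) {W W' : X.Opens} (h : W' ≤ W) (x : Γ(M, W)) :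
    φ.app W' (M.presheaf.map (homOfLE h).op x) = N.presheaf.map (homOfLE h).op (φ.app W x) :=
  congr($(φ.mapPresheaf.naturality (homOfLE h).op) x)

include hB in
theorem hom_ext_of_basis (φ ψ : M ⟶ N)
    (h : ∀ (i : ι) (x : Γ(M, B i)), φ.app (B i) x = ψ.app (B i) x) : φ = ψ := by
  refine Scheme.Modules.hom_ext _ _ (fun W => ?_)
  ext x
  refine TopCat.Presheaf.IsSheaf.section_ext N.isSheaf (fun p hp => ?_)
  obtain ⟨_, ⟨i, rfl⟩, hpi, hiW⟩ := Opens.isBasis_iff_nbhd.mp hB (show p ∈ W from hp)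
  refine ⟨B i, hiW, hpi, ?_⟩
  have e1 := app_map φ hiW x
  have e2 := app_map ψ hiW x
  exact e1.symm.trans ((h i _).trans e2)

end Groth.Agent.Lib.helper7.ModBasisHom
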