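import Groth.Agent.Lib.Helper16.CohFinite
import Groth.Agent.Lib.Helper7.ModBasisHom

/-!
# Morphisms out of a quasi-coherent module on an affine scheme (helper7)

For `X` affine, `M` quasi-coherent and `F` an arbitrary `O_X`-module,
`Hom(M, F) → Hom_{Γ(X,⊤)}(Γ(M,⊤), Γ(F,⊤))` is bijective:
* `exists_hom_of_top` : existence,
* `hom_ext_of_top` : uniqueness.
-/

set_option autoImplicit false
set_option linter.style.haveILetI false
set_option linter.unusedSectionVars false
universe u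
open CategoryTheory CategoryTheory.Limits AlgebraicGeometry TopologicalSpace Opposite
open Scheme.Modules

namespace Groth.Agent.Lib.helper7.QCohAffineHom

open Groth.Agent.Lib.helper16.CohFinite

variable {X : Scheme.{u}}

theorem isUnit_res {V : X.Opens} (g : Γ(X, ⊤)) (hV : V ≤ X.basicOpen g) :
    IsUnit (resRing (le_top : V ≤ ⊤) g) := by
  have h1 : IsUnit (X.presheaf.map (homOfLE (X.basicOpen_le g)).op g) :=
    RingedSpace.isUnit_res_basicOpen X.toRingedSpace g
  have h2 := h1.map (X.presheaf.map (homOfLE hV).op).hom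
  have h3 : (X.presheaf.map (homOfLE hV).op).hom (X.presheaf.map (homOfLE (X.basicOpen_le g)).op g)
      = resRing (le_top : V ≤ ⊤) g := by
    change (X.presheaf.map (homOfLE (X.basicOpen_le g)).op ≫ X.presheaf.map (homOfLE hV).op) g = _
    rw [← X.presheaf.map_comp]
    rfl
  rwa [h3] at h2

theorem isUnit_end (F : X.Modules) {V : X.Opens} (g : Γ(X, ⊤)) (hV : V ≤ X.basicOpen g)
    (x : Submonoid.powers g) :
    letI := modOfLE F (le_top : V ≤ ⊤)
    IsUnit (algebraMap Γ(X, ⊤) (Module.End Γ(X, ⊤) Γ(F, V)) x) := by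
  letI := modOfLE F (le_top : V ≤ ⊤)
  obtain ⟨_, n, rfl⟩ := x
  rw [Module.End.isUnit_iff]
  obtain ⟨v, hv⟩ := (isUnit_res g hV).pow n
  refine ⟨fun a b hab => ?_, fun b => ⟨(↑v⁻¹ : Γ(X, V)) • b, ?_⟩⟩
  · have h1 : (resRing (le_top : V ≤ ⊤) (g ^ n)) • a = (resRing (le_top : V ≤ ⊤) (g ^ n)) • b := hab
    rw [map_pow, ← hv] at h1
    have := congrArg (fun z => (↑v⁻¹ : Γ(X, V)) • z) h1
    simpa [smul_smul] using this
  · change (resRing (le_top : V ≤ ⊤) (g ^ n)) • ((↑v⁻¹ : Γ(X, V)) • b) = b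
    rw [map_pow, ← hv, smul_smul]
    simp

variable [IsAffine X] (M F : X.Modules) [M.IsQuasicoherent]

/-- two additive maps `Γ(M, D(g)) → Γ(F, V)` (`V ≤ D(g)`), semilinear over `Γ(X,⊤)`, agreeing on
restrictions of global sections, are equal. -/
theorem ext_of_top (g : Γ(X, ⊤)) {V : X.Opens} (hV : V ≤ X.basicOpen g)
    (j k : Γ(M, X.basicOpen g) →+ Γ(F, V))
    (hj : ∀ (r : Γ(X, ⊤)) (x : Γ(M, X.basicOpen g)),
      j (resRing (le_top : X.basicOpen g ≤ ⊤) r • x) = resRing (le_top : V ≤ ⊤) r • j x)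
    (hk : ∀ (r : Γ(X, ⊤)) (x : Γ(M, X.basicOpen g)),
      k (resRing (le_top : X.basicOpen g ≤ ⊤) r • x) = resRing (le_top : V ≤ ⊤) r • k x)
    (h : ∀ m : Γ(M, ⊤), j (M.presheaf.map (homOfLE (le_top : X.basicOpen g ≤ ⊤)).op m) =
      k (M.presheaf.map (homOfLE (le_top : X.basicOpen g ≤ ⊤)).op m)) : j = k := by
  letI := modOfLE M (le_top : X.basicOpen g ≤ ⊤)
  letI := modOfLE F (le_top : V ≤ ⊤)
  haveI := isLocalizedModule_of_eq_basicOpen M (isAffineOpen_top X) g le_top rfl
  let j' : Γ(M, X.basicOpen g) →ₗ[Γ(X, ⊤)] Γ(F, V) :=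
    { toFun := j, map_add' := j.map_add, map_smul' := hj }
  let k' : Γ(M, X.basicOpen g) →ₗ[Γ(X, ⊤)] Γ(F, V) :=
    { toFun := k, map_add' := k.map_add, map_smul' := hk }
  have hjk : j' = k' := by
    refine IsLocalizedModule.ext (Submonoid.powers g) (resLin M (le_top : X.basicOpen g ≤ ⊤))
      (isUnit_end F g hV) ?_
    ext m
    exact h m
  ext x
  exact congr($hjk x)

/-- existence of the local piece -/
theorem exists_local (l : Γ(M, ⊤) →ₗ[Γ(X, ⊤)] Γ(F, ⊤)) (g : Γ(X, ⊤)) :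
    ∃ a : Γ(M, X.basicOpen g) →+ Γ(F, X.basicOpen g),
      (∀ (r : Γ(X, ⊤)) (x : Γ(M, X.basicOpen g)),
        a (resRing (le_top : X.basicOpen g ≤ ⊤) r • x) =
          resRing (le_top : X.basicOpen g ≤ ⊤) r • a x) ∧
      ∀ m : Γ(M, ⊤), a (M.presheaf.map (homOfLE (le_top : X.basicOpen g ≤ ⊤)).op m) =
        F.presheaf.map (homOfLE (le_top : X.basicOpen g ≤ ⊤)).op (l m) := by
  letI := modOfLE M (le_top : X.basicOpen g ≤ ⊤)
  letI := modOfLE F (le_top : X.basicOpen g ≤ ⊤)
  haveI := isLocalizedModule_of_eq_basicOpen M (isAffineOpen_top X) g le_top rfl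
  let a := IsLocalizedModule.lift (Submonoid.powers g)
    (resLin M (le_top : X.basicOpen g ≤ ⊤)) ((resLin F (le_top : X.basicOpen g ≤ ⊤)).comp l)
    (isUnit_end F g le_rfl)
  refine ⟨a.toAddMonoidHom, fun r x => a.map_smul r x, fun m => ?_⟩
  exact IsLocalizedModule.lift_apply (Submonoid.powers g)
    (resLin M (le_top : X.basicOpen g ≤ ⊤)) ((resLin F (le_top : X.basicOpen g ≤ ⊤)).comp l)
    (isUnit_end F g le_rfl) m

theorem map_map' (N : X.Modules) {U V W : X.Opens} (h₁ : V ≤ U) (h₂ : W ≤ V) (x : Γ(N, U)) :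
    N.presheaf.map (homOfLE h₂).op (N.presheaf.map (homOfLE h₁).op x) =
      N.presheaf.map (homOfLE (h₂.trans h₁)).op x := by
  change (N.presheaf.map (homOfLE h₁).op ≫ N.presheaf.map (homOfLE h₂).op) x = _
  rw [← N.presheaf.map_comp]
  rfl

theorem res_res {U V W : X.Opens} (h₁ : V ≤ U) (h₂ : W ≤ V) (r : Γ(X, U)) :
    resRing h₂ (resRing h₁ r) = resRing (h₂.trans h₁) r := by
  change (X.presheaf.map (homOfLE h₁).op ≫ X.presheaf.map (homOfLE h₂).op) r = _
  rw [← X.presheaf.map_comp]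
  rfl

/-- **Existence**: every `Γ(X,⊤)`-linear map `Γ(M,⊤) → Γ(F,⊤)` out of the global sections of a
quasi-coherent module on an affine scheme is induced by a morphism of `O_X`-modules. -/
theorem exists_hom_of_top (l : Γ(M, ⊤) →ₗ[Γ(X, ⊤)] Γ(F, ⊤)) :
    ∃ φ : M ⟶ F, ∀ m : Γ(M, ⊤), φ.app ⊤ m = l m := by
  choose a ha1 ha2 using exists_local M F l
  have hnat : ∀ (g g' : Γ(X, ⊤)) (h : X.basicOpen g' ≤ X.basicOpen g)
      (x : Γ(M, X.basicOpen g)),
      a g' (M.presheaf.map (homOfLE h).op x) = F.presheaf.map (homOfLE h).op (a g x) := by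
    intro g g' h x
    let j : Γ(M, X.basicOpen g) →+ Γ(F, X.basicOpen g') :=
      (a g').comp (M.presheaf.map (homOfLE h).op).hom
    let k : Γ(M, X.basicOpen g) →+ Γ(F, X.basicOpen g') :=
      (F.presheaf.map (homOfLE h).op).hom.comp (a g)
    have hjk : j = k := by
      refine ext_of_top M F g h j k (fun r x => ?_) (fun r x => ?_) (fun m => ?_)
      · change a g' (M.presheaf.map (homOfLE h).op (_ • x)) = _ • a g' (M.presheaf.map _ x)
        rw [Scheme.Modules.map_smul]
        change a g' (resRing h (resRing _ r) • _) = _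
        rw [res_res, ha1]
      · change F.presheaf.map (homOfLE h).op (a g (_ • x)) = _ • F.presheaf.map _ (a g x)
        rw [ha1, Scheme.Modules.map_smul]
        change resRing h (resRing _ r) • _ = _
        rw [res_res]
      · change a g' (M.presheaf.map (homOfLE h).op (M.presheaf.map _ m)) =
          F.presheaf.map (homOfLE h).op (a g (M.presheaf.map _ m))
        rw [ha2, map_map', map_map']
        exact ha2 g' m
    exact congr($hjk x)
  have hlin : ∀ (g : Γ(X, ⊤)) (r : Γ(X, X.basicOpen g)) (x : Γ(M, X.basicOpen g)),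
      a g (r • x) = r • a g x := by
    intro g r x
    letI := algOfLE (X := X) (le_top : X.basicOpen g ≤ ⊤)
    haveI : IsLocalization.Away g Γ(X, X.basicOpen g) :=
      (isAffineOpen_top X).isLocalization_of_eq_basicOpen g (homOfLE le_top) rfl
    obtain ⟨⟨r₀, ⟨_, n, rfl⟩⟩, hr⟩ := IsLocalization.surj (Submonoid.powers g) r
    have hr' : r * resRing (le_top : X.basicOpen g ≤ ⊤) (g ^ n) =
        resRing (le_top : X.basicOpen g ≤ ⊤) r₀ := hr
    obtain ⟨v, hv⟩ := (isUnit_res g (le_refl (X.basicOpen g))).pow n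
    rw [← map_pow] at hv
    have e1 : a g ((resRing (le_top : X.basicOpen g ≤ ⊤) (g ^ n)) • (r • x)) =
        (resRing (le_top : X.basicOpen g ≤ ⊤) (g ^ n)) • (r • a g x) := by
      rw [smul_smul, mul_comm, hr', ha1, ← hr', mul_comm, smul_smul]
    rw [ha1, ← hv] at e1
    have := congrArg (fun z => (↑v⁻¹ : Γ(X, X.basicOpen g)) • z) e1
    simpa [smul_smul] using this
  obtain ⟨φ, hφ⟩ := ModBasisHom.exists_hom_of_basis (M := M) (N := F)
    (fun g : Γ(X, ⊤) => X.basicOpen g) (isBasis_basicOpen X) a hnat hlin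
  refine ⟨φ, fun m => ?_⟩
  have h1 : (⊤ : X.Opens) = X.basicOpen (1 : Γ(X, ⊤)) := (Scheme.basicOpen_of_isUnit X isUnit_one).symm
  have h2 := hφ 1 (M.presheaf.map (homOfLE (le_top : X.basicOpen (1 : Γ(X, ⊤)) ≤ ⊤)).op m)
  rw [ha2, ModBasisHom.app_map] at h2
  have hinj : Function.Injective
      (F.presheaf.map (homOfLE (le_top : X.basicOpen (1 : Γ(X, ⊤)) ≤ ⊤)).op) := by
    intro y z hyz
    have := congrArg (F.presheaf.map (homOfLE h1.le).op) hyz
    rw [map_map', map_map'] at this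
    simpa using this
  exact hinj h2

/-- **Uniqueness**: morphisms out of a quasi-coherent module on an affine scheme are determined by
their effect on global sections. -/
theorem hom_ext_of_top (φ ψ : M ⟶ F) (h : ∀ m : Γ(M, ⊤), φ.app ⊤ m = ψ.app ⊤ m) : φ = ψ := by
  refine ModBasisHom.hom_ext_of_basis (fun g : Γ(X, ⊤) => X.basicOpen g) (isBasis_basicOpen X)
    φ ψ (fun g x => ?_)
  have hjk : (φ.app (X.basicOpen g)).hom = (ψ.app (X.basicOpen g)).hom := by
    refine ext_of_top M F g le_rfl _ _ (fun r x => ?_) (fun r x => ?_) (fun m => ?_)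
    · exact Scheme.Modules.Hom.app_smul φ _ x
    · exact Scheme.Modules.Hom.app_smul ψ _ x
    · change φ.app _ (M.presheaf.map _ m) = ψ.app _ (M.presheaf.map _ m)
      rw [ModBasisHom.app_map, ModBasisHom.app_map, h]
  exact congr($hjk x)

end Groth.Agent.Lib.helper7.QCohAffineHom
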