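import Mathlib
import Groth.Agent.Lib.Helper11.ThickTower
import Groth.Agent.Lib.Helper18.HHSum0
import Groth.Agent.Lib.Helper8.FormalQuot
import Groth.Agent.Lib.Helper11.InvPullback
import Groth.Agent.Lib.Helper12.GGExt

/-!
# Base change to a closed subscheme of the base: cohomological comparison (helper7)

`A → B` surjective with kernel `I`, `g' : X' = X ×_A B ⟶ X`.
* `smulMod_eq_zero`: `I` kills every module on `X'`.
* `exists_qIso`: `N / I N ≅ g'_* g'^* N`, compatibly with the projection and the unit.
* `subsingleton_HH_Q_iff`: `H^q(X, N / I N) = 0 ↔ H^q(X', g'^* N) = 0`.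
* `exists_lift_pullback_section`: sections of `g'^* M` lift to sections of `M` if `Γ(M) → Γ(M / I M)` is onto.
-/

set_option autoImplicit false
set_option linter.style.haveILetI false
universe u
open CategoryTheory CategoryTheory.Limits AlgebraicGeometry Opposite TopologicalSpace

namespace Groth.Agent.Lib.helper7.RelFib

open Formal Groth.Agent.Lib.helper8.FF Groth.Agent.Lib.helper8.FPull
  Scheme.Modules Groth.Agent.Lib.helper11.Thick Groth.Agent.Lib.helper11.FibMono
  Groth.Agent.Lib.Lead.GE Groth.Agent.Lib.Helper18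
  Groth.Agent.Lib.helper11.AdicSys Groth.Agent.Lib.helper11.ThickTower
  Groth.Agent.Lib.helper8.FCompl Groth.Agent.Lib.helper8.FTors
  Groth.Agent.Lib.helper11.InvPullback Groth.Agent.Lib.helper11.InvMod

section Unit

variable {A B : Type u} [CommRing A] [CommRing B] [Algebra A B]
  {X X' : Scheme.{u}} [X.Over (Spec (CommRingCat.of A))] [X'.Over (Spec (CommRingCat.of A))]
  (fX' : X' ⟶ Spec (CommRingCat.of B)) (g' : X' ⟶ X)
  (h : IsPullback g' fX' (X ↘ Spec (CommRingCat.of A))
    (Spec.map (CommRingCat.ofHom (algebraMap A B))))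
  (hf : g' ≫ (X ↘ Spec (CommRingCat.of A)) = X' ↘ Spec (CommRingCat.of A))
  (I : Ideal A) (hsurj : Function.Surjective (algebraMap A B))
  (hker : RingHom.ker (algebraMap A B) = I)

include h hf hker in
/-- `I` kills every module on `X'` -/
lemma smulMod_eq_zero (T : X'.Modules) {a : A} (ha : a ∈ I) : smulMod A T a = 0 := by
  unfold smulMod
  rw [← hf, h.w, toGlobal_comp_specMap]
  have h0 : algebraMap A B a = 0 := by
    rw [← hker] at ha
    exact ha
  rw [h0, map_zero, smulModΓ_zero]

include h hf hsurj hker in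
/-- `N / I N ≅ g'_* g'^* N` -/
theorem exists_qIso (N : X.Modules) [N.IsQuasicoherent] :
    ∃ θ : Q I N ≅ pushPull g' N,
      qπ I N ≫ θ.hom = (Scheme.Modules.pullbackPushforwardAdjunction g').unit.app N := by
  haveI : (Q I N).IsQuasicoherent := isQuasicoherent_Q _ _
  haveI := isIso_unit_of_killedBy fX' g' h I hsurj hker (Q I N) (fun a ha => smulMod_Q _ ha)
  haveI : IsIso (qπ I ((Scheme.Modules.pullback g').obj N)) :=
    (isCok_qπ _ _).isIso_of_killedBy (fun a ha => smulMod_eq_zero fX' g' h hf I hker _ ha)
  let i0 := asIso ((Scheme.Modules.pullbackPushforwardAdjunction g').unit.app (Q I N))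
  let i1 := (Scheme.Modules.pushforward g').mapIso (pullbackQIso g' hf I N).symm
  let i2 := (Scheme.Modules.pushforward g').mapIso
    (asIso (qπ I ((Scheme.Modules.pullback g').obj N))).symm
  refine ⟨i0 ≪≫ i1 ≪≫ i2, ?_⟩
  have hnat := (Scheme.Modules.pullbackPushforwardAdjunction g').unit.naturality (qπ I N)
  have h1 : (Scheme.Modules.pullback g').map (qπ I N) ≫ (pullbackQIso g' hf I N).inv =
      qπ I ((Scheme.Modules.pullback g').obj N) := by
    rw [Iso.comp_inv_eq]
    exact (qπ_pullbackQIso_hom g' hf I N).symm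
  change qπ I N ≫ (Scheme.Modules.pullbackPushforwardAdjunction g').unit.app (Q I N) ≫
    (Scheme.Modules.pushforward g').map (pullbackQIso g' hf I N).inv ≫
    (Scheme.Modules.pushforward g').map (inv (qπ I ((Scheme.Modules.pullback g').obj N))) = _
  have hnat' : qπ I N ≫ (Scheme.Modules.pullbackPushforwardAdjunction g').unit.app (Q I N) =
      (Scheme.Modules.pullbackPushforwardAdjunction g').unit.app N ≫
        (Scheme.Modules.pushforward g').map ((Scheme.Modules.pullback g').map (qπ I N)) := hnat
  rw [← Category.assoc, hnat', Category.assoc, ← Functor.map_comp, ← Functor.map_comp,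
    ← Category.assoc, h1, IsIso.hom_inv_id, CategoryTheory.Functor.map_id]
  exact Category.comp_id _

include h hf hsurj hker in
theorem subsingleton_HH_Q_iff (N : X.Modules) [N.IsQuasicoherent] (q : ℕ) :
    Subsingleton (Coh.HH X (Q I N) q) ↔
      Subsingleton (Coh.HH X' ((Scheme.Modules.pullback g').obj N) q) := by
  obtain ⟨θ, -⟩ := exists_qIso fX' g' h hf I hsurj hker N
  haveI := isAffineHom_of_isPullback _ fX' g' h
  haveI : ((Scheme.Modules.pullback g').obj N).IsQuasicoherent :=
    Groth.Agent.Lib.helper16.QCohPullback.isQuasicoherent_pullback _ N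
  exact ((HH.isoEquiv θ q).toEquiv.subsingleton_congr).trans
    (HH.subsingleton_iff_push g' ((Scheme.Modules.pullback g').obj N) q).symm

include h hf hsurj hker in
/-- lifting sections of `g'^* M` to sections of `M` -/
theorem exists_lift_pullback_section (M : X.Modules) [M.IsQuasicoherent]
    (hM : Function.Surjective ((qπ I M).val.app (op ⊤)).hom)
    (t' : Coh.structureModule X' ⟶ (Scheme.Modules.pullback g').obj M) :
    ∃ t : Coh.structureModule X ⟶ M,
      (pullbackUnitIso g').inv ≫ (Scheme.Modules.pullback g').map t = t' := by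
  obtain ⟨θ, hθ⟩ := exists_qIso fX' g' h hf I hsurj hker M
  let adj := Scheme.Modules.pullbackPushforwardAdjunction g'
  have hsurj' : Function.Surjective ((adj.unit.app M).val.app (op ⊤)).hom := by
    rw [← hθ]
    intro y
    obtain ⟨x, hx⟩ := hM (((θ.inv).val.app (op ⊤)).hom y)
    refine ⟨x, ?_⟩
    change ((θ.hom).val.app (op ⊤)).hom (((qπ I M).val.app (op ⊤)).hom x) = y
    rw [hx]
    change ((θ.inv ≫ θ.hom).val.app (op ⊤)).hom y = y
    rw [θ.inv_hom_id]
    rfl
  obtain ⟨t, ht⟩ := Groth.Agent.Lib.helper12.GGExt.exists_lift_unit (adj.unit.app M) hsurj'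
    (unitToPush g' ≫ (Scheme.Modules.pushforward g').map t')
  refine ⟨t, ?_⟩
  rw [Iso.inv_comp_eq]
  apply (adj.homEquiv _ _).injective
  rw [Adjunction.homEquiv_unit, Adjunction.homEquiv_unit, Functor.map_comp, ← Category.assoc]
  have e1 : adj.unit.app (Coh.structureModule X) ≫
      (Scheme.Modules.pushforward g').map ((Scheme.Modules.pullback g').map t) =
      t ≫ adj.unit.app M := (adj.unit.naturality t).symm
  have e2 : adj.unit.app (Coh.structureModule X) ≫
      (Scheme.Modules.pushforward g').map (pullbackUnitIso g').hom = unitToPush g' := by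
    have := pullbackUnitHom_eq g'
    change adj.unit.app _ ≫ (Scheme.Modules.pushforward g').map (pullbackUnitHom g') = _
    rw [this]
    exact (adj.homEquiv_unit _ _ _).symm.trans (Equiv.apply_symm_apply _ _)
  rw [e1, e2, ht]

end Unit

end Groth.Agent.Lib.helper7.RelFib
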