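import Mathlib
import Groth.Agent.Lib.Helper11.CounitEpi
import Groth.Agent.Lib.Helper11.TwistH1
import Groth.Agent.Lib.Helper11.IsoLocus

/-!
# A Koszul-type surjectivity lemma (helper7)

* `isSplitEpi_of_koszul` (any preadditive category): given families `t i : N ⟶ M`, `t' i : M ⟶ P` with
  `t i ≫ t' j = t j ≫ t' i`, a coproduct `c` of copies of `M` with `Φ : c.pt ⟶ P` induced by the `t' i`, and
  `Q : ∐_{(i,j)} N ⟶ c.pt` with components `t j ≫ ι_i - t i ≫ ι_j`: if some `t l`, `t' l` are isomorphisms then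
  any lift of `Q` to a subobject killed by `Φ` is a split epimorphism (contracting homotopy).
* `epi_koszulLift` (modules on a scheme): the same with `t l`, `t' l` isomorphisms only locally; the lift of the
  Koszul map to `kernel (Sigma.desc t')` is an epimorphism.
-/

set_option autoImplicit false
set_option linter.style.haveILetI false

universe u

open CategoryTheory Limits AlgebraicGeometry Opposite TopologicalSpace

namespace Groth.Agent.Lib.helper7.Koszul

section Abstract

variable {𝒞 : Type*} [Category 𝒞] [Preadditive 𝒞]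

theorem isSplitEpi_of_koszul {J : Type*} {N M P : 𝒞}
    (t : J → (N ⟶ M)) (t' : J → (M ⟶ P)) (hsym : ∀ i j, t i ≫ t' j = t j ≫ t' i)
    (c : Cofan (fun _ : J => M)) (hc : IsColimit c)
    (d : Cofan (fun _ : J × J => N))
    (Φ : c.pt ⟶ P) (hΦ : ∀ i, c.inj i ≫ Φ = t' i)
    (Q : d.pt ⟶ c.pt) (hQ : ∀ i j, d.inj (i, j) ≫ Q = t j ≫ c.inj i - t i ≫ c.inj j)
    (l : J) [IsIso (t l)] [IsIso (t' l)]
    {K : 𝒞} (k : K ⟶ c.pt) [Mono k] (hk : k ≫ Φ = 0) (q : d.pt ⟶ K) (hq : q ≫ k = Q) :
    IsSplitEpi q := by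
  let h₁ : c.pt ⟶ d.pt := Cofan.IsColimit.desc hc (fun i => inv (t l) ≫ d.inj (i, l))
  let h₀ : P ⟶ c.pt := inv (t' l) ≫ c.inj l
  have e3 : ∀ i, inv (t l) ≫ t i = t' i ≫ inv (t' l) := by
    intro i
    rw [IsIso.inv_comp_eq, ← Category.assoc, IsIso.eq_comp_inv]
    exact hsym i l
  have hid : h₁ ≫ Q + Φ ≫ h₀ = 𝟙 c.pt := by
    refine Cofan.IsColimit.hom_ext hc _ _ (fun i => ?_)
    rw [Preadditive.comp_add, Category.comp_id]
    have e1 : c.inj i ≫ h₁ ≫ Q = c.inj i - inv (t l) ≫ t i ≫ c.inj l := by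
      rw [← Category.assoc, Cofan.IsColimit.fac, Category.assoc, hQ, Preadditive.comp_sub,
        IsIso.inv_hom_id_assoc]
    have e2 : c.inj i ≫ Φ ≫ h₀ = t' i ≫ inv (t' l) ≫ c.inj l := by
      rw [← Category.assoc, hΦ]
    rw [e1, e2, ← Category.assoc (inv (t l)), e3 i, Category.assoc]
    abel
  have hid' : h₁ ≫ Q = 𝟙 c.pt - Φ ≫ h₀ := eq_sub_of_add_eq hid
  refine IsSplitEpi.mk' ⟨k ≫ h₁, ?_⟩
  rw [← cancel_mono k, Category.assoc, Category.assoc, hq, Category.id_comp, hid',
    Preadditive.comp_sub, Category.comp_id, ← Category.assoc, hk, zero_comp, sub_zero]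

end Abstract

section Sheaf

open Scheme.Modules Groth.Agent.Lib.helper11.IsoLocus

variable {X : Scheme.{u}}

theorem epi_koszulLift {J : Type u} {N M P : X.Modules}
    (t : J → (N ⟶ M)) (t' : J → (M ⟶ P)) (hsym : ∀ i j, t i ≫ t' j = t j ≫ t' i)
    (hloc : ∀ x : X, ∃ l, x ∈ isoLocus (t l) ∧ x ∈ isoLocus (t' l))
    (q : (∐ fun _ : J × J => N) ⟶ kernel (Sigma.desc t'))
    (hq : ∀ i j, Sigma.ι (fun _ : J × J => N) (i, j) ≫ q ≫ kernel.ι (Sigma.desc t') =
        t j ≫ Sigma.ι (fun _ : J => M) i - t i ≫ Sigma.ι (fun _ : J => M) j) :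
    Epi q := by
  refine Groth.Agent.Lib.helper11.CounitEpi.epi_of_forall_restrict q (fun x => ?_)
  obtain ⟨l, h1, h2⟩ := hloc x
  refine ⟨isoLocus (t l) ⊓ isoLocus (t' l), ⟨h1, h2⟩, ?_⟩
  set U : X.Opens := isoLocus (t l) ⊓ isoLocus (t' l) with hU
  haveI : (restrictFunctor U.ι).Additive := (restrictAdjunction U.ι).left_adjoint_additive
  haveI : PreservesColimitsOfSize.{u, u} (restrictFunctor U.ι) :=
    (restrictAdjunction U.ι).leftAdjoint_preservesColimits
  haveI i1 : IsIso ((restrictFunctor U.ι).map (t l)) :=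
    (le_isoLocus_iff (t l) U).mp inf_le_left
  haveI i2 : IsIso ((restrictFunctor U.ι).map (t' l)) :=
    (le_isoLocus_iff (t' l) U).mp inf_le_right
  haveI : Mono ((restrictFunctor U.ι).map (kernel.ι (Sigma.desc t'))) :=
    Groth.Agent.Lib.helper11.TwistH1.mono_restrict _ U
  have hsplit := isSplitEpi_of_koszul (𝒞 := (↑U : Scheme.{u}).Modules)
    (fun i => (restrictFunctor U.ι).map (t i)) (fun i => (restrictFunctor U.ι).map (t' i))
    (fun i j => by rw [← Functor.map_comp, ← Functor.map_comp, hsym i j])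
    (Cofan.mk _ fun j : J => (restrictFunctor U.ι).map (Sigma.ι (fun _ : J => M) j))
    (isColimitOfHasCoproductOfPreservesColimit (restrictFunctor U.ι) (fun _ : J => M))
    (Cofan.mk _ fun p : J × J => (restrictFunctor U.ι).map (Sigma.ι (fun _ : J × J => N) p))
    ((restrictFunctor U.ι).map (Sigma.desc t'))
    (fun i => by
      change (restrictFunctor U.ι).map (Sigma.ι (fun _ : J => M) i) ≫ _ = _
      rw [← Functor.map_comp, Sigma.ι_desc])
    ((restrictFunctor U.ι).map (q ≫ kernel.ι (Sigma.desc t')))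
    (fun i j => by
      change (restrictFunctor U.ι).map (Sigma.ι (fun _ : J × J => N) (i, j)) ≫ _ =
        (restrictFunctor U.ι).map (t j) ≫ (restrictFunctor U.ι).map (Sigma.ι (fun _ : J => M) i) -
          (restrictFunctor U.ι).map (t i) ≫ (restrictFunctor U.ι).map (Sigma.ι (fun _ : J => M) j)
      rw [← Functor.map_comp, hq i j, Functor.map_sub, Functor.map_comp, Functor.map_comp])
    l
    ((restrictFunctor U.ι).map (kernel.ι (Sigma.desc t')))
    (by rw [← Functor.map_comp, kernel.condition, Functor.map_zero])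
    ((restrictFunctor U.ι).map q)
    (by rw [← Functor.map_comp])
  infer_instance

end Sheaf

end Groth.Agent.Lib.helper7.Koszul
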