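import Mathlib
import Groth.Agent.Lib.Helper7.KoszulA
import Groth.Agent.Lib.Helper11.TensorEpi
import Groth.Agent.Lib.Helper12.PullTensor

/-!
# The Koszul epimorphism for multiplication by sections (helper7)

`A` a module generated by sections `T i` such that every point lies in some `X_{T l}` (e.g. an invertible module
generated by the `T i`), `N` any module, `M = N ⊗ A`.

* `tmul_tmul_comm`, `tensHom_comm`: `(ν ⊗ T i) ⊗ T j = (ν ⊗ T j) ⊗ T i`.
* `genLocus_le_isoLocus_tensHom`: `μ ↦ μ ⊗ T l` is an isomorphism over `X_{T l}`.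
* `exists_epi_kernel_desc_tensHom`: the kernel of `∐_J M ⟶ M ⊗ A`, `(μ_i) ↦ Σ μ_i ⊗ T i`, is a quotient of
  `∐_{J × J} N` (Koszul relations).
-/

set_option autoImplicit false
set_option linter.style.haveILetI false

universe u

open CategoryTheory Limits AlgebraicGeometry Opposite TopologicalSpace

namespace Groth.Agent.Lib.helper7.Koszul

open Groth.Agent.Lib.helper11.IsoLocus Groth.Agent.Lib.helper11.TensorEpi
  Groth.Agent.Lib.helper12.TwistExtend Groth.Agent.Lib.helper12.AmpleBasis
  Groth.Agent.Lib.helper12.PullTensor Groth.Agent.Lib.helper11.SerreGG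

variable {X : Scheme.{u}}

local notation "resM" => Groth.Agent.Lib.helper12.TwistExtend.res

/-- on `X_{T l}` every section of `A` is a multiple of `T l` -/
theorem exists_smul_eq_res (A : X.Modules) (σ : A.val.obj (op ⊤)) {W : X.Opens}
    (hW : W ≤ CohB1.genLocus A (homOfSec A σ)) (a : A.val.obj (op W)) :
    ∃ α : X.ringCatSheaf.obj.obj (op W), a = α • resM A (le_top : W ≤ ⊤) σ := by
  obtain ⟨α', hα⟩ := exists_app_eq_of_le_isoLocus (homOfSec A σ) hW a
  let α : X.ringCatSheaf.obj.obj (op W) := α'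
  refine ⟨α, ?_⟩
  have h1 : ((homOfSec A σ).val.app (op W)).hom
      ((1 : X.ringCatSheaf.obj.obj (op W)) : (Coh.structureModule X).val.obj (op W)) =
      resM A (le_top : W ≤ ⊤) σ := val_homOfSec A σ W
  have e : α • ((1 : X.ringCatSheaf.obj.obj (op W)) : (Coh.structureModule X).val.obj (op W)) = α' :=
    mul_one α
  have h3 := ((homOfSec A σ).val.app (op W)).hom.map_smul α
    ((1 : X.ringCatSheaf.obj.obj (op W)) : (Coh.structureModule X).val.obj (op W))
  rw [h1] at h3
  exact hα.symm.trans ((congrArg ((homOfSec A σ).val.app (op W)).hom e).symm.trans h3)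

theorem tmul_tmul_comm (N A : X.Modules) {J : Type*} (T : J → A.val.obj (op ⊤))
    (hT : ∀ x : X, ∃ l, x ∈ CohB1.genLocus A (homOfSec A (T l))) (i j : J)
    (W : X.Opens) (ν : N.val.obj (op W)) :
    SecTwist.tmul (CohB1.tensorMod N A) A W
        (SecTwist.tmul N A W ν (resM A (le_top : W ≤ ⊤) (T i))) (resM A (le_top : W ≤ ⊤) (T j)) =
      SecTwist.tmul (CohB1.tensorMod N A) A W
        (SecTwist.tmul N A W ν (resM A (le_top : W ≤ ⊤) (T j))) (resM A (le_top : W ≤ ⊤) (T i)) := by
  choose l hl using hT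
  refine eq_of_cover (CohB1.tensorMod (CohB1.tensorMod N A) A)
    (fun p : W => W ⊓ CohB1.genLocus A (homOfSec A (T (l p.1)))) W (fun _ => inf_le_left) ?_ _ _
    (fun p => ?_)
  · intro x hx
    exact Opens.mem_iSup.mpr ⟨⟨x, hx⟩, ⟨hx, hl x⟩⟩
  · set W' : X.Opens := W ⊓ CohB1.genLocus A (homOfSec A (T (l p.1))) with hW'
    have hle : W' ≤ W := inf_le_left
    have hgen : W' ≤ CohB1.genLocus A (homOfSec A (T (l p.1))) := inf_le_right
    obtain ⟨αi, hαi⟩ := exists_smul_eq_res A (T (l p.1)) hgen (resM A (le_top : W' ≤ ⊤) (T i))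
    obtain ⟨αj, hαj⟩ := exists_smul_eq_res A (T (l p.1)) hgen (resM A (le_top : W' ≤ ⊤) (T j))
    have key : ∀ a b : A.val.obj (op W),
        resM (CohB1.tensorMod (CohB1.tensorMod N A) A) hle
          (SecTwist.tmul (CohB1.tensorMod N A) A W (SecTwist.tmul N A W ν a) b) =
        SecTwist.tmul (CohB1.tensorMod N A) A W'
          (SecTwist.tmul N A W' (resM N hle ν) (resM A hle a)) (resM A hle b) := by
      intro a b
      have h1 := SecTwist.map_tmul (CohB1.tensorMod N A) A (homOfLE hle) (SecTwist.tmul N A W ν a) b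
      have h2 := SecTwist.map_tmul N A (homOfLE hle) ν a
      exact h1.trans (congrArg (fun z => SecTwist.tmul (CohB1.tensorMod N A) A W' z _) h2)
    rw [key, key, Groth.Agent.Lib.helper12.TwistExtend.res_res, Groth.Agent.Lib.helper12.TwistExtend.res_res, hαi, hαj]
    set e := resM A (le_top : W' ≤ ⊤) (T (l p.1)) with he
    set ν' := resM N hle ν with hν'
    rw [tmul_smul_right, tmul_smul_right, tmul_smul_left, tmul_smul_right, tmul_smul_right,
      tmul_smul_left, smul_smul, smul_smul]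
    congr 1
    exact mul_comm (show Γ(X, W') from αj) (show Γ(X, W') from αi)

theorem tensHom_comm (N A : X.Modules) {J : Type*} (T : J → A.val.obj (op ⊤))
    (hT : ∀ x : X, ∃ l, x ∈ CohB1.genLocus A (homOfSec A (T l))) (i j : J) :
    tensHom N A T i ≫ tensHom (CohB1.tensorMod N A) A T j =
      tensHom N A T j ≫ tensHom (CohB1.tensorMod N A) A T i := by
  apply SheafOfModules.hom_ext
  apply PresheafOfModules.hom_ext
  intro W
  induction W using Opposite.rec with | _ W => ?_
  ext ν
  change ((tensHom (CohB1.tensorMod N A) A T j).val.app (op W)).hom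
      (((tensHom N A T i).val.app (op W)).hom ν) =
    ((tensHom (CohB1.tensorMod N A) A T i).val.app (op W)).hom
      (((tensHom N A T j).val.app (op W)).hom ν)
  rw [tensHom_apply, tensHom_apply, tensHom_apply, tensHom_apply]
  exact tmul_tmul_comm N A T hT i j W ν

theorem genLocus_le_isoLocus_tensHom (M A : X.Modules) {J : Type*} (T : J → A.val.obj (op ⊤))
    (l : J) : CohB1.genLocus A (homOfSec A (T l)) ≤ isoLocus (tensHom M A T l) := by
  unfold tensHom
  rw [isoLocus_comp_of_isIso_left]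
  refine le_trans ?_ (isoLocus_inf_le_tensorMap (𝟙 M) (homOfSec A (T l)))
  rw [isoLocus_id, top_inf_eq]
  exact le_rfl

/-- **Koszul**: the kernel of `∐_J (N ⊗ A) ⟶ (N ⊗ A) ⊗ A` is a quotient of `∐_{J × J} N`. -/
theorem exists_epi_kernel_desc_tensHom (N A : X.Modules) {J : Type u} (T : J → A.val.obj (op ⊤))
    (hT : ∀ x : X, ∃ l, x ∈ CohB1.genLocus A (homOfSec A (T l))) :
    ∃ q : (∐ fun _ : J × J => N) ⟶
        kernel (Sigma.desc (tensHom (CohB1.tensorMod N A) A T) :
          (∐ fun _ : J => CohB1.tensorMod N A) ⟶ CohB1.tensorMod (CohB1.tensorMod N A) A), Epi q := by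
  let Q : (∐ fun _ : J × J => N) ⟶ (∐ fun _ : J => CohB1.tensorMod N A) :=
    Sigma.desc fun p : J × J =>
      tensHom N A T p.2 ≫ Sigma.ι (fun _ : J => CohB1.tensorMod N A) p.1 -
        tensHom N A T p.1 ≫ Sigma.ι (fun _ : J => CohB1.tensorMod N A) p.2
  have hQ : Q ≫ Sigma.desc (tensHom (CohB1.tensorMod N A) A T) = 0 := by
    refine Sigma.hom_ext _ _ (fun p => ?_)
    rw [comp_zero, Sigma.ι_desc_assoc, Preadditive.sub_comp, Category.assoc, Category.assoc,
      Sigma.ι_desc, Sigma.ι_desc, tensHom_comm N A T hT p.2 p.1, sub_self]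
  refine ⟨kernel.lift _ Q hQ, ?_⟩
  refine epi_koszulLift (tensHom N A T) (tensHom (CohB1.tensorMod N A) A T)
    (tensHom_comm N A T hT) (fun x => ?_) _ (fun i j => ?_)
  · obtain ⟨l, hl⟩ := hT x
    exact ⟨l, genLocus_le_isoLocus_tensHom N A T l hl,
      genLocus_le_isoLocus_tensHom (CohB1.tensorMod N A) A T l hl⟩
  · rw [kernel.lift_ι, Sigma.ι_desc]

end Groth.Agent.Lib.helper7.Koszul
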