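import Mathlib
import Groth.Agent.Lib.Helper7.KoszulB
import Groth.Agent.Lib.Helper12.GGExt
import Groth.Agent.Lib.Helper12.TensorInvLocal

/-!
# Surjectivity of multiplication maps on one-dimensional schemes (helper7)

* `sigma_total`, `sigma_desc_eq_sum`: decomposition of maps out of a finite coproduct of copies of one object.
* `genAtBy_of_genLocus`: `GenAtBy` from the covering by the `X_{T l}`.
* `span_tmul_eq_top_of_H1`: on a qcqs scheme of dimension `≤ 1`, if `A` is generated by finitely many sections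
  `T i` (every point in some `X_{T l}`) and `H¹(N) = 0`, then the sections `μ ⊗ a` span `Γ((N ⊗ A) ⊗ A)`.
-/

set_option autoImplicit false
set_option linter.style.haveILetI false

universe u

open CategoryTheory Limits AlgebraicGeometry Opposite TopologicalSpace

namespace Groth.Agent.Lib.helper7.Koszul

section Cat

variable {C : Type*} [Category C] [Preadditive C]

theorem sigma_total {J : Type*} [Fintype J] [DecidableEq J] (M : C)
    [HasCoproduct (fun _ : J => M)] :
    ∑ i : J, Sigma.desc (fun j : J => if j = i then 𝟙 M else 0) ≫ Sigma.ι (fun _ : J => M) i =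
      𝟙 (∐ fun _ : J => M) := by
  refine Sigma.hom_ext _ _ (fun j => ?_)
  rw [Preadditive.comp_sum, Category.comp_id]
  have h : ∀ i : J, Sigma.ι (fun _ : J => M) j ≫
      Sigma.desc (fun j' : J => if j' = i then 𝟙 M else 0) ≫ Sigma.ι (fun _ : J => M) i =
      if j = i then Sigma.ι (fun _ : J => M) i else 0 := by
    intro i
    rw [Sigma.ι_desc_assoc]
    split_ifs with hji
    · rw [Category.id_comp]
    · rw [zero_comp]
  rw [Finset.sum_congr rfl (fun i _ => h i), Finset.sum_ite_eq Finset.univ j]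
  simp

theorem sigma_desc_eq_sum {J : Type*} [Fintype J] [DecidableEq J] {M P : C}
    [HasCoproduct (fun _ : J => M)] (t' : J → (M ⟶ P)) :
    (Sigma.desc t' : (∐ fun _ : J => M) ⟶ P) =
      ∑ i : J, Sigma.desc (fun j : J => if j = i then 𝟙 M else 0) ≫ t' i := by
  have h := congrArg (fun f => f ≫ (Sigma.desc t' : (∐ fun _ : J => M) ⟶ P)) (sigma_total (J := J) M)
  simp only [Category.id_comp, Preadditive.sum_comp, Category.assoc, Sigma.ι_desc] at h
  exact h.symm

end Cat

open Groth.Agent.Lib.helper11.IsoLocus Groth.Agent.Lib.helper11.TensorEpi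
  Groth.Agent.Lib.helper12.TwistExtend Groth.Agent.Lib.helper12.AmpleBasis
  Groth.Agent.Lib.helper12.PullTensor Groth.Agent.Lib.helper11.SerreGG

variable {X : Scheme.{u}}

local notation "resM" => Groth.Agent.Lib.helper12.TwistExtend.res

theorem genAtBy_of_genLocus (A : X.Modules) {J : Type*} (T : J → A.val.obj (op ⊤))
    (hT : ∀ x : X, ∃ l, x ∈ CohB1.genLocus A (homOfSec A (T l))) (y : X) : GenAtBy A T y := by
  intro V σ hyV
  obtain ⟨l, hl⟩ := hT y
  refine ⟨V ⊓ CohB1.genLocus A (homOfSec A (T l)), inf_le_left, ⟨hyV, hl⟩, ?_⟩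
  obtain ⟨α, hα⟩ := exists_smul_eq_res A (T l) (inf_le_right : V ⊓ _ ≤ _) (resM A inf_le_left σ)
  rw [hα]
  exact Submodule.smul_mem _ _ (res_top_mem_gsubBy A T _ l)

/-- the value of a sum of morphisms on a global section -/
theorem sum_app_top {F G : X.Modules} {J : Type*} (s : Finset J) (f : J → (F ⟶ G))
    (x : F.val.obj (op ⊤)) :
    ((∑ i ∈ s, f i).val.app (op ⊤)).hom x = ∑ i ∈ s, ((f i).val.app (op ⊤)).hom x := by
  classical
  induction s using Finset.induction_on with
  | empty =>
    rw [Finset.sum_empty, Finset.sum_empty]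
    rfl
  | insert a s ha ih =>
    rw [Finset.sum_insert ha, Finset.sum_insert ha, ← ih]
    rfl

theorem span_tmul_eq_top_of_H1 [CompactSpace X] [QuasiSeparatedSpace X]
    (hd : topologicalKrullDim X ≤ 1) (N A : X.Modules) {J : Type u} [Finite J]
    (T : J → A.val.obj (op ⊤))
    (hT : ∀ x : X, ∃ l, x ∈ CohB1.genLocus A (homOfSec A (T l)))
    (hN : Subsingleton (Coh.HH X N 1)) :
    Submodule.span (X.ringCatSheaf.obj.obj (op ⊤))
        (Set.range (fun p : (CohB1.tensorMod N A).val.obj (op ⊤) × A.val.obj (op ⊤) =>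
          SecTwist.tmul (CohB1.tensorMod N A) A ⊤ p.1 p.2)) = ⊤ := by
  classical
  haveI := Fintype.ofFinite J
  set M := CohB1.tensorMod N A with hM
  let Φ : (∐ fun _ : J => M) ⟶ CohB1.tensorMod M A := Sigma.desc (tensHom M A T)
  haveI hΦ : Epi Φ := epi_desc_tensHom M A T (genAtBy_of_genLocus A T hT)
  obtain ⟨q, hq⟩ := exists_epi_kernel_desc_tensHom N A T hT
  have hd' : topologicalKrullDim X ≤ ((1 : ℕ) : WithBot ℕ∞) := by simpa using hd
  have hK : Subsingleton (Coh.HH X (kernel Φ) 1) :=
    Groth.Agent.Lib.helper12.GGTensor.subsingleton_HH_of_epi q 1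
      (Groth.Agent.Lib.helper11.CoprodVan.subsingleton_HH_sigma (G := fun _ : J × J => N) (p := 1)
        (h := fun _ => hN))
      (Groth.Agent.Lib.Lead.GrothVanish.subsingleton_HH_of_dim_le X 1 hd' _ 2 (by norm_num))
  have hS : (ShortComplex.mk (kernel.ι Φ) Φ (kernel.condition Φ)).ShortExact :=
    { exact := ShortComplex.exact_of_f_is_kernel _ (kernelIsKernel Φ) }
  have hsurj : Function.Surjective (Φ.val.app (op ⊤)).hom :=
    Groth.Agent.Lib.helper12.GGExt.surjective_app_top_of_H1 hS hK
  rw [eq_top_iff]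
  intro τ _
  obtain ⟨x, rfl⟩ := hsurj τ
  have hΦsum : Φ = ∑ i : J, Sigma.desc (fun j : J => if j = i then 𝟙 M else 0) ≫ tensHom M A T i :=
    sigma_desc_eq_sum (tensHom M A T)
  rw [hΦsum, sum_app_top]
  refine Submodule.sum_mem _ (fun i _ => ?_)
  have h1 : ((Sigma.desc (fun j : J => if j = i then 𝟙 M else 0) ≫ tensHom M A T i).val.app
      (op ⊤)).hom x =
      ((tensHom M A T i).val.app (op ⊤)).hom
        (((Sigma.desc (fun j : J => if j = i then 𝟙 M else 0) :
          (∐ fun _ : J => M) ⟶ M).val.app (op ⊤)).hom x) := rfl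
  rw [h1, tensHom_apply]
  exact Submodule.subset_span ⟨(_, _), rfl⟩

end Groth.Agent.Lib.helper7.Koszul
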