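import Mathlib
import Groth.Agent.Lib.Helper7.KoszulC
import Groth.Agent.Lib.Helper12.GlobGen
import Groth.Agent.Lib.Lead.ProperEuler

/-!
# Section rings of globally generated invertible modules on one-dimensional schemes (helper7)

`span_tmul_tensorPow`: `X` quasi-compact quasi-separated of dimension `≤ 1`, `A` invertible and globally
generated with `H¹(A^m) = 0`; then for `n ≥ m + 1` the products `a ⊗ b`, `a ∈ Γ(A^n)`, `b ∈ Γ(A)`, span
`Γ(A^n ⊗ A)` (Castelnuovo–Mumford in dimension one, via the Koszul epimorphism).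
-/

set_option autoImplicit false
set_option linter.style.haveILetI false

universe u

open CategoryTheory Limits AlgebraicGeometry Opposite TopologicalSpace

namespace Groth.Agent.Lib.helper7.Koszul

open Groth.Agent.Lib.helper11.IsoLocus Groth.Agent.Lib.helper11.TensorEpi
  Groth.Agent.Lib.helper12.AmpleBasis Groth.Agent.Lib.helper11.SerreGG

variable {X : Scheme.{u}}

theorem homOfSec_val {A : X.Modules} (s : Coh.structureModule X ⟶ A) :
    homOfSec A (SecTwist.val s ⊤) = s := by
  apply Groth.Agent.Lib.helper12.TensorInvLocal.hom_ext_val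
  intro U
  rw [val_homOfSec]
  exact SecTwist.map_val s (homOfLE (le_top : U ≤ ⊤))

/-- finitely many generating sections of a globally generated invertible module on a compact scheme -/
theorem exists_finite_gen [CompactSpace X] {A : X.Modules} (hA : PicF.IsInvertible A)
    (hgg : Curv2.IsGloballyGenerated A) :
    ∃ (J : Type u) (_ : Finite J) (T : J → A.val.obj (op ⊤)),
      ∀ x : X, ∃ l, x ∈ CohB1.genLocus A (homOfSec A (T l)) := by
  obtain ⟨ι, p, hp⟩ := hgg
  have hcov : (Set.univ : Set X) ⊆ ⋃ i : ι,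
      ((CohB1.genLocus A (SheafOfModules.ιFree i ≫ p) : X.Opens) : Set X) := by
    intro x _
    obtain ⟨i, hi⟩ := Groth.Agent.Lib.helper12.GlobGen.exists_mem_genLocus_of_epi hA p x
    exact Set.mem_iUnion.mpr ⟨i, hi⟩
  obtain ⟨t, ht⟩ := isCompact_univ.elim_finite_subcover
    (fun i : ι => ((CohB1.genLocus A (SheafOfModules.ιFree i ≫ p) : X.Opens) : Set X))
    (fun i => (CohB1.genLocus A (SheafOfModules.ιFree i ≫ p)).isOpen) hcov
  refine ⟨↥t, inferInstance, fun j => SecTwist.val (SheafOfModules.ιFree j.1 ≫ p) ⊤, fun x => ?_⟩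
  obtain ⟨i, hit, hxi⟩ : ∃ i ∈ t, x ∈ ((CohB1.genLocus A (SheafOfModules.ιFree i ≫ p) : X.Opens) :
      Set X) := by
    have := ht (Set.mem_univ x)
    simpa only [Set.mem_iUnion, exists_prop] using this
  refine ⟨⟨i, hit⟩, ?_⟩
  rw [homOfSec_val]
  exact hxi

theorem subsingleton_H1_tensorPow_add [CompactSpace X] [QuasiSeparatedSpace X]
    (hd : topologicalKrullDim X ≤ 1) {A : X.Modules} (hgg : Curv2.IsGloballyGenerated A) (m : ℕ)
    (hm : Subsingleton (Coh.HH X (CohB1.tensorPow A m) 1)) (d : ℕ) :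
    Subsingleton (Coh.HH X (CohB1.tensorPow A (m + d)) 1) := by
  induction d with
  | zero => exact hm
  | succ d ih =>
    have h1 : Subsingleton (Coh.HH X (CohB1.tensorMod A (CohB1.tensorPow A (m + d))) 1) :=
      Groth.Agent.Lib.helper12.GGTensor.subsingleton_H1_tensor_of_gg hd hgg ih
    exact Groth.Agent.Lib.helper11.RelSerre.subsingleton_HH_of_iso
      (Groth.Agent.Lib.Lead.ModTensor.braid A (CohB1.tensorPow A (m + d))) 1 h1

theorem span_tmul_tensorPow [CompactSpace X] [QuasiSeparatedSpace X]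
    (hd : topologicalKrullDim X ≤ 1) {A : X.Modules} (hA : PicF.IsInvertible A)
    (hgg : Curv2.IsGloballyGenerated A) (m : ℕ)
    (hm : Subsingleton (Coh.HH X (CohB1.tensorPow A m) 1)) (n : ℕ) (hn : m + 1 ≤ n) :
    Submodule.span (X.ringCatSheaf.obj.obj (op ⊤))
        (Set.range (fun p : (CohB1.tensorPow A n).val.obj (op ⊤) × A.val.obj (op ⊤) =>
          SecTwist.tmul (CohB1.tensorPow A n) A ⊤ p.1 p.2)) = ⊤ := by
  obtain ⟨d, rfl⟩ : ∃ d, n = m + d + 1 := ⟨n - (m + 1), by omega⟩
  obtain ⟨J, hJ, T, hT⟩ := exists_finite_gen hA hgg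
  exact span_tmul_eq_top_of_H1 hd (CohB1.tensorPow A (m + d)) A T hT
    (subsingleton_H1_tensorPow_add hd hgg m hm d)

end Groth.Agent.Lib.helper7.Koszul
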