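import Mathlib
import Groth.Agent.Lib.Helper7.KoszulD
import Groth.Agent.Lib.Helper18.DegCalc
import Groth.Agent.Lib.Helper8.FiniteGeneric

/-!
# Koszul surjectivity of multiplication maps under an `H²`-vanishing hypothesis (helper7)

Variant of `Koszul.span_tmul_eq_top_of_H1` in which the dimension hypothesis `dim X ≤ 1` is replaced by
"`H²` of every coherent module vanishes" (e.g. `X` proper over a Noetherian ring with fibres of dimension `≤ 1`).
-/

set_option autoImplicit false
set_option linter.style.haveILetI false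

universe u

open CategoryTheory Limits AlgebraicGeometry Opposite TopologicalSpace

namespace Groth.Agent.Lib.helper7.KoszulRel

open Groth.Agent.Lib.helper11.IsoLocus Groth.Agent.Lib.helper11.TensorEpi
  Groth.Agent.Lib.helper12.TwistExtend Groth.Agent.Lib.helper12.AmpleBasis
  Groth.Agent.Lib.helper12.PullTensor Groth.Agent.Lib.helper11.SerreGG
  Groth.Agent.Lib.helper7.Koszul

attribute [local instance] Abelian.hasFiniteBiproducts

variable {X : Scheme.{u}}

/-- a finite coproduct of copies of a coherent module is coherent -/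
theorem isCoh_sigma_const [IsLocallyNoetherian X] {J : Type u} [Finite J] (N : X.Modules)
    (hN : Coh.IsCoh N) : Coh.IsCoh (∐ fun _ : J => N) := by
  obtain ⟨d, ⟨e⟩⟩ := Finite.exists_equiv_fin J
  have e1 : (∐ fun _ : J => N) ≅ ∐ fun _ : Fin d => N :=
    Sigma.whiskerEquiv (f := fun _ : J => N) (g := fun _ : Fin d => N) e (fun _ => Iso.refl N)
  have e2 : (⨁ fun _ : Fin d => N) ≅ ∐ fun _ : Fin d => N := biproduct.isoCoproduct _
  exact Groth.Agent.Lib.helper7.CohKer.isCoh_of_iso (e2 ≪≫ e1.symm)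
    (Groth.Agent.Lib.helper8.Dev.isCoh_biproduct _ (fun _ => hN))

theorem span_tmul_eq_top_of_H1 [IsNoetherian X]
    (hH2 : ∀ K : X.Modules, Coh.IsCoh K → Subsingleton (Coh.HH X K 2))
    (N A : X.Modules) (hNc : Coh.IsCoh N) (hAc : Coh.IsCoh A) {J : Type u} [Finite J]
    (T : J → A.val.obj (op ⊤))
    (hT : ∀ x : X, ∃ l, x ∈ CohB1.genLocus A (homOfSec A (T l)))
    (hN : Subsingleton (Coh.HH X N 1)) :
    Submodule.span (X.ringCatSheaf.obj.obj (op ⊤))
        (Set.range (fun p : (CohB1.tensorMod N A).val.obj (op ⊤) × A.val.obj (op ⊤) =>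
          SecTwist.tmul (CohB1.tensorMod N A) A ⊤ p.1 p.2)) = ⊤ := by
  classical
  haveI := Fintype.ofFinite J
  set M := CohB1.tensorMod N A with hM
  have hMc : Coh.IsCoh M := Groth.Agent.Lib.Helper18.DegCalc.isCoh_tensorMod hNc hAc
  have hMAc : Coh.IsCoh (CohB1.tensorMod M A) :=
    Groth.Agent.Lib.Helper18.DegCalc.isCoh_tensorMod hMc hAc
  let Φ : (∐ fun _ : J => M) ⟶ CohB1.tensorMod M A := Sigma.desc (tensHom M A T)
  haveI hΦ : Epi Φ := epi_desc_tensHom M A T (genAtBy_of_genLocus A T hT)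
  obtain ⟨q, hq⟩ := exists_epi_kernel_desc_tensHom N A T hT
  have hKΦ : Coh.IsCoh (kernel Φ) :=
    Groth.Agent.Lib.helper7.CohKer.isCoh_kernel (isCoh_sigma_const M hMc) hMAc Φ
  have hKq : Coh.IsCoh (kernel q) :=
    Groth.Agent.Lib.helper7.CohKer.isCoh_kernel (isCoh_sigma_const N hNc) hKΦ q
  have hK : Subsingleton (Coh.HH X (kernel Φ) 1) :=
    Groth.Agent.Lib.helper12.GGTensor.subsingleton_HH_of_epi q 1
      (Groth.Agent.Lib.helper11.CoprodVan.subsingleton_HH_sigma (G := fun _ : J × J => N) (p := 1)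
        (h := fun _ => hN))
      (hH2 _ hKq)
  have hS : (ShortComplex.mk (kernel.ι Φ) Φ (kernel.condition Φ)).ShortExact :=
    { exact := ShortComplex.exact_of_f_is_kernel _ (kernelIsKernel Φ) }
  have hsurj : Function.Surjective (Φ.val.app (op ⊤)).hom :=
    Groth.Agent.Lib.helper12.GGExt.surjective_app_top_of_H1 hS hK
  rw [eq_top_iff]
  intro τ _
  obtain ⟨x, rfl⟩ := hsurj τ
  have hΦsum : Φ = ∑ i : J, Sigma.desc (fun j : J => if j = i then 𝟙 M else 0) ≫ tensHom M A T i :=
    sigma_desc_eq_sum (tensHom M A T)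
  rw [hΦsum, sum_app_top]
  refine Submodule.sum_mem _ (fun i _ => ?_)
  have h1 : ((Sigma.desc (fun j : J => if j = i then 𝟙 M else 0) ≫ tensHom M A T i).val.app
      (op ⊤)).hom x =
      ((tensHom M A T i).val.app (op ⊤)).hom
        (((Sigma.desc (fun j : J => if j = i then 𝟙 M else 0) :
          (∐ fun _ : J => M) ⟶ M).val.app (op ⊤)).hom x) := rfl
  rw [h1, tensHom_apply]
  exact Submodule.subset_span ⟨(_, _), rfl⟩

end Groth.Agent.Lib.helper7.KoszulRel
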