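import Mathlib
import Groth.Agent.Lib.Helper7.KoszulRel
import Groth.Agent.Lib.Helper8.FormalQuot
import Groth.Agent.Lib.Lead.GE2
import Groth.Agent.Lib.Helper18.HHSum0
import Groth.Agent.Lib.Helper18.HHConseq
import Groth.Agent.Lib.Helper12.GGExt

/-!
# Right exactness of `H¹` under `H²`-vanishing, and Nakayama (helper7)

`X` Noetherian over a Noetherian ring `A`, `H²(X, K) = 0` for all coherent `K`, `I` an ideal of `A`, `M` coherent.
* `epi_finCover`: `I M` is a quotient of finitely many copies of `M`.
* `mem_smul_top_of_map_qπ_eq_zero`: the kernel of `H¹(M) → H¹(M / I M)` is `I H¹(M)`.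
* `surjective_map_qπ`, `subsingleton_H1_Sb`, `surjective_sections_qπ`.
* `subsingleton_of_forall_maximal`: Nakayama over all maximal ideals.
-/

set_option autoImplicit false
set_option linter.style.haveILetI false
set_option linter.unusedSectionVars false
universe u
open CategoryTheory CategoryTheory.Limits AlgebraicGeometry Opposite TopologicalSpace

namespace Groth.Agent.Lib.helper7.RelFib

open Formal Groth.Agent.Lib.helper8.FF Groth.Agent.Lib.Lead.GE Groth.Agent.Lib.Helper18

section Nakayama

/-- **Nakayama over all maximal ideals**: a finite module with `N = 𝔪 N` for every maximal ideal vanishes -/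
theorem subsingleton_of_forall_maximal {A N : Type*} [CommRing A] [AddCommGroup N] [Module A N]
    [Module.Finite A N]
    (h : ∀ 𝔪 : Ideal A, 𝔪.IsMaximal → ∀ x : N, x ∈ 𝔪 • (⊤ : Submodule A N)) :
    Subsingleton N := by
  by_contra hN
  rw [not_subsingleton_iff_nontrivial] at hN
  have hann : Module.annihilator A N ≠ ⊤ := by
    intro htop
    obtain ⟨x, hx⟩ := exists_ne (0 : N)
    have h1 : (1 : A) ∈ Module.annihilator A N := by rw [htop]; trivial
    have := Module.mem_annihilator.mp h1 x
    rw [one_smul] at this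
    exact hx this
  obtain ⟨𝔪, h𝔪, hle⟩ := Ideal.exists_le_maximal _ hann
  obtain ⟨r, hr1, hr2⟩ := Submodule.exists_sub_one_mem_and_smul_eq_zero_of_fg_of_le_smul 𝔪
    (⊤ : Submodule A N) Module.Finite.fg_top (fun x _ => h 𝔪 h𝔪 x)
  have hr : r ∈ 𝔪 := hle (Module.mem_annihilator.mpr (fun n => hr2 n trivial))
  have h1 : (1 : A) ∈ 𝔪 := by
    have := 𝔪.sub_mem hr hr1
    simpa using this
  exact h𝔪.ne_top ((Ideal.eq_top_iff_one 𝔪).mpr h1)

end Nakayama

variable {A : Type u} [CommRing A] {X : Scheme.{u}} [X.Over (Spec (CommRingCat.of A))]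

lemma smulMod_sum {ι : Type*} (s : Finset ι) (c : ι → A) (M : X.Modules) :
    smulMod A M (∑ i ∈ s, c i) = ∑ i ∈ s, smulMod A M (c i) := by
  classical
  induction s using Finset.induction_on with
  | empty => rw [Finset.sum_empty, Finset.sum_empty, smulMod_zero]
  | insert i s hi ih => rw [Finset.sum_insert hi, Finset.sum_insert hi, smulMod_add, ih]

variable (I : Ideal A)

/-- the cover of `I M` by copies of `M` indexed by a family of elements of `I` -/
noncomputable def finCover {J : Type u} (a : J → A) (ha : ∀ j, a j ∈ I) (M : X.Modules) :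
    (∐ fun _ : J => M) ⟶ Sb I M := Sigma.desc (fun j => sbLift M (ha j))

lemma finCover_ι {J : Type u} (a : J → A) (ha : ∀ j, a j ∈ I) (M : X.Modules) :
    finCover I a ha M ≫ sbι I M = Sigma.desc (fun j => smulMod A M (a j)) := by
  apply Sigma.hom_ext
  intro j
  unfold finCover
  rw [Sigma.ι_desc_assoc, sbLift_ι, Sigma.ι_desc]

theorem epi_finCover {J : Type u} [Fintype J] (a : J → A) (ha : ∀ j, a j ∈ I)
    (hspan : Ideal.span (Set.range a) = I) (M : X.Modules) : Epi (finCover I a ha M) := by
  classical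
  have hex : ∀ c : I, ∃ d : J → A, ∑ j, d j * a j = (c : A) := by
    intro c
    have hc : (c : A) ∈ Ideal.span (Set.range a) := by rw [hspan]; exact c.2
    exact Ideal.mem_span_range_iff_exists_fun.mp hc
  choose d hd using hex
  have hfac : sbCover I M =
      Sigma.desc (fun c : I => ∑ j, smulMod A M (d c j) ≫ Sigma.ι (fun _ : J => M) j) ≫
        finCover I a ha M := by
    apply Sigma.hom_ext
    intro c
    rw [ι_sbCover, ← Category.assoc, Sigma.ι_desc, ← cancel_mono (sbι I M), sbLift_ι,
      Category.assoc, finCover_ι, Preadditive.sum_comp]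
    have : ∀ j ∈ (Finset.univ : Finset J),
        (smulMod A M (d c j) ≫ Sigma.ι (fun _ : J => M) j) ≫
          Sigma.desc (fun j => smulMod A M (a j)) = smulMod A M (d c j * a j) := by
      intro j _
      rw [Category.assoc, Sigma.ι_desc, ← smulMod_mul']
    rw [Finset.sum_congr rfl this, ← smulMod_sum, hd c]
  exact epi_of_epi_fac hfac.symm

variable [IsNoetherianRing A] [IsNoetherian X]
  (hH2 : ∀ K : X.Modules, Coh.IsCoh K → Subsingleton (Coh.HH X K 2))

omit [IsNoetherianRing A] in
theorem isCoh_Sb (M : X.Modules) (hM : Coh.IsCoh M) : Coh.IsCoh (Sb I M) :=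
  Groth.Agent.Lib.helper7.CohKer.isCoh_kernel hM (isCoh_Q' I M hM) (qπ I M)

include hH2 in
/-- `H¹(∐ M) → H¹(I M)` is onto -/
theorem surjective_map_finCover {J : Type u} [Fintype J] (a : J → A) (ha : ∀ j, a j ∈ I)
    (hspan : Ideal.span (Set.range a) = I) (M : X.Modules) (hM : Coh.IsCoh M) :
    Function.Surjective (HH.map (finCover I a ha M) 1) := by
  haveI := epi_finCover I a ha hspan M
  have hK : Coh.IsCoh (kernel (finCover I a ha M)) :=
    Groth.Agent.Lib.helper7.CohKer.isCoh_kernel
      (Groth.Agent.Lib.helper7.KoszulRel.isCoh_sigma_const M hM) (isCoh_Sb I M hM) _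
  have hS : (ShortComplex.mk (kernel.ι (finCover I a ha M)) (finCover I a ha M)
      (kernel.condition _)).ShortExact :=
    { exact := ShortComplex.exact_of_f_is_kernel _ (kernelIsKernel _) }
  exact HH.surjective_map_g hS 1 (hH2 _ hK)

include hH2 in
/-- the kernel of `H¹(M) → H¹(M / I M)` is contained in `I H¹(M)` -/
theorem mem_smul_top_of_map_qπ_eq_zero (M : X.Modules) (hM : Coh.IsCoh M) (x : Coh.HH X M 1)
    (hx : HH.map (qπ I M) 1 x = 0) : x ∈ I • (⊤ : Submodule A (Coh.HH X M 1)) := by
  classical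
  obtain ⟨s, hs⟩ := (isNoetherianRing_iff_ideal_fg A).mp inferInstance I
  let a : (↥s) → A := Subtype.val
  have ha : ∀ j, a j ∈ I := fun j => by
    rw [← hs]
    exact Ideal.subset_span j.2
  have hspan : Ideal.span (Set.range a) = I := by
    rw [Subtype.range_coe]
    exact hs
  obtain ⟨y, hy⟩ := (HH.exact₂ (ses_shortExact I M) 1 x).1 hx
  obtain ⟨z, hz⟩ := surjective_map_finCover I hH2 a ha hspan M hM y
  have hxz : x = HH.map (finCover I a ha M ≫ sbι I M) 1 z := by
    rw [HH.map_comp_apply, hz]
    exact hy.symm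
  rw [hxz, finCover_ι, Groth.Agent.Lib.helper7.Koszul.sigma_desc_eq_sum, HH.map_sum,
    LinearMap.sum_apply]
  refine Submodule.sum_mem _ (fun i _ => ?_)
  rw [HH.map_comp_apply, map_smulMod]
  exact Submodule.smul_mem_smul (ha i) trivial

include hH2 in
theorem surjective_map_qπ (M : X.Modules) (hM : Coh.IsCoh M) :
    Function.Surjective (HH.map (qπ I M) 1) :=
  HH.surjective_map_g (ses_shortExact I M) 1 (hH2 _ (isCoh_Sb I M hM))

include hH2 in
theorem subsingleton_H1_Sb (M : X.Modules) (hM : Coh.IsCoh M)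
    (h1 : Subsingleton (Coh.HH X M 1)) : Subsingleton (Coh.HH X (Sb I M) 1) := by
  classical
  obtain ⟨s, hs⟩ := (isNoetherianRing_iff_ideal_fg A).mp inferInstance I
  let a : (↥s) → A := Subtype.val
  have ha : ∀ j, a j ∈ I := fun j => by
    rw [← hs]
    exact Ideal.subset_span j.2
  have hspan : Ideal.span (Set.range a) = I := by
    rw [Subtype.range_coe]
    exact hs
  haveI : Subsingleton (Coh.HH X (∐ fun _ : ↥s => M) 1) :=
    Groth.Agent.Lib.helper11.CoprodVan.subsingleton_HH_sigma (G := fun _ : ↥s => M) (p := 1)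
      (h := fun _ => h1)
  exact (surjective_map_finCover I hH2 a ha hspan M hM).subsingleton

include hH2 in
theorem surjective_sections_qπ (M : X.Modules) (hM : Coh.IsCoh M)
    (h1 : Subsingleton (Coh.HH X M 1)) :
    Function.Surjective ((qπ I M).val.app (op ⊤)).hom :=
  Groth.Agent.Lib.helper12.GGExt.surjective_app_top_of_H1 (ses_shortExact I M)
    (subsingleton_H1_Sb I hH2 M hM h1)

end Groth.Agent.Lib.helper7.RelFib
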