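import Mathlib
import Groth.Agent.Lib.Helper7.RelFib1
import Groth.Agent.Lib.Helper7.RelFib2
import Groth.Agent.Lib.Helper20.FibreDimVan
import Groth.Agent.Lib.Helper18.NefH1Zero
import Groth.Agent.Lib.Helper9.CurveAmple
import Groth.Agent.Lib.Helper12.PullAmple
import Groth.Agent.Lib.Helper12.GlobGen
import Groth.Agent.Lib.Lead.ProperFin2
import Groth.Agent.Lib.Helper27.FibreVan1

/-!
# Ample modules on proper schemes with fibres of dimension `≤ 1` and `H¹(O_X) = 0` (helper7)

`f : X ⟶ Spec A` proper, `A` Noetherian, fibres of dimension `≤ 1`, `H¹(X, O_X) = 0`, `L` ample. Then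
`H¹(X, L) = 0` (`subsingleton_H1_of_isAmple`) and `L` is generated by global sections at every point
(`exists_section_mem_genLocus`).
-/

set_option autoImplicit false
set_option linter.style.haveILetI false
set_option linter.unusedSectionVars false
universe u
open CategoryTheory CategoryTheory.Limits AlgebraicGeometry Opposite TopologicalSpace

namespace Groth.Agent.Lib.helper7.RelFib

open Formal Groth.Agent.Lib.helper8.FF Groth.Agent.Lib.Lead.GE Groth.Agent.Lib.Helper18
  Scheme.Modules Groth.Agent.Lib.helper11.InvMod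

section Fibre

variable (A : Type u) [CommRing A] [IsNoetherianRing A] (X : Scheme.{u})
  [X.Over (Spec (CommRingCat.of A))] [IsProper (X ↘ Spec (CommRingCat.of A))]
  (κ : Type u) [Field κ] [Algebra A κ]

/-- the fibre over the point `Spec κ ⟶ Spec A` -/
noncomputable abbrev fib : Scheme.{u} :=
  pullback (X ↘ Spec (CommRingCat.of A)) (Spec.map (CommRingCat.ofHom (algebraMap A κ)))

noncomputable abbrev fibι : fib A X κ ⟶ X := pullback.fst _ _

noncomputable abbrev fibp : fib A X κ ⟶ Spec (CommRingCat.of κ) := pullback.snd _ _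

noncomputable instance fibOverK : (fib A X κ).Over (Spec (CommRingCat.of κ)) := ⟨fibp A X κ⟩

noncomputable instance fibOverA : (fib A X κ).Over (Spec (CommRingCat.of A)) :=
  ⟨fibι A X κ ≫ (X ↘ Spec (CommRingCat.of A))⟩

instance : IsProper ((fib A X κ) ↘ Spec (CommRingCat.of κ)) := by
  change IsProper (pullback.snd (X ↘ Spec (CommRingCat.of A))
    (Spec.map (CommRingCat.ofHom (algebraMap A κ))))
  infer_instance

lemma isPullback_fib : IsPullback (fibι A X κ) (fibp A X κ) (X ↘ Spec (CommRingCat.of A))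
    (Spec.map (CommRingCat.ofHom (algebraMap A κ))) := IsPullback.of_hasPullback _ _

variable (hsurj : Function.Surjective (algebraMap A κ))

include hsurj in
lemma isClosedImmersion_fibι : IsClosedImmersion (fibι A X κ) := by
  haveI : IsClosedImmersion (Spec.map (CommRingCat.ofHom (algebraMap A κ))) :=
    IsClosedImmersion.spec_of_surjective _ hsurj
  change IsClosedImmersion (pullback.fst (X ↘ Spec (CommRingCat.of A))
    (Spec.map (CommRingCat.ofHom (algebraMap A κ))))
  infer_instance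

/-- the image point of `Spec κ` in `Spec A` -/
noncomputable def pt : ↥(Spec (CommRingCat.of A)) :=
  (Spec.map (CommRingCat.ofHom (algebraMap A κ))) (default : PrimeSpectrum κ)

lemma specMap_eq_pt (p : ↥(Spec (CommRingCat.of κ))) :
    (Spec.map (CommRingCat.ofHom (algebraMap A κ))) p = pt A κ := by
  have : p = (default : PrimeSpectrum κ) := Subsingleton.elim _ _
  rw [this]
  rfl

lemma fibι_mem (x : fib A X κ) :
    (X ↘ Spec (CommRingCat.of A)) (fibι A X κ x) = pt A κ := by
  have h1 : (X ↘ Spec (CommRingCat.of A)) (fibι A X κ x) =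
      (fibι A X κ ≫ (X ↘ Spec (CommRingCat.of A))) x := rfl
  rw [h1, (isPullback_fib A X κ).w]
  exact specMap_eq_pt A κ _

include hsurj in
lemma dim_fib_le
    (hfib : ∀ y : ↥(Spec (CommRingCat.of A)),
      topologicalKrullDim ↥((X ↘ Spec (CommRingCat.of A)).fiber y) ≤ 1) :
    topologicalKrullDim (fib A X κ) ≤ 1 := by
  haveI := isClosedImmersion_fibι A X κ hsurj
  let f := X ↘ Spec (CommRingCat.of A)
  let g := fibι A X κ
  let φ : fib A X κ → ↥(f ⁻¹' {pt A κ}) := fun x => ⟨g x, fibι_mem A X κ x⟩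
  have hφ : Topology.IsInducing φ := by
    refine Topology.IsInducing.of_comp ?_ continuous_subtype_val ?_
    · exact g.continuous.subtype_mk _
    · exact g.isEmbedding.toIsInducing
  calc _ ≤ topologicalKrullDim ↥(f ⁻¹' {pt A κ}) := hφ.topologicalKrullDim_le
    _ = topologicalKrullDim ↥(f.fiber (pt A κ)) :=
      (IsHomeomorph.topologicalKrullDim_eq _ (f.fiberHomeo (pt A κ)).isHomeomorph).symm
    _ ≤ 1 := hfib _

end Fibre

section Main

variable (A : Type u) [CommRing A] [IsNoetherianRing A] (X : Scheme.{u})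
  [X.Over (Spec (CommRingCat.of A))] [IsProper (X ↘ Spec (CommRingCat.of A))]
  (hfib : ∀ y : ↥(Spec (CommRingCat.of A)),
    topologicalKrullDim ↥((X ↘ Spec (CommRingCat.of A)).fiber y) ≤ 1)
  (h1 : Subsingleton (Coh.HH X (Coh.structureModule X) 1))

include hfib in
theorem subsingleton_H2 (K : X.Modules) (hK : Coh.IsCoh K) : Subsingleton (Coh.HH X K 2) :=
  Groth.Agent.Lib.Helper20.FibreDimVan.subsingleton_HH_of_fibre_dim_le A X 1
    (fun y => by exact_mod_cast hfib y) K hK 2 (by norm_num)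

variable (κ : Type u) [Field κ] [Algebra A κ] (hsurj : Function.Surjective (algebraMap A κ))

include hfib h1 hsurj in
theorem subsingleton_H1_unit_fib :
    Subsingleton (Coh.HH (fib A X κ) (Coh.structureModule (fib A X κ)) 1) := by
  haveI : IsNoetherian X := Groth.Agent.Lib.helper27.FibreVan.isNoetherian_of_proper A X
  have hO : Coh.IsCoh (Coh.structureModule X) :=
    Groth.Agent.Lib.Lead.CurveInv.isCoh_of_isInvertible X
      (Groth.Agent.Lib.helper11.InvMod.isInvertible_structureModule X)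
  haveI : (Coh.structureModule X).IsQuasicoherent := hO.1
  have hsQ : Subsingleton (Coh.HH X (Q (RingHom.ker (algebraMap A κ)) (Coh.structureModule X)) 1) :=
    (surjective_map_qπ (RingHom.ker (algebraMap A κ)) (subsingleton_H2 A X hfib) _ hO).subsingleton
  have h2 := (subsingleton_HH_Q_iff (fibp A X κ) (fibι A X κ) (isPullback_fib A X κ) rfl
    (RingHom.ker (algebraMap A κ)) hsurj rfl (Coh.structureModule X) 1).mp hsQ
  exact Groth.Agent.Lib.helper11.RelSerre.subsingleton_HH_of_iso (pullbackUnitIso (fibι A X κ)) 1 h2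

include hfib h1 hsurj in
/-- on the fibre, the pullback of an ample module has no `H¹` and is globally generated -/
theorem fibre_main (L : X.Modules) (hL : CohB1.IsAmple L) :
    Subsingleton (Coh.HH (fib A X κ) ((Scheme.Modules.pullback (fibι A X κ)).obj L) 1) ∧
    ∀ x' : fib A X κ, ∃ t' : Coh.structureModule (fib A X κ) ⟶
        (Scheme.Modules.pullback (fibι A X κ)).obj L, x' ∈ CohB1.genLocus _ t' := by
  haveI := isClosedImmersion_fibι A X κ hsurj
  have hdim := dim_fib_le A X κ hsurj hfib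
  have h1' := subsingleton_H1_unit_fib A X hfib h1 κ hsurj
  have hL' : CohB1.IsAmple ((Scheme.Modules.pullback (fibι A X κ)).obj L) :=
    Groth.Agent.Lib.helper12.PullAmple.isAmple_pullback_of_isAffineHom (fibι A X κ) hL
  have hnef : ∀ J : (fib A X κ).IdealSheafData, IsIntegral J.subscheme →
      topologicalKrullDim J.subscheme = 1 →
      0 ≤ @Curv2.deg κ _ J.subscheme
        ⟨J.subschemeι ≫ ((fib A X κ) ↘ (Spec (CommRingCat.of κ)))⟩
        ((Scheme.Modules.pullback J.subschemeι).obj
          ((Scheme.Modules.pullback (fibι A X κ)).obj L)) 1 := by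
    intro J hJint hJdim
    letI : J.subscheme.Over (Spec (CommRingCat.of κ)) :=
      ⟨J.subschemeι ≫ ((fib A X κ) ↘ (Spec (CommRingCat.of κ)))⟩
    haveI : IsProper (J.subscheme ↘ Spec (CommRingCat.of κ)) :=
      inferInstanceAs (IsProper (J.subschemeι ≫ ((fib A X κ) ↘ Spec (CommRingCat.of κ))))
    haveI := hJint
    have hA' : CohB1.IsAmple ((Scheme.Modules.pullback J.subschemeι).obj
        ((Scheme.Modules.pullback (fibι A X κ)).obj L)) :=
      Groth.Agent.Lib.helper12.PullAmple.isAmple_pullback_of_isAffineHom J.subschemeι hL'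
    exact (Groth.Agent.Lib.helper9.CurveAmple.deg_pos_of_isAmple κ J.subscheme hJdim hA').le
  refine ⟨Groth.Agent.Lib.Helper18.NefH1Zero.subsingleton_H1_of_nef κ (fib A X κ) hdim h1' hL'.1 hnef,
    fun x' => ?_⟩
  obtain ⟨ι, p, hp⟩ := Groth.Agent.Lib.Helper18.NefH1Zero.gg_of_nef κ (fib A X κ) hdim h1' hL'.1 hnef
  obtain ⟨i, hi⟩ := Groth.Agent.Lib.helper12.GlobGen.exists_mem_genLocus_of_epi hL'.1 p x'
  exact ⟨_, hi⟩

include hfib h1 in
/-- **`H¹` of an ample module vanishes** -/
theorem subsingleton_H1_of_isAmple (L : X.Modules) (hL : CohB1.IsAmple L) :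
    Subsingleton (Coh.HH X L 1) := by
  haveI : IsNoetherian X := Groth.Agent.Lib.helper27.FibreVan.isNoetherian_of_proper A X
  have hLc := Groth.Agent.Lib.Lead.CurveInv.isCoh_of_isInvertible X hL.1
  haveI : L.IsQuasicoherent := hLc.1
  haveI : Module.Finite A (Coh.HH X L 1) :=
    Groth.Agent.Lib.Lead.ProperFin.finite_HH_of_isProper A X L hLc 1
  refine subsingleton_of_forall_maximal (A := A) (fun 𝔪 h𝔪 x => ?_)
  haveI := h𝔪
  letI : Field (A ⧸ 𝔪) := Ideal.Quotient.field 𝔪
  have hsurj : Function.Surjective (algebraMap A (A ⧸ 𝔪)) := Ideal.Quotient.mk_surjective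
  have hker : RingHom.ker (algebraMap A (A ⧸ 𝔪)) = 𝔪 := by
    rw [Ideal.Quotient.algebraMap_eq, Ideal.mk_ker]
  have hF := (fibre_main A X hfib h1 (A ⧸ 𝔪) hsurj L hL).1
  haveI hQ : Subsingleton (Coh.HH X (Q 𝔪 L) 1) :=
    (subsingleton_HH_Q_iff (fibp A X (A ⧸ 𝔪)) (fibι A X (A ⧸ 𝔪)) (isPullback_fib A X (A ⧸ 𝔪)) rfl
      𝔪 hsurj hker L 1).mpr hF
  exact mem_smul_top_of_map_qπ_eq_zero 𝔪 (subsingleton_H2 A X hfib) L hLc x
    (Subsingleton.elim _ _)

include hfib h1 in
/-- **an ample module is generated by global sections at every point** -/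
theorem exists_section_mem_genLocus (L : X.Modules) (hL : CohB1.IsAmple L) (x : X) :
    ∃ t : Coh.structureModule X ⟶ L, x ∈ CohB1.genLocus L t := by
  haveI : IsNoetherian X := Groth.Agent.Lib.helper27.FibreVan.isNoetherian_of_proper A X
  have hLc := Groth.Agent.Lib.Lead.CurveInv.isCoh_of_isInvertible X hL.1
  haveI : L.IsQuasicoherent := hLc.1
  have hH1 := subsingleton_H1_of_isAmple A X hfib h1 L hL
  have key : ∀ z : X, IsClosed ({z} : Set X) →
      ∃ t : Coh.structureModule X ⟶ L, z ∈ CohB1.genLocus L t := by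
    intro z hz
    let f := X ↘ Spec (CommRingCat.of A)
    let y : PrimeSpectrum A := f z
    have hy : IsClosed ({y} : Set (PrimeSpectrum A)) := by
      have := f.isClosedMap _ hz
      rwa [Set.image_singleton] at this
    have h𝔪 : y.asIdeal.IsMaximal := (PrimeSpectrum.isClosed_singleton_iff_isMaximal y).mp hy
    set 𝔪 := y.asIdeal with h𝔪def
    haveI := h𝔪
    letI : Field (A ⧸ 𝔪) := Ideal.Quotient.field 𝔪
    have hsurj : Function.Surjective (algebraMap A (A ⧸ 𝔪)) := Ideal.Quotient.mk_surjective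
    have hker : RingHom.ker (algebraMap A (A ⧸ 𝔪)) = 𝔪 := by
      rw [Ideal.Quotient.algebraMap_eq, Ideal.mk_ker]
    have hyr : y ∈ Set.range (Spec.map (CommRingCat.ofHom (algebraMap A (A ⧸ 𝔪)))) := by
      change y ∈ Set.range (PrimeSpectrum.comap (algebraMap A (A ⧸ 𝔪)))
      rw [range_comap_of_surjective _ _ hsurj, hker, PrimeSpectrum.mem_zeroLocus]
    have hzr : z ∈ Set.range (fibι A X (A ⧸ 𝔪)) := by
      rw [Scheme.Pullback.range_fst]
      exact hyr
    obtain ⟨x', hx'z⟩ := hzr
    obtain ⟨t', ht'⟩ := (fibre_main A X hfib h1 (A ⧸ 𝔪) hsurj L hL).2 x'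
    obtain ⟨t, ht⟩ := exists_lift_pullback_section (fibp A X (A ⧸ 𝔪)) (fibι A X (A ⧸ 𝔪))
      (isPullback_fib A X (A ⧸ 𝔪)) rfl 𝔪 hsurj hker L
      (surjective_sections_qπ 𝔪 (subsingleton_H2 A X hfib) L hLc hH1) t'
    refine ⟨t, ?_⟩
    have hg := Groth.Agent.Lib.helper11.InvPullback.genLocus_pullback (fibι A X (A ⧸ 𝔪)) L hL.1 t
      (pullbackUnitIso (fibι A X (A ⧸ 𝔪))).symm
    have hx' : x' ∈ CohB1.genLocus ((Scheme.Modules.pullback (fibι A X (A ⧸ 𝔪))).obj L)
        ((pullbackUnitIso (fibι A X (A ⧸ 𝔪))).symm.hom ≫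
          (Scheme.Modules.pullback (fibι A X (A ⧸ 𝔪))).map t) := by
      change x' ∈ CohB1.genLocus _ ((pullbackUnitIso (fibι A X (A ⧸ 𝔪))).inv ≫ _)
      rw [ht]
      exact ht'
    rw [hg] at hx'
    rw [← hx'z]
    exact hx'
  let U : X.Opens := ⨆ t : Coh.structureModule X ⟶ L, CohB1.genLocus L t
  have hU : (U : Set X) = Set.univ := by
    by_contra hne
    have hne' : ((U : Set X)ᶜ).Nonempty := Set.nonempty_compl.mpr hne
    obtain ⟨z, hz, hzc⟩ := IsClosed.exists_closed_singleton U.isOpen.isClosed_compl hne'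
    obtain ⟨t, ht⟩ := key z hzc
    exact hz (Opens.mem_iSup.mpr ⟨t, ht⟩)
  have hx : x ∈ U := by
    change x ∈ (U : Set X)
    rw [hU]
    trivial
  exact Opens.mem_iSup.mp hx

end Main

end Groth.Agent.Lib.helper7.RelFib
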