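import Mathlib
import Groth.Agent.Lib.Helper7.RelFib3
import Groth.Agent.Lib.Helper21.InvFibre
import Groth.Agent.Lib.Helper18.HHLES

/-!
# Lifting sections from a closed fibre up to a unit, without flatness (helper7)

`X` Noetherian over a Noetherian ring `A` with `H²(X, K) = 0` for all coherent `K`, `A → B` surjective with kernel
`I`, `X' = X ×_A B`, `M` coherent with `H¹(X, M)` finite over `A` and `H¹(X', M|_{X'}) = 0`.  Then for every
section `t'` of `M|_{X'}` there are `r ∈ 1 + I` and a section `t` of `M` restricting to `r • t'`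
(`exists_lift_smul`).
-/

set_option autoImplicit false
set_option linter.style.haveILetI false
set_option linter.unusedSectionVars false
universe u
open CategoryTheory CategoryTheory.Limits AlgebraicGeometry Opposite TopologicalSpace

namespace Groth.Agent.Lib.helper7.ContrTriv

open Formal Groth.Agent.Lib.helper8.FF Groth.Agent.Lib.helper8.FPull
  Scheme.Modules Groth.Agent.Lib.helper11.Thick Groth.Agent.Lib.helper11.FibMono
  Groth.Agent.Lib.Lead.GE Groth.Agent.Lib.Helper18
  Groth.Agent.Lib.helper11.AdicSys Groth.Agent.Lib.helper11.ThickTower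
  Groth.Agent.Lib.helper8.FCompl Groth.Agent.Lib.helper8.FTors
  Groth.Agent.Lib.helper11.InvPullback Groth.Agent.Lib.helper11.InvMod
  Groth.Agent.Lib.helper7.RelFib

section Gamma

variable {X : Scheme.{u}}

/-- multiplication by a unit global function is an isomorphism -/
theorem isIso_smulModΓ_of_isUnit (T : X.Modules) (c : Coh.Γtop X) (hc : IsUnit c) :
    IsIso (smulModΓ T c) := by
  obtain ⟨u, rfl⟩ := hc
  have h1 : smulModΓ T (↑u⁻¹ : Coh.Γtop X) ≫ smulModΓ T (↑u : Coh.Γtop X) = 𝟙 T := by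
    rw [← smulModΓ_mul, u.mul_inv, smulModΓ_one]
  have h2 : smulModΓ T (↑u : Coh.Γtop X) ≫ smulModΓ T (↑u⁻¹ : Coh.Γtop X) = 𝟙 T := by
    rw [← smulModΓ_mul, u.inv_mul, smulModΓ_one]
  exact ⟨⟨smulModΓ T (↑u⁻¹ : Coh.Γtop X), h2, h1⟩⟩

/-- the class of `1` in `H⁰(X, O_X)` -/
noncomputable def unitClass (X : Scheme.{u}) : Coh.HH X (Coh.structureModule X) 0 :=
  (HH.equiv₀ (Coh.structureModule X)).symm (1 : X.ringCatSheaf.obj.obj (op ⊤))

theorem ev_eq (N : X.Modules) (τ : Coh.structureModule X ⟶ N) :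
    Groth.Agent.Lib.Helper21.TermSec.ev (X := (⊤ : X.Opens)) N τ =
      HH.equiv₀ N (HH.map τ 0 (unitClass X)) := by
  have h1 := HH.equiv₀_naturality τ (unitClass X)
  have h2 : HH.equiv₀ (Coh.structureModule X) (unitClass X) =
      (1 : X.ringCatSheaf.obj.obj (op ⊤)) := LinearEquiv.apply_symm_apply _ _
  rw [h1, h2]
  rfl

theorem hom_ext_of_map_unitClass (N : X.Modules) (τ₁ τ₂ : Coh.structureModule X ⟶ N)
    (h : HH.map τ₁ 0 (unitClass X) = HH.map τ₂ 0 (unitClass X)) : τ₁ = τ₂ := by
  apply Groth.Agent.Lib.Helper21.TermSec.ev_injective (X := (⊤ : X.Opens)) Limits.isTerminalTop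
  rw [ev_eq, ev_eq, h]

theorem exists_hom_of_class (N : X.Modules) (w : Coh.HH X N 0) :
    ∃ t : Coh.structureModule X ⟶ N, HH.map t 0 (unitClass X) = w := by
  refine ⟨Groth.Agent.Lib.helper21.InvFibre.homOfSec N (HH.equiv₀ N w), ?_⟩
  apply (HH.equiv₀ N).injective
  rw [← ev_eq]
  exact Groth.Agent.Lib.helper21.InvFibre.homOfSec_app N _

end Gamma

section Over

variable {A : Type u} [CommRing A] {X : Scheme.{u}} [X.Over (Spec (CommRingCat.of A))]

theorem map_smul_over {M N : X.Modules} (φ : M ⟶ N) (n : ℕ) (r : A) (x : Coh.HH X M n) :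
    HH.map φ n (r • x) = r • HH.map φ n x :=
  (HH.mapOver A φ n).map_smul r x

/-- `r` kills the cohomology of a finite coproduct of copies of `M` if it kills that of `M` -/
theorem smul_HH_sigma_eq_zero {J : Type u} [Fintype J] (M : X.Modules) (r : A) (n : ℕ)
    (hr : ∀ x : Coh.HH X M n, r • x = 0) (z : Coh.HH X (∐ fun _ : J => M) n) : r • z = 0 := by
  classical
  have htot := Groth.Agent.Lib.helper7.Koszul.sigma_total (J := J) M
  have hz : z = HH.map (𝟙 (∐ fun _ : J => M)) n z := by rw [HH.map_id]; rfl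
  rw [hz, ← htot, HH.map_sum, LinearMap.sum_apply, Finset.smul_sum]
  refine Finset.sum_eq_zero (fun i _ => ?_)
  rw [HH.map_comp_apply, ← map_smul_over, hr, map_zero]

/-- lifting a section of `S.X₃` up to `r`, when `r` kills `H¹(S.X₁)` -/
theorem exists_lift_of_smul_H1 {S : ShortComplex X.Modules} (hS : S.ShortExact) (r : A)
    (hr : ∀ y : Coh.HH X S.X₁ 1, r • y = 0) (σ : Coh.structureModule X ⟶ S.X₃) :
    ∃ t : Coh.structureModule X ⟶ S.X₂, t ≫ S.g = σ ≫ smulMod A S.X₃ r := by
  let y : Coh.HH X S.X₃ 0 := HH.map σ 0 (unitClass X)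
  have hδ : HH.δOver hS A 0 (r • y) = 0 := by
    have h0 := (HH.δOver hS A 0).map_smul r y
    rw [h0]
    exact hr _
  obtain ⟨w, hw⟩ := (HH.exactOver₃ hS A 0 (r • y)).mp hδ
  obtain ⟨t, ht⟩ := exists_hom_of_class S.X₂ w
  refine ⟨t, hom_ext_of_map_unitClass _ _ _ ?_⟩
  rw [HH.map_comp_apply, HH.map_comp_apply, ht, map_smulMod]
  exact hw

variable [IsNoetherianRing A] [IsNoetherian X] (I : Ideal A)
  (hH2 : ∀ K : X.Modules, Coh.IsCoh K → Subsingleton (Coh.HH X K 2))

include hH2 in
/-- `r` kills `H¹(I M)` if it kills `H¹(M)` -/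
theorem smul_H1_Sb_eq_zero (M : X.Modules) (hM : Coh.IsCoh M) (r : A)
    (hr : ∀ x : Coh.HH X M 1, r • x = 0) (y : Coh.HH X (Sb I M) 1) : r • y = 0 := by
  classical
  obtain ⟨s, hs⟩ := (isNoetherianRing_iff_ideal_fg A).mp inferInstance I
  let a : (↥s) → A := Subtype.val
  have ha : ∀ j, a j ∈ I := fun j => by
    rw [← hs]
    exact Ideal.subset_span j.2
  have hspan : Ideal.span (Set.range a) = I := by
    rw [Subtype.range_coe]
    exact hs
  obtain ⟨z, hz⟩ := surjective_map_finCover I hH2 a ha hspan M hM y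
  rw [← hz, ← map_smul_over, smul_HH_sigma_eq_zero M r 1 hr z, map_zero]

end Over

section Lift

variable {A B : Type u} [CommRing A] [CommRing B] [Algebra A B]
  {X X' : Scheme.{u}} [X.Over (Spec (CommRingCat.of A))] [X'.Over (Spec (CommRingCat.of A))]
  (fX' : X' ⟶ Spec (CommRingCat.of B)) (g' : X' ⟶ X)
  (h : IsPullback g' fX' (X ↘ Spec (CommRingCat.of A))
    (Spec.map (CommRingCat.ofHom (algebraMap A B))))
  (hf : g' ≫ (X ↘ Spec (CommRingCat.of A)) = X' ↘ Spec (CommRingCat.of A))
  (I : Ideal A) (hsurj : Function.Surjective (algebraMap A B))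
  (hker : RingHom.ker (algebraMap A B) = I)

include h hf in
theorem smulMod_eq_smulModΓ (T : X'.Modules) (a : A) :
    smulMod A T a = smulModΓ T (Coh.toGlobal fX' (algebraMap A B a)) := by
  unfold smulMod
  rw [← hf, h.w, toGlobal_comp_specMap]

include h hf in
theorem isIso_smulMod_of_isUnit (T : X'.Modules) (a : A) (ha : IsUnit (algebraMap A B a)) :
    IsIso (smulMod A T a) := by
  rw [smulMod_eq_smulModΓ fX' g' h hf]
  exact isIso_smulModΓ_of_isUnit T _ (ha.map (Coh.toGlobal fX'))

/-- a morphism `O_X ⟶ M` whose composite with the unit is `t''` pushed forward pulls back to `t''` -/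
theorem pullSec_eq_of_unit (M : X.Modules) (t : Coh.structureModule X ⟶ M)
    (t'' : Coh.structureModule X' ⟶ (Scheme.Modules.pullback g').obj M)
    (ht : t ≫ (Scheme.Modules.pullbackPushforwardAdjunction g').unit.app M =
      unitToPush g' ≫ (Scheme.Modules.pushforward g').map t'') :
    (pullbackUnitIso g').inv ≫ (Scheme.Modules.pullback g').map t = t'' := by
  let adj := Scheme.Modules.pullbackPushforwardAdjunction g'
  rw [Iso.inv_comp_eq]
  apply (adj.homEquiv _ _).injective
  rw [Adjunction.homEquiv_unit, Adjunction.homEquiv_unit, Functor.map_comp, ← Category.assoc]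
  have e1 : adj.unit.app (Coh.structureModule X) ≫
      (Scheme.Modules.pushforward g').map ((Scheme.Modules.pullback g').map t) =
      t ≫ adj.unit.app M := (adj.unit.naturality t).symm
  have e2 : adj.unit.app (Coh.structureModule X) ≫
      (Scheme.Modules.pushforward g').map (pullbackUnitIso g').hom = unitToPush g' := by
    have := pullbackUnitHom_eq g'
    change adj.unit.app _ ≫ (Scheme.Modules.pushforward g').map (pullbackUnitHom g') = _
    rw [this]
    exact (adj.homEquiv_unit _ _ _).symm.trans (Equiv.apply_symm_apply _ _)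
  rw [e1, e2, ht]

variable [IsNoetherianRing A] [IsNoetherian X]
  (hH2 : ∀ K : X.Modules, Coh.IsCoh K → Subsingleton (Coh.HH X K 2))

include h hf hsurj hker hH2 in
/-- **lifting sections from a closed fibre up to a unit**, without flatness -/
theorem exists_lift_smul (M : X.Modules) (hM : Coh.IsCoh M) [Module.Finite A (Coh.HH X M 1)]
    (h1 : Subsingleton (Coh.HH X' ((Scheme.Modules.pullback g').obj M) 1))
    (t' : Coh.structureModule X' ⟶ (Scheme.Modules.pullback g').obj M) :
    ∃ r : A, r - 1 ∈ I ∧ ∃ t : Coh.structureModule X ⟶ M,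
      (pullbackUnitIso g').inv ≫ (Scheme.Modules.pullback g').map t =
        t' ≫ smulMod A ((Scheme.Modules.pullback g').obj M) r := by
  haveI : M.IsQuasicoherent := hM.1
  have hQ : Subsingleton (Coh.HH X (Q I M) 1) :=
    (subsingleton_HH_Q_iff fX' g' h hf I hsurj hker M 1).mpr h1
  have hmem : ∀ x : Coh.HH X M 1, x ∈ I • (⊤ : Submodule A (Coh.HH X M 1)) := fun x =>
    mem_smul_top_of_map_qπ_eq_zero I hH2 M hM x (Subsingleton.elim _ _)
  obtain ⟨r, hr1, hr2⟩ := Submodule.exists_sub_one_mem_and_smul_eq_zero_of_fg_of_le_smul I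
    (⊤ : Submodule A (Coh.HH X M 1)) Module.Finite.fg_top (fun x _ => hmem x)
  have hrM : ∀ x : Coh.HH X M 1, r • x = 0 := fun x => hr2 x trivial
  have hrS := smul_H1_Sb_eq_zero I hH2 M hM r hrM
  refine ⟨r, hr1, ?_⟩
  obtain ⟨θ, hθ⟩ := exists_qIso fX' g' h hf I hsurj hker M
  let adj := Scheme.Modules.pullbackPushforwardAdjunction g'
  let σ' : Coh.structureModule X ⟶ pushPull g' M :=
    unitToPush g' ≫ (Scheme.Modules.pushforward g').map t'
  obtain ⟨t, ht⟩ : ∃ t : Coh.structureModule X ⟶ M,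
      t ≫ qπ I M = (σ' ≫ θ.inv) ≫ smulMod A (Q I M) r :=
    exists_lift_of_smul_H1 (ses_shortExact I M) r hrS (σ' ≫ θ.inv)
  refine ⟨t, pullSec_eq_of_unit g' M t _ ?_⟩
  calc t ≫ adj.unit.app M = t ≫ qπ I M ≫ θ.hom := by rw [hθ]
    _ = ((σ' ≫ θ.inv) ≫ smulMod A (Q I M) r) ≫ θ.hom := by rw [← Category.assoc, ht]
    _ = σ' ≫ smulMod A (pushPull g' M) r := by
        rw [Category.assoc, Category.assoc, smulMod_naturality θ.hom r, Iso.inv_hom_id_assoc]
    _ = unitToPush g' ≫ (Scheme.Modules.pushforward g').map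
          (t' ≫ smulMod A ((Scheme.Modules.pullback g').obj M) r) := by
        rw [Functor.map_comp, pushforward_map_smulMod g' hf]
        exact Category.assoc _ _ _

end Lift

end Groth.Agent.Lib.helper7.ContrTriv
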