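import Mathlib
import Groth.Agent.Lib.Helper7.ContrTriv
import Groth.Agent.Lib.Helper21.PicFibre
import Groth.Agent.Lib.Helper11.PullUnit

/-!
# Invertible modules trivial on the fibres of a proper morphism with fibres of dimension `≤ 1` (helper7)

`f : X ⟶ Y` proper (not necessarily flat), `Y` locally Noetherian, fibres of dimension `≤ 1` with
`H¹(X_y, O_{X_y}) = 0`.  An invertible module `N` on `X` which is trivial on every fibre is trivial on `f⁻¹U` for
a neighbourhood `U` of any given point (`exists_isTrivOn_preimage`); if moreover `O_Y → f_* O_X` is an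
isomorphism then `f_* N` is invertible (`isInvertible_pushforward`) and `f^*` is injective on invertible modules
(`nonempty_iso_of_pullback_iso`).
-/

set_option autoImplicit false
set_option linter.style.haveILetI false
set_option linter.unusedSectionVars false
universe u
open CategoryTheory CategoryTheory.Limits AlgebraicGeometry Opposite TopologicalSpace

namespace Groth.Agent.Lib.helper7.ContrTriv

open Formal Scheme.Modules Groth.Agent.Lib.Helper18
  Groth.Agent.Lib.helper7.RelFib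
  Groth.Agent.Lib.helper16.FLF
  Groth.Agent.Lib.helper11.InvMod Groth.Agent.Lib.helper11.IsoLocus
  Groth.Agent.Lib.helper11.InvPullback Groth.Agent.Lib.helper11.GenLocus
  Groth.Agent.Lib.helper11.InvHom
  Groth.Agent.Lib.helper21.GCBase Groth.Agent.Lib.helper21.GCChart
  Groth.Agent.Lib.helper21.InvFibre

section Main

variable {X Y : Scheme.{u}} (f : X ⟶ Y) [IsProper f] [IsLocallyNoetherian Y]

/-- fibres of the chart `f⁻¹V ⟶ Spec Γ(Y, V)` have dimension `≤ 1` -/
theorem dim_fiber_fA_le {V : Y.Opens} (hV : IsAffineOpen V)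
    (hdim : ∀ y : Y, y ∈ V → topologicalKrullDim ↥(f.fiber y) ≤ 1)
    (y : ↑(Spec (CommRingCat.of Γ(Y, V)))) :
    topologicalKrullDim ↥((fA f hV).fiber y) ≤ 1 := by
  have hsq := Groth.Agent.Lib.helper21.GCBase.isPullback_chart f hV
  have hw : ∀ p : (↑(f ⁻¹ᵁ V) : Scheme.{u}), hV.fromSpec ((fA f hV) p) = f ((f ⁻¹ᵁ V).ι p) := by
    intro p
    have := congrArg (fun φ : (↑(f ⁻¹ᵁ V) : Scheme.{u}) ⟶ Y => φ p) hsq.w
    exact this.symm
  let φ : ↥((fA f hV) ⁻¹' {y}) → ↥(f ⁻¹' {hV.fromSpec y}) := fun p =>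
    ⟨(f ⁻¹ᵁ V).ι p.1, by
      show f ((f ⁻¹ᵁ V).ι p.1) = hV.fromSpec y
      rw [← hw]
      exact congrArg _ p.2⟩
  have hφ : Topology.IsInducing φ := by
    refine Topology.IsInducing.of_comp ?_ continuous_subtype_val ?_
    · exact ((f ⁻¹ᵁ V).ι.continuous.comp continuous_subtype_val).subtype_mk _
    · exact (f ⁻¹ᵁ V).ι.isEmbedding.toIsInducing.comp Topology.IsInducing.subtypeVal
  calc topologicalKrullDim ↥((fA f hV).fiber y)
      = topologicalKrullDim ↥((fA f hV) ⁻¹' {y}) :=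
        IsHomeomorph.topologicalKrullDim_eq _ ((fA f hV).fiberHomeo y).isHomeomorph
    _ ≤ topologicalKrullDim ↥(f ⁻¹' {hV.fromSpec y}) := hφ.topologicalKrullDim_le
    _ = topologicalKrullDim ↥(f.fiber (hV.fromSpec y)) :=
        (IsHomeomorph.topologicalKrullDim_eq _ (f.fiberHomeo (hV.fromSpec y)).isHomeomorph).symm
    _ ≤ 1 := hdim _ (by
        have : hV.fromSpec y ∈ Set.range hV.fromSpec := ⟨y, rfl⟩
        rw [hV.range_fromSpec] at this
        exact this)

/-- **triviality near the fibre over a closed point of an affine open**, without flatness -/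
theorem exists_isTrivOn_preimage_of_isMaximal {V : Y.Opens} (hV : IsAffineOpen V)
    (hdim : ∀ y : Y, y ∈ V → topologicalKrullDim ↥(f.fiber y) ≤ 1)
    (x : ↑(Spec (CommRingCat.of Γ(Y, V)))) (hx : x.asIdeal.IsMaximal)
    (h1 : Subsingleton (Coh.HH (f.fiber (hV.fromSpec x))
      (Coh.structureModule (f.fiber (hV.fromSpec x))) 1))
    (N : X.Modules) (hN : PicF.IsInvertible N)
    (hy : Nonempty (CohIII.fiberMod f N (hV.fromSpec x) ≅
      Coh.structureModule (f.fiber (hV.fromSpec x)))) :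
    ∃ U : Y.Opens, hV.fromSpec x ∈ U ∧ IsTrivOn N (f ⁻¹ᵁ U) := by
  haveI : IsNoetherianRing Γ(Y, V) := IsLocallyNoetherian.component_noetherian ⟨V, hV⟩
  letI := Groth.Agent.Lib.helper21.GCBase.overA f hV
  haveI : IsProper ((↑(f ⁻¹ᵁ V) : Scheme.{u}) ↘ Spec (CommRingCat.of Γ(Y, V))) :=
    inferInstanceAs (IsProper (fA f hV))
  have hsq := Groth.Agent.Lib.helper21.GCBase.isPullback_chart f hV
  have hNc := isCoh_of_isInvertible hN
  haveI : N.IsQuasicoherent := hNc.1
  have hFAc : Coh.IsCoh (FA f (V := V) N) := Groth.Agent.Lib.helper21.GCBase.isCoh_FA f N hNc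
  have hFAinv : PicF.IsInvertible (FA f (V := V) N) := isInvertible_restrict _ hN
  letI := Groth.Agent.Lib.helper21.GCChart.fibreOver f Γ(Y, V) hV.fromSpec x
  let g' := Groth.Agent.Lib.helper21.GCChart.lift f Γ(Y, V) hV.fromSpec (f ⁻¹ᵁ V).ι hsq x
  have hpb := Groth.Agent.Lib.helper21.GCChart.isPullback_lift f Γ(Y, V) hV.fromSpec (f ⁻¹ᵁ V).ι hsq x
  letI : (f.fiber (hV.fromSpec x)).Over (Spec (CommRingCat.of Γ(Y, V))) :=
    ⟨g' ≫ ((↑(f ⁻¹ᵁ V) : Scheme.{u}) ↘ Spec (CommRingCat.of Γ(Y, V)))⟩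
  let e1 := Groth.Agent.Lib.helper21.GCChart.fibreModIso f Γ(Y, V) hV.fromSpec (f ⁻¹ᵁ V).ι hsq x N (FA f (V := V) N)
    (Groth.Agent.Lib.helper21.GCBase.eF f (V := V) N)
  obtain ⟨e2⟩ := hy
  let ε : Coh.structureModule (f.fiber (hV.fromSpec x)) ≅
      (Scheme.Modules.pullback g').obj (FA f (V := V) N) := (e1 ≪≫ e2).symm
  have h1' : Subsingleton (Coh.HH (f.fiber (hV.fromSpec x))
      ((Scheme.Modules.pullback g').obj (FA f (V := V) N)) 1) := subsingleton_HH_of_iso ε 1 h1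
  haveI : IsNoetherian (↑(f ⁻¹ᵁ V) : Scheme.{u}) :=
    Groth.Agent.Lib.helper27.FibreVan.isNoetherian_of_proper Γ(Y, V) (↑(f ⁻¹ᵁ V) : Scheme.{u})
  have hH2 := subsingleton_H2 Γ(Y, V) (↑(f ⁻¹ᵁ V) : Scheme.{u}) (dim_fiber_fA_le f hV hdim)
  haveI : Module.Finite Γ(Y, V) (Coh.HH (↑(f ⁻¹ᵁ V) : Scheme.{u}) (FA f (V := V) N) 1) :=
    Groth.Agent.Lib.Lead.ProperFin.finite_HH_of_isProper Γ(Y, V) (↑(f ⁻¹ᵁ V) : Scheme.{u})
      (FA f (V := V) N) hFAc 1
  haveI := hx
  have hsurj : Function.Surjective (algebraMap Γ(Y, V) x.asIdeal.ResidueField) :=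
    Ideal.algebraMap_residueField_surjective x.asIdeal
  have hker : RingHom.ker (algebraMap Γ(Y, V) x.asIdeal.ResidueField) = x.asIdeal :=
    Ideal.ker_algebraMap_residueField x.asIdeal
  obtain ⟨r, hr1, σ, hσ⟩ := exists_lift_smul (Groth.Agent.Lib.helper21.GCChart.fibreTo f Γ(Y, V) hV.fromSpec x) g' hpb rfl
    x.asIdeal hsurj hker hH2 (FA f (V := V) N) hFAc h1' ε.hom
  have hr : r ∉ x.asIdeal := by
    intro hr
    apply hx.ne_top
    rw [Ideal.eq_top_iff_one]
    have := x.asIdeal.sub_mem hr hr1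
    simpa using this
  have hunit : IsUnit (algebraMap Γ(Y, V) x.asIdeal.ResidueField r) := by
    rw [isUnit_iff_ne_zero]
    intro h0
    exact hr (Ideal.algebraMap_residueField_eq_zero.mp h0)
  have hiso : IsIso (pullSec g' (FA f (V := V) N) σ) := by
    unfold pullSec
    rw [hσ]
    haveI := isIso_smulMod_of_isUnit (Groth.Agent.Lib.helper21.GCChart.fibreTo f Γ(Y, V) hV.fromSpec x) g' hpb rfl
      ((Scheme.Modules.pullback g').obj (FA f (V := V) N)) r hunit
    infer_instance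
  have hloc : g' ⁻¹ᵁ (isoLocus σ) = ⊤ := by
    have h2 := genLocus_pullback g' (FA f (V := V) N) hFAinv σ (pullbackUnitIso g').symm
    have h3 : CohB1.genLocus ((Scheme.Modules.pullback g').obj (FA f (V := V) N))
        ((pullbackUnitIso g').symm.hom ≫ (Scheme.Modules.pullback g').map σ) = ⊤ :=
      (genLocus_eq_top_iff _ _).mpr hiso
    rw [h3] at h2
    exact h2.symm
  -- the closed complement of the iso locus and its closed image
  let Z : Set (↑(f ⁻¹ᵁ V) : Scheme.{u}) := ((isoLocus σ : (↑(f ⁻¹ᵁ V) : Scheme.{u}).Opens) : Set _)ᶜ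
  have hZ : IsClosed Z := (isoLocus σ).2.isClosed_compl
  have hcl : IsClosed ((fA f hV) '' Z) := (fA f hV).isClosedMap _ hZ
  have hw : ∀ p : (↑(f ⁻¹ᵁ V) : Scheme.{u}), hV.fromSpec ((fA f hV) p) = f ((f ⁻¹ᵁ V).ι p) := by
    intro p
    have := congrArg (fun φ : (↑(f ⁻¹ᵁ V) : Scheme.{u}) ⟶ Y => φ p) hsq.w
    exact this.symm
  have hinj : Function.Injective hV.fromSpec := hV.fromSpec.isOpenEmbedding.injective
  have hx' : x ∉ (fA f hV) '' Z := by
    rintro ⟨p, hpZ, hpx⟩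
    apply hpZ
    have h4 : (f ⁻¹ᵁ V).ι p ∈ Set.range (f.fiberι (hV.fromSpec x)) := by
      rw [f.range_fiberι]
      show f ((f ⁻¹ᵁ V).ι p) = hV.fromSpec x
      rw [← hw p, hpx]
    obtain ⟨p', hp'⟩ := h4
    have h5 : g' p' = p := by
      apply (f ⁻¹ᵁ V).ι.isOpenEmbedding.injective
      rw [← hp']
      have := congrArg (fun φ : f.fiber (hV.fromSpec x) ⟶ X => φ p')
        (Groth.Agent.Lib.helper21.GCChart.lift_i f Γ(Y, V) hV.fromSpec (f ⁻¹ᵁ V).ι hsq x)
      exact this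
    have h6 : p' ∈ g' ⁻¹ᵁ (isoLocus σ) := by
      rw [hloc]
      trivial
    rw [← h5]
    exact h6
  let U0 : (Spec (CommRingCat.of Γ(Y, V))).Opens := ⟨((fA f hV) '' Z)ᶜ, hcl.isOpen_compl⟩
  have hUV : f ⁻¹ᵁ (hV.fromSpec ''ᵁ U0) ≤ f ⁻¹ᵁ V := by
    rintro p ⟨q, -, hq⟩
    show f p ∈ V
    have : f p ∈ Set.range hV.fromSpec := ⟨q, hq⟩
    rw [hV.range_fromSpec] at this
    exact this
  refine ⟨hV.fromSpec ''ᵁ U0, ⟨x, hx', rfl⟩, ?_⟩
  let j0 := X.homOfLE hUV
  have hle : j0.opensRange ≤ isoLocus σ := by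
    rw [Scheme.opensRange_homOfLE]
    intro p hp
    obtain ⟨q, hq, hqp⟩ := hp
    by_contra hcon
    have h7 : q = (fA f hV) p := by
      apply hinj
      rw [hw p]
      exact hqp
    exact hq ⟨p, hcon, h7.symm⟩
  haveI : IsIso ((restrictFunctor j0).map σ) :=
    (isIso_restrictFunctor_iff_opensRange j0 σ).mpr ((le_isoLocus_iff σ _).mp hle)
  exact ⟨(Groth.Agent.Lib.helper11.InvMod.restrictRestrictIso N hUV).symm ≪≫
    (asIso ((restrictFunctor j0).map σ)).symm ≪≫ restrictUnitIso j0⟩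

/-- **an invertible module trivial on the fibres is trivial over a neighbourhood of any point**, for a proper
morphism with fibres of dimension `≤ 1` and `H¹(X_y, O) = 0` -/
theorem exists_isTrivOn_preimage
    (hdim : ∀ y : Y, topologicalKrullDim ↥(f.fiber y) ≤ 1)
    (hH1 : ∀ y : Y, Subsingleton (Coh.HH (f.fiber y) (Coh.structureModule (f.fiber y)) 1))
    (N : X.Modules) (hN : PicF.IsInvertible N)
    (hfib : ∀ y : Y, Nonempty (CohIII.fiberMod f N y ≅ Coh.structureModule (f.fiber y)))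
    (y : Y) : ∃ U : Y.Opens, y ∈ U ∧ IsTrivOn N (f ⁻¹ᵁ U) := by
  obtain ⟨V, hV, hyV⟩ : ∃ V : Y.Opens, IsAffineOpen V ∧ y ∈ V := by
    obtain ⟨_, ⟨V, hV, rfl⟩, hyV, -⟩ :=
      Y.isBasis_affineOpens.exists_subset_of_mem_open (Set.mem_univ y) isOpen_univ
    exact ⟨V, hV, hyV⟩
  obtain ⟨x₁, rfl⟩ : ∃ x, hV.fromSpec x = y := by
    have : y ∈ Set.range hV.fromSpec := by
      rw [hV.range_fromSpec]
      exact hyV
    exact this
  obtain ⟨𝔪, h𝔪, hle⟩ := Ideal.exists_le_maximal x₁.asIdeal x₁.isPrime.ne_top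
  let x : ↑(Spec (CommRingCat.of Γ(Y, V))) := ⟨𝔪, h𝔪.isPrime⟩
  obtain ⟨U, hxU, hT⟩ := exists_isTrivOn_preimage_of_isMaximal f hV (fun y' _ => hdim y') x h𝔪
    (hH1 _) N hN (hfib _)
  refine ⟨U, ?_, hT⟩
  have hspec : x₁ ⤳ x := (PrimeSpectrum.le_iff_specializes (R := Γ(Y, V)) x₁ x).mp hle
  have hmem : x ∈ (hV.fromSpec ⁻¹ᵁ U : (Spec (CommRingCat.of Γ(Y, V))).Opens) := hxU
  exact hspec.mem_open (hV.fromSpec ⁻¹ᵁ U).2 hmem

variable (hO : ∀ U : Y.Opens, IsIso (f.app U))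

include hO in
/-- `f_* N` is invertible -/
theorem isInvertible_pushforward
    (hdim : ∀ y : Y, topologicalKrullDim ↥(f.fiber y) ≤ 1)
    (hH1 : ∀ y : Y, Subsingleton (Coh.HH (f.fiber y) (Coh.structureModule (f.fiber y)) 1))
    (N : X.Modules) (hN : PicF.IsInvertible N)
    (hfib : ∀ y : Y, Nonempty (CohIII.fiberMod f N y ≅ Coh.structureModule (f.fiber y))) :
    PicF.IsInvertible ((Scheme.Modules.pushforward f).obj N) := by
  intro y
  obtain ⟨U, hyU, hT⟩ := exists_isTrivOn_preimage f hdim hH1 N hN hfib y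
  exact ⟨U, hyU, Groth.Agent.Lib.helper21.PicFibre.isTrivOn_pushforward f N U hT (fun V _ => hO V)⟩

end Main

section Inj

variable {X Y : Scheme.{u}} (f : X ⟶ Y) (hO : ∀ U : Y.Opens, IsIso (f.app U))

include hO in
/-- `f^*` is injective on invertible modules when `O_Y → f_* O_X` is an isomorphism -/
theorem nonempty_iso_of_pullback_iso (N N' : Y.Modules) (hN : PicF.IsInvertible N)
    (hN' : PicF.IsInvertible N')
    (e : (Scheme.Modules.pullback f).obj N ≅ (Scheme.Modules.pullback f).obj N') :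
    Nonempty (N ≅ N') := by
  have hb : ∀ U : Y.Opens, Function.Bijective (f.app U) := fun U => by
    haveI := hO U
    exact ConcreteCategory.bijective_of_isIso (f.app U)
  haveI := Groth.Agent.Lib.helper11.PullUnit.isIso_unit_of_isInvertible f hb N hN
  haveI := Groth.Agent.Lib.helper11.PullUnit.isIso_unit_of_isInvertible f hb N' hN'
  exact ⟨asIso ((pullbackPushforwardAdjunction f).unit.app N) ≪≫
    (Scheme.Modules.pushforward f).mapIso e ≪≫
    (asIso ((pullbackPushforwardAdjunction f).unit.app N')).symm⟩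

end Inj

end Groth.Agent.Lib.helper7.ContrTriv
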