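import Mathlib
import Groth.Agent.S0843
import Groth.Agent.S0844
import Groth.Agent.Lib.Helper28.TwistPn
import Groth.Agent.Lib.Helper11.SerreGG
import Groth.Agent.Lib.Helper20.GGDescent
import Groth.Agent.Lib.Helper18.Punctual
import Groth.Agent.Lib.Helper18.HHZero
import Groth.Agent.Lib.Helper18.HHLin
import Groth.Agent.Lib.Helper19.ProjSpaceProper
import Groth.Agent.Lib.Lead.CurveInv
import Groth.Agent.Lib.Helper12.GGTensor

/-!
# `O(d)` on `P^n_R` is ample iff `d > 0` (helper7)

* `nonempty_tensorPow_twist_iso`: `O(d)^{⊗ m} ≅ O(m d)`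
* `isZero_of_gg_of_subsingleton`: a globally generated module without global sections is zero
* `not_isAmple_twist_of_nonpos`, `isAmple_twist_iff` (S10962)
-/

set_option autoImplicit false
set_option linter.unusedSectionVars false
set_option linter.style.haveILetI false
universe u
open CategoryTheory CategoryTheory.Limits AlgebraicGeometry TopologicalSpace Opposite

namespace Groth.Agent.Lib.helper7.TwistAmpleIff

open Groth.Agent.Lib.Lead.ModTensor Groth.Agent.Lib.helper28

theorem subsingleton_HH_of_isZero {X : Scheme.{u}} {M : X.Modules} (hM : IsZero M) (n : ℕ) :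
    Subsingleton (Coh.HH X M n) := by
  refine subsingleton_of_forall_eq 0 (fun x => ?_)
  have hx : Groth.Agent.Lib.Helper18.HH.map (𝟙 M) n x = x := by
    rw [Groth.Agent.Lib.Helper18.HH.map_id]
    rfl
  have h0 : (𝟙 M : M ⟶ M) = 0 := (IsZero.iff_id_eq_zero M).mp hM
  rw [h0, Groth.Agent.Lib.Helper18.HH.map_zero] at hx
  exact hx.symm

/-- a globally generated module without nonzero global sections is zero -/
theorem isZero_of_gg_of_subsingleton {X : Scheme.{u}} {M : X.Modules}
    (hgg : Curv2.IsGloballyGenerated M) [Subsingleton (M.val.obj (op ⊤))] : IsZero M := by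
  obtain ⟨ι, p, hp⟩ := hgg
  exact @Groth.Agent.Lib.helper20.GGDescent.isZero_of_epi_of_gen X _ _ p hp ι
    (fun i => SheafOfModules.ιFree i)
    (fun a b h => Groth.Agent.Lib.helper20.GGDescent.free_hom_ext a b h)
    (fun i => Subsingleton.elim _ _)

variable (n : ℕ) (R : Type u) [CommRing R]

theorem nonempty_tensorPow_twist_iso (d : ℤ) (m : ℕ) :
    Nonempty (CohB1.tensorPow (Twist.twistProjSpace n R d) m ≅
      Twist.twistProjSpace n R ((m : ℤ) * d)) := by
  induction m with
  | zero =>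
    have h : ((0 : ℕ) : ℤ) * d = 0 := by simp
    rw [h]
    exact ⟨TwistPn.zeroIso n R⟩
  | succ m ih =>
    obtain ⟨e⟩ := ih
    have h : ((m + 1 : ℕ) : ℤ) * d = (m : ℤ) * d + d := by push_cast; ring
    rw [h]
    exact ⟨tensorIso e (Iso.refl _) ≪≫ TwistPn.tensorIso n R ((m : ℤ) * d) d⟩

instance quasiSeparatedSpace_projSpace : QuasiSeparatedSpace (CohB1.ProjSpace n R) :=
  quasiSeparatedSpace_of_quasiSeparated (CohB1.ProjSpace.toSpec n R)

variable [Nontrivial R]

/-- the structure module of `P^n_R` is not zero for `R ≠ 0` -/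
theorem not_isZero_twist_zero : ¬ IsZero (Twist.twistProjSpace n R 0) := by
  intro hz
  haveI := subsingleton_HH_of_isZero hz 0
  obtain ⟨e⟩ := Groth.Agent.S0843.result R n 0
  have h1 : (⟨1, (MvPolynomial.isHomogeneous_one _ _)⟩ :
      ↥(MvPolynomial.homogeneousSubmodule (Fin (n + 1)) R 0)) = 0 :=
    e.symm.injective (Subsingleton.elim _ _)
  have h2 := congrArg Subtype.val h1
  simp at h2

theorem not_isAmple_twist_of_nonpos (hn : 1 ≤ n) (d : ℤ) (hd : d ≤ 0) :
    ¬ CohB1.IsAmple (Twist.twistProjSpace n R d) := by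
  intro hA
  have hF : Coh.IsCoh (Twist.twistProjSpace n R (-1)) :=
    Groth.Agent.Lib.Lead.CurveInv.isCoh_of_isInvertible _ (TwistPn.isInvertible n R (-1))
  obtain ⟨n₀, h⟩ := Groth.Agent.Lib.helper11.SerreGG.exists_finite_genAtBy_twist hA _ hF
  obtain ⟨ι, _, T, hT⟩ := h n₀ le_rfl
  have hgg : Curv2.IsGloballyGenerated (CohB1.tensorMod (Twist.twistProjSpace n R (-1))
      (CohB1.tensorPow (Twist.twistProjSpace n R d) n₀)) :=
    ⟨ι, _, Groth.Agent.Lib.helper11.SerreGG.epi_of_genAtBy _ T hT⟩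
  obtain ⟨e⟩ := nonempty_tensorPow_twist_iso n R d n₀
  let e' : CohB1.tensorMod (Twist.twistProjSpace n R (-1))
      (CohB1.tensorPow (Twist.twistProjSpace n R d) n₀) ≅
      Twist.twistProjSpace n R (-1 + (n₀ : ℤ) * d) :=
    tensorIso (Iso.refl _) e ≪≫ TwistPn.tensorIso n R (-1) ((n₀ : ℤ) * d)
  have hgg' := Groth.Agent.Lib.helper12.GGTensor.gg_of_iso e' hgg
  have hneg : -1 + (n₀ : ℤ) * d < 0 := by
    have : (n₀ : ℤ) * d ≤ 0 := mul_nonpos_of_nonneg_of_nonpos (Int.natCast_nonneg _) hd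
    omega
  haveI : Subsingleton (Coh.HH (CohB1.ProjSpace n R)
      (Twist.twistProjSpace n R (-1 + (n₀ : ℤ) * d)) 0) :=
    Groth.Agent.S0844.result R n _ 0 (fun h => by omega) (fun h => by omega)
  haveI : Subsingleton ((Twist.twistProjSpace n R (-1 + (n₀ : ℤ) * d)).val.obj (op ⊤)) :=
    (Groth.Agent.Lib.Helper18.HH.equiv₀ _).symm.toEquiv.subsingleton
  have hz := isZero_of_gg_of_subsingleton hgg'
  have hz2 := Groth.Agent.Lib.Helper18.Punctual.isZero_tensorMod_left hz
    (Twist.twistProjSpace n R (-(-1 + (n₀ : ℤ) * d)))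
  have e2 := TwistPn.tensorIso n R (-1 + (n₀ : ℤ) * d) (-(-1 + (n₀ : ℤ) * d))
  rw [add_neg_cancel] at e2
  exact not_isZero_twist_zero n R (hz2.of_iso e2.symm)

/-- **S10962** -/
theorem isAmple_twist_iff (hn : 1 ≤ n) (d : ℤ) :
    CohB1.IsAmple (Twist.twistProjSpace n R d) ↔ 0 < d := by
  constructor
  · intro hA
    by_contra hd
    push Not at hd
    exact not_isAmple_twist_of_nonpos n R hn d hd hA
  · intro hd
    obtain ⟨m, rfl⟩ := Int.eq_ofNat_of_zero_le hd.le
    exact TwistPn.isAmple (n := n) (R := R) m (by exact_mod_cast hd)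

end Groth.Agent.Lib.helper7.TwistAmpleIff
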