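import Mathlib
import Groth.Agent.S1697
import Groth.Agent.Lib.Helper20.FibreReg
import Groth.Agent.Lib.Helper20.PushOPn
import Groth.Agent.Lib.Helper7.TwistAmpleIff
import Groth.Agent.Lib.Helper12.AmplePow

/-!
# Invertible modules on `P^n` over a field-like affine base, and on the fibres of `P^n_Y ⟶ Y` (helper7)

* `Θ n S : P^n_S ≅ P^n_{Γ(S,⊤)}` for affine `S`, `twΘ : Θ^* O(d) ≅ O_{P^n_S}(d)`.
* `exists_iso_twistOver`: over an affine `S` with `Γ(S,⊤)` a UFD every invertible module on `P^n_S` is `O(d)`.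
* `twistOver_inj`: `O(d) ≅ O(d')` on `P^n_S` (`n ≥ 1`, `S` affine nonempty) forces `d = d'`.
* `twZero`, `untwist`.
* `subsingleton_H1_fiber`: `H^1` of the structure sheaf of the fibres of `P^n_Y ⟶ Y` vanishes.
* `fiberMod_iso_of_pull_iso`, `pull_iso_of_isTrivOn`.
-/

set_option autoImplicit false
set_option linter.unusedSectionVars false
set_option linter.style.haveILetI false
universe u

open CategoryTheory CategoryTheory.Limits AlgebraicGeometry Opposite TopologicalSpace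
open Scheme.Modules

namespace Groth.Agent.Lib.helper7.PicPnFib

open Groth.Agent.Lib.helper12.PnLocal Groth.Agent.Lib.helper11.PnOverBridge
  Groth.Agent.Lib.helper11.InvMod Groth.Agent.Lib.Lead.ModTensor
  Groth.Agent.Lib.Helper20.FibreReg

section Cancel

variable {A B : Scheme.{u}}

/-- pulling back along an isomorphism and its inverse -/
noncomputable def pullbackIsoCancel (e : A ≅ B) (M : A.Modules) :
    (Scheme.Modules.pullback e.hom).obj ((Scheme.Modules.pullback e.inv).obj M) ≅ M :=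
  (pullbackComp e.hom e.inv).app M ≪≫ (pullbackCongr e.hom_inv_id).app M ≪≫ (pullbackId A).app M

/-- `e.hom^*` reflects isomorphism classes -/
theorem nonempty_iso_of_pullback_iso_hom (e : A ≅ B) {M M' : B.Modules}
    (h : (Scheme.Modules.pullback e.hom).obj M ≅ (Scheme.Modules.pullback e.hom).obj M') :
    Nonempty (M ≅ M') :=
  ⟨(pullbackIsoCancel e.symm M).symm ≪≫ (Scheme.Modules.pullback e.inv).mapIso h ≪≫
    pullbackIsoCancel e.symm M'⟩

end Cancel

section Affine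

variable (n : ℕ) (S : Scheme.{u}) [IsAffine S]

instance isIso_ι_top : IsIso (KRR.pr n S ⁻¹ᵁ ⊤).ι := by
  rw [show KRR.pr n S ⁻¹ᵁ ⊤ = ⊤ from rfl]
  exact (Scheme.topIso (KRR.PY n S)).isIso_hom

/-- the chart `P^n_S ≅ P^n_{Γ(S,⊤)}` over an affine `S` -/
noncomputable def Θ : KRR.PY n S ≅ CohB1.ProjSpace n Γ(S, ⊤) :=
  (asIso (KRR.pr n S ⁻¹ᵁ ⊤).ι).symm ≪≫ theta n (⊤ : S.Opens) (isAffineOpen_top S)

theorem Θ_hom : (Θ n S).hom =
    inv (KRR.pr n S ⁻¹ᵁ ⊤).ι ≫ (theta n (⊤ : S.Opens) (isAffineOpen_top S)).hom := rfl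

/-- `Θ^* O(d) ≅ O_{P^n_S}(d)` -/
noncomputable def twΘ (d : ℤ) :
    (Scheme.Modules.pullback (Θ n S).hom).obj (Twist.twistProjSpace n Γ(S, ⊤) d) ≅
      Twist.twistOver n S d :=
  (pullbackCongr (Θ_hom n S)).app _ ≪≫
    ((pullbackComp (inv (KRR.pr n S ⁻¹ᵁ ⊤).ι)
      (theta n (⊤ : S.Opens) (isAffineOpen_top S)).hom).app _).symm ≪≫
    (Scheme.Modules.pullback (inv (KRR.pr n S ⁻¹ᵁ ⊤).ι)).mapIso
      ((restrictTwistOverIso n (⊤ : S.Opens) (isAffineOpen_top S) d).symm ≪≫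
        (restrictFunctorIsoPullback (KRR.pr n S ⁻¹ᵁ ⊤).ι).app (Twist.twistOver n S d)) ≪≫
    (pullbackComp (inv (KRR.pr n S ⁻¹ᵁ ⊤).ι) (KRR.pr n S ⁻¹ᵁ ⊤).ι).app _ ≪≫
    (pullbackCongr (IsIso.inv_hom_id (KRR.pr n S ⁻¹ᵁ ⊤).ι)).app _ ≪≫
    (pullbackId (KRR.PY n S)).app _

/-- over an affine base whose ring of functions is a UFD, every invertible module on `P^n_S` is `O(d)` -/
theorem exists_iso_twistOver [IsDomain Γ(S, ⊤)] [UniqueFactorizationMonoid Γ(S, ⊤)]
    (M : (KRR.PY n S).Modules) (hM : PicF.IsInvertible M) :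
    ∃ d : ℤ, Nonempty (M ≅ Twist.twistOver n S d) := by
  have h1 : PicF.IsInvertible ((Scheme.Modules.pullback (Θ n S).inv).obj M) :=
    isInvertible_pullback _ hM
  obtain ⟨d, ⟨e⟩⟩ := Groth.Agent.S1697.result Γ(S, ⊤) n _ h1
  exact ⟨d, ⟨(pullbackIsoCancel (Θ n S) M).symm ≪≫
    (Scheme.Modules.pullback (Θ n S).hom).mapIso e ≪≫ twΘ n S d⟩⟩

/-- `O(d) ≅ O(d')` on `P^n_{Γ}` forces `d = d'` for `n ≥ 1` -/
theorem twistProjSpace_inj (R : Type u) [CommRing R] [Nontrivial R] (hn : 1 ≤ n) {d d' : ℤ}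
    (e : Twist.twistProjSpace n R d ≅ Twist.twistProjSpace n R d') : d = d' := by
  have key : ∀ a b : ℤ, (Twist.twistProjSpace n R a ≅ Twist.twistProjSpace n R b) → ¬ b < a := by
    intro a b e hlt
    have h1 : CohB1.IsAmple (Twist.twistProjSpace n R (a + -b)) :=
      (Groth.Agent.Lib.helper7.TwistAmpleIff.isAmple_twist_iff n R hn (a + -b)).2 (by omega)
    have e2 : Twist.twistProjSpace n R (a + -b) ≅ Twist.twistProjSpace n R 0 :=
      (Groth.Agent.Lib.helper28.TwistPn.tensorIso n R a (-b)).symm ≪≫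
        tensorIso e (Iso.refl _) ≪≫ Groth.Agent.Lib.helper28.TwistPn.tensorIso n R b (-b) ≪≫
        eqToIso (by rw [add_neg_cancel])
    have h2 := Groth.Agent.Lib.helper12.AmplePow.isAmple_of_iso e2 h1
    exact absurd ((Groth.Agent.Lib.helper7.TwistAmpleIff.isAmple_twist_iff n R hn 0).1 h2)
      (lt_irrefl 0)
  have h1 := key d d' e
  have h2 := key d' d e.symm
  omega

theorem twistOver_inj [Nontrivial Γ(S, ⊤)] (hn : 1 ≤ n) {d d' : ℤ}
    (e : Twist.twistOver n S d ≅ Twist.twistOver n S d') : d = d' := by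
  refine twistProjSpace_inj n Γ(S, ⊤) hn ?_
  exact (nonempty_iso_of_pullback_iso_hom (Θ n S)
    (twΘ n S d ≪≫ e ≪≫ (twΘ n S d').symm)).some

end Affine

section General

variable (n : ℕ) (S : Scheme.{u})

/-- `O_{P^n_S}(0) ≅ O` -/
noncomputable def twZero : Twist.twistOver n S 0 ≅ Coh.structureModule (KRR.PY n S) :=
  (Scheme.Modules.pullback _).mapIso
      (Groth.Agent.Lib.helper28.TwistPn.zeroIso n (ULift.{u} ℤ)).symm ≪≫
    pullbackUnitIso _

/-- `(L ⊗ O(-d)) ⊗ O(d) ≅ L` -/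
noncomputable def untwist (L : (KRR.PY n S).Modules) (d : ℤ) :
    CohB1.tensorMod (CohB1.tensorMod L (Twist.twistOver n S (-d))) (Twist.twistOver n S d) ≅ L :=
  assoc _ _ _ ≪≫ tensorIso (Iso.refl L)
    (twistOverTensorIso n (S := S) (-d) d ≪≫ eqToIso (by rw [neg_add_cancel]) ≪≫ twZero n S) ≪≫
    rightUnitor L

end General

end Groth.Agent.Lib.helper7.PicPnFib
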