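import Mathlib
import Groth.Agent.Lib.Helper7.PicPnFib
import Groth.Agent.Lib.Helper2.ModSec
import Groth.Agent.Lib.Helper21.InvFibre
import Groth.Agent.Lib.Helper21.PicFibre
import Groth.Agent.Lib.Helper19.ProjSpaceProper
import Groth.Agent.Lib.Helper20.FlatPn
import Groth.Agent.Lib.Helper11.IsoLocus
import Groth.Agent.Lib.Helper12.TensorInv

/-!
# Fibres of `P^n_Y ⟶ Y` and invertible modules (helper7)

* `isIso_app_pr`: `O_Y(U) → O_P(π⁻¹ U)` is an isomorphism for every open `U`.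
* `subsingleton_H1_fiber`: `H^1(P_y, O) = 0`.
* `fiberMod_iso_of_pull_iso`, `pull_iso_of_isTrivOn`.
* `exists_fibre_twist`: every invertible module restricted to a fibre is some `O(d)`; `fibre_twist_unique`.
* `isOpen_fibre_twist`: the locus where the fibre type is `O(d)` is open (locally Noetherian base).
* `main`: if all fibre types are `O(d)` then `L ≅ π^* π_*(L(-d)) ⊗ O(d)` with `π_*(L(-d))` invertible.
-/

set_option autoImplicit false
set_option linter.unusedSectionVars false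
set_option linter.style.haveILetI false
universe u

open CategoryTheory CategoryTheory.Limits AlgebraicGeometry Opposite TopologicalSpace
open Scheme.Modules

namespace Groth.Agent.Lib.helper7.PicPnFib

open Groth.Agent.Lib.helper12.PnLocal Groth.Agent.Lib.helper11.PnOverBridge
  Groth.Agent.Lib.helper11.InvMod Groth.Agent.Lib.Lead.ModTensor
  Groth.Agent.Lib.Helper20.FibreReg

variable (n : ℕ) (Y : Scheme.{u})

theorem isIso_app_pr (U : Y.Opens) : IsIso ((KRR.pr n Y).app U) := by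
  have h := Groth.Agent.Lib.Helper20.PushOPn.isIso_unitToPush_pr n Y
  rw [Groth.Agent.Lib.helper2.ModSec.isIso_iff_bijective_app] at h
  have hb : Function.Bijective ((KRR.pr n Y).app U) := h U
  exact (ConcreteCategory.isIso_iff_bijective _).mpr hb

/-- the fibre type: `ψ_y^* L ≅ O(d)` on `P^n_{κ(y)}` -/
def FibType (L : (KRR.PY n Y).Modules) (y : Y) (d : ℤ) : Prop :=
  Nonempty ((Scheme.Modules.pullback (KRR.projSpaceMap n (Y.fromSpecResidueField y))).obj L ≅
    Twist.twistOver n (Spec (Y.residueField y)) d)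

variable {n Y}

theorem subsingleton_H1_affine (S : Scheme.{u}) [IsAffine S] :
    Subsingleton (Coh.HH (KRR.PY n S) (Coh.structureModule (KRR.PY n S)) 1) := by
  haveI := Groth.Agent.Lib.helper28.TwistPn.isQuasicoherent n Γ(S, ⊤) 0
  have h0 : Subsingleton (Coh.HH (CohB1.ProjSpace n Γ(S, ⊤)) (Twist.twistProjSpace n Γ(S, ⊤) 0) 1) :=
    Groth.Agent.S0844.result Γ(S, ⊤) n 0 1 (by omega) (by omega)
  have h1 := (subsingleton_HH_pullback_iso_iff (Θ n S).hom (Twist.twistProjSpace n Γ(S, ⊤) 0) 1).2 h0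
  exact Groth.Agent.Lib.Helper20.TwistEquivPn.subsingleton_of_iso (twΘ n S 0 ≪≫ twZero n S) 1 h1

/-- `ι^* N ≅ O` on the fibre as soon as `ψ^* N ≅ O` on `P^n_{κ(y)}` -/
theorem fiberMod_iso_of_pull_iso (y : Y) (N : (KRR.PY n Y).Modules)
    (e : (Scheme.Modules.pullback (KRR.projSpaceMap n (Y.fromSpecResidueField y))).obj N ≅
      Coh.structureModule (KRR.PY n (Spec (Y.residueField y)))) :
    Nonempty (CohIII.fiberMod (KRR.pr n Y) N y ≅ Coh.structureModule ((KRR.pr n Y).fiber y)) := by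
  refine nonempty_iso_of_pullback_iso_hom (fibIso n Y y) ?_
  exact (pullbackComp (fibIso n Y y).hom ((KRR.pr n Y).fiberι y)).app N ≪≫
    (pullbackCongr (fibIso_hom_ι n Y y)).app N ≪≫ e ≪≫ (pullbackUnitIso _).symm

theorem subsingleton_H1_fiber (y : Y) :
    Subsingleton (Coh.HH ((KRR.pr n Y).fiber y) (Coh.structureModule ((KRR.pr n Y).fiber y)) 1) := by
  haveI : (Coh.structureModule (KRR.PY n (Spec (Y.residueField y)))).IsQuasicoherent := inferInstance
  have h0 := subsingleton_H1_affine (n := n) (Spec (Y.residueField y))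
  have e : Coh.structureModule (KRR.PY n (Spec (Y.residueField y))) ≅
      (Scheme.Modules.pullback (fibIso n Y y).hom).obj
        (Coh.structureModule ((KRR.pr n Y).fiber y)) := (pullbackUnitIso _).symm
  haveI : (Coh.structureModule ((KRR.pr n Y).fiber y)).IsQuasicoherent := inferInstance
  exact (subsingleton_HH_pullback_iso_iff (fibIso n Y y).hom
    (Coh.structureModule ((KRR.pr n Y).fiber y)) 1).1
    (Groth.Agent.Lib.Helper20.TwistEquivPn.subsingleton_of_iso e 1 h0)

/-- if `N` is trivial over `π⁻¹ U` then `ψ_y^* N ≅ O` for `y ∈ U` -/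
theorem pull_iso_of_isTrivOn (N : (KRR.PY n Y).Modules) (U : Y.Opens)
    (hT : IsTrivOn N (KRR.pr n Y ⁻¹ᵁ U)) (y : Y) (hy : y ∈ U) :
    Nonempty ((Scheme.Modules.pullback (KRR.projSpaceMap n (Y.fromSpecResidueField y))).obj N ≅
      Coh.structureModule (KRR.PY n (Spec (Y.residueField y)))) := by
  obtain ⟨eT⟩ := hT
  set ψ := KRR.projSpaceMap n (Y.fromSpecResidueField y) with hψ
  have hrange : Set.range ψ.base ⊆ ((KRR.pr n Y ⁻¹ᵁ U : (KRR.PY n Y).Opens) : Set (KRR.PY n Y)) := by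
    rintro _ ⟨t, rfl⟩
    change (KRR.pr n Y).base (ψ.base t) ∈ U
    have h1 : (KRR.pr n Y).base (ψ.base t) =
        (Y.fromSpecResidueField y).base ((KRR.pr n (Spec (Y.residueField y))).base t) := by
      have := congrArg (fun g => g.base t) (projSpaceMap_pr n (Y.fromSpecResidueField y))
      simpa using this
    rw [h1, Scheme.fromSpecResidueField_apply]
    exact hy
  let g : KRR.PY n (Spec (Y.residueField y)) ⟶ ↑(KRR.pr n Y ⁻¹ᵁ U) :=
    IsOpenImmersion.lift (KRR.pr n Y ⁻¹ᵁ U).ι ψ (by simpa using hrange)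
  have hg : g ≫ (KRR.pr n Y ⁻¹ᵁ U).ι = ψ := IsOpenImmersion.lift_fac _ _ _
  exact ⟨(pullbackCongr hg.symm).app N ≪≫
    ((pullbackComp g (KRR.pr n Y ⁻¹ᵁ U).ι).app N).symm ≪≫
    (Scheme.Modules.pullback g).mapIso
      (((restrictFunctorIsoPullback (KRR.pr n Y ⁻¹ᵁ U).ι).app N).symm ≪≫ eT) ≪≫
    pullbackUnitIso g⟩

section FibType

variable (L : (KRR.PY n Y).Modules)

theorem exists_fibType (hL : PicF.IsInvertible L) (y : Y) : ∃ d : ℤ, FibType n Y L y d := by
  let e : Γ(Spec (Y.residueField y), ⊤) ≃+* Y.residueField y :=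
    (Scheme.ΓSpecIso (Y.residueField y)).commRingCatIsoToRingEquiv
  haveI : IsDomain Γ(Spec (Y.residueField y), ⊤) := e.toMulEquiv.isDomain
  haveI : UniqueFactorizationMonoid Γ(Spec (Y.residueField y), ⊤) :=
    e.symm.toMulEquiv.uniqueFactorizationMonoid inferInstance
  exact exists_iso_twistOver n (Spec (Y.residueField y)) _ (isInvertible_pullback _ hL)

theorem fibType_unique (hn : 1 ≤ n) (y : Y) {d d' : ℤ} (h : FibType n Y L y d)
    (h' : FibType n Y L y d') : d = d' := by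
  obtain ⟨e1⟩ := h
  obtain ⟨e2⟩ := h'
  let e : Γ(Spec (Y.residueField y), ⊤) ≃+* Y.residueField y :=
    (Scheme.ΓSpecIso (Y.residueField y)).commRingCatIsoToRingEquiv
  haveI : Nontrivial Γ(Spec (Y.residueField y), ⊤) := e.symm.injective.nontrivial
  exact twistOver_inj n (Spec (Y.residueField y)) hn (e1.symm ≪≫ e2)

/-- fibre type `d` means `L(-d)` is trivial on the fibre -/
theorem fiberMod_iso_of_fibType (y : Y) (d : ℤ) (h : FibType n Y L y d) :
    Nonempty (CohIII.fiberMod (KRR.pr n Y) (CohB1.tensorMod L (Twist.twistOver n Y (-d))) y ≅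
      Coh.structureModule ((KRR.pr n Y).fiber y)) := by
  obtain ⟨e⟩ := h
  refine fiberMod_iso_of_pull_iso y _ ?_
  exact pullTwIso n (Y.fromSpecResidueField y) L (-d) ≪≫ tensorIso e (Iso.refl _) ≪≫
    twistOverTensorIso n (S := Spec (Y.residueField y)) d (-d) ≪≫
    eqToIso (by rw [add_neg_cancel]) ≪≫ twZero n _

/-- if `L(-d)` is trivial over `π⁻¹ U` then all fibre types over `U` are `d` -/
theorem fibType_of_isTrivOn (d : ℤ) (U : Y.Opens)
    (hT : IsTrivOn (CohB1.tensorMod L (Twist.twistOver n Y (-d))) (KRR.pr n Y ⁻¹ᵁ U))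
    (y : Y) (hy : y ∈ U) : FibType n Y L y d := by
  obtain ⟨e⟩ := pull_iso_of_isTrivOn _ U hT y hy
  exact ⟨(Scheme.Modules.pullback _).mapIso (untwist n Y L d).symm ≪≫
    pullTwIso n (Y.fromSpecResidueField y) _ d ≪≫ tensorIso e (Iso.refl _) ≪≫ leftUnitor _⟩

variable [IsLocallyNoetherian Y]

theorem exists_nhd_isTrivOn (hL : PicF.IsInvertible L) (y : Y) (d : ℤ) (h : FibType n Y L y d) :
    ∃ U : Y.Opens, y ∈ U ∧
      IsTrivOn (CohB1.tensorMod L (Twist.twistOver n Y (-d))) (KRR.pr n Y ⁻¹ᵁ U) :=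
  Groth.Agent.Lib.helper21.InvFibre.exists_isTrivOn_preimage (KRR.pr n Y) y
    (subsingleton_H1_fiber y) _
    (Groth.Agent.Lib.helper12.TensorInv.isInvertible_tensorMod hL (isInvertible_twistOver n (-d)))
    (fiberMod_iso_of_fibType L y d h)

/-- the locus of fibre type `d` is open -/
theorem isOpen_fibType (hL : PicF.IsInvertible L) (d : ℤ) :
    IsOpen {y : Y | FibType n Y L y d} := by
  rw [isOpen_iff_forall_mem_open]
  intro y hy
  obtain ⟨U, hyU, hT⟩ := exists_nhd_isTrivOn L hL y d hy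
  exact ⟨U, fun y' hy' => fibType_of_isTrivOn L d U hT y' hy', U.2, hyU⟩

/-- **main**: constant fibre type `d` ⇒ `L ≅ π^* π_*(L(-d)) ⊗ O(d)` with `π_*(L(-d))` invertible -/
theorem main (hL : PicF.IsInvertible L) (d : ℤ) (h : ∀ y : Y, FibType n Y L y d) :
    PicF.IsInvertible ((Scheme.Modules.pushforward (KRR.pr n Y)).obj
      (CohB1.tensorMod L (Twist.twistOver n Y (-d)))) ∧
    Nonempty (L ≅ CohB1.tensorMod ((Scheme.Modules.pullback (KRR.pr n Y)).obj
      ((Scheme.Modules.pushforward (KRR.pr n Y)).obj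
        (CohB1.tensorMod L (Twist.twistOver n Y (-d))))) (Twist.twistOver n Y d)) := by
  set N := CohB1.tensorMod L (Twist.twistOver n Y (-d)) with hN
  have hP : PicF.IsInvertible ((Scheme.Modules.pushforward (KRR.pr n Y)).obj N) := by
    intro y
    obtain ⟨U, hyU, hT⟩ := exists_nhd_isTrivOn L hL y d (h y)
    exact ⟨U, hyU, Groth.Agent.Lib.helper21.PicFibre.isTrivOn_pushforward (KRR.pr n Y) N U hT
      (fun V _ => isIso_app_pr n Y V)⟩
  refine ⟨hP, ?_⟩
  haveI : IsIso ((Scheme.Modules.pullbackPushforwardAdjunction (KRR.pr n Y)).counit.app N) := by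
    refine Groth.Agent.Lib.helper11.IsoLocus.isIso_of_forall_restrict _ fun x => ?_
    obtain ⟨U, hyU, ⟨eL⟩⟩ := exists_nhd_isTrivOn L hL ((KRR.pr n Y).base x) d (h _)
    exact ⟨KRR.pr n Y ⁻¹ᵁ U, hyU,
      Groth.Agent.Lib.helper21.PicFibre.isIso_restrict_counit (KRR.pr n Y) N U eL hP⟩
  exact ⟨(untwist n Y L d).symm ≪≫
    tensorIso (asIso ((Scheme.Modules.pullbackPushforwardAdjunction (KRR.pr n Y)).counit.app N)).symm
      (Iso.refl _)⟩

end FibType

end Groth.Agent.Lib.helper7.PicPnFib
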