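import Mathlib
import Groth.Agent.Lib.Helper7.PicPnFib2
import Groth.Agent.Lib.Helper7.ContrTriv2

/-!
# `Pic(P^n_Y) = Pic(Y) × ℤ` (helper7)

* `twistOverZeroDim`: on `P^0_S` every `O(d)` is trivial.
* `fibType_pullback_tensor`: `π^* L₁ ⊗ O(d)` has fibre type `d` everywhere.
* `uniqueness`: for `n ≥ 1` and nonempty `Y`, `π^*L₁ ⊗ O(d₁) ≅ π^*L₂ ⊗ O(d₂)` forces `d₁ = d₂` and `L₁ ≅ L₂`
  (no Noetherian hypothesis).
* `existence`: `Y` locally Noetherian and connected: every invertible module is `π^*L' ⊗ O(d)`.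
-/

set_option autoImplicit false
set_option linter.unusedSectionVars false
set_option linter.style.haveILetI false
universe u

open CategoryTheory CategoryTheory.Limits AlgebraicGeometry Opposite TopologicalSpace
open Scheme.Modules

namespace Groth.Agent.Lib.helper7.PicPnFib

open Groth.Agent.Lib.helper12.PnLocal Groth.Agent.Lib.helper11.PnOverBridge
  Groth.Agent.Lib.helper11.InvMod Groth.Agent.Lib.Lead.ModTensor
  Groth.Agent.Lib.Helper20.FibreReg

section ZeroDim

theorem basicOpen_X_zero_eq_top (R : Type u) [CommRing R] :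
    Proj.basicOpen (CohB1.polyGrading 0 R) (MvPolynomial.X 0) = ⊤ := by
  ext x
  simp only [Opens.coe_top, Set.mem_univ, iff_true]
  obtain ⟨i, hi⟩ := Groth.Agent.Lib.helper28.TwistPn.exists_X_notMem 0 R x
  have hi0 : i = 0 := Fin.ext (by have := i.2; simp only [Fin.val_zero]; omega)
  subst hi0
  exact hi

/-- on `P^0_R` every `O(d)` is trivial -/
theorem nonempty_twistProjSpace_zero_iso (R : Type u) [CommRing R] (d : ℤ) :
    Nonempty (Twist.twistProjSpace 0 R d ≅ Coh.structureModule (CohB1.ProjSpace 0 R)) := by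
  have h := Groth.Agent.Lib.helper28.TwistPn.isTrivOn 0 R d 0
  rw [basicOpen_X_zero_eq_top] at h
  exact isTrivOn_top_iff.mp h

/-- on `P^0_S` every `O(d)` is trivial -/
theorem nonempty_twistOver_zero_iso (S : Scheme.{u}) (d : ℤ) :
    Nonempty (Twist.twistOver 0 S d ≅ Coh.structureModule (KRR.PY 0 S)) := by
  obtain ⟨e⟩ := nonempty_twistProjSpace_zero_iso (ULift.{u} ℤ) d
  exact ⟨(Scheme.Modules.pullback _).mapIso e ≪≫ pullbackUnitIso _⟩

end ZeroDim

section Field

/-- an invertible module on a one-point scheme is trivial -/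
theorem nonempty_iso_structureModule_of_subsingleton (S : Scheme.{u}) [Subsingleton S] (x : S)
    (M : S.Modules) (hM : PicF.IsInvertible M) :
    Nonempty (M ≅ Coh.structureModule S) := by
  obtain ⟨U, hxU, hU⟩ := hM x
  have hU' : U = ⊤ := by
    ext z
    simp only [Opens.coe_top, Set.mem_univ, iff_true]
    have : z = x := Subsingleton.elim z x
    rw [this]
    exact hxU
  rw [hU'] at hU
  exact isTrivOn_top_iff.mp hU

theorem subsingleton_spec_residueField {Y : Scheme.{u}} (y : Y) :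
    Subsingleton ↥(Spec (Y.residueField y)) :=
  show Subsingleton (PrimeSpectrum (Y.residueField y)) from inferInstance

end Field

variable {n : ℕ} {Y : Scheme.{u}}

/-- `π^* L₁ ⊗ O(d)` has fibre type `d` at every point -/
theorem fibType_pullback_tensor (L₁ : Y.Modules) (hL₁ : PicF.IsInvertible L₁) (d : ℤ) (y : Y) :
    FibType n Y (CohB1.tensorMod ((Scheme.Modules.pullback (KRR.pr n Y)).obj L₁)
      (Twist.twistOver n Y d)) y d := by
  haveI := subsingleton_spec_residueField y
  obtain ⟨e0⟩ := nonempty_iso_structureModule_of_subsingleton (Spec (Y.residueField y))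
    (show PrimeSpectrum (Y.residueField y) from default)
    ((Scheme.Modules.pullback (Y.fromSpecResidueField y)).obj L₁) (isInvertible_pullback _ hL₁)
  let e1 : (Scheme.Modules.pullback (KRR.projSpaceMap n (Y.fromSpecResidueField y))).obj
      ((Scheme.Modules.pullback (KRR.pr n Y)).obj L₁) ≅
      Coh.structureModule (KRR.PY n (Spec (Y.residueField y))) :=
    (pullbackComp (KRR.projSpaceMap n (Y.fromSpecResidueField y)) (KRR.pr n Y)).app L₁ ≪≫
      (pullbackCongr (projSpaceMap_pr n (Y.fromSpecResidueField y))).app L₁ ≪≫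
      ((pullbackComp (KRR.pr n (Spec (Y.residueField y))) (Y.fromSpecResidueField y)).app L₁).symm ≪≫
      (Scheme.Modules.pullback (KRR.pr n (Spec (Y.residueField y)))).mapIso e0 ≪≫
      pullbackUnitIso _
  exact ⟨pullTwIso n (Y.fromSpecResidueField y) _ d ≪≫ tensorIso e1 (Iso.refl _) ≪≫ leftUnitor _⟩

theorem fibType_of_iso {L L' : (KRR.PY n Y).Modules} (e : L ≅ L') {y : Y} {d : ℤ}
    (h : FibType n Y L y d) : FibType n Y L' y d := by
  obtain ⟨e1⟩ := h
  exact ⟨(Scheme.Modules.pullback _).mapIso e.symm ≪≫ e1⟩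

/-- cancelling a twist -/
theorem nonempty_iso_of_tensor_twist_iso {A B : (KRR.PY n Y).Modules} (d : ℤ)
    (e : CohB1.tensorMod A (Twist.twistOver n Y d) ≅ CohB1.tensorMod B (Twist.twistOver n Y d)) :
    Nonempty (A ≅ B) := by
  have key : ∀ C : (KRR.PY n Y).Modules,
      CohB1.tensorMod (CohB1.tensorMod C (Twist.twistOver n Y d)) (Twist.twistOver n Y (-d)) ≅ C := by
    intro C
    exact assoc _ _ _ ≪≫ tensorIso (Iso.refl C)
      (twistOverTensorIso n (S := Y) d (-d) ≪≫ eqToIso (by rw [add_neg_cancel]) ≪≫ twZero n Y) ≪≫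
      rightUnitor C
  exact ⟨(key A).symm ≪≫ tensorIso e (Iso.refl _) ≪≫ key B⟩

/-- **uniqueness** (no Noetherian hypothesis) -/
theorem uniqueness (hn : 1 ≤ n) [Nonempty Y] (L₁ L₂ : Y.Modules) (d₁ d₂ : ℤ)
    (h₁ : PicF.IsInvertible L₁) (h₂ : PicF.IsInvertible L₂)
    (e : CohB1.tensorMod ((Scheme.Modules.pullback (KRR.pr n Y)).obj L₁) (Twist.twistOver n Y d₁) ≅
      CohB1.tensorMod ((Scheme.Modules.pullback (KRR.pr n Y)).obj L₂) (Twist.twistOver n Y d₂)) :
    d₁ = d₂ ∧ Nonempty (L₁ ≅ L₂) := by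
  obtain ⟨y⟩ := ‹Nonempty Y›
  have hd : d₁ = d₂ := fibType_unique _ hn y
    (fibType_of_iso e (fibType_pullback_tensor (n := n) L₁ h₁ d₁ y))
    (fibType_pullback_tensor (n := n) L₂ h₂ d₂ y)
  subst hd
  refine ⟨rfl, ?_⟩
  obtain ⟨e'⟩ := nonempty_iso_of_tensor_twist_iso d₁ e
  exact Groth.Agent.Lib.helper7.ContrTriv.nonempty_iso_of_pullback_iso (KRR.pr n Y)
    (fun U => isIso_app_pr n Y U) L₁ L₂ h₁ h₂ e'

/-- **existence** over a locally Noetherian connected base -/
theorem existence [IsLocallyNoetherian Y] [ConnectedSpace Y] (L : (KRR.PY n Y).Modules)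
    (hL : PicF.IsInvertible L) :
    ∃ (L' : Y.Modules) (d : ℤ), PicF.IsInvertible L' ∧
      Nonempty (L ≅ CohB1.tensorMod ((Scheme.Modules.pullback (KRR.pr n Y)).obj L')
        (Twist.twistOver n Y d)) := by
  obtain ⟨d, hd⟩ : ∃ d : ℤ, ∀ y : Y, FibType n Y L y d := by
    rcases Nat.eq_zero_or_pos n with hn | hn
    · subst hn
      refine ⟨0, fun y => ?_⟩
      obtain ⟨d, ⟨e⟩⟩ := exists_fibType L hL y
      obtain ⟨e1⟩ := nonempty_twistOver_zero_iso (Spec (Y.residueField y)) d
      obtain ⟨e2⟩ := nonempty_twistOver_zero_iso (Spec (Y.residueField y)) 0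
      exact ⟨e ≪≫ e1 ≪≫ e2.symm⟩
    · obtain ⟨y₀⟩ := (inferInstance : Nonempty Y)
      obtain ⟨d, hd⟩ := exists_fibType L hL y₀
      refine ⟨d, ?_⟩
      have hopen : IsOpen {y : Y | FibType n Y L y d} := isOpen_fibType L hL d
      have hclosed : IsClosed {y : Y | FibType n Y L y d} := by
        rw [← isOpen_compl_iff]
        have : {y : Y | FibType n Y L y d}ᶜ = ⋃ d' ∈ {d' : ℤ | d' ≠ d}, {y : Y | FibType n Y L y d'} := by
          ext y
          simp only [Set.mem_compl_iff, Set.mem_ofPred_eq, Set.mem_iUnion, exists_prop]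
          constructor
          · intro hy
            obtain ⟨d', hd'⟩ := exists_fibType L hL y
            exact ⟨d', fun h => hy (h ▸ hd'), hd'⟩
          · rintro ⟨d', hne, hd'⟩ hy
            exact hne (fibType_unique L hn y hd' hy)
        rw [this]
        exact isOpen_biUnion fun d' _ => isOpen_fibType L hL d'
      have huniv : {y : Y | FibType n Y L y d} = Set.univ :=
        IsClopen.eq_univ ⟨hclosed, hopen⟩ ⟨y₀, hd⟩
      intro y
      have : y ∈ {y : Y | FibType n Y L y d} := by rw [huniv]; trivial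
      exact this
  obtain ⟨hP, hiso⟩ := main L hL d hd
  exact ⟨_, d, hP, hiso⟩

end Groth.Agent.Lib.helper7.PicPnFib
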