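import Groth.Agent.Lib.Helper7.TorAPI
import Groth.Agent.Lib.Helper7.NatTransLES
import Mathlib.RingTheory.Flat.CategoryTheory
import Mathlib.Algebra.Homology.ShortComplex.PreservesHomology

/-!
# helper7: Tor on `ModuleCat`: flat vanishing, long exact sequence in the FIRST variable
-/

universe u

open CategoryTheory Category Limits MonoidalCategory

namespace Groth.Agent.Lib.helper7.TorAPI

variable {A : Type u} [CommRing A]

/-- the map `Tor_n(M, N) ⟶ Tor_n(M', N)` induced by `f : M ⟶ M'`. -/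
noncomputable abbrev T₁map (n : ℕ) {M M' : ModuleCat.{u} A} (f : M ⟶ M') (N : ModuleCat.{u} A) :
    (T n M).obj N ⟶ (T n M').obj N :=
  ((Tor (ModuleCat.{u} A) n).map f).app N

lemma T₁map_eq (n : ℕ) {M M' : ModuleCat.{u} A} (f : M ⟶ M') (N : ModuleCat.{u} A) :
    T₁map n f N = (NatTrans.leftDerived ((tensoringLeft (ModuleCat.{u} A)).map f) n).app N := rfl

lemma flat_of_projective (P : ModuleCat.{u} A) [Projective P] : Module.Flat A P := by
  haveI : Module.Projective A P := (IsProjective.iff_projective P).2 inferInstance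
  infer_instance

/-- `Tor_{n+1}(M, N) = 0` for `M` flat (Tor resolves `N`). -/
theorem isZero_T_flat (M N : ModuleCat.{u} A) [Module.Flat A M] (n : ℕ) :
    IsZero ((T (n + 1) M).obj N) := by
  obtain ⟨Q⟩ : Nonempty (ProjectiveResolution N) := HasProjectiveResolution.out
  refine IsZero.of_iso ?_ (Q.isoLeftDerivedObj (tF M) (n + 1))
  haveI : PreservesFiniteLimits (tF M) := inferInstanceAs (PreservesFiniteLimits (tensorLeft M))
  have h : (Q.complex.sc (n + 1)).Exact := Q.complex_exactAt_succ n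
  have h2 : ((Q.complex.sc (n + 1)).map (tF M)).Exact := h.map (tF M)
  have h3 : (((tF M).mapHomologicalComplex (ComplexShape.down ℕ)).obj Q.complex).ExactAt (n + 1) :=
    h2
  exact (HomologicalComplex.exactAt_iff_isZero_homology _ _).1 h3

instance (P : ModuleCat.{u} A) : PreservesFiniteColimits (tensorRight P) :=
  preservesFiniteColimits_of_natIso (BraidedCategory.tensorLeftIsoTensorRight P)

variable {S : ShortComplex (ModuleCat.{u} A)} (hS : S.ShortExact)

include hS in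
lemma shortExact_tensorRight (P : ModuleCat.{u} A) [Module.Flat A P] :
    (S.map (tensorRight P)).ShortExact :=
  hS.map_of_exact (tensorRight P)

lemma tensoringLeft_map_comp_eq_zero (S : ShortComplex (ModuleCat.{u} A)) :
    (tensoringLeft (ModuleCat.{u} A)).map S.f ≫ (tensoringLeft (ModuleCat.{u} A)).map S.g = 0 := by
  rw [← Functor.map_comp, S.zero, Functor.map_zero]

include hS in
lemma tensoringLeft_shortExact (P : ModuleCat.{u} A) [Projective P] :
    (ShortComplex.mk (((tensoringLeft (ModuleCat.{u} A)).map S.f).app P)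
      (((tensoringLeft (ModuleCat.{u} A)).map S.g).app P)
      (NatTransLES.app_zero _ _ (tensoringLeft_map_comp_eq_zero S) P)).ShortExact := by
  haveI := flat_of_projective P
  exact shortExact_tensorRight hS P

lemma T₁map_comp_eq_zero (S : ShortComplex (ModuleCat.{u} A)) (N : ModuleCat.{u} A) (n : ℕ) :
    T₁map n S.f N ≫ T₁map n S.g N = 0 :=
  NatTransLES.app_comp_eq_zero _ _ (tensoringLeft_map_comp_eq_zero S) N n

include hS in
/-- first-variable exactness of `Tor_n(X₁,N) → Tor_n(X₂,N) → Tor_n(X₃,N)`. -/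
theorem T₁_exact₂ (N : ModuleCat.{u} A) (n : ℕ) :
    (ShortComplex.mk (T₁map n S.f N) (T₁map n S.g N) (T₁map_comp_eq_zero S N n)).Exact :=
  NatTransLES.exact₂ _ _ (tensoringLeft_map_comp_eq_zero S)
    (fun P _ => tensoringLeft_shortExact hS P) N n

include hS in
/-- first-variable connecting homomorphisms. -/
theorem T₁_exists_δ (N : ModuleCat.{u} A) (n : ℕ) :
    ∃ (δ : (T (n + 1) S.X₃).obj N ⟶ (T n S.X₁).obj N)
      (w₁ : T₁map (n + 1) S.g N ≫ δ = 0) (w₂ : δ ≫ T₁map n S.f N = 0),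
      (ShortComplex.mk (T₁map (n + 1) S.g N) δ w₁).Exact ∧
        (ShortComplex.mk δ (T₁map n S.f N) w₂).Exact :=
  NatTransLES.exists_δ _ _ (tensoringLeft_map_comp_eq_zero S)
    (fun P _ => tensoringLeft_shortExact hS P) N n

/-- naturality of `Tor_0(M, N) ≅ M ⊗ N` in `M`. -/
lemma tor0Iso_naturality₁ {M M' : ModuleCat.{u} A} (f : M ⟶ M') (N : ModuleCat.{u} A) :
    T₁map 0 f N ≫ (tor0Iso M').hom.app N = (tor0Iso M).hom.app N ≫ (f ▷ N) :=
  NatTransLES.fromLeftDerivedZero_naturality ((tensoringLeft (ModuleCat.{u} A)).map f) N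

include hS in
/-- first-variable dimension shifting. -/
theorem exists_iso_of_isZero₁ (N : ModuleCat.{u} A) (n : ℕ)
    (h₁ : IsZero ((T (n + 1) S.X₂).obj N)) (h₀ : IsZero ((T n S.X₂).obj N)) :
    Nonempty ((T (n + 1) S.X₃).obj N ≅ (T n S.X₁).obj N) := by
  obtain ⟨δ, w₁, w₂, e₁, e₂⟩ := T₁_exists_δ hS N n
  haveI : Mono δ := e₁.mono_g (h₁.eq_of_src _ _)
  haveI : Epi δ := e₂.epi_f (h₀.eq_of_tgt _ _)
  haveI : IsIso δ := isIso_of_mono_of_epi δ
  exact ⟨asIso δ⟩

include hS in
theorem isZero_succ_iff₁ (N : ModuleCat.{u} A) (n : ℕ)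
    (h₁ : IsZero ((T (n + 1) S.X₂).obj N)) (h₀ : IsZero ((T n S.X₂).obj N)) :
    IsZero ((T (n + 1) S.X₃).obj N) ↔ IsZero ((T n S.X₁).obj N) := by
  obtain ⟨e⟩ := exists_iso_of_isZero₁ hS N n h₁ h₀
  exact ⟨fun h => h.of_iso e.symm, fun h => h.of_iso e⟩

include hS in
/-- `Tor_1(X₃, N) = 0` iff `X₁ ⊗ N → X₂ ⊗ N` is a monomorphism, when `Tor_1(X₂, N) = 0`. -/
theorem isZero_one_iff₁ (N : ModuleCat.{u} A) (h₁ : IsZero ((T 1 S.X₂).obj N)) :
    IsZero ((T 1 S.X₃).obj N) ↔ Mono (S.f ▷ N) := by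
  obtain ⟨δ, w₁, w₂, e₁, e₂⟩ := T₁_exists_δ hS N 0
  haveI : Mono δ := e₁.mono_g (h₁.eq_of_src _ _)
  have hnat := tor0Iso_naturality₁ S.f N
  have hmono : Mono (T₁map 0 S.f N) ↔ Mono (S.f ▷ N) := by
    constructor
    · intro h
      have : S.f ▷ N = (tor0Iso S.X₁).inv.app N ≫ T₁map 0 S.f N ≫ (tor0Iso S.X₂).hom.app N := by
        rw [hnat, ← assoc, ← NatTrans.comp_app, Iso.inv_hom_id, NatTrans.id_app, id_comp]
      rw [this]
      infer_instance
    · intro h
      have : T₁map 0 S.f N = (tor0Iso S.X₁).hom.app N ≫ (S.f ▷ N) ≫ (tor0Iso S.X₂).inv.app N := by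
        rw [← assoc, ← hnat, assoc, ← NatTrans.comp_app, Iso.hom_inv_id, NatTrans.id_app, comp_id]
      rw [this]
      infer_instance
  rw [← hmono]
  constructor
  · intro h
    have hδ : δ = 0 := h.eq_of_src _ _
    exact (ShortComplex.exact_iff_mono _ hδ).1 e₂
  · intro h
    have hδ : δ = 0 := by
      rw [← cancel_mono (T₁map 0 S.f N), w₂, zero_comp]
    rw [IsZero.iff_id_eq_zero, ← cancel_mono δ, hδ, comp_zero, zero_comp]

end Groth.Agent.Lib.helper7.TorAPI
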