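import Groth.Agent.Lib.Helper7.QCohExtend

/-!
# Extending sections of quasi-coherent modules from `D(f)` inside a qcqs open (helper7)

`exists_pow_smul_eq_map_of_isCompact_of_isQuasiSeparated`: for a quasi-compact quasi-separated open
`U₀` of a scheme, `f ∈ Γ(X, U₀)` and `F` quasi-coherent, a section of `F` over `D(f)` extends to
`U₀` after multiplication by a power of `f`.
-/

universe u

open CategoryTheory AlgebraicGeometry TopologicalSpace Opposite

namespace Groth.Agent.Lib.helper7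

variable {X : Scheme.{u}} (F : X.Modules) {U₀ : X.Opens}

/-- restriction of a function on `U₀` to a smaller open -/
noncomputable abbrev resU (f : Γ(X, U₀)) (V : X.Opens) (h : V ≤ U₀) : Γ(X, V) :=
  X.presheaf.map (homOfLE h).op f

theorem resU_res (f : Γ(X, U₀)) {V V' : X.Opens} (hV : V ≤ U₀) (h : V' ≤ V) :
    X.presheaf.map (homOfLE h).op (resU f V hV) = resU f V' (h.trans hV) := by
  unfold resU
  rw [← ConcreteCategory.comp_apply, ← Functor.map_comp]
  rfl

theorem map_resU_pow_smul (f : Γ(X, U₀)) {V V' : X.Opens} (hV : V ≤ U₀) (h : V' ≤ V) (k : ℕ)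
    (x : Γ(F, V)) :
    F.presheaf.map (homOfLE h).op ((resU f V hV) ^ k • x) =
      (resU f V' (h.trans hV)) ^ k • F.presheaf.map (homOfLE h).op x := by
  rw [Scheme.Modules.map_smul, map_pow, resU_res]

theorem basicOpen_resU_eq (f : Γ(X, U₀)) (V : X.Opens) (hV : V ≤ U₀) :
    X.basicOpen (resU f V hV) = V ⊓ X.basicOpen f :=
  Scheme.basicOpen_res _ _ _

variable [F.IsQuasicoherent]

theorem exists_resU_pow_smul_eq_zero {U : X.Opens} (hU : IsCompact U.1) (hle : U ≤ U₀)
    (f : Γ(X, U₀)) (s : Γ(F, U))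
    (H : F.presheaf.map (homOfLE (inf_le_left : U ⊓ X.basicOpen f ≤ U)).op s = 0) :
    ∃ n : ℕ, (resU f U hle) ^ n • s = 0 := by
  apply exists_pow_smul_eq_zero_of_isCompact F hU (resU f U hle) s
  have e := basicOpen_resU_eq f U hle
  rw [← map_map F (inf_le_left : U ⊓ X.basicOpen f ≤ U) e.le, H, map_zero]

theorem exists_resU_pow_smul_eq_map {U : X.Opens} (hU : IsAffineOpen U) (hle : U ≤ U₀)
    (f : Γ(X, U₀)) (t : Γ(F, U ⊓ X.basicOpen f)) :
    ∃ (n : ℕ) (s : Γ(F, U)),
      F.presheaf.map (homOfLE (inf_le_left : U ⊓ X.basicOpen f ≤ U)).op s =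
        (resU f (U ⊓ X.basicOpen f) (inf_le_left.trans hle)) ^ n • t := by
  have e := basicOpen_resU_eq f U hle
  obtain ⟨n, s, hs⟩ := exists_pow_smul_eq_map_of_isAffineOpen hU F (resU f U hle)
    (F.presheaf.map (homOfLE e.le).op t)
  refine ⟨n, s, ?_⟩
  apply map_injective_of_eq F e.symm
  rw [map_map]
  refine hs.trans ?_
  rw [resU_res, ← map_resU_pow_smul]

/-- **Extension of sections from `D(f)`** inside a quasi-compact quasi-separated open. -/
theorem exists_pow_smul_eq_map_of_isCompact_of_isQuasiSeparated (hc : IsCompact U₀.1)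
    (hqs : IsQuasiSeparated U₀.1) (f : Γ(X, U₀)) (t : Γ(F, X.basicOpen f)) :
    ∃ (n : ℕ) (s : Γ(F, U₀)),
      F.presheaf.map (homOfLE (X.basicOpen_le f)).op s =
        (resU f (X.basicOpen f) (X.basicOpen_le f)) ^ n • t := by
  classical
  obtain ⟨S, hS, e⟩ := isCompact_and_isOpen_iff_finite_and_eq_biUnion_affineOpens.mp
    ⟨hc, U₀.2⟩
  have := hS.to_subtype
  cases nonempty_fintype S
  let U : S → X.Opens := fun i => i.1.1
  have hle : ∀ i : S, U i ≤ U₀ := by
    intro i x hx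
    have e' : (U₀ : Set X) = ⋃ i ∈ S, ((i : X.affineOpens) : Set X) := e
    have : x ∈ (⋃ i ∈ S, ((i : X.affineOpens) : Set X)) := by
      simp only [Set.mem_iUnion]
      exact ⟨i.1, i.2, hx⟩
    have h2 : x ∈ (U₀ : Set X) := by rw [e']; exact this
    exact h2
  have hcov : U₀ ≤ iSup U := by
    intro x hx
    have e' : (U₀ : Set X) = ⋃ i ∈ S, ((i : X.affineOpens) : Set X) := e
    have hx' : x ∈ (⋃ i ∈ S, ((i : X.affineOpens) : Set X)) := by rw [← e']; exact hx
    simp only [Set.mem_iUnion] at hx'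
    obtain ⟨i, hi, hxi⟩ := hx'
    exact Opens.mem_iSup.mpr ⟨⟨i, hi⟩, hxi⟩
  have hD : X.basicOpen f ≤ U₀ := X.basicOpen_le f
  -- step 1: local extensions
  have h1 : ∀ i : S, ∃ (n : ℕ) (s : Γ(F, U i)),
      F.presheaf.map (homOfLE (inf_le_left : U i ⊓ (X.basicOpen f) ≤ U i)).op s =
        (resU f (U i ⊓ (X.basicOpen f)) (inf_le_left.trans (hle i))) ^ n •
          F.presheaf.map (homOfLE (inf_le_right : U i ⊓ (X.basicOpen f) ≤ (X.basicOpen f))).op t :=
    fun i => exists_resU_pow_smul_eq_map F i.1.2 (hle i) f _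
  choose n s hs using h1
  let N := Finset.univ.sup n
  let s' : ∀ i : S, Γ(F, U i) := fun i => (resU f (U i) (hle i)) ^ (N - n i) • s i
  have hs' : ∀ i : S,
      F.presheaf.map (homOfLE (inf_le_left : U i ⊓ (X.basicOpen f) ≤ U i)).op (s' i) =
      (resU f (U i ⊓ (X.basicOpen f)) (inf_le_left.trans (hle i))) ^ N •
        F.presheaf.map (homOfLE (inf_le_right : U i ⊓ (X.basicOpen f) ≤ (X.basicOpen f))).op t := by
    intro i
    rw [map_resU_pow_smul, hs i, ← mul_smul, ← pow_add,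
      Nat.sub_add_cancel (Finset.le_sup (Finset.mem_univ i))]
  -- step 2: differences on overlaps are killed by a power of `f`
  have h2 : ∀ p : S × S, ∃ m : ℕ,
      (resU f (U p.1 ⊓ U p.2) (inf_le_left.trans (hle p.1))) ^ m •
      (F.presheaf.map (homOfLE (inf_le_left : U p.1 ⊓ U p.2 ≤ U p.1)).op (s' p.1) -
        F.presheaf.map (homOfLE (inf_le_right : U p.1 ⊓ U p.2 ≤ U p.2)).op (s' p.2)) = 0 := by
    intro p
    have hc : IsCompact (U p.1 ⊓ U p.2 : X.Opens).1 :=
      hqs _ _ (hle p.1) (U p.1).2 p.1.1.2.isCompact (hle p.2) (U p.2).2 p.2.1.2.isCompact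
    apply exists_resU_pow_smul_eq_zero F hc (inf_le_left.trans (hle p.1)) f
    rw [map_sub, map_map, map_map]
    have e1 : F.presheaf.map (homOfLE ((inf_le_left :
        U p.1 ⊓ U p.2 ⊓ (X.basicOpen f) ≤ U p.1 ⊓ U p.2).trans inf_le_left)).op (s' p.1) =
        (resU f (U p.1 ⊓ U p.2 ⊓ (X.basicOpen f)) (inf_le_right.trans hD)) ^ N •
          F.presheaf.map (homOfLE (inf_le_right :
            U p.1 ⊓ U p.2 ⊓ (X.basicOpen f) ≤ (X.basicOpen f))).op t := by
      rw [← map_map F (inf_le_left : U p.1 ⊓ (X.basicOpen f) ≤ U p.1)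
        (inf_le_inf_right (X.basicOpen f) inf_le_left :
          U p.1 ⊓ U p.2 ⊓ (X.basicOpen f) ≤ U p.1 ⊓ (X.basicOpen f)), hs', map_resU_pow_smul,
        map_map]
    have e2 : F.presheaf.map (homOfLE ((inf_le_left :
        U p.1 ⊓ U p.2 ⊓ (X.basicOpen f) ≤ U p.1 ⊓ U p.2).trans inf_le_right)).op (s' p.2) =
        (resU f (U p.1 ⊓ U p.2 ⊓ (X.basicOpen f)) (inf_le_right.trans hD)) ^ N •
          F.presheaf.map (homOfLE (inf_le_right :
            U p.1 ⊓ U p.2 ⊓ (X.basicOpen f) ≤ (X.basicOpen f))).op t := by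
      rw [← map_map F (inf_le_left : U p.2 ⊓ (X.basicOpen f) ≤ U p.2)
        (inf_le_inf_right (X.basicOpen f) inf_le_right :
          U p.1 ⊓ U p.2 ⊓ (X.basicOpen f) ≤ U p.2 ⊓ (X.basicOpen f)), hs', map_resU_pow_smul,
        map_map]
    rw [e1, e2, sub_self]
  choose m hm using h2
  let M := Finset.univ.sup m
  let s'' : ∀ i : S, Γ(F, U i) := fun i => (resU f (U i) (hle i)) ^ M • s' i
  have compat : TopCat.Presheaf.IsCompatible F.presheaf U s'' := by
    intro i j
    change F.presheaf.map (homOfLE (inf_le_left : U i ⊓ U j ≤ U i)).op (s'' i) =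
      F.presheaf.map (homOfLE (inf_le_right : U i ⊓ U j ≤ U j)).op (s'' j)
    have hi : F.presheaf.map (homOfLE (inf_le_left : U i ⊓ U j ≤ U i)).op (s'' i) =
        (resU f (U i ⊓ U j) (inf_le_left.trans (hle i))) ^ M •
          F.presheaf.map (homOfLE (inf_le_left : U i ⊓ U j ≤ U i)).op (s' i) :=
      map_resU_pow_smul F f _ _ M (s' i)
    have hj : F.presheaf.map (homOfLE (inf_le_right : U i ⊓ U j ≤ U j)).op (s'' j) =
        (resU f (U i ⊓ U j) (inf_le_left.trans (hle i))) ^ M •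
          F.presheaf.map (homOfLE (inf_le_right : U i ⊓ U j ≤ U j)).op (s' j) :=
      map_resU_pow_smul F f _ _ M (s' j)
    have hM : M = (M - m (i, j)) + m (i, j) :=
      (Nat.sub_add_cancel (Finset.le_sup (Finset.mem_univ (i, j)) : m (i, j) ≤ M)).symm
    rw [hi, hj, ← sub_eq_zero, ← smul_sub, hM, pow_add, mul_smul, hm (i, j), smul_zero]
  obtain ⟨g, hg, -⟩ := TopCat.Sheaf.existsUnique_gluing' ⟨F.presheaf, F.isSheaf⟩ U U₀
    (fun i => homOfLE (hle i)) hcov s'' compat
  refine ⟨N + M, g, ?_⟩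
  have hcovW : (X.basicOpen f) ≤ iSup fun i : S => U i ⊓ (X.basicOpen f) := by
    intro x hx
    obtain ⟨i, hi⟩ := Opens.mem_iSup.mp (hcov (hD hx))
    exact Opens.mem_iSup.mpr ⟨i, hi, hx⟩
  apply TopCat.Sheaf.eq_of_locally_eq' ⟨F.presheaf, F.isSheaf⟩
    (fun i : S => U i ⊓ (X.basicOpen f)) (X.basicOpen f)
    (fun i => homOfLE inf_le_right) hcovW
  intro i
  change F.presheaf.map (homOfLE (inf_le_right : U i ⊓ (X.basicOpen f) ≤ (X.basicOpen f))).op
      (F.presheaf.map (homOfLE hD).op g) =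
    F.presheaf.map (homOfLE (inf_le_right : U i ⊓ (X.basicOpen f) ≤ (X.basicOpen f))).op
      ((resU f (X.basicOpen f) hD) ^ (N + M) • t)
  rw [map_map, map_resU_pow_smul,
    ← map_map F (hle i) (inf_le_left : U i ⊓ (X.basicOpen f) ≤ U i)]
  have hgi : F.presheaf.map (homOfLE (hle i)).op g = s'' i := hg i
  rw [hgi]
  have hi : F.presheaf.map (homOfLE (inf_le_left : U i ⊓ (X.basicOpen f) ≤ U i)).op (s'' i) =
      (resU f (U i ⊓ X.basicOpen f) (inf_le_left.trans (hle i))) ^ M •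
        F.presheaf.map (homOfLE (inf_le_left : U i ⊓ (X.basicOpen f) ≤ U i)).op (s' i) :=
    map_resU_pow_smul F f _ _ M (s' i)
  rw [hi, hs' i, ← mul_smul, ← pow_add, add_comm]

end Groth.Agent.Lib.helper7
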