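import Groth.Agent.Lib.Helper7.QCohZero
import Groth.Agent.Lib.Helper7.QCohExtend2

/-!
# A localization criterion for quasi-coherence (helper7)

* `isLocalizing_restrict_of`: for `U` affine open and `G : X.Modules`, if for all `f ∈ Γ(X,U)`
  sections of `G` over `U` vanishing on `D(f)` are killed by a power of `f`, and sections over
  `D(f)` extend to `U` after multiplication by a power of `f`, then `G|_U` (on `Spec Γ(X,U)`) is
  localizing.
* `isQuasicoherent_of_loc`: hence `G` is quasi-coherent if this holds for all affine opens.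
* `isQuasicoherent_pushforward`: `f_* F` is quasi-coherent for `f` qcqs and `F` quasi-coherent.
-/

set_option autoImplicit false
universe u
open CategoryTheory CategoryTheory.Limits AlgebraicGeometry TopologicalSpace Opposite
open Scheme.Modules Groth.Agent.Lib.helper7

namespace Groth.Agent.Lib.helper7.QCohLoc

variable {X : Scheme.{u}} {U : X.Opens} (hU : IsAffineOpen U) (G : X.Modules)

include hU in
theorem isLocalizing_restrict_of
    (hinj : ∀ (f : Γ(X, U)) (s : Γ(G, U)),
      G.presheaf.map (homOfLE (X.basicOpen_le f)).op s = 0 → ∃ n : ℕ, f ^ n • s = 0)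
    (hsurj : ∀ (f : Γ(X, U)) (t : Γ(G, X.basicOpen f)), ∃ (n : ℕ) (s : Γ(G, U)),
      G.presheaf.map (homOfLE (X.basicOpen_le f)).op s =
        (X.presheaf.map (homOfLE (X.basicOpen_le f)).op f) ^ n • t) :
    IsLocalizing (modulesSpecToSheaf.obj (G.restrict hU.fromSpec)) := by
  intro f
  have e1 : hU.fromSpec ''ᵁ ⊤ = U := image_top_eq hU
  have e2 : hU.fromSpec ''ᵁ (PrimeSpectrum.basicOpen f) = X.basicOpen f :=
    hU.fromSpec_image_basicOpen f
  let D : (Spec Γ(X, U)).Opens := PrimeSpectrum.basicOpen f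
  have hunit : IsUnit (X.presheaf.map (homOfLE (image_le hU D)).op f) := by
    have h1 := RingedSpace.isUnit_res_basicOpen X.toRingedSpace f
    have h2 : X.presheaf.map (homOfLE (image_le hU D)).op f =
        X.presheaf.map (homOfLE e2.le).op (X.presheaf.map (homOfLE (X.basicOpen_le f)).op f) := by
      rw [← ConcreteCategory.comp_apply, ← Functor.map_comp]
      rfl
    rw [h2]
    exact h1.map _
  refine ⟨?_, ?_, ?_⟩
  · rintro ⟨_, n, rfl⟩
    rw [Module.End.isUnit_iff]
    obtain ⟨v, hv⟩ := hunit.pow n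
    have hsm : ∀ y : Γ(G.restrict hU.fromSpec, D), (f ^ n) • y =
        ((↑v : Γ(X, hU.fromSpec ''ᵁ D)) • (@id Γ(G, hU.fromSpec ''ᵁ D) y) :
          Γ(G, hU.fromSpec ''ᵁ D)) := by
      intro y
      rw [smul_eq hU G D (f ^ n) y, map_pow, hv]
      rfl
    refine ⟨fun a b hab => ?_, fun b => ⟨((↑v⁻¹ : Γ(X, hU.fromSpec ''ᵁ D)) •
      (@id Γ(G, hU.fromSpec ''ᵁ D) b) : Γ(G, hU.fromSpec ''ᵁ D)), ?_⟩⟩
    · have h1 : (f ^ n) • (@id Γ(G.restrict hU.fromSpec, D) a) =
          (f ^ n) • (@id Γ(G.restrict hU.fromSpec, D) b) := hab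
      rw [hsm, hsm] at h1
      have := congrArg (fun z : Γ(G, hU.fromSpec ''ᵁ D) =>
        (↑v⁻¹ : Γ(X, hU.fromSpec ''ᵁ D)) • z) h1
      simp only [id_eq, smul_smul, Units.inv_mul, one_smul] at this
      exact this
    · have h1 := hsm (@id Γ(G.restrict hU.fromSpec, D) (((↑v⁻¹ : Γ(X, hU.fromSpec ''ᵁ D)) •
        (@id Γ(G, hU.fromSpec ''ᵁ D) b) : Γ(G, hU.fromSpec ''ᵁ D))))
      simp only [id_eq, smul_smul, Units.mul_inv, one_smul] at h1
      exact h1
  · intro y
    obtain ⟨n, s, hs⟩ := hsurj f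
      (G.presheaf.map (homOfLE e2.ge).op (@id Γ(G, hU.fromSpec ''ᵁ D) y))
    refine ⟨(G.presheaf.map (homOfLE e1.le).op s, ⟨f ^ n, n, rfl⟩), ?_⟩
    have goal' : (f ^ n) • (@id Γ(G.restrict hU.fromSpec, D) y) =
        G.presheaf.map (homOfLE (Scheme.Hom.image_mono hU.fromSpec le_top)).op
          (G.presheaf.map (homOfLE e1.le).op s) := by
      rw [smul_eq hU G D (f ^ n) _, map_map]
      apply map_injective_of_eq G e2
      rw [map_map, hs]
      refine (Scheme.Modules.map_smul G (homOfLE e2.ge) _ _).trans ?_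
      congr 1
      rw [map_pow, map_pow]
      congr 1
      rw [← ConcreteCategory.comp_apply, ← Functor.map_comp]
      rfl
    exact goal'
  · intro x₁ x₂ h
    have h' : G.presheaf.map (homOfLE (Scheme.Hom.image_mono hU.fromSpec le_top)).op
        (@id Γ(G, hU.fromSpec ''ᵁ ⊤) x₁) =
        G.presheaf.map (homOfLE (Scheme.Hom.image_mono hU.fromSpec le_top)).op
          (@id Γ(G, hU.fromSpec ''ᵁ ⊤) x₂) := h
    have h0 : G.presheaf.map (homOfLE (X.basicOpen_le f)).op
        (G.presheaf.map (homOfLE e1.ge).op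
          (@id Γ(G, hU.fromSpec ''ᵁ ⊤) x₁ - @id Γ(G, hU.fromSpec ''ᵁ ⊤) x₂)) = 0 := by
      rw [map_map]
      have := congrArg (G.presheaf.map (homOfLE e2.ge).op) h'
      rw [map_map, map_map] at this
      rw [map_sub, sub_eq_zero]
      exact this
    obtain ⟨n, hn⟩ := hinj f _ h0
    refine ⟨⟨f ^ n, n, rfl⟩, ?_⟩
    have goal' : (f ^ n) • (@id Γ(G.restrict hU.fromSpec, ⊤) x₁) =
        (f ^ n) • (@id Γ(G.restrict hU.fromSpec, ⊤) x₂) := by
      rw [← sub_eq_zero, ← smul_sub, smul_eq hU G ⊤ (f ^ n) _]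
      apply map_injective_of_eq G e1
      refine ((Scheme.Modules.map_smul G (homOfLE e1.ge) _ _).trans ?_).trans
        (map_zero (G.presheaf.map (homOfLE e1.ge).op).hom).symm
      have hr : X.presheaf.map (homOfLE e1.ge).op
          (X.presheaf.map (homOfLE (image_le hU ⊤)).op (f ^ n)) = f ^ n := by
        rw [← ConcreteCategory.comp_apply, ← Functor.map_comp]
        have : (homOfLE (image_le hU ⊤)).op ≫ (homOfLE e1.ge).op = 𝟙 (op U) := rfl
        rw [this, X.presheaf.map_id]
        rfl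
      rw [hr]
      exact hn
    exact goal'


omit hU in
/-- **Localization criterion for quasi-coherence.** -/
theorem isQuasicoherent_of_loc
    (hinj : ∀ (U : X.Opens) (_ : IsAffineOpen U) (f : Γ(X, U)) (s : Γ(G, U)),
      G.presheaf.map (homOfLE (X.basicOpen_le f)).op s = 0 → ∃ n : ℕ, f ^ n • s = 0)
    (hsurj : ∀ (U : X.Opens) (_ : IsAffineOpen U) (f : Γ(X, U)) (t : Γ(G, X.basicOpen f)),
      ∃ (n : ℕ) (s : Γ(G, U)),
      G.presheaf.map (homOfLE (X.basicOpen_le f)).op s =
        (X.presheaf.map (homOfLE (X.basicOpen_le f)).op f) ^ n • t) :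
    G.IsQuasicoherent := by
  refine CohKer.isQuasicoherent_of_affine G (fun U hU => ?_)
  rw [isQuasicoherent_iff_isIso_fromTildeΓ, isIso_fromTildeΓ_iff_isLocalizing]
  exact isLocalizing_restrict_of hU G (hinj U hU) (hsurj U hU)

end Groth.Agent.Lib.helper7.QCohLoc
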