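import Groth.Agent.Lib.Helper7.KoszulLow
import Groth.Prelude.Def_RegImm
import Groth.Agent.S2103

/-!
# Koszul-regular immersions are `H_1`-regular (helper7)
-/

set_option autoImplicit false
universe u
open CategoryTheory AlgebraicGeometry

namespace Groth.Agent.Lib.helper7.RegImmKinds

theorem seq_h1_of_koszul (R : Type u) [CommRing R] (rs : List R)
    (h : RegImm.Kind.koszul.Seq R rs) : RegImm.Kind.h1.Seq R rs :=
  KoszulLow.isH1Regular_of_isKoszulRegularSeq R rs h

theorem isRegularImmersionAt_h1_of_koszul {Z X : Scheme.{u}} (i : Z ⟶ X) (z : Z)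
    (h : RegImm.IsRegularImmersionAt .koszul i z) : RegImm.IsRegularImmersionAt .h1 i z := by
  obtain ⟨U, hz, hcl, rs, hrs, hker⟩ := h
  exact ⟨U, hz, hcl, rs, seq_h1_of_koszul _ rs hrs, hker⟩

theorem isRegularImmersion_h1_of_koszul {Z X : Scheme.{u}} (i : Z ⟶ X)
    (h : RegImm.IsRegularImmersion .koszul i) : RegImm.IsRegularImmersion .h1 i :=
  ⟨h.1, fun z => isRegularImmersionAt_h1_of_koszul i z (h.2 z)⟩

theorem isRegularIdeal_h1_of_koszul {X : Scheme.{u}} (I : X.IdealSheafData)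
    (h : RegImm.IsRegularIdeal .koszul I) : RegImm.IsRegularIdeal .h1 I := by
  intro x hx
  obtain ⟨U, hxU, rs, hrs, hI⟩ := h x hx
  exact ⟨U, hxU, rs, seq_h1_of_koszul _ rs hrs, hI⟩

theorem seq_quasi_of_h1 (R : Type u) [CommRing R] (rs : List R)
    (h : RegImm.Kind.h1.Seq R rs) : RegImm.Kind.quasi.Seq R rs :=
  Groth.Agent.S2103.result rs.get h

theorem isRegularImmersionAt_quasi_of_h1 {Z X : Scheme.{u}} (i : Z ⟶ X) (z : Z)
    (h : RegImm.IsRegularImmersionAt .h1 i z) : RegImm.IsRegularImmersionAt .quasi i z := by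
  obtain ⟨U, hz, hcl, rs, hrs, hker⟩ := h
  exact ⟨U, hz, hcl, rs, seq_quasi_of_h1 _ rs hrs, hker⟩

theorem isRegularImmersion_quasi_of_h1 {Z X : Scheme.{u}} (i : Z ⟶ X)
    (h : RegImm.IsRegularImmersion .h1 i) : RegImm.IsRegularImmersion .quasi i :=
  ⟨h.1, fun z => isRegularImmersionAt_quasi_of_h1 i z (h.2 z)⟩

end Groth.Agent.Lib.helper7.RegImmKinds
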