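import Groth.Prelude.Def_Koszul
import Groth.Prelude.Def_LCI2
import Groth.Prelude.Def_CAlgX
import Mathlib

/-!
# Low degrees of the mapping-cone Koszul complex; Koszul-regular ⇒ `H_1`-regular (helper7)
-/

set_option autoImplicit false
universe u
open CategoryTheory CochainComplex

namespace Groth.Agent.Lib.helper7.KoszulLow

variable {A : Type u} [CommRing A]

section Cone

variable {K L : CochainComplex (ModuleCat.{u} A) ℤ} (φ : K ⟶ L)

noncomputable def fstₗ (n m : ℤ) (h : n + 1 = m) : (mappingCone φ).X n →ₗ[A] K.X m :=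
  ((mappingCone.fst φ).1.v n m h).hom

noncomputable def sndₗ (n : ℤ) : (mappingCone φ).X n →ₗ[A] L.X n :=
  ((mappingCone.snd φ).v n n (add_zero n)).hom

noncomputable def inlₗ (m n : ℤ) (h : n + 1 = m) : K.X m →ₗ[A] (mappingCone φ).X n :=
  ((mappingCone.inl φ).v m n (by omega)).hom

noncomputable def inrₗ (n : ℤ) : L.X n →ₗ[A] (mappingCone φ).X n :=
  ((mappingCone.inr φ).f n).hom

theorem fst_inl (m n : ℤ) (h : n + 1 = m) (k : K.X m) : fstₗ φ n m h (inlₗ φ m n h k) = k :=
  LinearMap.congr_fun (congrArg ModuleCat.Hom.hom (mappingCone.inl_v_fst_v φ m n h)) k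

theorem snd_inl (m n : ℤ) (h : n + 1 = m) (k : K.X m) : sndₗ φ n (inlₗ φ m n h k) = 0 :=
  LinearMap.congr_fun (congrArg ModuleCat.Hom.hom (mappingCone.inl_v_snd_v φ m n (by omega))) k

theorem fst_inr (n m : ℤ) (h : n + 1 = m) (l : L.X n) : fstₗ φ n m h (inrₗ φ n l) = 0 :=
  LinearMap.congr_fun (congrArg ModuleCat.Hom.hom (mappingCone.inr_f_fst_v φ n m h)) l

theorem snd_inr (n : ℤ) (l : L.X n) : sndₗ φ n (inrₗ φ n l) = l :=
  LinearMap.congr_fun (congrArg ModuleCat.Hom.hom (mappingCone.inr_f_snd_v φ n)) l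

theorem inl_fst_add_inr_snd (n m : ℤ) (h : n + 1 = m) (z : (mappingCone φ).X n) :
    inlₗ φ m n h (fstₗ φ n m h z) + inrₗ φ n (sndₗ φ n z) = z :=
  LinearMap.congr_fun (congrArg ModuleCat.Hom.hom (mappingCone.id_X φ n m h)) z

theorem cone_ext (n m : ℤ) (h : n + 1 = m) {z z' : (mappingCone φ).X n}
    (h1 : fstₗ φ n m h z = fstₗ φ n m h z') (h2 : sndₗ φ n z = sndₗ φ n z') : z = z' := by
  rw [← inl_fst_add_inr_snd φ n m h z, ← inl_fst_add_inr_snd φ n m h z', h1, h2]

theorem fst_d (i j k : ℤ) (hij : i + 1 = j) (hjk : j + 1 = k) (z : (mappingCone φ).X i) :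
    fstₗ φ j k hjk (((mappingCone φ).d i j).hom z) = -((K.d j k).hom (fstₗ φ i j hij z)) :=
  LinearMap.congr_fun (congrArg ModuleCat.Hom.hom (mappingCone.d_fst_v φ i j k hij hjk)) z

theorem snd_d (i j : ℤ) (hij : i + 1 = j) (z : (mappingCone φ).X i) :
    sndₗ φ j (((mappingCone φ).d i j).hom z) =
      (φ.f j).hom (fstₗ φ i j hij z) + (L.d i j).hom (sndₗ φ i z) :=
  LinearMap.congr_fun (congrArg ModuleCat.Hom.hom (mappingCone.d_snd_v φ i j hij)) z

/-- `cone^n ≃ K^{n+1} × L^n` -/
noncomputable def coneEquiv (n m : ℤ) (h : n + 1 = m) :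
    (mappingCone φ).X n ≃ₗ[A] (K.X m × L.X n) where
  toFun z := (fstₗ φ n m h z, sndₗ φ n z)
  map_add' z z' := by simp
  map_smul' r z := by simp
  invFun p := inlₗ φ m n h p.1 + inrₗ φ n p.2
  left_inv z := inl_fst_add_inr_snd φ n m h z
  right_inv p := by
    ext
    · simp [fst_inl, fst_inr]
    · simp [snd_inl, snd_inr]

end Cone

section Low

variable (A)

/-- the trivial relations among the entries of `b` -/
def Triv {n : ℕ} (b : Fin n → A) : Submodule A (Fin n → A) :=
  Submodule.span A {v : Fin n → A | ∃ i j : Fin n, v = Pi.single i (b j) - Pi.single j (b i)}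

/-- explicit description of the Koszul complex of `l` in degrees `≥ -1`, and of the image of
`d^{-2}` -/
structure LowData (l : List A) where
  zero_pos : ∀ n : ℤ, 0 < n → Subsingleton ((Koszul.koszul A l).X n)
  e0 : (Koszul.koszul A l).X 0 ≃ₗ[A] A
  e1 : (Koszul.koszul A l).X (-1) ≃ₗ[A] (Fin l.length → A)
  hd1 : ∀ x : (Koszul.koszul A l).X (-1),
    e0 (((Koszul.koszul A l).d (-1) 0).hom x) = ∑ i, e1 x i * l.get i
  hd2 : ∀ y : (Koszul.koszul A l).X (-2),
    e1 (((Koszul.koszul A l).d (-2) (-1)).hom y) ∈ Triv A l.get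

/-- base case: the empty list -/
noncomputable def lowDataNil : LowData A [] where
  zero_pos n hn := by
    have : Limits.IsZero ((Koszul.koszul A []).X n) :=
      HomologicalComplex.isZero_single_obj_X (ComplexShape.up ℤ) 0 (ModuleCat.of A A) n hn.ne'
    exact ModuleCat.subsingleton_of_isZero this
  e0 := (HomologicalComplex.singleObjXSelf (ComplexShape.up ℤ) 0 (ModuleCat.of A A)).toLinearEquiv
  e1 :=
    haveI : Subsingleton ((Koszul.koszul A []).X (-1)) := by
      have : Limits.IsZero ((Koszul.koszul A []).X (-1)) :=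
        HomologicalComplex.isZero_single_obj_X (ComplexShape.up ℤ) 0 (ModuleCat.of A A) (-1)
          (by norm_num)
      exact ModuleCat.subsingleton_of_isZero this
    haveI : IsEmpty (Fin ([] : List A).length) := (inferInstance : IsEmpty (Fin 0))
    { toFun := fun _ => 0
      map_add' := fun _ _ => Subsingleton.elim _ _
      map_smul' := fun _ _ => Subsingleton.elim _ _
      invFun := fun _ => 0
      left_inv := fun _ => Subsingleton.elim _ _
      right_inv := fun _ => Subsingleton.elim _ _ }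
  hd1 x := by
    have : Subsingleton ((Koszul.koszul A []).X (-1)) := by
      have : Limits.IsZero ((Koszul.koszul A []).X (-1)) :=
        HomologicalComplex.isZero_single_obj_X (ComplexShape.up ℤ) 0 (ModuleCat.of A A) (-1)
          (by norm_num)
      exact ModuleCat.subsingleton_of_isZero this
    have hx : x = 0 := Subsingleton.elim _ _
    subst hx
    haveI : IsEmpty (Fin ([] : List A).length) := (inferInstance : IsEmpty (Fin 0))
    rw [map_zero, map_zero, Finset.univ_eq_empty, Finset.sum_empty]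
  hd2 y := by
    have : (0 : Fin ([] : List A).length → A) ∈ Triv A ([] : List A).get := Submodule.zero_mem _
    exact this

section TrivCons

variable {A} {n : ℕ} (f : A) (b : Fin n → A)

theorem single_succ_cons (p : Fin n) (x : A) :
    (Pi.single p.succ x : Fin (n + 1) → A) = Fin.cons 0 (Pi.single p x) := by
  funext i
  refine Fin.cases ?_ (fun i => ?_) i
  · simp [Fin.succ_ne_zero, eq_comm]
  · simp [Pi.single_apply, Fin.succ_inj]

theorem single_zero_cons (x : A) :
    (Pi.single 0 x : Fin (n + 1) → A) = Fin.cons x 0 := by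
  funext i
  refine Fin.cases ?_ (fun i => ?_) i
  · simp
  · simp [Fin.succ_ne_zero]

/-- `t ↦ (0, t)` -/
def consZero : (Fin n → A) →ₗ[A] (Fin (n + 1) → A) :=
  (Fin.consLinearEquiv A (fun _ : Fin n.succ => A)).toLinearMap ∘ₗ LinearMap.inr A A (Fin n → A)

theorem consZero_apply (t : Fin n → A) : consZero t = Fin.cons 0 t := rfl

theorem consZero_mem_triv (t : Fin n → A) (ht : t ∈ Triv A b) :
    consZero t ∈ Triv A (Fin.cons f b : Fin (n + 1) → A) := by
  have h : Submodule.map consZero (Triv A b) ≤ Triv A (Fin.cons f b : Fin (n + 1) → A) := by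
    unfold Triv
    rw [Submodule.map_span, Submodule.span_le]
    rintro _ ⟨v, ⟨p, q, rfl⟩, rfl⟩
    refine Submodule.subset_span ⟨p.succ, q.succ, ?_⟩
    rw [map_sub, consZero_apply, consZero_apply, single_succ_cons, single_succ_cons,
      Fin.cons_succ, Fin.cons_succ]
  exact h (Submodule.mem_map_of_mem ht)

/-- `a ↦ (-Σ a_i b_i, f a)` -/
def consRel : (Fin n → A) →ₗ[A] (Fin (n + 1) → A) :=
  (Fin.consLinearEquiv A (fun _ : Fin n.succ => A)).toLinearMap ∘ₗ
    LinearMap.prod (-(Fintype.linearCombination A b)) (f • LinearMap.id)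

theorem consRel_apply (a : Fin n → A) :
    consRel f b a = Fin.cons (-∑ i, a i * b i) (f • a) := by
  rfl

theorem consRel_mem_triv (a : Fin n → A) :
    consRel f b a ∈ Triv A (Fin.cons f b : Fin (n + 1) → A) := by
  rw [LinearMap.pi_apply_eq_sum_univ]
  refine Submodule.sum_mem _ (fun i _ => Submodule.smul_mem _ _ ?_)
  have h1 : (fun j => if i = j then (1 : A) else 0) = Pi.single i 1 := by
    funext j; simp [Pi.single_apply, eq_comm]
  rw [h1, consRel_apply]
  have h2 : (Fin.cons (-∑ k, (Pi.single i (1 : A) : Fin n → A) k * b k)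
      (f • (Pi.single i (1 : A) : Fin n → A)) : Fin (n + 1) → A) =
      -(Pi.single 0 ((Fin.cons f b : Fin (n + 1) → A) i.succ) -
        Pi.single i.succ ((Fin.cons f b : Fin (n + 1) → A) 0)) := by
    rw [single_zero_cons, single_succ_cons, Fin.cons_succ, Fin.cons_zero]
    funext j
    refine Fin.cases ?_ (fun j => ?_) j
    · simp [Pi.single_apply]
    · simp [Pi.single_apply]
  rw [h2]
  exact Submodule.neg_mem _ (Submodule.subset_span ⟨0, i.succ, rfl⟩)

theorem cons_mem_triv (a t : Fin n → A) (ht : t ∈ Triv A b) :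
    (Fin.cons (-∑ i, a i * b i) (f • a + t) : Fin (n + 1) → A) ∈
      Triv A (Fin.cons f b : Fin (n + 1) → A) := by
  have h : (Fin.cons (-∑ i, a i * b i) (f • a + t) : Fin (n + 1) → A) =
      consRel f b a + consZero t := by
    rw [consRel_apply, consZero_apply]
    funext j
    refine Fin.cases ?_ (fun j => ?_) j
    · simp
    · simp
  rw [h]
  exact Submodule.add_mem _ (consRel_mem_triv f b a) (consZero_mem_triv f b t ht)

end TrivCons

section Cons

variable (f : A) (l : List A)

/-- multiplication by `f` on the Koszul complex of `l` -/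
noncomputable abbrev mulMap : Koszul.koszul A l ⟶ Koszul.koszul A l := f • 𝟙 (Koszul.koszul A l)

theorem koszul_cons : Koszul.koszul A (f :: l) = mappingCone (mulMap A f l) := rfl

theorem mulMap_f_apply (n : ℤ) (k : (Koszul.koszul A l).X n) :
    ((mulMap A f l).f n).hom k = f • k := rfl

theorem get_cons_eq : (f :: l).get = (Fin.cons f l.get : Fin (l.length + 1) → A) := by
  funext i
  refine Fin.cases ?_ (fun i => ?_) i
  · rfl
  · rfl

variable {A f l} (D : LowData A l)

include D in
theorem cone_zero_pos (n : ℤ) (hn : 0 < n) :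
    Subsingleton ((mappingCone (mulMap A f l)).X n) := by
  haveI := D.zero_pos (n + 1) (by omega)
  haveI := D.zero_pos n hn
  exact (coneEquiv (mulMap A f l) n (n + 1) rfl).toEquiv.subsingleton

/-- degree `0` of the cone -/
noncomputable def coneE0 : (mappingCone (mulMap A f l)).X 0 ≃ₗ[A] A :=
  haveI := D.zero_pos 1 one_pos
  { toFun := fun z => D.e0 (sndₗ (mulMap A f l) 0 z)
    map_add' := fun z z' => by rw [map_add, map_add]
    map_smul' := fun r z => by rw [map_smul, map_smul]; rfl
    invFun := fun a => inrₗ (mulMap A f l) 0 (D.e0.symm a)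
    left_inv := fun z => by
      refine cone_ext (mulMap A f l) 0 1 rfl (Subsingleton.elim _ _) ?_
      rw [snd_inr, LinearEquiv.symm_apply_apply]
    right_inv := fun a => by
      change D.e0 (sndₗ (mulMap A f l) 0 (inrₗ (mulMap A f l) 0 (D.e0.symm a))) = a
      rw [snd_inr, LinearEquiv.apply_symm_apply] }

theorem coneE0_apply (z : (mappingCone (mulMap A f l)).X 0) :
    coneE0 D z = D.e0 (sndₗ (mulMap A f l) 0 z) := rfl

/-- degree `-1` of the cone -/
noncomputable def coneE1 :
    (mappingCone (mulMap A f l)).X (-1) ≃ₗ[A] (Fin (l.length + 1) → A) :=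
  (coneEquiv (mulMap A f l) (-1) 0 (by norm_num)).trans
    ((D.e0.prodCongr D.e1).trans (Fin.consLinearEquiv A (fun _ : Fin (l.length + 1) => A)))

theorem coneE1_apply (z : (mappingCone (mulMap A f l)).X (-1)) :
    coneE1 D z = (Fin.cons (D.e0 (fstₗ (mulMap A f l) (-1) 0 (by norm_num) z))
      (D.e1 (sndₗ (mulMap A f l) (-1) z)) : Fin (l.length + 1) → A) := rfl

theorem cone_hd1 (z : (mappingCone (mulMap A f l)).X (-1)) :
    coneE0 D (((mappingCone (mulMap A f l)).d (-1) 0).hom z) =
      ∑ i : Fin (l.length + 1), coneE1 D z i * (Fin.cons f l.get : Fin (l.length + 1) → A) i := by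
  rw [coneE0_apply, coneE1_apply, snd_d (mulMap A f l) (-1) 0 (by norm_num) z, map_add, D.hd1,
    mulMap_f_apply, map_smul, Fin.sum_univ_succ]
  simp only [Fin.cons_zero, Fin.cons_succ, smul_eq_mul]
  congr 1
  exact mul_comm _ _

theorem cone_hd2 (y : (mappingCone (mulMap A f l)).X (-2)) :
    coneE1 D (((mappingCone (mulMap A f l)).d (-2) (-1)).hom y) ∈
      Triv A (Fin.cons f l.get : Fin (l.length + 1) → A) := by
  rw [coneE1_apply, fst_d (mulMap A f l) (-2) (-1) 0 (by norm_num) (by norm_num) y,
    snd_d (mulMap A f l) (-2) (-1) (by norm_num) y, map_neg, D.hd1, map_add, mulMap_f_apply,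
    map_smul]
  exact cons_mem_triv f l.get _ _ (D.hd2 _)

/-- inductive step -/
noncomputable def lowDataCons : LowData A (f :: l) where
  zero_pos n hn := cone_zero_pos D n hn
  e0 := coneE0 D
  e1 := coneE1 D
  hd1 z := by
    have h := cone_hd1 D z
    rw [← get_cons_eq] at h
    exact h
  hd2 y := by
    have h := cone_hd2 D y
    rw [← get_cons_eq] at h
    exact h

variable (A) in
/-- the low-degree data of every Koszul complex -/
noncomputable def lowData : (l : List A) → LowData A l
  | [] => lowDataNil A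
  | _ :: l => lowDataCons (lowData l)

end Cons

end Low

section Main

variable (A)

/-- vanishing of `H^{-1}` of the Koszul complex gives `H_1`-regularity in the explicit form -/
theorem isH1Regular_of_homology_zero (l : List A)
    (h : Limits.IsZero ((Koszul.koszul A l).homology (-1))) : CAlgX.IsH1Regular l.get := by
  intro a ha
  let D := lowData A l
  let x : (Koszul.koszul A l).X (-1) := D.e1.symm a
  have hx : ((Koszul.koszul A l).d (-1) 0).hom x = 0 := by
    apply D.e0.injective
    rw [D.hd1, map_zero, LinearEquiv.apply_symm_apply]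
    exact ha
  have hex : ((Koszul.koszul A l).sc' (-2) (-1) 0).Exact := by
    rw [← (Koszul.koszul A l).exactAt_iff' (-2) (-1) 0 (by simp) (by simp)]
    exact ((Koszul.koszul A l).exactAt_iff_isZero_homology (-1)).mpr h
  rw [ShortComplex.moduleCat_exact_iff] at hex
  obtain ⟨y, hy⟩ := hex x hx
  have h2 := D.hd2 y
  have h3 : ((Koszul.koszul A l).d (-2) (-1)).hom y = x := hy
  rw [h3, LinearEquiv.apply_symm_apply] at h2
  exact h2

/-- **Koszul-regular sequences are `H_1`-regular** -/
theorem isH1Regular_of_isKoszulRegularSeq (l : List A) (h : LCI.IsKoszulRegularSeq A l) :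
    CAlgX.IsH1Regular l.get :=
  isH1Regular_of_homology_zero A l (h (-1) (by norm_num))

/-- `H_1`-regularity is invariant under reindexing -/
theorem isH1Regular_of_comp_equiv {m n : ℕ} (e : Fin m ≃ Fin n) (b : Fin n → A)
    (h : CAlgX.IsH1Regular (b ∘ e)) : CAlgX.IsH1Regular b := by
  intro a ha
  have h1 : ∑ j, (a ∘ e) j * (b ∘ e) j = 0 := (Equiv.sum_comp e (fun i => a i * b i)).trans ha
  have h2 := h (a ∘ e) h1
  let Φ : (Fin m → A) ≃ₗ[A] (Fin n → A) := LinearEquiv.funCongrLeft A A e.symm
  have hΦ : ∀ v : Fin m → A, Φ v = v ∘ e.symm := fun v => rfl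
  have h3 : Submodule.map Φ.toLinearMap (Submodule.span A
      {v : Fin m → A | ∃ i j : Fin m, v = Pi.single i ((b ∘ e) j) - Pi.single j ((b ∘ e) i)}) ≤
      Submodule.span A {v : Fin n → A | ∃ i j : Fin n, v = Pi.single i (b j) - Pi.single j (b i)} := by
    rw [Submodule.map_span, Submodule.span_le]
    rintro _ ⟨v, ⟨p, q, rfl⟩, rfl⟩
    refine Submodule.subset_span ⟨e p, e q, ?_⟩
    funext i
    simp only [LinearEquiv.coe_coe, hΦ, Function.comp_apply, Pi.sub_apply, Pi.single_apply,
      Equiv.symm_apply_eq]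
  have h4 := h3 (Submodule.mem_map_of_mem h2)
  have h5 : Φ.toLinearMap (a ∘ e) = a := by
    funext i
    simp [hΦ]
  rwa [h5] at h4

/-- Koszul-regular ⇒ `H_1`-regular, for a sequence given as a function on `Fin r` -/
theorem isH1Regular_of_isKoszulRegularSeq_ofFn {r : ℕ} (g : Fin r → A)
    (h : LCI.IsKoszulRegularSeq A (List.ofFn g)) : CAlgX.IsH1Regular g := by
  have h1 := isH1Regular_of_isKoszulRegularSeq A (List.ofFn g) h
  have hlen : (List.ofFn g).length = r := List.length_ofFn
  refine isH1Regular_of_comp_equiv A (finCongr hlen) g ?_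
  have h3 : (List.ofFn g).get = g ∘ finCongr hlen := by
    funext j
    simp
    rfl
  rw [← h3]
  exact h1

end Main

end Groth.Agent.Lib.helper7.KoszulLow
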