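import Groth.Agent.Lib.Helper7.OmegaSeqAlg3
import Groth.Prelude.Def_CAlgX

/-!
# `H_1`-regular ideals: injectivity of `j^*C_{Y/X} → C_{Y'/X}` and freeness of `C_{Y'/Y}` (helper7)
-/

set_option autoImplicit false
set_option linter.style.haveILetI false
set_option linter.unusedSectionVars false
universe u

namespace Groth.Agent.Lib.helper7.OmegaSeqAlg

open Groth.Agent.Lib.helper8.PullbackUnit

section Ker

variable {A R : Type u} [CommRing A] [CommRing R] {φ : A →+* R} (hφ : Function.Surjective φ)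
  {M N : Type u} [AddCommGroup M] [Module A M] [AddCommGroup N] [Module R N] {q : M →+ N}
  (hq : IsBC φ q)

include hφ hq in
/-- the kernel of a base change along a surjection `φ` is `ker φ • M` -/
theorem mem_smul_top_of_isBC_eq_zero (m : M) (hm : q m = 0) :
    m ∈ (RingHom.ker φ) • (⊤ : Submodule A M) := by
  set 𝔞 := RingHom.ker φ with h𝔞
  let T := M ⧸ (𝔞 • (⊤ : Submodule A M))
  have htors : Module.IsTorsionBySet A T (𝔞 : Set A) := by
    intro t a
    obtain ⟨m, rfl⟩ := Submodule.Quotient.mk_surjective _ t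
    rw [← Submodule.Quotient.mk_smul, Submodule.Quotient.mk_eq_zero]
    exact Submodule.smul_mem_smul a.2 Submodule.mem_top
  letI modQ : Module (A ⧸ 𝔞) T := htors.module
  let e := RingHom.quotientKerEquivOfSurjective hφ
  letI modR : Module R T := Module.compHom T (e.symm : R →+* A ⧸ 𝔞)
  let h : M →+ T := (Submodule.mkQ (𝔞 • (⊤ : Submodule A M))).toAddMonoidHom
  have hh : ∀ (a : A) (m : M), h (a • m) = φ a • h m := by
    intro a m
    change (Submodule.Quotient.mk (a • m) : T) = (e.symm (φ a)) • (Submodule.Quotient.mk m : T)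
    rw [RingHom.quotientKerEquivOfSurjective_symm_apply]
    rfl
  obtain ⟨h', hh', -⟩ := hq.existsUnique_lift T h hh
  have h1 : h m = 0 := by rw [← hh', hm, map_zero]
  exact (Submodule.Quotient.mk_eq_zero _).mp h1

end Ker

section H1

variable {A B : Type u} [CommRing A] [CommRing B] (π : A →+* B) (hπ : Function.Surjective π)
  {n : ℕ} (b : Fin n → B) (hb : CAlgX.IsH1Regular b) (a : Fin n → A) (ha : ∀ i, π (a i) = b i)

include hπ ha in
/-- trivial relations lift to relations -/
theorem exists_lift_rel (v : Fin n → B)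
    (hv : v ∈ Submodule.span B
      {v : Fin n → B | ∃ i j : Fin n, v = Pi.single i (b j) - Pi.single j (b i)}) :
    ∃ c : Fin n → A, (∀ i, π (c i) = v i) ∧ ∑ i, c i * a i = 0 := by
  induction hv using Submodule.span_induction with
  | mem v hv =>
    obtain ⟨p, q, rfl⟩ := hv
    refine ⟨Pi.single p (a q) - Pi.single q (a p), fun i => ?_, ?_⟩
    · simp only [Pi.sub_apply, map_sub]
      congr 1
      · by_cases hi : i = p
        · subst hi; simp [ha]
        · simp [hi]
      · by_cases hi : i = q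
        · subst hi; simp [ha]
        · simp [hi]
    · simp only [Pi.sub_apply, sub_mul, Finset.sum_sub_distrib]
      simp only [Pi.single_apply, ite_mul, zero_mul, Finset.sum_ite_eq', Finset.mem_univ, if_true]
      ring
  | zero => exact ⟨0, fun i => by simp, by simp⟩
  | add v w _ _ hv hw =>
    obtain ⟨c, hc, hc0⟩ := hv
    obtain ⟨d, hd, hd0⟩ := hw
    refine ⟨c + d, fun i => by simp [hc, hd], ?_⟩
    simp only [Pi.add_apply, add_mul, Finset.sum_add_distrib, hc0, hd0, add_zero]
  | smul r v _ hv =>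
    obtain ⟨c, hc, hc0⟩ := hv
    obtain ⟨r', rfl⟩ := hπ r
    refine ⟨r' • c, fun i => by simp [hc], ?_⟩
    simp only [Pi.smul_apply, smul_eq_mul, mul_assoc, ← Finset.mul_sum, hc0, mul_zero]

include hπ hb ha in
/-- `J ∩ (a) ⊆ J (a)` for `J = ker π` and `a` lifting an `H_1`-regular sequence -/
theorem sum_mem_of_h1 (c : Fin n → A) (hc : π (∑ i, c i * a i) = 0) :
    ∑ i, c i * a i ∈ RingHom.ker π * Ideal.span (Set.range a) := by
  have h1 : ∑ i, π (c i) * b i = 0 := by
    rw [← hc, map_sum]
    exact Finset.sum_congr rfl (fun i _ => by rw [map_mul, ha])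
  obtain ⟨c', hc', hc0⟩ := exists_lift_rel π hπ b a ha (fun i => π (c i)) (hb _ h1)
  have h2 : ∑ i, c i * a i = ∑ i, (c i - c' i) * a i := by
    simp only [sub_mul, Finset.sum_sub_distrib, hc0, sub_zero]
  rw [h2]
  refine Ideal.sum_mem _ (fun i _ => Ideal.mul_mem_mul ?_ (Ideal.subset_span ⟨i, rfl⟩))
  rw [RingHom.mem_ker, map_sub, hc', sub_self]

include hπ hb ha in
/-- `J ∩ K² ⊆ K J` for `K = J + (a)` -/
theorem mem_mul_of_h1 (K : Ideal A) (hK : K = RingHom.ker π ⊔ Ideal.span (Set.range a))
    (x : A) (hxJ : x ∈ RingHom.ker π) (hxK : x ∈ K * K) : x ∈ K * RingHom.ker π := by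
  set J := RingHom.ker π with hJ
  set 𝔞 := Ideal.span (Set.range a) with h𝔞
  have hJK : J ≤ K := hK ▸ le_sup_left
  have h𝔞K : 𝔞 ≤ K := hK ▸ le_sup_right
  have h1 : K * K ≤ K * J ⊔ 𝔞 * 𝔞 := by
    conv_lhs => rw [hK]
    rw [Ideal.sup_mul, Ideal.mul_sup, Ideal.mul_sup]
    refine sup_le (sup_le ?_ ?_) (sup_le ?_ le_sup_right)
    · exact le_sup_of_le_left (Ideal.mul_mono_left hJK)
    · rw [mul_comm]; exact le_sup_of_le_left (Ideal.mul_mono_left h𝔞K)
    · exact le_sup_of_le_left (Ideal.mul_mono_left h𝔞K)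
  obtain ⟨y, hy, w, hw, rfl⟩ := Submodule.mem_sup.mp (h1 hxK)
  have hw𝔞 : w ∈ 𝔞 := Ideal.mul_le_right hw
  obtain ⟨c, rfl⟩ := (Ideal.mem_span_range_iff_exists_fun).mp hw𝔞
  have hyJ : y ∈ J := Ideal.mul_le_right hy
  have hwJ : π (∑ i, c i * a i) = 0 := by
    have := J.sub_mem hxJ hyJ
    rwa [add_sub_cancel_left] at this
  have h2 := sum_mem_of_h1 π hπ b hb a ha c hwJ
  refine Ideal.add_mem _ hy ?_
  rw [mul_comm]
  exact Ideal.mul_mono_right h𝔞K h2

end H1

section Conormal3H1

variable (A B R : Type u) [CommRing A] [CommRing B] [CommRing R] [Algebra A B] [Algebra B R]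
  [Algebra A R] [IsScalarTower A B R]
  (hAB : Function.Surjective (algebraMap A B)) (hBR : Function.Surjective (algebraMap B R))
  {MI N₁ P MK N₂ MKB N₃ : Type u}
  [AddCommGroup MI] [Module A MI] [AddCommGroup N₁] [Module B N₁] [AddCommGroup P] [Module R P]
  [AddCommGroup MK] [Module A MK] [AddCommGroup N₂] [Module R N₂]
  [AddCommGroup MKB] [Module B MKB] [AddCommGroup N₃] [Module R N₃]
  (ιI : MI →ₗ[A] A) (hιIinj : Function.Injective ιI)
  (hιI : Set.range ιI = (RingHom.ker (algebraMap A B) : Set A))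
  (q₁ : MI →+ N₁) (hq₁ : IsBC (algebraMap A B) q₁)
  (k : N₁ →+ P) (hk : IsBC (algebraMap B R) k)
  (ιK : MK →ₗ[A] A) (hιK : Set.range ιK = (RingHom.ker (algebraMap A R) : Set A))
  (q₂ : MK →+ N₂) (hq₂ : IsBC (algebraMap A R) q₂)
  (ιKB : MKB →ₗ[B] B) (hιKBinj : Function.Injective ιKB)
  (hιKB : Set.range ιKB = (RingHom.ker (algebraMap B R) : Set B))
  (q₃ : MKB →+ N₃) (hq₃ : IsBC (algebraMap B R) q₃)
  (φ₁ : P →ₗ[R] N₂) (hφ₁ : ∀ s' s, ιK s = ιI s' → φ₁ (k (q₁ s')) = q₂ s)
  {n : ℕ} (b : Fin n → B) (hb : CAlgX.IsH1Regular b)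
  (hgen : RingHom.ker (algebraMap B R) = Ideal.span (Set.range b))

include hιIinj hιI hq₁ hk in
/-- `k ∘ q₁` kills sections whose image lies in `K J` -/
theorem kq_eq_zero_of_mem_mul (s' : MI)
    (hs : ιI s' ∈ RingHom.ker (algebraMap A R) * RingHom.ker (algebraMap A B)) :
    k (q₁ s') = 0 := by
  set J := RingHom.ker (algebraMap A B) with hJ
  set K := RingHom.ker (algebraMap A R) with hK
  have key : ∀ x ∈ K * J, ∀ t : MI, ιI t = x → k (q₁ t) = 0 := by
    intro x hx
    induction hx using Submodule.mul_induction_on' with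
    | mem_mul_mem c hc c' hc' =>
      intro t ht
      have h1 : c' ∈ Set.range ιI := by rw [hιI]; exact hc'
      obtain ⟨t', rfl⟩ := h1
      have h2 : t = c • t' := hιIinj (by rw [ht, map_smul]; rfl)
      rw [h2, hq₁.map_smul, hk.map_smul, ← IsScalarTower.algebraMap_apply,
        RingHom.mem_ker.mp hc, zero_smul]
    | add x hx y hy ihx ihy =>
      intro t ht
      have h1 : x ∈ Set.range ιI := by
        rw [hιI]; exact Ideal.mul_le_right hx
      obtain ⟨tx, rfl⟩ := h1
      have h2 : y ∈ Set.range ιI := by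
        rw [hιI]; exact Ideal.mul_le_right hy
      obtain ⟨ty, rfl⟩ := h2
      have h3 : t = tx + ty := hιIinj (by rw [ht, map_add])
      rw [h3, map_add, map_add, ihx tx rfl, ihy ty rfl, add_zero]
  exact key _ hs s' rfl

include hιK in
theorem ιK_mem_mul (s : MK) (hs : s ∈ RingHom.ker (algebraMap A R) • (⊤ : Submodule A MK)) :
    ιK s ∈ RingHom.ker (algebraMap A R) * RingHom.ker (algebraMap A R) := by
  refine Submodule.smul_induction_on hs (fun r hr m _ => ?_) (fun x y hx hy => ?_)
  · rw [map_smul, smul_eq_mul]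
    refine Ideal.mul_mem_mul hr ?_
    have : ιK m ∈ Set.range ιK := ⟨m, rfl⟩
    rw [hιK] at this
    exact this
  · rw [map_add]; exact Ideal.add_mem _ hx hy

include hAB hBR hιIinj hιI hq₁ hk hιK hq₂ hφ₁ hb hgen in
/-- **injectivity of `j^*C_{Y/X} → C_{Y'/X}`** when the ideal of `Y'` in `Y` is generated by an
`H_1`-regular sequence (receptacle form) -/
theorem conormal3_injective : Function.Injective φ₁ := by
  have hs1 := surjective_of_isBC hAB hq₁
  have hs2 := surjective_of_isBC hBR hk
  rw [injective_iff_map_eq_zero]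
  intro p hp
  obtain ⟨n₁, rfl⟩ := hs2 p
  obtain ⟨s', rfl⟩ := hs1 n₁
  obtain ⟨s, hs⟩ := exists_K_of_I A B R ιI hιI ιK hιK s'
  rw [hφ₁ s' s hs] at hp
  have hAR : Function.Surjective (algebraMap A R) := by
    rw [IsScalarTower.algebraMap_eq A B R]; exact hBR.comp hAB
  have h1 := mem_smul_top_of_isBC_eq_zero hAR hq₂ s hp
  have h2 := ιK_mem_mul A R ιK hιK s h1
  rw [hs] at h2
  -- lifts of the generators
  choose a ha using fun i => hAB (b i)
  have hK : RingHom.ker (algebraMap A R) =
      RingHom.ker (algebraMap A B) ⊔ Ideal.span (Set.range a) := by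
    have e1 : RingHom.ker (algebraMap A R) =
        (RingHom.ker (algebraMap B R)).comap (algebraMap A B) := by
      rw [IsScalarTower.algebraMap_eq A B R, RingHom.comap_ker]
    have e2 : Ideal.span (Set.range b) = (Ideal.span (Set.range a)).map (algebraMap A B) := by
      rw [Ideal.map_span, ← Set.range_comp]
      congr 2
      ext i; exact (ha i).symm
    rw [e1, hgen, e2, Ideal.comap_map_of_surjective _ hAB, sup_comm]
    congr 1
  have hxJ : ιI s' ∈ RingHom.ker (algebraMap A B) := by
    have : ιI s' ∈ Set.range ιI := ⟨s', rfl⟩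
    rw [hιI] at this; exact this
  have h3 := mem_mul_of_h1 (algebraMap A B) hAB b hb a ha _ hK (ιI s') hxJ h2
  exact kq_eq_zero_of_mem_mul A B R ιI hιIinj hιI q₁ hq₁ k hk s' h3

end Conormal3H1

section Free

variable {B : Type u} [CommRing B] {n : ℕ} (b : Fin n → B)

theorem exists_coeff_mem (I : Ideal B) (x : B) (hx : x ∈ I * Ideal.span (Set.range b)) :
    ∃ d : Fin n → B, (∀ i, d i ∈ I) ∧ ∑ i, d i * b i = x := by
  refine Submodule.mul_induction_on hx (fun m hm y hy => ?_) (fun x y hx hy => ?_)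
  · obtain ⟨e, rfl⟩ := (Ideal.mem_span_range_iff_exists_fun).mp hy
    refine ⟨fun i => m * e i, fun i => I.mul_mem_right _ hm, ?_⟩
    rw [Finset.mul_sum]
    exact Finset.sum_congr rfl (fun i _ => mul_assoc _ _ _)
  · obtain ⟨d, hd, rfl⟩ := hx
    obtain ⟨d', hd', rfl⟩ := hy
    refine ⟨d + d', fun i => I.add_mem (hd i) (hd' i), ?_⟩
    simp only [Pi.add_apply, add_mul, Finset.sum_add_distrib]

theorem coord_mem_of_span (I : Ideal B) (hbI : ∀ i, b i ∈ I) (v : Fin n → B)
    (hv : v ∈ Submodule.span B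
      {v : Fin n → B | ∃ i j : Fin n, v = Pi.single i (b j) - Pi.single j (b i)}) :
    ∀ i, v i ∈ I := by
  induction hv using Submodule.span_induction with
  | mem v hv =>
    obtain ⟨p, q, rfl⟩ := hv
    intro i
    simp only [Pi.sub_apply, Pi.single_apply]
    refine I.sub_mem ?_ ?_
    · split_ifs
      · exact hbI _
      · exact I.zero_mem
    · split_ifs
      · exact hbI _
      · exact I.zero_mem
  | zero => exact fun i => I.zero_mem
  | add v w _ _ hv hw => exact fun i => I.add_mem (hv i) (hw i)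
  | smul r v _ hv => exact fun i => I.mul_mem_left _ (hv i)

variable (B) (R : Type u) [CommRing R] [Algebra B R]
  (hBR : Function.Surjective (algebraMap B R))
  {MKB N₃ : Type u} [AddCommGroup MKB] [Module B MKB] [AddCommGroup N₃] [Module R N₃]
  (ιKB : MKB →ₗ[B] B) (hιKBinj : Function.Injective ιKB)
  (hιKB : Set.range ιKB = (RingHom.ker (algebraMap B R) : Set B))
  (q₃ : MKB →+ N₃) (hq₃ : IsBC (algebraMap B R) q₃)
  (hb : CAlgX.IsH1Regular b)
  (hgen : RingHom.ker (algebraMap B R) = Ideal.span (Set.range b))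

include hBR hιKBinj hιKB hq₃ hb hgen in
/-- **the conormal module of an ideal generated by an `H_1`-regular sequence of length `n` is free
of rank `n`** (receptacle form) -/
theorem conormal_free : Nonempty (N₃ ≃ₗ[R] (Fin n → R)) := by
  set I := RingHom.ker (algebraMap B R) with hI
  have hbI : ∀ i, b i ∈ I := fun i => by rw [hgen]; exact Ideal.subset_span ⟨i, rfl⟩
  have hbr : ∀ i, b i ∈ Set.range ιKB := fun i => by rw [hιKB]; exact hbI i
  choose t ht using hbr
  let L : (Fin n → R) →ₗ[R] N₃ := Fintype.linearCombination R (fun i => q₃ (t i))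
  have hL : ∀ c : Fin n → B, L (fun i => algebraMap B R (c i)) = q₃ (∑ i, c i • t i) := by
    intro c
    rw [Fintype.linearCombination_apply, map_sum]
    exact Finset.sum_congr rfl (fun i _ => (hq₃.map_smul _ _).symm)
  have hι : ∀ c : Fin n → B, ιKB (∑ i, c i • t i) = ∑ i, c i * b i := by
    intro c
    rw [map_sum]
    exact Finset.sum_congr rfl (fun i _ => by rw [map_smul, ht, smul_eq_mul])
  have hsurj : Function.Surjective L := by
    intro y
    obtain ⟨sb, rfl⟩ := surjective_of_isBC hBR hq₃ y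
    have h1 : ιKB sb ∈ Ideal.span (Set.range b) := by
      rw [← hgen]
      have : ιKB sb ∈ Set.range ιKB := ⟨sb, rfl⟩
      rw [hιKB] at this; exact this
    obtain ⟨c, hc⟩ := (Ideal.mem_span_range_iff_exists_fun).mp h1
    refine ⟨fun i => algebraMap B R (c i), ?_⟩
    rw [hL]
    congr 1
    exact hιKBinj ((hι c).trans hc)
  have hinj : Function.Injective L := by
    rw [injective_iff_map_eq_zero]
    intro r hr
    choose c hc using fun i => hBR (r i)
    have hr' : r = fun i => algebraMap B R (c i) := funext (fun i => (hc i).symm)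
    rw [hr', hL] at hr
    have h1 := mem_smul_top_of_isBC_eq_zero hBR hq₃ _ hr
    have h2 := ιK_mem_mul B R ιKB hιKB _ h1
    rw [hι] at h2
    have h3 : ∑ i, c i * b i ∈ I * Ideal.span (Set.range b) := by rw [← hgen]; exact h2
    obtain ⟨d, hd, hde⟩ := exists_coeff_mem b I _ h3
    have h4 : ∑ i, (c i - d i) * b i = 0 := by
      simp only [sub_mul, Finset.sum_sub_distrib, hde, sub_self]
    have h5 := coord_mem_of_span b I hbI _ (hb (fun i => c i - d i) h4)
    funext i
    have h6 : c i ∈ I := by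
      have := I.add_mem (h5 i) (hd i)
      simpa using this
    rw [hr']
    exact RingHom.mem_ker.mp h6
  exact ⟨(LinearEquiv.ofBijective L ⟨hinj, hsurj⟩).symm⟩

end Free

section Loc

variable {B B' : Type u} [CommRing B] [CommRing B'] [Algebra B B'] (M : Submonoid B)
  [IsLocalization M B'] {n : ℕ} (b : Fin n → B)

include M in
/-- `H_1`-regular sequences localize -/
theorem isH1Regular_of_isLocalization (hb : CAlgX.IsH1Regular b) :
    CAlgX.IsH1Regular (fun i => algebraMap B B' (b i)) := by
  intro a' ha'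
  obtain ⟨s, hs⟩ := IsLocalization.exist_integer_multiples M Finset.univ a'
  choose a ha using fun i => hs i (Finset.mem_univ i)
  have h1 : algebraMap B B' (∑ i, a i * b i) = 0 := by
    rw [map_sum]
    have : ∀ i, algebraMap B B' (a i * b i) = algebraMap B B' s * (a' i * algebraMap B B' (b i)) := by
      intro i
      rw [map_mul, ha i, Algebra.smul_def, mul_assoc]
    rw [Finset.sum_congr rfl (fun i _ => this i), ← Finset.mul_sum, ha', mul_zero]
  obtain ⟨m, hm⟩ := (IsLocalization.map_eq_zero_iff M B' _).mp h1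
  have h2 : ∑ i, ((m : B) * a i) * b i = 0 := by
    rw [← hm, Finset.mul_sum]
    exact Finset.sum_congr rfl (fun i _ => mul_assoc _ _ _)
  have h3 := hb (fun i => (m : B) * a i) h2
  let Φ : (Fin n → B) →ₗ[B] (Fin n → B') := (Algebra.linearMap B B').compLeft (Fin n)
  set Striv' : Set (Fin n → B') := {v : Fin n → B' | ∃ i j : Fin n,
      v = Pi.single i (algebraMap B B' (b j)) - Pi.single j (algebraMap B B' (b i))} with hS'
  have h4 : Φ (fun i => (m : B) * a i) ∈ (Submodule.span B' Striv').restrictScalars B := by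
    have h5 : Submodule.map Φ (Submodule.span B
        {v : Fin n → B | ∃ i j : Fin n, v = Pi.single i (b j) - Pi.single j (b i)}) ≤
        (Submodule.span B' Striv').restrictScalars B := by
      rw [Submodule.map_span, Submodule.span_le]
      rintro _ ⟨v, ⟨p, q, rfl⟩, rfl⟩
      refine Submodule.subset_span ⟨p, q, ?_⟩
      funext i
      simp only [Φ, LinearMap.compLeft_apply, Function.comp_apply, Pi.sub_apply,
        Algebra.linearMap_apply, map_sub, Pi.single_apply]
      congr 1 <;> split_ifs <;> simp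
    exact h5 (Submodule.mem_map_of_mem h3)
  have hu : IsUnit (algebraMap B B' ((m : B) * s)) := IsLocalization.map_units B' (m * s)
  have h6 : Φ (fun i => (m : B) * a i) = algebraMap B B' ((m : B) * s) • a' := by
    funext i
    simp only [Φ, LinearMap.compLeft_apply, Function.comp_apply, Algebra.linearMap_apply,
      Pi.smul_apply, smul_eq_mul, map_mul, ha i, Algebra.smul_def]
    ring
  rw [h6] at h4
  have h7 := (Submodule.span B' Striv').smul_mem (↑hu.unit⁻¹ : B') h4
  rwa [smul_smul, IsUnit.val_inv_mul, one_smul] at h7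

end Loc

end Groth.Agent.Lib.helper7.OmegaSeqAlg
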