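import Groth.Agent.Lib.Helper7.OmegaLocal
import Groth.Agent.Lib.Helper7.ModBasisHom

/-!
# The derivation `d_{X/Y}` into `Ω_{X/Y}` is universal (helper7)
-/

set_option autoImplicit false
set_option linter.style.haveILetI false
set_option linter.unusedSectionVars false
universe u
open CategoryTheory CategoryTheory.Limits AlgebraicGeometry TopologicalSpace Opposite
open Scheme.Modules Groth.Agent.Lib.helper7

namespace Groth.Agent.Lib.helper7.OmegaUniv

section Alg

theorem exists_lift_of_leibniz (A B N : Type u) [CommRing A] [CommRing B] [Algebra A B]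
    [AddCommGroup N] [Module B N] (δ : B →+ N)
    (h1 : ∀ a b : B, δ (a * b) = a • δ b + b • δ a)
    (h2 : ∀ a : A, δ (algebraMap A B a) = 0) :
    ∃ l : Ω[B⁄A] →ₗ[B] N, ∀ b, l (KaehlerDifferential.D A B b) = δ b := by
  letI : Module A N := Module.compHom N (algebraMap A B)
  haveI : IsScalarTower A B N := IsScalarTower.of_algebraMap_smul (fun _ _ => rfl)
  have h3 : δ 1 = 0 := by
    have := h1 1 1
    rw [one_smul, mul_one] at this
    exact left_eq_add.mp this
  let δ' : Derivation A B N :=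
    { toFun := δ
      map_add' := map_add δ
      map_smul' := fun a b => by
        change δ (a • b) = algebraMap A B a • δ b
        rw [Algebra.smul_def, h1, h2, smul_zero, add_zero]
      map_one_eq_zero' := h3
      leibniz' := h1 }
  exact ⟨δ'.liftKaehlerDifferential, fun b => Derivation.liftKaehlerDifferential_comp_D δ' b⟩

end Alg

section Local
variable {X Y : Scheme.{u}} (f : X ⟶ Y) {F : X.Modules} (D : OmegaSh.Der f F)
  {U : X.Opens} (hU : IsAffineOpen U) {V : Y.Opens} (hV : IsAffineOpen V) (e : U ≤ f ⁻¹ᵁ V)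

theorem der_map {W W' : X.Opens} (h : W' ≤ W) (s : Γ(X, W)) :
    D.app W' (X.presheaf.map (homOfLE h).op s) = F.presheaf.map (homOfLE h).op (D.app W s) :=
  D.d_map (homOfLE h).op s

theorem der_appLE (a : Γ(Y, V)) : D.app U ((f.appLE V U e).hom a) = 0 := by
  rw [Scheme.Hom.appLE, CommRingCat.comp_apply, der_map]
  have h0 : D.app (f ⁻¹ᵁ V) ((f.app V).hom a) = 0 := D.d_app (X := op V) a
  rw [h0, map_zero]

theorem der_mul (W : X.Opens) (a b : Γ(X, W)) :
    D.app W (a * b) = a • D.app W b + b • D.app W a := D.d_mul a b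

variable [QuasiSeparated f]

include hU hV e in
theorem span_dSect : Submodule.span Γ(X, U) (Set.range (OmegaSh.dSect f U)) = ⊤ := by
  letI := (f.appLE V U e).hom.toAlgebra
  obtain ⟨ψ, hψ⟩ := OmegaLocal.exists_sectionsEquiv_dSect f hU hV e
  have h1 := KaehlerDifferential.span_range_derivation Γ(Y, V) Γ(X, U)
  have h2 : Submodule.map ψ.toLinearMap (Submodule.span Γ(X, U) (Set.range (OmegaSh.dSect f U))) = ⊤ := by
    rw [Submodule.map_span, ← h1]
    congr 1
    ext x
    constructor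
    · rintro ⟨_, ⟨b, rfl⟩, rfl⟩
      exact ⟨b, (hψ b).symm⟩
    · rintro ⟨b, rfl⟩
      exact ⟨_, ⟨b, rfl⟩, hψ b⟩
  rw [eq_top_iff]
  intro x _
  have hx : ψ x ∈ (⊤ : Submodule Γ(X, U) Ω[Γ(X, U)⁄Γ(Y, V)]) := trivial
  rw [← h2] at hx
  obtain ⟨y, hy, hyx⟩ := hx
  have : y = x := ψ.injective hyx
  rwa [← this]

include hU hV e in
theorem exists_local_lift :
    ∃ l : Γ(Omega.sheaf f, U) →ₗ[Γ(X, U)] Γ(F, U), ∀ b, l (OmegaSh.dSect f U b) = D.app U b := by
  letI := (f.appLE V U e).hom.toAlgebra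
  obtain ⟨ψ, hψ⟩ := OmegaLocal.exists_sectionsEquiv_dSect f hU hV e
  obtain ⟨l, hl⟩ := exists_lift_of_leibniz Γ(Y, V) Γ(X, U) Γ(F, U) (D.app U) (der_mul f D U)
    (der_appLE f D e)
  exact ⟨l ∘ₗ ψ.toLinearMap, fun b => by
    change l (ψ (OmegaSh.dSect f U b)) = _
    rw [hψ, hl]⟩

include hU hV e in
theorem eq_of_eq_on_dSect {B' T : Type u} [CommRing B'] [AddCommGroup T] [Module B' T]
    (r : Γ(X, U) →+* B') (g₁ g₂ : Γ(Omega.sheaf f, U) →+ T)
    (h₁ : ∀ b x, g₁ (b • x) = r b • g₁ x) (h₂ : ∀ b x, g₂ (b • x) = r b • g₂ x)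
    (h : ∀ b, g₁ (OmegaSh.dSect f U b) = g₂ (OmegaSh.dSect f U b)) : g₁ = g₂ := by
  ext x
  have hx : x ∈ Submodule.span Γ(X, U) (Set.range (OmegaSh.dSect f U)) := by
    rw [span_dSect f hU hV e]; trivial
  induction hx using Submodule.span_induction with
  | mem y hy =>
    obtain ⟨b, rfl⟩ := hy
    exact h b
  | zero => rw [map_zero, map_zero]
  | add y z _ _ hy hz => rw [map_add, map_add, hy, hz]
  | smul b y _ hy => rw [h₁, h₂, hy]

end Local

section Global
variable {X Y : Scheme.{u}} (f : X ⟶ Y)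

/-- pairs of affine opens `U ⊆ X`, `V ⊆ Y` with `U ⊆ f⁻¹ V` -/
abbrev AffPair := {p : X.affineOpens × Y.affineOpens // p.1.1 ≤ f ⁻¹ᵁ p.2.1}

/-- the source of an affine chart pair -/
abbrev basisOpen (p : AffPair f) : X.Opens := p.1.1.1

theorem isBasis_affPair : Opens.IsBasis (Set.range (basisOpen f)) := by
  rw [Opens.isBasis_iff_nbhd]
  intro W x hx
  obtain ⟨V, hV, hxV, -⟩ := Opens.isBasis_iff_nbhd.mp Y.isBasis_affineOpens
    (show f x ∈ (⊤ : Y.Opens) from trivial)
  obtain ⟨U, hU, hxU, hUW⟩ := Opens.isBasis_iff_nbhd.mp X.isBasis_affineOpens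
    (show x ∈ W ⊓ f ⁻¹ᵁ V from ⟨hx, hxV⟩)
  exact ⟨U, ⟨⟨(⟨U, hU⟩, ⟨V, hV⟩), hUW.trans inf_le_right⟩, rfl⟩, hxU, hUW.trans inf_le_left⟩

variable [QuasiSeparated f]

theorem dSect_map' {W W' : X.Opens} (h : W' ≤ W) (s : Γ(X, W)) :
    OmegaSh.dSect f W' (X.presheaf.map (homOfLE h).op s) =
      (Omega.sheaf f).presheaf.map (homOfLE h).op (OmegaSh.dSect f W s) :=
  OmegaSh.dSect_map f h s

theorem isUniversal_dOmega : OmegaSh.IsUniversal (OmegaSh.dOmega f) := by
  intro F D
  choose l hl using fun p : AffPair f => exists_local_lift f D p.1.1.2 p.1.2.2 p.2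
  have hnat : ∀ (p q : AffPair f) (h : basisOpen f q ≤ basisOpen f p)
      (x : Γ(Omega.sheaf f, basisOpen f p)),
      (l q).toAddMonoidHom ((Omega.sheaf f).presheaf.map (homOfLE h).op x) =
        F.presheaf.map (homOfLE h).op ((l p).toAddMonoidHom x) := by
    intro p q h x
    have key := eq_of_eq_on_dSect f p.1.1.2 p.1.2.2 p.2 (T := Γ(F, basisOpen f q))
      (X.presheaf.map (homOfLE h).op).hom
      ((l q).toAddMonoidHom.comp ((Omega.sheaf f).presheaf.map (homOfLE h).op).hom)
      ((F.presheaf.map (homOfLE h).op).hom.comp (l p).toAddMonoidHom)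
      (fun b y => by
        change l q ((Omega.sheaf f).presheaf.map (homOfLE h).op (b • y)) = _
        have e3 : (Omega.sheaf f).presheaf.map (homOfLE h).op (b • y) =
            (X.presheaf.map (homOfLE h).op b : Γ(X, basisOpen f q)) •
              (Omega.sheaf f).presheaf.map (homOfLE h).op y :=
          Scheme.Modules.map_smul (Omega.sheaf f) (homOfLE h) b y
        rw [e3, _root_.map_smul]
        rfl)
      (fun b y => by
        change F.presheaf.map (homOfLE h).op (l p (b • y)) = _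
        rw [_root_.map_smul]
        exact Scheme.Modules.map_smul F (homOfLE h) b (l p y))
      (fun b => by
        change l q ((Omega.sheaf f).presheaf.map (homOfLE h).op (OmegaSh.dSect f _ b)) =
          F.presheaf.map (homOfLE h).op (l p (OmegaSh.dSect f _ b))
        rw [← dSect_map', hl, hl]
        exact der_map f D h b)
    exact congr($key x)
  obtain ⟨φ, hφ⟩ := ModBasisHom.exists_hom_of_basis (basisOpen f) (isBasis_affPair f)
    (fun p => (l p).toAddMonoidHom) hnat (fun p r x => (l p).map_smul r x)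
  have hφ' : ∀ (p : AffPair f) (x : Γ(Omega.sheaf f, basisOpen f p)),
      φ.app (basisOpen f p) x = l p x := hφ
  have hval : ∀ (ψ : Omega.sheaf f ⟶ F) (W : X.Opens) (s : Γ(X, W)),
      OmegaSh.Der.app (f := f) ((OmegaSh.dOmega f).postcomp ψ.val) W s =
        ψ.app W (OmegaSh.dSect f W s) := fun _ _ _ => rfl
  refine ⟨φ, ?_, ?_⟩
  · apply PresheafOfModules.Derivation.ext
    funext W
    ext s
    change φ.app W.unop (OmegaSh.dSect f W.unop s) = D.app W.unop s
    refine TopCat.Presheaf.IsSheaf.section_ext F.isSheaf (fun x hx => ?_)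
    obtain ⟨_, ⟨p, rfl⟩, hxp, hpW⟩ := Opens.isBasis_iff_nbhd.mp (isBasis_affPair f)
      (show x ∈ W.unop from hx)
    refine ⟨basisOpen f p, hpW, hxp, ?_⟩
    have e1 := ModBasisHom.app_map φ hpW (OmegaSh.dSect f W.unop s)
    rw [← dSect_map', hφ', hl] at e1
    rw [← e1]
    exact der_map f D hpW s
  · intro ψ hψ
    refine ModBasisHom.hom_ext_of_basis (basisOpen f) (isBasis_affPair f) ψ φ (fun p x => ?_)
    rw [hφ']
    have key := eq_of_eq_on_dSect f p.1.1.2 p.1.2.2 p.2 (T := Γ(F, basisOpen f p))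
      (RingHom.id _) (ψ.app (basisOpen f p)).hom (l p).toAddMonoidHom
      (fun b y => ψ.app_smul b y) (fun b y => (l p).map_smul b y)
      (fun b => by
        change ψ.app (basisOpen f p) (OmegaSh.dSect f _ b) = l p (OmegaSh.dSect f _ b)
        rw [← hval ψ, hψ, hl])
    exact congr($key x)

end Global

end Groth.Agent.Lib.helper7.OmegaUniv
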