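import Groth.Agent.Lib.Helper7.OmegaRestrict
import Groth.Agent.Lib.Helper7.OmegaUniv
import Groth.Agent.Lib.Helper7.IdealCartier
import Groth.Agent.Lib.Helper16.QCohPullback2

/-!
# Structure of universal derivations (helper7)
-/

set_option autoImplicit false
set_option linter.style.haveILetI false
set_option linter.unusedSectionVars false
universe u
open CategoryTheory CategoryTheory.Limits AlgebraicGeometry TopologicalSpace Opposite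
open Scheme.Modules

namespace Groth.Agent.Lib.helper7.OmegaStruct

section Uniq
variable {X Y : Scheme.{u}} (f : X ⟶ Y) {Ω₁ Ω₂ : X.Modules} (d₁ : OmegaSh.Der f Ω₁)
  (d₂ : OmegaSh.Der f Ω₂)

theorem postcomp_comp {Ω₃ : X.Modules} (α : Ω₁ ⟶ Ω₂) (β : Ω₂ ⟶ Ω₃) :
    d₁.postcomp (α ≫ β).val = (d₁.postcomp α.val).postcomp β.val :=
  OmegaPush.der_ext f _ _ (fun _ _ => rfl)

theorem postcomp_id : d₁.postcomp (𝟙 Ω₁ : Ω₁ ⟶ Ω₁).val = d₁ :=
  OmegaPush.der_ext f _ _ (fun _ _ => rfl)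

/-- two universal derivations are uniquely isomorphic -/
theorem exists_iso_of_isUniversal (h₁ : OmegaSh.IsUniversal d₁) (h₂ : OmegaSh.IsUniversal d₂) :
    ∃ α : Ω₁ ≅ Ω₂, d₁.postcomp α.hom.val = d₂ := by
  obtain ⟨α, hα, -⟩ := h₁ Ω₂ d₂
  obtain ⟨β, hβ, -⟩ := h₂ Ω₁ d₁
  obtain ⟨_, -, hu₁⟩ := h₁ Ω₁ d₁
  obtain ⟨_, -, hu₂⟩ := h₂ Ω₂ d₂
  refine ⟨⟨α, β, ?_, ?_⟩, hα⟩
  · rw [hu₁ (α ≫ β) (by change d₁.postcomp (α ≫ β).val = d₁; rw [postcomp_comp, hα, hβ]),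
      hu₁ (𝟙 Ω₁) (postcomp_id f d₁)]
  · rw [hu₂ (β ≫ α) (by change d₂.postcomp (β ≫ α).val = d₂; rw [postcomp_comp, hβ, hα]),
      hu₂ (𝟙 Ω₂) (postcomp_id f d₂)]

end Uniq

section Struct
variable {X Y : Scheme.{u}} (f : X ⟶ Y) {Ω' : X.Modules} (d : OmegaSh.Der f Ω')

/-- the statement "`Γ(Ω', W)` with `d` is the module of Kähler differentials of `φ`" -/
def IsKaehlerAt {V : Y.Opens} (W : X.Opens) (φ : Γ(Y, V) ⟶ Γ(X, W)) : Prop :=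
  letI := φ.hom.toAlgebra
  ∃ ψ : Γ(Ω', W) ≃ₗ[Γ(X, W)] Ω[Γ(X, W)⁄Γ(Y, V)],
    ∀ b : Γ(X, W), ψ (d.app W b) = KaehlerDifferential.D Γ(Y, V) Γ(X, W) b

theorem isKaehlerAt_congr {V : Y.Opens} {W W' : X.Opens} (h : W = W') (e : W ≤ f ⁻¹ᵁ V)
    (e' : W' ≤ f ⁻¹ᵁ V) (H : IsKaehlerAt f d W (f.appLE V W e)) :
    IsKaehlerAt f d W' (f.appLE V W' e') := by
  subst h
  exact H

variable (hd : OmegaSh.IsUniversal d) {U : X.Opens} (hU : IsAffineOpen U)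
  {V : Y.Opens} (hV : IsAffineOpen V) (e : U ≤ f ⁻¹ᵁ V)

theorem image_top_le {U : X.Opens} {V : Y.Opens} (e : U ≤ f ⁻¹ᵁ V) : U.ι ''ᵁ ⊤ ≤ f ⁻¹ᵁ V := by
  rw [U.ι_image_top]; exact e

include hd hU hV in
theorem isKaehlerAt_image_top :
    IsKaehlerAt f d (U.ι ''ᵁ ⊤) (f.appLE V (U.ι ''ᵁ ⊤) (image_top_le f e)) := by
  haveI : IsAffine ↑U := hU
  let g : (↑U : Scheme.{u}) ⟶ Y := U.ι ≫ f
  have e' : (⊤ : (↑U : Scheme.{u}).Opens) ≤ g ⁻¹ᵁ V := by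
    intro x _
    exact e x.2
  obtain ⟨α, hα⟩ := exists_iso_of_isUniversal g (OmegaSh.dOmega g) (OmegaRestrict.restrDer f U.ι d)
    (OmegaUniv.isUniversal_dOmega g) (OmegaRestrict.isUniversal_restrDer f U.ι d hd)
  have hφ : f.appLE V (U.ι ''ᵁ ⊤) (image_top_le f e) = g.appLE V ⊤ e' := by
    rw [Scheme.Hom.comp_appLE, Scheme.Opens.ι_appLE]
    rfl
  rw [hφ]
  letI := (g.appLE V ⊤ e').hom.toAlgebra
  obtain ⟨ψ₀, hψ₀⟩ := OmegaLocal.exists_sectionsEquiv_dSect g (isAffineOpen_top _) hV e'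
  let αΓ := Groth.Agent.Lib.helper16.QCohPullback2.sectionsEquivOfIso α ⊤
  let ψ₁ := αΓ.symm ≪≫ₗ ψ₀
  have hαd : ∀ b : Γ((↑U : Scheme.{u}), ⊤), αΓ (OmegaSh.dSect g ⊤ b) = d.app (U.ι ''ᵁ ⊤) b := by
    intro b
    have h1 := congrArg (fun D => OmegaSh.Der.app (f := g) D ⊤ b) hα
    simp only [OmegaPush.postcomp_app, OmegaRestrict.restrDer_app] at h1
    refine Eq.trans ?_ (h1.trans ?_)
    · rfl
    · rw [Scheme.Opens.ι_appIso]
      rfl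
  unfold IsKaehlerAt
  refine ⟨{ toFun := fun x => ψ₁ x
            invFun := fun y => ψ₁.symm y
            map_add' := ψ₁.map_add
            map_smul' := ?_
            left_inv := ψ₁.left_inv
            right_inv := ψ₁.right_inv }, ?_⟩
  · intro r x
    have h2 := ψ₁.map_smul r x
    rw [IdealCartier.restrict_smul] at h2
    exact h2
  · intro b
    change ψ₀ (αΓ.symm (d.app (U.ι ''ᵁ ⊤) b)) = _
    rw [← hαd, LinearEquiv.symm_apply_apply, hψ₀]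
    rfl

include hd hU hV in
/-- **Structure theorem for universal derivations**: for any `f : X ⟶ Y`, a universal derivation
`d : O_X → Ω'` and affine opens `U ⊆ X`, `V ⊆ Y` with `U ⊆ f⁻¹ V`,
`Γ(Ω', U) ≃ Ω[Γ(X,U)⁄Γ(Y,V)]` carrying `d` to the universal derivation. -/
theorem exists_sectionsEquiv :
    letI := (f.appLE V U e).hom.toAlgebra
    ∃ ψ : Γ(Ω', U) ≃ₗ[Γ(X, U)] Ω[Γ(X, U)⁄Γ(Y, V)],
      ∀ b : Γ(X, U), ψ (d.app U b) = KaehlerDifferential.D Γ(Y, V) Γ(X, U) b :=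
  isKaehlerAt_congr f d U.ι_image_top (image_top_le f e) e (isKaehlerAt_image_top f d hd hU hV e)

end Struct

end Groth.Agent.Lib.helper7.OmegaStruct
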