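import Mathlib.CategoryTheory.Abelian.Projective.Resolution
import Mathlib.CategoryTheory.Abelian.LeftDerived
import Mathlib.Algebra.Homology.HomologySequenceLemmas
import Mathlib.Algebra.Homology.HomologicalComplexAbelian
import Mathlib.CategoryTheory.Abelian.Refinements
import Mathlib.CategoryTheory.Abelian.DiagramLemmas.Four

/-!
# helper7: the Horseshoe lemma and the long exact sequence of left derived functors
-/

universe v u v' u'

open CategoryTheory Category Limits

namespace Groth.Agent.Lib.helper7.Horseshoe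

variable {C : Type u} [Category.{v} C] [Abelian C]

section aug

variable {Z : C} (P : ProjectiveResolution Z)

/-- the augmentation `P₀ → Z`. -/
noncomputable def aug : P.complex.X 0 ⟶ Z := P.π.f 0

@[reassoc (attr := simp)]
lemma d_aug : P.complex.d 1 0 ≫ aug P = 0 := P.complex_d_comp_π_f_zero

lemma exact_aug : (ShortComplex.mk (P.complex.d 1 0) (aug P) (d_aug P)).Exact := P.exact₀

instance : Epi (aug P) := inferInstanceAs (Epi (P.π.f 0))

end aug

section mk

/-- Build a projective resolution from an exact complex of projectives. -/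
noncomputable def mkResolution (K : ChainComplex C ℕ) (hK : ∀ n, Projective (K.X n)) {Z : C}
    (ε : K.X 0 ⟶ Z) (hε : K.d 1 0 ≫ ε = 0) (hex : ∀ n, K.ExactAt (n + 1))
    (h0 : (ShortComplex.mk (K.d 1 0) ε hε).Exact) (_ : Epi ε) : ProjectiveResolution Z where
  complex := K
  projective := hK
  π := (ChainComplex.toSingle₀Equiv _ _).symm ⟨ε, hε⟩
  quasiIso := ⟨fun n => by
    cases n with
    | zero =>
      rw [ChainComplex.quasiIsoAt₀_iff,
        ShortComplex.quasiIso_iff_of_zeros' _ (K.shape _ _ (by simp)) rfl rfl]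
      refine (ShortComplex.exact_and_epi_g_iff_of_iso ?_).2 ⟨h0, inferInstance⟩
      exact ShortComplex.isoMk (Iso.refl _) (Iso.refl _) (Iso.refl _)
        (by exact (id_comp _).trans (comp_id _).symm)
        (by exact (id_comp _).trans ((ChainComplex.toSingle₀Equiv_symm_apply_f_zero
          (C := K) (X := Z) ε hε).symm.trans (comp_id _).symm))
    | succ n =>
      rw [quasiIsoAt_iff_exactAt' (hL := ChainComplex.exactAt_succ_single_obj ..)]
      exact hex n⟩

@[simp]
lemma mkResolution_complex (K : ChainComplex C ℕ) (hK : ∀ n, Projective (K.X n)) {Z : C}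
    (ε : K.X 0 ⟶ Z) (hε : K.d 1 0 ≫ ε = 0) (hex : ∀ n, K.ExactAt (n + 1))
    (h0 : (ShortComplex.mk (K.d 1 0) ε hε).Exact) (h1 : Epi ε) :
    (mkResolution K hK ε hε hex h0 h1).complex = K := rfl

lemma mkResolution_π_f_zero (K : ChainComplex C ℕ) (hK : ∀ n, Projective (K.X n)) {Z : C}
    (ε : K.X 0 ⟶ Z) (hε : K.d 1 0 ≫ ε = 0) (hex : ∀ n, K.ExactAt (n + 1))
    (h0 : (ShortComplex.mk (K.d 1 0) ε hε).Exact) (h1 : Epi ε) :
    (mkResolution K hK ε hε hex h0 h1).π.f 0 = ε :=
  ChainComplex.toSingle₀Equiv_symm_apply_f_zero _ _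

end mk

variable {S : ShortComplex C} (hS : S.ShortExact)
variable (P' : ProjectiveResolution S.X₁) (P'' : ProjectiveResolution S.X₃)

/-- the "next" map out of `P'_n` in the augmented complex. -/
noncomputable def nxObj : ℕ → C
  | 0 => S.X₁
  | n + 1 => P'.complex.X n

/-- the "next" map out of `P'_n` in the augmented complex. -/
noncomputable def nx : (n : ℕ) → (P'.complex.X n ⟶ nxObj P' n)
  | 0 => aug P'
  | n + 1 => P'.complex.d (n + 1) n

lemma d_nx (n : ℕ) : P'.complex.d (n + 1) n ≫ nx P' n = 0 := by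
  cases n with
  | zero => exact d_aug P'
  | succ n => exact P'.complex.d_comp_d _ _ _

lemma exact_nx (n : ℕ) : (ShortComplex.mk (P'.complex.d (n + 1) n) (nx P' n) (d_nx P' n)).Exact := by
  cases n with
  | zero => exact exact_aug P'
  | succ n => exact P'.exact_succ n

include hS in
/-- the lift `σ : P''_0 → X₂`. -/
noncomputable def σ : P''.complex.X 0 ⟶ S.X₂ :=
  haveI := hS.epi_g
  Projective.factorThru (aug P'') S.g

lemma σ_g : σ hS P'' ≫ S.g = aug P'' := by
  haveI := hS.epi_g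
  exact Projective.factorThru_comp _ _

/-- data for the twisting maps. -/
structure TauData (n : ℕ) where
  /-- the twisting map -/
  τ : P''.complex.X (n + 1) ⟶ P'.complex.X n
  z : P''.complex.d (n + 2) (n + 1) ≫ τ ≫ nx P' n = 0

/-- `t₀ : P''_1 → X₁`. -/
noncomputable def t₀ : P''.complex.X 1 ⟶ S.X₁ :=
  haveI := hS.mono_f
  hS.exact.lift (-(P''.complex.d 1 0 ≫ σ hS P'')) (by
    rw [Preadditive.neg_comp, assoc, σ_g, d_aug, neg_zero])

lemma t₀_f : t₀ hS P'' ≫ S.f = -(P''.complex.d 1 0 ≫ σ hS P'') := by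
  haveI := hS.mono_f
  exact hS.exact.lift_f _ _

/-- the first twisting map. -/
noncomputable def tau0 : TauData P' P'' 0 where
  τ := Projective.factorThru (t₀ hS P'') (aug P')
  z := by
    haveI := hS.mono_f
    change P''.complex.d 2 1 ≫ _ ≫ aug P' = 0
    rw [Projective.factorThru_comp, ← cancel_mono S.f, assoc, t₀_f, zero_comp,
      Preadditive.comp_neg, ← assoc, P''.complex.d_comp_d, zero_comp, neg_zero]

lemma tau0_comp : (tau0 hS P' P'').τ ≫ aug P' ≫ S.f = -(P''.complex.d 1 0 ≫ σ hS P'') := by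
  change Projective.factorThru (t₀ hS P'') (aug P') ≫ _ ≫ _ = _
  rw [← assoc, Projective.factorThru_comp, t₀_f]

/-- the inductive step. -/
noncomputable def tauSucc (n : ℕ) (t : TauData P' P'' n) : TauData P' P'' (n + 1) where
  τ := (exact_nx P' n).liftFromProjective (-(P''.complex.d (n + 2) (n + 1) ≫ t.τ)) (by
    dsimp
    rw [Preadditive.neg_comp, assoc, t.z, neg_zero])
  z := by
    change P''.complex.d (n + 3) (n + 2) ≫ _ ≫ P'.complex.d (n + 1) n = 0
    have := (exact_nx P' n).liftFromProjective_comp (-(P''.complex.d (n + 2) (n + 1) ≫ t.τ)) (by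
      dsimp
      rw [Preadditive.neg_comp, assoc, t.z, neg_zero])
    dsimp at this
    rw [this, Preadditive.comp_neg, ← assoc, P''.complex.d_comp_d, zero_comp, neg_zero]

lemma tauSucc_comp (n : ℕ) (t : TauData P' P'' n) :
    (tauSucc P' P'' n t).τ ≫ P'.complex.d (n + 1) n = -(P''.complex.d (n + 2) (n + 1) ≫ t.τ) :=
  (exact_nx P' n).liftFromProjective_comp _ _

/-- all twisting maps. -/
noncomputable def tau : (n : ℕ) → TauData P' P'' n
  | 0 => tau0 hS P' P''
  | n + 1 => tauSucc P' P'' n (tau n)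

lemma tau_zero_comp :
    (tau hS P' P'' 0).τ ≫ aug P' ≫ S.f = -(P''.complex.d 1 0 ≫ σ hS P'') :=
  tau0_comp hS P' P''

lemma tau_succ_comp (n : ℕ) :
    (tau hS P' P'' (n + 1)).τ ≫ P'.complex.d (n + 1) n =
      -(P''.complex.d (n + 2) (n + 1) ≫ (tau hS P' P'' n).τ) :=
  tauSucc_comp P' P'' n _

/-! ### the middle complex -/

/-- objects of the middle complex. -/
noncomputable abbrev BX (n : ℕ) : C := P'.complex.X n ⊞ P''.complex.X n

/-- differential of the middle complex. -/
noncomputable def Bd (n : ℕ) : BX P' P'' (n + 1) ⟶ BX P' P'' n :=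
  biprod.desc (P'.complex.d (n + 1) n ≫ biprod.inl)
    (biprod.lift (tau hS P' P'' n).τ (P''.complex.d (n + 1) n))

lemma Bd_sq (n : ℕ) : Bd hS P' P'' (n + 1) ≫ Bd hS P' P'' n = 0 := by
  unfold Bd
  apply biprod.hom_ext'
  · simp
  · apply biprod.hom_ext
    · simp [tau_succ_comp]
    · simp

/-- the middle complex. -/
noncomputable def B : ChainComplex C ℕ :=
  ChainComplex.of (BX P' P'') (Bd hS P' P'') (Bd_sq hS P' P'')

lemma B_d (n : ℕ) : (B hS P' P'').d (n + 1) n = Bd hS P' P'' n :=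
  ChainComplex.of_d _ _ _

/-- the augmentation of the middle complex. -/
noncomputable def εB : BX P' P'' 0 ⟶ S.X₂ := biprod.desc (aug P' ≫ S.f) (σ hS P'')

lemma Bd_εB : Bd hS P' P'' 0 ≫ εB hS P' P'' = 0 := by
  unfold Bd εB
  apply biprod.hom_ext'
  · simp
  · simp only [biprod.inr_desc_assoc, comp_zero]
    rw [biprod.lift_desc, ← assoc, assoc, tau_zero_comp]
    exact neg_add_cancel _

lemma εB_g : εB hS P' P'' ≫ S.g = biprod.snd ≫ aug P'' := by
  unfold εB
  apply biprod.hom_ext'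
  · simp
  · simp [σ_g]

lemma inl_Bd (n : ℕ) : (biprod.inl : P'.complex.X (n + 1) ⟶ BX P' P'' (n + 1)) ≫ Bd hS P' P'' n =
    P'.complex.d (n + 1) n ≫ biprod.inl := by
  unfold Bd
  simp

lemma Bd_snd (n : ℕ) : Bd hS P' P'' n ≫ (biprod.snd : BX P' P'' n ⟶ P''.complex.X n) =
    biprod.snd ≫ P''.complex.d (n + 1) n := by
  unfold Bd
  apply biprod.hom_ext' <;> simp

/-- the inclusion `P' → B`. -/
noncomputable def ιB : P'.complex ⟶ B hS P' P'' where
  f n := (biprod.inl : P'.complex.X n ⟶ BX P' P'' n)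
  comm' i j hij := by
    obtain rfl : j + 1 = i := hij
    rw [B_d]
    exact inl_Bd hS P' P'' j

/-- the projection `B → P''`. -/
noncomputable def pB : B hS P' P'' ⟶ P''.complex where
  f n := (biprod.snd : BX P' P'' n ⟶ P''.complex.X n)
  comm' i j hij := by
    obtain rfl : j + 1 = i := hij
    rw [B_d]
    exact (Bd_snd hS P' P'' j).symm

@[simp] lemma ιB_f (n : ℕ) : (ιB hS P' P'').f n = biprod.inl := rfl
@[simp] lemma pB_f (n : ℕ) : (pB hS P' P'').f n = biprod.snd := rfl

lemma ιB_pB : ιB hS P' P'' ≫ pB hS P' P'' = 0 := by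
  ext n
  exact biprod.inl_snd

/-- the short complex of complexes. -/
noncomputable def cx : ShortComplex (ChainComplex C ℕ) :=
  ShortComplex.mk (ιB hS P' P'') (pB hS P' P'') (ιB_pB hS P' P'')

/-- degreewise splitting. -/
noncomputable def cxSplitting (n : ℕ) :
    ((cx hS P' P'').map (HomologicalComplex.eval C (ComplexShape.down ℕ) n)).Splitting where
  r := (biprod.fst : BX P' P'' n ⟶ P'.complex.X n)
  s := (biprod.inr : P''.complex.X n ⟶ BX P' P'' n)
  f_r := by exact biprod.inl_fst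
  s_g := by exact biprod.inr_snd
  id := by exact biprod.total

lemma cx_shortExact : (cx hS P' P'').ShortExact :=
  HomologicalComplex.shortExact_of_degreewise_shortExact _ fun n =>
    (cxSplitting hS P' P'' n).shortExact

lemma B_exactAt_succ (n : ℕ) : (B hS P' P'').ExactAt (n + 1) :=
  (cx_shortExact hS P' P'').exactAt_X₂ (n + 1) (P'.complex_exactAt_succ n)
    (P''.complex_exactAt_succ n)

lemma εB_eq : εB hS P' P'' = biprod.fst ≫ aug P' ≫ S.f + biprod.snd ≫ σ hS P'' := by
  unfold εB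
  apply biprod.hom_ext' <;> simp

lemma Bd_zero_fst : Bd hS P' P'' 0 ≫ biprod.fst =
    biprod.fst ≫ P'.complex.d 1 0 + biprod.snd ≫ (tau hS P' P'' 0).τ := by
  unfold Bd
  apply biprod.hom_ext' <;> simp

lemma exact_εB : (ShortComplex.mk (Bd hS P' P'' 0) (εB hS P' P'') (Bd_εB hS P' P'')).Exact := by
  haveI := hS.mono_f
  rw [ShortComplex.exact_iff_exact_up_to_refinements]
  intro A a ha
  dsimp at a ha ⊢
  -- second component
  have h2 : (a ≫ biprod.snd) ≫ aug P'' = 0 := by
    rw [assoc, ← εB_g hS P' P'', ← assoc, ha, zero_comp]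
  obtain ⟨A₁, π₁, hπ₁, b₂, hb₂⟩ := (exact_aug P'').exact_up_to_refinements (a ≫ biprod.snd) h2
  dsimp at b₂ hb₂
  -- first component
  have key : π₁ ≫ a ≫ biprod.fst ≫ aug P' ≫ S.f + (π₁ ≫ a ≫ biprod.snd) ≫ σ hS P'' = 0 := by
    have e : a ≫ (biprod.fst ≫ aug P' ≫ S.f + biprod.snd ≫ σ hS P'') = 0 := by
      rw [← εB_eq]
      exact ha
    have e' := π₁ ≫= e
    simpa only [Preadditive.comp_add, assoc, comp_zero] using e'
  have h1 : (π₁ ≫ a ≫ biprod.fst - b₂ ≫ (tau hS P' P'' 0).τ) ≫ aug P' = 0 := by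
    rw [← cancel_mono S.f, zero_comp, assoc, Preadditive.sub_comp, assoc, assoc, assoc,
      tau_zero_comp, Preadditive.comp_neg, sub_neg_eq_add, ← assoc b₂, ← hb₂]
    exact key
  obtain ⟨A₂, π₂, hπ₂, b₁, hb₁⟩ := (exact_aug P').exact_up_to_refinements _ h1
  dsimp at b₁ hb₁
  refine ⟨A₂, π₂ ≫ π₁, inferInstance, b₁ ≫ biprod.inl + (π₂ ≫ b₂) ≫ biprod.inr, ?_⟩
  apply biprod.hom_ext
  · have : (b₁ ≫ biprod.inl + (π₂ ≫ b₂) ≫ biprod.inr) ≫ Bd hS P' P'' 0 ≫ biprod.fst =
        π₂ ≫ π₁ ≫ a ≫ biprod.fst := by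
      rw [Bd_zero_fst]
      simp only [Preadditive.add_comp, Preadditive.comp_add, assoc, biprod.inl_fst_assoc,
        biprod.inr_fst_assoc, biprod.inl_snd_assoc, biprod.inr_snd_assoc, zero_comp, comp_zero,
        add_zero, zero_add]
      rw [← hb₁, Preadditive.comp_sub]
      simp
    simpa only [assoc] using this.symm
  · have : (b₁ ≫ biprod.inl + (π₂ ≫ b₂) ≫ biprod.inr) ≫ Bd hS P' P'' 0 ≫ biprod.snd =
        π₂ ≫ π₁ ≫ a ≫ biprod.snd := by
      rw [Bd_snd]
      simp only [Preadditive.add_comp, assoc, biprod.inl_snd_assoc, biprod.inr_snd_assoc, zero_comp,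
        comp_zero, zero_add]
      rw [← hb₂]
    simpa only [assoc] using this.symm

instance epi_εB : Epi (εB hS P' P'') := by
  haveI := hS.epi_g
  let R₁ : ShortComplex C := ShortComplex.mk (biprod.inl : P'.complex.X 0 ⟶ BX P' P'' 0)
    (biprod.snd : BX P' P'' 0 ⟶ P''.complex.X 0) biprod.inl_snd
  let φ : R₁ ⟶ S :=
    { τ₁ := aug P'
      τ₂ := εB hS P' P''
      τ₃ := aug P''
      comm₁₂ := by simp [R₁, εB]
      comm₂₃ := by exact εB_g hS P' P'' }
  exact ShortComplex.epi_of_epi_of_epi_of_epi φ hS.exact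
    (inferInstanceAs (Epi (biprod.snd : BX P' P'' 0 ⟶ P''.complex.X 0)))
    (inferInstanceAs (Epi (aug P'))) (inferInstanceAs (Epi (aug P'')))

/-- the middle resolution. -/
noncomputable def R₂ : ProjectiveResolution S.X₂ :=
  mkResolution (B hS P' P'') (fun n => inferInstanceAs (Projective (BX P' P'' n)))
    (εB hS P' P'') (by rw [B_d]; exact Bd_εB hS P' P'') (B_exactAt_succ hS P' P'')
    (by
      have := exact_εB hS P' P''
      refine ShortComplex.exact_of_iso ?_ this
      exact ShortComplex.isoMk (Iso.refl _) (Iso.refl _) (Iso.refl _)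
        (by exact (id_comp _).trans ((B_d hS P' P'' 0).trans (comp_id _).symm))
        (by exact (id_comp _).trans (comp_id _).symm))
    (epi_εB hS P' P'')

@[simp] lemma R₂_complex : (R₂ hS P' P'').complex = B hS P' P'' := rfl

lemma R₂_π_f_zero : (R₂ hS P' P'').π.f 0 = εB hS P' P'' :=
  mkResolution_π_f_zero _ _ _ _ _ _ _

/-- the inclusion `P' → R₂`. -/
noncomputable def ι₂ : P'.complex ⟶ (R₂ hS P' P'').complex := ιB hS P' P''

/-- the projection `R₂ → P''`. -/
noncomputable def p₂ : (R₂ hS P' P'').complex ⟶ P''.complex := pB hS P' P''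

lemma inl_εB : (biprod.inl : P'.complex.X 0 ⟶ BX P' P'' 0) ≫ εB hS P' P'' = aug P' ≫ S.f := by
  unfold εB
  simp

lemma ι₂_comm : ι₂ hS P' P'' ≫ (R₂ hS P' P'').π = P'.π ≫ (ChainComplex.single₀ C).map S.f := by
  apply HomologicalComplex.to_single_hom_ext (j := 0)
  refine Eq.trans (?_ : _ = (biprod.inl : P'.complex.X 0 ⟶ BX P' P'' 0) ≫ εB hS P' P'') ?_
  · exact congrArg (fun z => (biprod.inl : P'.complex.X 0 ⟶ BX P' P'' 0) ≫ z)
      (R₂_π_f_zero hS P' P'')
  · rw [inl_εB, HomologicalComplex.comp_f, ChainComplex.single₀_map_f_zero]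
    rfl

lemma p₂_comm : p₂ hS P' P'' ≫ P''.π = (R₂ hS P' P'').π ≫ (ChainComplex.single₀ C).map S.g := by
  apply HomologicalComplex.to_single_hom_ext (j := 0)
  refine Eq.trans (?_ : _ = (biprod.snd : BX P' P'' 0 ⟶ P''.complex.X 0) ≫ aug P'') ?_
  · rfl
  · rw [← εB_g hS P' P'', HomologicalComplex.comp_f, ChainComplex.single₀_map_f_zero]
    exact congrArg (fun z => z ≫ S.g) (R₂_π_f_zero hS P' P'').symm

/-- the short complex of complexes, with middle term the complex of `R₂`. -/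
noncomputable def cx₂ : ShortComplex (ChainComplex C ℕ) :=
  ShortComplex.mk (ι₂ hS P' P'') (p₂ hS P' P'') (ιB_pB hS P' P'')

/-- degreewise splitting. -/
noncomputable def cx₂Splitting (n : ℕ) :
    ((cx₂ hS P' P'').map (HomologicalComplex.eval C (ComplexShape.down ℕ) n)).Splitting :=
  cxSplitting hS P' P'' n

lemma cx₂_shortExact : (cx₂ hS P' P'').ShortExact := cx_shortExact hS P' P''

lemma ι₂_comm₀ : (ι₂ hS P' P'').f 0 ≫ (R₂ hS P' P'').π.f 0 = P'.π.f 0 ≫ S.f := by
  refine Eq.trans (?_ : _ = (biprod.inl : P'.complex.X 0 ⟶ BX P' P'' 0) ≫ εB hS P' P'') ?_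
  · exact congrArg (fun z => (biprod.inl : P'.complex.X 0 ⟶ BX P' P'' 0) ≫ z)
      (R₂_π_f_zero hS P' P'')
  · exact inl_εB hS P' P''

lemma p₂_comm₀ : (p₂ hS P' P'').f 0 ≫ P''.π.f 0 = (R₂ hS P' P'').π.f 0 ≫ S.g := by
  refine Eq.trans (?_ : _ = (biprod.snd : BX P' P'' 0 ⟶ P''.complex.X 0) ≫ aug P'') ?_
  · rfl
  · rw [← εB_g hS P' P'']
    exact congrArg (fun z => z ≫ S.g) (R₂_π_f_zero hS P' P'').symm

end Groth.Agent.Lib.helper7.Horseshoe
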