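import Groth.Agent.Lib.Helper7.TorAPI2

/-!
# helper7: Tor on `ModuleCat`: flat vanishing in the second variable, balancing
-/

universe u

open CategoryTheory Category Limits MonoidalCategory

namespace Groth.Agent.Lib.helper7.TorAPI

variable {A : Type u} [CommRing A]

/-- the canonical projective presentation `0 → K → P → M → 0`. -/
noncomputable def pres (M : ModuleCat.{u} A) : ShortComplex (ModuleCat.{u} A) :=
  ShortComplex.mk (kernel.ι (Projective.π M)) (Projective.π M) (kernel.condition _)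

lemma pres_shortExact (M : ModuleCat.{u} A) : (pres M).ShortExact := by
  have hex : (pres M).Exact := ShortComplex.exact_of_f_is_kernel _ (kernelIsKernel (Projective.π M))
  haveI : Mono (pres M).f := by change Mono (kernel.ι (Projective.π M)); infer_instance
  haveI : Epi (pres M).g := by change Epi (Projective.π M); infer_instance
  exact ⟨hex⟩

instance (M : ModuleCat.{u} A) : Projective (pres M).X₂ := by
  change Projective (Projective.over M); infer_instance

instance (M : ModuleCat.{u} A) : Module.Flat A (pres M).X₂ := flat_of_projective _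

/-- `Tor_{n+1}(M, N) = 0` for `N` flat (Tor resolves `N`). -/
theorem isZero_T_flat_right (M N : ModuleCat.{u} A) [Module.Flat A N] (n : ℕ) :
    IsZero ((T (n + 1) M).obj N) := by
  induction n generalizing M with
  | zero =>
    have h := isZero_one_iff₁ (pres_shortExact M) N (isZero_T_flat (pres M).X₂ N 0)
    refine h.2 ?_
    haveI : Mono (pres M).f := (pres_shortExact M).mono_f
    exact inferInstanceAs (Mono ((tensorRight N).map (pres M).f))
  | succ n ih =>
    have h := isZero_succ_iff₁ (pres_shortExact M) N (n + 1) (isZero_T_flat (pres M).X₂ N (n + 1))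
      (isZero_T_flat (pres M).X₂ N n)
    exact h.2 (ih (pres M).X₁)

section abstract

variable {C : Type*} [Category C] [Abelian C]

/-- two kernels of isomorphic arrows are isomorphic. -/
lemma nonempty_iso_of_exact_mono {X Y Z X' Y' Z' : C} (δ : X ⟶ Y) (f : Y ⟶ Z) (w : δ ≫ f = 0)
    (hex : (ShortComplex.mk δ f w).Exact) [Mono δ]
    (δ' : X' ⟶ Y') (f' : Y' ⟶ Z') (w' : δ' ≫ f' = 0)
    (hex' : (ShortComplex.mk δ' f' w').Exact) [Mono δ']
    (eY : Y ≅ Y') (eZ : Z ≅ Z') (comm : f ≫ eZ.hom = eY.hom ≫ f') : Nonempty (X ≅ X') := by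
  haveI : Mono (ShortComplex.mk δ f w).f := ‹Mono δ›
  haveI : Mono (ShortComplex.mk δ' f' w').f := ‹Mono δ'›
  have h1 : (δ ≫ eY.hom) ≫ f' = 0 := by rw [assoc, ← comm, reassoc_of% w, zero_comp]
  have comm' : f' ≫ eZ.inv = eY.inv ≫ f := by
    rw [← cancel_mono eZ.hom, assoc, Iso.inv_hom_id, comp_id, assoc, comm, Iso.inv_hom_id_assoc]
  have h2 : (δ' ≫ eY.inv) ≫ f = 0 := by rw [assoc, ← comm', reassoc_of% w', zero_comp]
  refine ⟨⟨hex'.lift (δ ≫ eY.hom) h1, hex.lift (δ' ≫ eY.inv) h2, ?_, ?_⟩⟩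
  · rw [← cancel_mono δ, assoc, id_comp]
    have e1 : hex.lift (δ' ≫ eY.inv) h2 ≫ δ = δ' ≫ eY.inv := hex.lift_f _ _
    have e2 : hex'.lift (δ ≫ eY.hom) h1 ≫ δ' = δ ≫ eY.hom := hex'.lift_f _ _
    rw [e1, reassoc_of% e2, Iso.hom_inv_id, comp_id]
  · rw [← cancel_mono δ', assoc, id_comp]
    have e1 : hex.lift (δ' ≫ eY.inv) h2 ≫ δ = δ' ≫ eY.inv := hex.lift_f _ _
    have e2 : hex'.lift (δ ≫ eY.hom) h1 ≫ δ' = δ ≫ eY.hom := hex'.lift_f _ _
    rw [e2, reassoc_of% e1, Iso.inv_hom_id, comp_id]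

end abstract

/-- **Balancing of Tor**, objectwise: `Tor_n(M, N)` (resolving `N`) is isomorphic to
`L_n(- ⊗ N)(M)` (resolving `M`). -/
theorem nonempty_iso_leftDerived_tensorRight (M N : ModuleCat.{u} A) (n : ℕ) :
    Nonempty ((T n M).obj N ≅ ((tensorRight N).leftDerived n).obj M) := by
  induction n using Nat.strong_induction_on generalizing M with
  | _ n ih =>
  match n, ih with
  | 0, _ =>
    exact ⟨(tor0Iso M).app N ≪≫ ((tensorRight N).leftDerivedZeroIsoSelf.app M).symm⟩
  | 1, _ =>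
    have hS := pres_shortExact M
    obtain ⟨δ, w₁, w₂, e₁, e₂⟩ := T₁_exists_δ hS N 0
    haveI : Mono δ := e₁.mono_g ((isZero_T_flat (pres M).X₂ N 0).eq_of_src _ _)
    obtain ⟨δ', w₁', w₂', e₁', e₂'⟩ :=
      LeftDerivedLES.leftDerived_exists_δ hS (tensorRight N) 0
    haveI : Mono δ' := e₁'.mono_g
      ((Functor.isZero_leftDerived_obj_projective_succ (tensorRight N) 0 (pres M).X₂).eq_of_src _ _)
    have hm : Mono δ := inferInstance
    have hm' : Mono δ' := inferInstance
    refine @nonempty_iso_of_exact_mono _ _ _ _ _ _ _ _ _ δ _ w₂ e₂ hm δ' _ w₂' e₂' hm'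
      ((tor0Iso (pres M).X₁).app N ≪≫ ((tensorRight N).leftDerivedZeroIsoSelf.app (pres M).X₁).symm)
      ((tor0Iso (pres M).X₂).app N ≪≫ ((tensorRight N).leftDerivedZeroIsoSelf.app (pres M).X₂).symm)
      ?_
    have h1 := tor0Iso_naturality₁ (pres M).f N
    have h2 := (tensorRight N).leftDerivedZeroIsoSelf.inv.naturality (pres M).f
    simp only [Iso.trans_hom, Iso.app_hom, Iso.symm_hom, Iso.app_inv, assoc]
    rw [reassoc_of% h1]
    exact congrArg (fun t => (tor0Iso (pres M).X₁).hom.app N ≫ t) h2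
  | (k + 2), ih =>
    have hS := pres_shortExact M
    obtain ⟨a⟩ := exists_iso_of_isZero₁ hS N (k + 1) (isZero_T_flat (pres M).X₂ N (k + 1))
      (isZero_T_flat (pres M).X₂ N k)
    obtain ⟨b⟩ := ih (k + 1) (by omega) (pres M).X₁
    obtain ⟨δ', w₁', w₂', e₁', e₂'⟩ :=
      LeftDerivedLES.leftDerived_exists_δ hS (tensorRight N) (k + 1)
    haveI : Mono δ' := e₁'.mono_g ((Functor.isZero_leftDerived_obj_projective_succ
      (tensorRight N) (k + 1) (pres M).X₂).eq_of_src _ _)
    haveI : Epi δ' := e₂'.epi_f ((Functor.isZero_leftDerived_obj_projective_succ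
      (tensorRight N) k (pres M).X₂).eq_of_tgt _ _)
    haveI : IsIso δ' := isIso_of_mono_of_epi δ'
    exact ⟨a ≪≫ b ≪≫ (asIso δ').symm⟩

/-- **Balancing of Tor** (S3535 form): `Tor_n(M, N) ≅ H_n(P ⊗ N)` for any projective resolution
`P` of `M`. -/
theorem nonempty_iso_homology_tensorRight (M N : ModuleCat.{u} A) (P : ProjectiveResolution M)
    (n : ℕ) :
    Nonempty ((T n M).obj N ≅
      (((tensorRight N).mapHomologicalComplex (ComplexShape.down ℕ)).obj P.complex).homology n) := by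
  obtain ⟨e⟩ := nonempty_iso_leftDerived_tensorRight M N n
  exact ⟨e ≪≫ P.isoLeftDerivedObj (tensorRight N) n⟩

end Groth.Agent.Lib.helper7.TorAPI
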