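import Groth.Agent.Lib.Helper5.FormallyEtale

/-!
# Formally smooth morphisms of schemes (prelude's `MoreMor.IsFormallySmoothHom`): basic API (helper7)

* `comp`, `of_isOpenImmersion`, `of_comp_mono`
* `FS_Spec_iff`: `Spec φ` is formally smooth iff `φ` is a formally smooth ring map
* `formallySmooth_appLE`: a formally smooth morphism is formally smooth on affine charts
-/

set_option autoImplicit false
universe u

namespace Groth.Agent.Lib.helper7.FSmoothHom

open AlgebraicGeometry CategoryTheory Limits Groth.Agent.Lib.Helper5.FormallyEtale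

theorem comp {X Y Z : Scheme.{u}} {f : X ⟶ Y} {g : Y ⟶ Z} (hf : MoreMor.IsFormallySmoothHom f)
    (hg : MoreMor.IsFormallySmoothHom g) : MoreMor.IsFormallySmoothHom (f ≫ g) := by
  intro A _ I hI a b w
  obtain ⟨l₁, h1, h2⟩ := hg A I hI (a ≫ f) b (by rw [w, Category.assoc])
  obtain ⟨l₂, h3, h4⟩ := hf A I hI a l₁ h1
  exact ⟨l₂, h3, by rw [← Category.assoc, h4, h2]⟩

theorem of_isOpenImmersion {U X : Scheme.{u}} (j : U ⟶ X) [IsOpenImmersion j] :
    MoreMor.IsFormallySmoothHom j := by
  intro A _ I hI a b w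
  obtain ⟨l, ⟨h1, h2⟩, -⟩ := FE'.of_isOpenImmersion j _ (thickening_Spec A I hI) a b w
  exact ⟨l, h1, h2⟩

theorem of_comp_mono {X Y Z : Scheme.{u}} {f : X ⟶ Y} {j : Y ⟶ Z} [Mono j]
    (h : MoreMor.IsFormallySmoothHom (f ≫ j)) : MoreMor.IsFormallySmoothHom f := by
  intro A _ I hI a b w
  obtain ⟨l, h1, h2⟩ := h A I hI a (b ≫ j) (by rw [← Category.assoc, w, Category.assoc])
  exact ⟨l, h1, by rw [← cancel_mono j, Category.assoc, h2]⟩

/-- `Spec` of a ring map is formally smooth (for the prelude's lifting definition) iff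
the ring map is formally smooth. -/
theorem FS_Spec_iff {R B : Type u} [CommRing R] [CommRing B] (φ : R →+* B) :
    MoreMor.IsFormallySmoothHom (Spec.map (CommRingCat.ofHom φ)) ↔ φ.FormallySmooth := by
  let _ := φ.toAlgebra
  rw [RingHom.FormallySmooth, Algebra.FormallySmooth.iff_comp_surjective]
  have hφ : algebraMap R B = φ := RingHom.algebraMap_toAlgebra φ
  constructor
  · intro H C _ _ J hJ g
    have sq : Spec.map (CommRingCat.ofHom (Ideal.Quotient.mk J)) ≫
          Spec.map (CommRingCat.ofHom (algebraMap R C)) =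
        Spec.map (CommRingCat.ofHom g.toRingHom) ≫ Spec.map (CommRingCat.ofHom φ) := by
      rw [Spec_map_ofHom_comp, Spec_map_ofHom_comp]
      congr 2
      ext r
      have := g.commutes r
      rw [hφ] at this
      simp only [RingHom.comp_apply]
      exact this.symm
    obtain ⟨l, h1, h2⟩ := H C J hJ _ _ sq
    rw [← Spec_map_ofHom_preimage l, Spec_map_ofHom_comp] at h1 h2
    have h1' := Spec_map_ofHom_inj h1
    have h2' := Spec_map_ofHom_inj h2
    refine ⟨{ (Spec.preimage l).hom with
      commutes' := fun r => by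
        have := RingHom.congr_fun h2' r
        rw [hφ]
        exact this }, ?_⟩
    exact AlgHom.ext (fun x => RingHom.congr_fun h1' x)
  · intro H A _ I hI a b w
    let β : R →+* A := (Spec.preimage b).hom
    let _ : Algebra R A := β.toAlgebra
    have hβ : algebraMap R A = β := RingHom.algebraMap_toAlgebra β
    let α : B →+* A ⧸ I := (Spec.preimage a).hom
    have hb : Spec.map (CommRingCat.ofHom β) = b := Spec_map_ofHom_preimage b
    have ha : Spec.map (CommRingCat.ofHom α) = a := Spec_map_ofHom_preimage a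
    have hαβ : α.comp φ = (Ideal.Quotient.mk I).comp β := by
      rw [← hb, ← ha, Spec_map_ofHom_comp, Spec_map_ofHom_comp] at w
      exact (Spec_map_ofHom_inj w).symm
    let α' : B →ₐ[R] A ⧸ I :=
      { α with
        commutes' := fun r => by
          have := RingHom.congr_fun hαβ r
          rw [hφ]
          exact this }
    obtain ⟨ψ, hψ⟩ := H I hI α'
    have hψ1 : (Ideal.Quotient.mk I).comp ψ.toRingHom = α := by
      ext x
      exact congrArg (fun h : B →ₐ[R] A ⧸ I => h x) hψ
    have hψ2 : ψ.toRingHom.comp φ = β := by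
      ext r
      have := ψ.commutes r
      rw [hφ, hβ] at this
      exact this
    refine ⟨Spec.map (CommRingCat.ofHom ψ.toRingHom), ?_, ?_⟩
    · rw [Spec_map_ofHom_comp, hψ1, ha]
    · rw [Spec_map_ofHom_comp, hψ2, hb]

/-- A formally smooth morphism of schemes induces formally smooth ring maps on affine charts. -/
theorem formallySmooth_appLE {X Y : Scheme.{u}} (f : X ⟶ Y) (hf : MoreMor.IsFormallySmoothHom f)
    {U : X.Opens} {V : Y.Opens} (hU : IsAffineOpen U) (hV : IsAffineOpen V) (hUV : U ≤ f ⁻¹ᵁ V) :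
    (f.appLE V U hUV).hom.FormallySmooth := by
  have h1 : MoreMor.IsFormallySmoothHom (hU.fromSpec ≫ f) :=
    comp (of_isOpenImmersion hU.fromSpec) hf
  rw [← IsAffineOpen.SpecMap_appLE_fromSpec f hV hU hUV] at h1
  have h2 : MoreMor.IsFormallySmoothHom (Spec.map (f.appLE V U hUV)) := of_comp_mono h1
  exact (FS_Spec_iff (f.appLE V U hUV).hom).mp h2

end Groth.Agent.Lib.helper7.FSmoothHom
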