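import Mathlib
import Groth.Prelude.Def_Omega3

/-!
# Universal first order thickenings: basic API (helper7)
-/

set_option autoImplicit false
universe u
open AlgebraicGeometry CategoryTheory Limits

namespace Groth.Agent.Lib.helper7.UnivThick

/-- A first order thickening restricts to a first order thickening over an open of the target. -/
lemma restrict {T T' : Scheme.{u}} (t : T ⟶ T') (ht : MoreMor.IsFirstOrderThickening t)
    (U : T'.Opens) : MoreMor.IsFirstOrderThickening (t ∣_ U) := by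
  have : IsClosedImmersion t := ht.1.1
  have hs : Surjective t := ht.1.2
  refine ⟨⟨inferInstance, IsZariskiLocalAtTarget.restrict hs U⟩, ?_⟩
  ext V : 2
  have h2 : (t.ker * t.ker).ideal ⟨U.ι ''ᵁ V.1, V.2.image_of_isOpenImmersion _⟩ = ⊥ := by
    rw [ht.2]; rfl
  rw [Scheme.IdealSheafData.ideal_mul, Pi.mul_apply] at h2
  rw [Scheme.IdealSheafData.ideal_mul, Pi.mul_apply, Scheme.ker_morphismRestrict_ideal]
  exact h2

lemma resLE_thickening {T T' : Scheme.{u}} (t : T ⟶ T') (ht : MoreMor.IsFirstOrderThickening t)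
    (U' : T'.Opens) (U : T.Opens) (e : t ⁻¹ᵁ U' = U) :
    MoreMor.IsFirstOrderThickening (t.resLE U' U e.ge) := by
  subst e
  rw [Scheme.Hom.resLE_eq_morphismRestrict]
  exact restrict t ht U'

/-- A thickening is surjective on points. -/
lemma surj {T T' : Scheme.{u}} (t : T ⟶ T') (ht : MoreMor.IsFirstOrderThickening t) :
    Function.Surjective t := ht.1.2.surj

/-- Restriction of a universal first order thickening to opens. -/
theorem isUnivThickening_resLE {Z Z' X : Scheme.{u}} (h : Z ⟶ X) (i : Z ⟶ Z') (h' : Z' ⟶ X)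
    (hu : OmegaSh.IsUnivThickening h i h') (V : Z.Opens) (U : X.Opens) (hVU : V ≤ h ⁻¹ᵁ U)
    (V' : Z'.Opens) (hV' : i ⁻¹ᵁ V' = V) (hV'U : V' ≤ h' ⁻¹ᵁ U) :
    OmegaSh.IsUnivThickening (h.resLE U V hVU) (i.resLE V' V hV'.ge) (h'.resLE U V' hV'U) := by
  refine ⟨resLE_thickening i hu.1 V' V hV', ?_, ?_⟩
  · rw [Scheme.Hom.resLE_comp_resLE]
    congr 1
    exact hu.2.1
  · intro T T' j b a hj w
    have hcomm : j ≫ (b ≫ U.ι) = (a ≫ V.ι) ≫ h := by
      rw [← Category.assoc, w, Category.assoc, Category.assoc, Scheme.Hom.resLE_comp_ι]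
    obtain ⟨l', ⟨hl'1, hl'2⟩, hl'u⟩ := hu.2.2 T T' j (b ≫ U.ι) (a ≫ V.ι) hj hcomm
    have hrange : Set.range l' ⊆ Set.range V'.ι := by
      rintro _ ⟨y, rfl⟩
      obtain ⟨z, rfl⟩ := surj j hj y
      have h1 : l' (j z) = i (V.ι (a z)) := by
        have := congrArg (fun g : T ⟶ Z' => g z) hl'1
        simpa using this
      rw [h1, Scheme.Opens.range_ι]
      have hz : (V.ι (a z)) ∈ i ⁻¹ᵁ V' := by
        rw [hV']
        exact (a z).2
      exact hz
    refine ⟨IsOpenImmersion.lift V'.ι l' hrange, ⟨?_, ?_⟩, ?_⟩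
    · rw [← cancel_mono V'.ι, Category.assoc, IsOpenImmersion.lift_fac, hl'1, Category.assoc,
        Category.assoc, Scheme.Hom.resLE_comp_ι]
    · rw [← cancel_mono U.ι, Category.assoc, Scheme.Hom.resLE_comp_ι,
        IsOpenImmersion.lift_fac_assoc, hl'2]
    · rintro l₂ ⟨h1, h2⟩
      apply IsOpenImmersion.lift_uniq
      apply hl'u
      refine ⟨?_, ?_⟩
      · rw [← Category.assoc, h1, Category.assoc, Scheme.Hom.resLE_comp_ι, Category.assoc]
      · rw [Category.assoc, ← Scheme.Hom.resLE_comp_ι h' hV'U, ← Category.assoc, h2]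

end Groth.Agent.Lib.helper7.UnivThick
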