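import Mathlib

/-!
# Ring-level criterion: unique lifting against square-zero extensions gives formally unramified
(helper7)
-/

set_option autoImplicit false
universe u
open TrivSqZeroExt KaehlerDifferential

namespace Groth.Agent.Lib.helper7.UnivThickAlg

section
variable (R S : Type u) [CommRing R] [CommRing S] [Algebra R S] (C : Ideal S)

/-- `Ω_{S/R} / C Ω_{S/R}`. -/
abbrev Mq : Type u := Ω[S⁄R] ⧸ (C • (⊤ : Submodule S Ω[S⁄R]))

noncomputable instance : Module Sᵐᵒᵖ (Mq R S C) :=
  Module.compHom _ ((RingHom.id S).fromOpposite mul_comm)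

instance : IsCentralScalar S (Mq R S C) := ⟨fun _ _ => rfl⟩

/-- The class of `D s` in `Ω / CΩ`. -/
noncomputable def dq (s : S) : Mq R S C := Submodule.Quotient.mk (D R S s)

lemma dq_add (s t : S) : dq R S C (s + t) = dq R S C s + dq R S C t := by
  simp [dq]

lemma dq_mul (s t : S) : dq R S C (s * t) = s • dq R S C t + t • dq R S C s := by
  simp only [dq, Derivation.leibniz, Submodule.Quotient.mk_add, Submodule.Quotient.mk_smul]

lemma dq_one : dq R S C 1 = 0 := by simp [dq]

lemma dq_zero : dq R S C 0 = 0 := by simp [dq]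

lemma dq_algebraMap (r : R) : dq R S C (algebraMap R S r) = 0 := by simp [dq]

/-- The ring map `s ↦ (s, [D s])` into the trivial square zero extension. -/
noncomputable def gHom : S →+* TrivSqZeroExt S (Mq R S C) where
  toFun s := inl s + inr (dq R S C s)
  map_one' := by
    rw [dq_one, inr_zero, add_zero, inl_one]
  map_mul' s t := by
    ext
    · simp
    · simp only [snd_add, snd_inl, snd_inr, zero_add, snd_mul, fst_add, fst_inl, fst_inr, add_zero,
        op_smul_eq_smul]
      exact dq_mul R S C s t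
  map_zero' := by
    rw [dq_zero, inr_zero, add_zero, inl_zero]
  map_add' s t := by
    rw [dq_add, inl_add, inr_add]
    abel

/-- The square zero ideal `{x | x.fst ∈ C}` of the trivial square zero extension. -/
noncomputable def Iq : Ideal (TrivSqZeroExt S (Mq R S C)) :=
  C.comap (fstHom S S (Mq R S C)).toRingHom

lemma mem_Iq (x : TrivSqZeroExt S (Mq R S C)) : x ∈ Iq R S C ↔ x.fst ∈ C := Iff.rfl

lemma smul_Mq_eq_zero (c : S) (hc : c ∈ C) (m : Mq R S C) : c • m = 0 := by
  obtain ⟨ω, rfl⟩ := Submodule.Quotient.mk_surjective _ m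
  rw [← Submodule.Quotient.mk_smul, Submodule.Quotient.mk_eq_zero]
  exact Submodule.smul_mem_smul hc Submodule.mem_top

lemma Iq_sq (hC : C * C = ⊥) : Iq R S C ^ 2 = ⊥ := by
  rw [eq_bot_iff, pow_two, Ideal.mul_le]
  intro x hx y hy
  rw [mem_Iq] at hx hy
  rw [Ideal.mem_bot]
  ext
  · rw [fst_mul, fst_zero]
    have : x.fst * y.fst ∈ C * C := Ideal.mul_mem_mul hx hy
    rw [hC, Ideal.mem_bot] at this
    exact this
  · rw [snd_mul, snd_zero, op_smul_eq_smul, smul_Mq_eq_zero R S C _ hx, smul_Mq_eq_zero R S C _ hy,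
      add_zero]

theorem formallyUnramified_of_unique_lift (hC : C * C = ⊥)
    (H : ∀ (B : Type u) [CommRing B] (I : Ideal B), I ^ 2 = ⊥ → ∀ f g : S →+* B,
      f.comp (algebraMap R S) = g.comp (algebraMap R S) → (∀ s, f s - g s ∈ I) →
      (∀ c ∈ C, f c ∈ I) → f = g) :
    Algebra.FormallyUnramified R S := by
  have key : (inlHom S (Mq R S C)) = gHom R S C := by
    apply H _ (Iq R S C) (Iq_sq R S C hC)
    · ext r
      · simp [gHom]
      · simp only [RingHom.comp_apply, gHom, RingHom.coe_mk, MonoidHom.coe_mk, OneHom.coe_mk,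
          dq_algebraMap, inr_zero, add_zero]
        rfl
    · intro s
      rw [mem_Iq]
      simp [gHom]
    · intro c hc
      rw [mem_Iq]
      simpa using hc
  have hD : ∀ s : S, D R S s ∈ C • (⊤ : Submodule S Ω[S⁄R]) := by
    intro s
    have h1 := congrArg (fun φ : S →+* TrivSqZeroExt S (Mq R S C) => (φ s).snd) key
    simp only [gHom, RingHom.coe_mk, MonoidHom.coe_mk, OneHom.coe_mk, snd_add, snd_inl, snd_inr,
      zero_add] at h1
    have h2 : dq R S C s = 0 := by
      rw [← h1]
      rfl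
    exact (Submodule.Quotient.mk_eq_zero _).mp h2
  have htop : (⊤ : Submodule S Ω[S⁄R]) ≤ C • (⊤ : Submodule S Ω[S⁄R]) := by
    have : Submodule.span S (Set.range (D R S)) ≤ C • (⊤ : Submodule S Ω[S⁄R]) := by
      rw [Submodule.span_le]
      rintro _ ⟨s, rfl⟩
      exact hD s
    rwa [KaehlerDifferential.span_range_derivation] at this
  have h3 : (⊤ : Submodule S Ω[S⁄R]) = ⊥ := by
    apply le_antisymm _ bot_le
    calc (⊤ : Submodule S Ω[S⁄R]) ≤ C • (⊤ : Submodule S Ω[S⁄R]) := htop
      _ ≤ C • (C • (⊤ : Submodule S Ω[S⁄R])) := Submodule.smul_mono le_rfl htop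
      _ = (C * C) • (⊤ : Submodule S Ω[S⁄R]) := (Submodule.mul_smul _ _ _).symm
      _ = ⊥ := by rw [hC, Submodule.bot_smul]
  constructor
  refine ⟨fun x y => ?_⟩
  have hx : x ∈ (⊤ : Submodule S Ω[S⁄R]) := Submodule.mem_top
  have hy : y ∈ (⊤ : Submodule S Ω[S⁄R]) := Submodule.mem_top
  rw [h3, Submodule.mem_bot] at hx hy
  rw [hx, hy]

end

end Groth.Agent.Lib.helper7.UnivThickAlg
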