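import Mathlib
import Groth.Prelude.Def_Omega3
import Groth.Agent.Lib.Helper7.UnivThick
import Groth.Agent.Lib.Helper7.UnivThickAlg
import Groth.Agent.Lib.Helper5.FormallyEtale

/-!
# A universal first order thickening is formally unramified over the base (helper7)
-/

set_option autoImplicit false
universe u
open AlgebraicGeometry CategoryTheory Limits

namespace Groth.Agent.Lib.helper7.UnivThick

open Groth.Agent.Lib.Helper5.FormallyEtale in
/-- Section-level square-zero: the kernel of `i.app W'` has square zero for a first order thickening. -/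
lemma ker_app_mul_self {T T' : Scheme.{u}} (i : T ⟶ T') (hi : MoreMor.IsFirstOrderThickening i)
    (W' : T'.Opens) (hW' : IsAffineOpen W') :
    RingHom.ker (i.app W').hom * RingHom.ker (i.app W').hom = ⊥ := by
  have : IsClosedImmersion i := hi.1.1
  have h2 : (i.ker * i.ker).ideal ⟨W', hW'⟩ = ⊥ := by
    rw [hi.2]; rfl
  rw [Scheme.IdealSheafData.ideal_mul, Pi.mul_apply, Scheme.Hom.ker_apply] at h2
  exact h2

open Groth.Agent.Lib.Helper5.FormallyEtale in
theorem formallyUnramified_of_isUnivThickening {Z Z' X : Scheme.{u}} (h : Z ⟶ X) (i : Z ⟶ Z')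
    (h' : Z' ⟶ X) (hu : OmegaSh.IsUnivThickening h i h') : FormallyUnramified h' := by
  have hcl : IsClosedImmersion i := hu.1.1.1
  refine ⟨fun {U} hU {W'} hW' e => ?_⟩
  have hW : IsAffineOpen (i ⁻¹ᵁ W') := hW'.preimage i
  let _ := (h'.appLE U W' e).hom.toAlgebra
  show Algebra.FormallyUnramified Γ(X, U) Γ(Z', W')
  apply UnivThickAlg.formallyUnramified_of_unique_lift Γ(X, U) Γ(Z', W')
    (RingHom.ker (i.app W').hom) (ker_app_mul_self i hu.1 W' hW')
  intro B _ I hI f g hfg hdiff hC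
  -- the ring map `Γ(Z, i⁻¹W') → B/I`
  have hsurj : Function.Surjective (i.app W').hom := i.app_surjective W' hW'
  have hker : RingHom.ker (i.app W').hom ≤ RingHom.ker ((Ideal.Quotient.mk I).comp f) := by
    intro c hc
    rw [RingHom.mem_ker, RingHom.comp_apply, Ideal.Quotient.eq_zero_iff_mem]
    exact hC c hc
  let abar : Γ(Z, i ⁻¹ᵁ W') →+* B ⧸ I :=
    RingHom.liftOfSurjective (i.app W').hom hsurj ⟨(Ideal.Quotient.mk I).comp f, hker⟩
  have habar : abar.comp (i.app W').hom = (Ideal.Quotient.mk I).comp f :=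
    RingHom.liftOfRightInverse_comp _ _ _ _
  have hgf : (Ideal.Quotient.mk I).comp g = (Ideal.Quotient.mk I).comp f := by
    ext s
    rw [RingHom.comp_apply, RingHom.comp_apply, Ideal.Quotient.eq]
    have := hdiff s
    rw [← neg_sub] at this
    exact (Ideal.neg_mem_iff _).mp this
  let j := Spec.map (CommRingCat.ofHom (Ideal.Quotient.mk I))
  have hj : MoreMor.IsFirstOrderThickening j := thickening_Spec B I hI
  let a : Spec (CommRingCat.of (B ⧸ I)) ⟶ Z := Spec.map (CommRingCat.ofHom abar) ≫ hW.fromSpec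
  let af : Spec (CommRingCat.of B) ⟶ Z' := Spec.map (CommRingCat.ofHom f) ≫ hW'.fromSpec
  let ag : Spec (CommRingCat.of B) ⟶ Z' := Spec.map (CommRingCat.ofHom g) ≫ hW'.fromSpec
  have hai : a ≫ i = Spec.map (CommRingCat.ofHom ((Ideal.Quotient.mk I).comp f)) ≫
      hW'.fromSpec := by
    show (Spec.map (CommRingCat.ofHom abar) ≫ hW.fromSpec) ≫ i = _
    rw [Category.assoc, ← IsAffineOpen.SpecMap_appLE_fromSpec i hW' hW le_rfl,
      ← Category.assoc, ← Spec.map_comp, ← habar, ← Scheme.Hom.app_eq_appLE]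
    rfl
  have h1f : j ≫ af = a ≫ i := by
    rw [hai]
    show Spec.map _ ≫ Spec.map _ ≫ _ = _
    rw [← Category.assoc, ← Spec.map_comp]
    rfl
  have h1g : j ≫ ag = a ≫ i := by
    rw [hai, ← hgf]
    show Spec.map _ ≫ Spec.map _ ≫ _ = _
    rw [← Category.assoc, ← Spec.map_comp]
    rfl
  have h2 : ag ≫ h' = af ≫ h' := by
    show (Spec.map _ ≫ hW'.fromSpec) ≫ h' = (Spec.map _ ≫ hW'.fromSpec) ≫ h'
    rw [Category.assoc, Category.assoc, ← IsAffineOpen.SpecMap_appLE_fromSpec h' hU hW' e,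
      ← Category.assoc, ← Category.assoc, ← Spec.map_comp, ← Spec.map_comp]
    congr 2
    ext x
    exact (RingHom.congr_fun hfg x).symm
  have hw : j ≫ (af ≫ h') = a ≫ h := by
    rw [← hu.2.1, ← Category.assoc, h1f, Category.assoc]
  obtain ⟨l, -, hl⟩ := hu.2.2 _ _ j (af ≫ h') a hj hw
  have e1 : af = l := hl af ⟨h1f, rfl⟩
  have e2 : ag = l := hl ag ⟨h1g, h2⟩
  have e3 : Spec.map (CommRingCat.ofHom f) = Spec.map (CommRingCat.ofHom g) := by
    rw [← cancel_mono hW'.fromSpec]
    exact e1.trans e2.symm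
  exact Spec_map_ofHom_inj e3

end Groth.Agent.Lib.helper7.UnivThick
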