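import Mathlib
import Groth.Prelude.Def_Omega3
import Groth.Agent.Lib.Helper7.UnivThick2

/-!
# Universal first order thickenings: composition (helper7)
-/

set_option autoImplicit false
universe u
open AlgebraicGeometry CategoryTheory Limits

namespace Groth.Agent.Lib.helper7.UnivThick

/-- If `q ≫ p` is a first order thickening and `p` is a closed immersion then `q` is a first order
thickening. -/
lemma thickening_of_comp {T P T' : Scheme.{u}} (q : T ⟶ P) (p : P ⟶ T') [IsClosedImmersion p]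
    (hi : MoreMor.IsFirstOrderThickening (q ≫ p)) : MoreMor.IsFirstOrderThickening q := by
  have : IsClosedImmersion (q ≫ p) := hi.1.1
  have hq : IsClosedImmersion q := IsClosedImmersion.of_comp q p
  refine ⟨⟨hq, ⟨fun x => ?_⟩⟩, ?_⟩
  · obtain ⟨z, hz⟩ := hi.1.2.surj (p x)
    refine ⟨z, p.isEmbedding.injective ?_⟩
    simpa using hz
  · apply le_antisymm _ bot_le
    apply Scheme.IdealSheafData.le_of_iSup_eq_top
      (fun U' : T'.affineOpens => (⟨p ⁻¹ᵁ U'.1, U'.2.preimage p⟩ : P.affineOpens))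
    · show ⨆ U' : T'.affineOpens, p ⁻¹ᵁ U'.1 = ⊤
      rw [← Scheme.Hom.preimage_iSup, iSup_affineOpens_eq_top]
      rfl
    · intro U'
      rw [Scheme.IdealSheafData.ideal_mul, Pi.mul_apply, Scheme.Hom.ker_apply,
        Scheme.IdealSheafData.ideal_bot, Pi.bot_apply, Ideal.mul_le]
      intro x hx y hy
      obtain ⟨x', rfl⟩ := p.app_surjective U'.1 U'.2 x
      obtain ⟨y', rfl⟩ := p.app_surjective U'.1 U'.2 y
      have hx' : x' ∈ RingHom.ker ((q ≫ p).app U'.1).hom := by
        rw [RingHom.mem_ker, Scheme.Hom.comp_app]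
        exact hx
      have hy' : y' ∈ RingHom.ker ((q ≫ p).app U'.1).hom := by
        rw [RingHom.mem_ker, Scheme.Hom.comp_app]
        exact hy
      have hxy : x' * y' ∈ RingHom.ker ((q ≫ p).app U'.1).hom *
          RingHom.ker ((q ≫ p).app U'.1).hom := Ideal.mul_mem_mul hx' hy'
      rw [ker_app_mul_self (q ≫ p) hi U'.1 U'.2, Ideal.mem_bot] at hxy
      rw [Ideal.mem_bot, ← map_mul, hxy, map_zero]

/-- Base change of a thickening (as a closed surjective immersion). -/
lemma isClosedImmersion_snd_of_thickening {Y Y' W : Scheme.{u}} (j : Y ⟶ Y') (m : W ⟶ Y')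
    (hj : MoreMor.IsFirstOrderThickening j) : IsClosedImmersion (pullback.snd j m) := by
  have : IsClosedImmersion j := hj.1.1
  infer_instance

theorem isUnivThickening_comp {Z Y X Z' Y' : Scheme.{u}} (a : Z ⟶ Y) (b : Y ⟶ X)
    (i : Z ⟶ Z') (c : Z' ⟶ X) (hZ : OmegaSh.IsUnivThickening (a ≫ b) i c)
    (j : Y ⟶ Y') (d : Y' ⟶ X) (hY : OmegaSh.IsUnivThickening b j d) :
    ∃ (m : Z' ⟶ Y') (hm : i ≫ m = a ≫ j), m ≫ d = c ∧
      OmegaSh.IsUnivThickening a (pullback.lift a i hm.symm) (pullback.fst j m) := by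
  obtain ⟨m, ⟨hm1, hm2⟩, -⟩ := hY.2.2 Z Z' i c a hZ.1 hZ.2.1
  refine ⟨m, hm1, hm2, ?_, ?_, ?_⟩
  · have := isClosedImmersion_snd_of_thickening j m hY.1
    apply thickening_of_comp (pullback.lift a i hm1.symm) (pullback.snd j m)
    rw [pullback.lift_snd]
    exact hZ.1
  · exact pullback.lift_fst _ _ _
  · intro T T' jT β α hjT w
    -- the map to `Z'`
    have w1 : jT ≫ (β ≫ b) = α ≫ (a ≫ b) := by
      rw [← Category.assoc, w, Category.assoc]
    obtain ⟨γ, ⟨hγ1, hγ2⟩, hγu⟩ := hZ.2.2 T T' jT (β ≫ b) α hjT w1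
    -- compatibility in `Y'`
    have w2 : jT ≫ (β ≫ b) = (α ≫ a) ≫ b := by rw [w1, Category.assoc]
    obtain ⟨δ, -, hδu⟩ := hY.2.2 T T' jT (β ≫ b) (α ≫ a) hjT w2
    have e1 : β ≫ j = δ := hδu _ ⟨by rw [← Category.assoc, w, Category.assoc],
      by rw [Category.assoc, hY.2.1]⟩
    have e2 : γ ≫ m = δ := hδu _ ⟨by rw [← Category.assoc, hγ1, Category.assoc, hm1,
      Category.assoc], by rw [Category.assoc, hm2, hγ2]⟩
    have e : β ≫ j = γ ≫ m := e1.trans e2.symm
    refine ⟨pullback.lift β γ e, ⟨?_, pullback.lift_fst _ _ _⟩, ?_⟩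
    · apply pullback.hom_ext
      · rw [Category.assoc, pullback.lift_fst, Category.assoc, pullback.lift_fst, w]
      · rw [Category.assoc, pullback.lift_snd, Category.assoc, pullback.lift_snd, hγ1]
    · rintro a'' ⟨h1, h2⟩
      apply pullback.hom_ext
      · rw [pullback.lift_fst, h2]
      · rw [pullback.lift_snd]
        apply hγu
        refine ⟨?_, ?_⟩
        · rw [← Category.assoc, h1, Category.assoc, pullback.lift_snd]
        · rw [Category.assoc, ← hm2, ← pullback.condition_assoc, ← Category.assoc, h2, hY.2.1]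

end Groth.Agent.Lib.helper7.UnivThick
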