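import Mathlib
import Groth.Prelude.Def_Omega3
import Groth.Agent.Lib.Helper7.UnivThick3
import Groth.Agent.Lib.Helper7.IdealComap

/-!
# Universal first order thickenings: base change (helper7)
-/

set_option autoImplicit false
universe u
open AlgebraicGeometry CategoryTheory Limits TopologicalSpace

namespace Groth.Agent.Lib.helper7.UnivThick

/-- pairs of affine opens `V ⊆ T`, `U ⊆ S` with `V ⊆ f⁻¹ U` -/
abbrev AffPair {T S : Scheme.{u}} (f : T ⟶ S) :=
  {p : T.affineOpens × S.affineOpens // p.1.1 ≤ f ⁻¹ᵁ p.2.1}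

theorem iSup_affPair {T S : Scheme.{u}} (f : T ⟶ S) :
    ⨆ p : AffPair f, (p.1.1.1 : T.Opens) = ⊤ := by
  rw [eq_top_iff]
  intro x _
  obtain ⟨W, hW, hxW, -⟩ := Opens.isBasis_iff_nbhd.mp S.isBasis_affineOpens
    (show f x ∈ (⊤ : S.Opens) from trivial)
  obtain ⟨U, hU, hxU, hUW⟩ := Opens.isBasis_iff_nbhd.mp T.isBasis_affineOpens
    (show x ∈ f ⁻¹ᵁ W from hxW)
  exact Opens.mem_iSup.mpr ⟨⟨(⟨U, hU⟩, ⟨W, hW⟩), hUW⟩, hxU⟩

/-- The kernel of a base change of a closed immersion is the pulled back ideal sheaf. -/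
lemma ker_eq_comap_of_isPullback {T T' S S' : Scheme.{u}} (t : T ⟶ T') [IsClosedImmersion t]
    (s : S ⟶ S') (u : S' ⟶ T') (v : S ⟶ T) (sq : IsPullback s v u t) :
    s.ker = t.ker.comap u := by
  rw [← Scheme.IdealSheafData.ker_fst_of_isClosedImmersion t u, ← sq.isoPullback_hom_fst,
    Scheme.Hom.ker_comp_of_isIso]

/-- Pulling back a square zero ideal sheaf gives a square zero ideal sheaf. -/
lemma comap_mul_self_eq_bot {S' T' : Scheme.{u}} (u : S' ⟶ T') (K : T'.IdealSheafData)
    (hK : K * K = ⊥) : K.comap u * K.comap u = ⊥ := by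
  apply le_antisymm _ bot_le
  apply Scheme.IdealSheafData.le_of_iSup_eq_top (fun p : AffPair u => p.1.1) (iSup_affPair u)
  intro p
  rw [Scheme.IdealSheafData.ideal_mul, Pi.mul_apply,
    IdealComap.ideal_comap u K p.1.2.2 p.1.1.2 p.2, ← Ideal.map_mul]
  have h2 : (K * K).ideal p.1.2 = ⊥ := by rw [hK]; rfl
  rw [Scheme.IdealSheafData.ideal_mul, Pi.mul_apply] at h2
  rw [h2, Ideal.map_bot]
  exact bot_le

/-- A base change of a first order thickening is a first order thickening. -/
lemma thickening_of_isPullback {T T' S S' : Scheme.{u}} (t : T ⟶ T') (s : S ⟶ S') (u : S' ⟶ T')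
    (v : S ⟶ T) (sq : IsPullback s v u t) (ht : MoreMor.IsFirstOrderThickening t) :
    MoreMor.IsFirstOrderThickening s := by
  have : IsClosedImmersion t := ht.1.1
  have hs : IsClosedImmersion s := MorphismProperty.of_isPullback (P := @IsClosedImmersion) sq.flip this
  have hs2 : Surjective s := MorphismProperty.of_isPullback (P := @Surjective) sq.flip ht.1.2
  refine ⟨⟨hs, hs2⟩, ?_⟩
  rw [ker_eq_comap_of_isPullback t s u v sq]
  exact comap_mul_self_eq_bot u t.ker ht.2

theorem isUnivThickening_baseChange {Z X W Y W' : Scheme.{u}} (h : Z ⟶ X) (f : Z ⟶ W) (g : X ⟶ Y)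
    (h' : W ⟶ Y) (hc : IsPullback h f g h') (j : W ⟶ W') (k : W' ⟶ Y)
    (hu : OmegaSh.IsUnivThickening h' j k) (e : h ≫ g = (f ≫ j) ≫ k) :
    OmegaSh.IsUnivThickening h (pullback.lift h (f ≫ j) e) (pullback.fst g k) := by
  refine ⟨?_, pullback.lift_fst _ _ _, ?_⟩
  · -- the left square is a pullback
    have hright : IsPullback (pullback.fst g k) (pullback.snd g k) g k := IsPullback.of_hasPullback g k
    have houter : IsPullback (pullback.lift h (f ≫ j) e ≫ pullback.fst g k) f g (j ≫ k) := by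
      rw [pullback.lift_fst, hu.2.1]
      exact hc
    have hleft : IsPullback (pullback.lift h (f ≫ j) e) f (pullback.snd g k) j :=
      IsPullback.of_right houter (pullback.lift_snd _ _ _) hright
    exact thickening_of_isPullback j _ (pullback.snd g k) f hleft hu.1
  · intro T T' jT b a hjT w
    have w1 : jT ≫ (b ≫ g) = (a ≫ f) ≫ h' := by
      rw [← Category.assoc, w, Category.assoc, hc.w, Category.assoc]
    obtain ⟨c, ⟨hc1, hc2⟩, hcu⟩ := hu.2.2 T T' jT (b ≫ g) (a ≫ f) hjT w1
    refine ⟨pullback.lift b c hc2.symm, ⟨?_, pullback.lift_fst _ _ _⟩, ?_⟩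
    · apply pullback.hom_ext
      · rw [Category.assoc, pullback.lift_fst, Category.assoc, pullback.lift_fst, w]
      · rw [Category.assoc, pullback.lift_snd, Category.assoc, pullback.lift_snd, hc1,
          Category.assoc]
    · rintro a'' ⟨h1, h2⟩
      apply pullback.hom_ext
      · rw [pullback.lift_fst, h2]
      · rw [pullback.lift_snd]
        apply hcu
        refine ⟨?_, ?_⟩
        · rw [← Category.assoc, h1, Category.assoc, pullback.lift_snd, Category.assoc]
        · rw [Category.assoc, ← pullback.condition, ← Category.assoc, h2]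

end Groth.Agent.Lib.helper7.UnivThick
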