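import Mathlib
import Groth.Prelude.Def_Omega3
import Groth.Agent.Lib.Helper7.UnivThick4

/-!
# The first order infinitesimal neighbourhood of an immersion is a universal thickening (helper7)
-/

set_option autoImplicit false
universe u
open AlgebraicGeometry CategoryTheory Limits TopologicalSpace

namespace Groth.Agent.Lib.helper7.UnivThick

/-- pullback of ideal sheaves is multiplicative -/
lemma comap_mul {S' T' : Scheme.{u}} (u : S' ⟶ T') (K L : T'.IdealSheafData) :
    (K * L).comap u = K.comap u * L.comap u := by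
  refine Scheme.IdealSheafData.ext_of_iSup_eq_top (fun p : AffPair u => p.1.1) (iSup_affPair u)
    fun p => ?_
  rw [Scheme.IdealSheafData.ideal_mul, Pi.mul_apply,
    IdealComap.ideal_comap u K p.1.2.2 p.1.1.2 p.2, IdealComap.ideal_comap u L p.1.2.2 p.1.1.2 p.2,
    IdealComap.ideal_comap u (K * L) p.1.2.2 p.1.1.2 p.2, Scheme.IdealSheafData.ideal_mul,
    Pi.mul_apply, Ideal.map_mul]

/-- pushforward of ideal sheaves is lax multiplicative -/
lemma map_mul_le {S' T' : Scheme.{u}} (u : S' ⟶ T') (K L : S'.IdealSheafData) :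
    K.map u * L.map u ≤ (K * L).map u := by
  rw [Scheme.IdealSheafData.le_map_iff_comap_le, comap_mul]
  exact mul_le_mul' (Scheme.IdealSheafData.comap_map_le K u) (Scheme.IdealSheafData.comap_map_le L u)

lemma le_ker_comp {A B C : Scheme.{u}} (f : A ⟶ B) (g : B ⟶ C) : g.ker ≤ (f ≫ g).ker := by
  rw [Scheme.Hom.ker_comp, ← Scheme.IdealSheafData.map_bot]
  exact Scheme.IdealSheafData.map_mono g bot_le

/-- For a first order thickening `j` the square of the kernel of `j ≫ b` lies in the kernel of `b`. -/
lemma ker_comp_sq_le {T T' Y : Scheme.{u}} (j : T ⟶ T') (hj : MoreMor.IsFirstOrderThickening j)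
    (b : T' ⟶ Y) : (j ≫ b).ker * (j ≫ b).ker ≤ b.ker := by
  rw [Scheme.Hom.ker_comp]
  refine (map_mul_le b j.ker j.ker).trans ?_
  rw [hj.2, Scheme.IdealSheafData.map_bot]

theorem isUnivThickening_infNbhd {X : Scheme.{u}} (U : X.Opens)
    (I : (U : Scheme.{u}).IdealSheafData) (h : I ^ 2 ≤ I) :
    OmegaSh.IsUnivThickening (I.subschemeι ≫ U.ι) (Scheme.IdealSheafData.inclusion h)
      ((I ^ 2).subschemeι ≫ U.ι) := by
  set q := Scheme.IdealSheafData.inclusion h with hq
  set p := (I ^ 2).subschemeι with hp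
  have hqp : q ≫ p = I.subschemeι := Scheme.IdealSheafData.inclusion_subschemeι h
  refine ⟨?_, ?_, ?_⟩
  · -- first order thickening
    have hcl : IsClosedImmersion (q ≫ p) := by rw [hqp]; infer_instance
    have hqcl : IsClosedImmersion q := IsClosedImmersion.of_comp q p
    refine ⟨⟨hqcl, ⟨fun x => ?_⟩⟩, ?_⟩
    · have hx : p x ∈ Set.range I.subschemeι := by
        rw [Scheme.IdealSheafData.range_subschemeι, ← Scheme.IdealSheafData.support_pow I 2 two_ne_zero,
          ← Scheme.IdealSheafData.range_subschemeι]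
        exact ⟨x, rfl⟩
      obtain ⟨z, hz⟩ := hx
      refine ⟨z, p.isEmbedding.injective ?_⟩
      rw [← hz, ← hqp]
      rfl
    · apply le_antisymm _ bot_le
      apply Scheme.IdealSheafData.le_of_iSup_eq_top
        (fun U' : (U : Scheme.{u}).affineOpens =>
          (⟨p ⁻¹ᵁ U'.1, U'.2.preimage p⟩ : (I ^ 2).subscheme.affineOpens))
      · show ⨆ U' : (U : Scheme.{u}).affineOpens, p ⁻¹ᵁ U'.1 = ⊤
        rw [← Scheme.Hom.preimage_iSup, iSup_affineOpens_eq_top]
        rfl
      · intro U'
        rw [Scheme.IdealSheafData.ideal_mul, Pi.mul_apply, Scheme.Hom.ker_apply,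
          Scheme.IdealSheafData.ideal_bot, Pi.bot_apply, Ideal.mul_le]
        intro x hx y hy
        obtain ⟨x', rfl⟩ := p.app_surjective U'.1 U'.2 x
        obtain ⟨y', rfl⟩ := p.app_surjective U'.1 U'.2 y
        have hI : ∀ z' : Γ((U : Scheme.{u}), U'.1), (p.app U'.1).hom z' ∈
            RingHom.ker (q.app (p ⁻¹ᵁ U'.1)).hom → z' ∈ I.ideal U' := by
          intro z' hz'
          have h1 : z' ∈ RingHom.ker ((q ≫ p).app U'.1).hom := by
            rw [RingHom.mem_ker, Scheme.Hom.comp_app]
            exact hz'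
          have h2 : (q ≫ p).ker.ideal U' = I.ideal U' := by
            rw [hqp, Scheme.IdealSheafData.ker_subschemeι]
          rw [← h2, Scheme.Hom.ker_apply]
          exact h1
        have hxy : x' * y' ∈ (I ^ 2).ideal U' := by
          rw [Scheme.IdealSheafData.ideal_pow, Pi.pow_apply, pow_two]
          exact Ideal.mul_mem_mul (hI x' hx) (hI y' hy)
        have h3 : (I ^ 2).ideal U' = RingHom.ker (p.app U'.1).hom := by
          rw [← Scheme.Hom.ker_apply, hp, Scheme.IdealSheafData.ker_subschemeι]
        rw [h3, RingHom.mem_ker] at hxy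
        rw [Ideal.mem_bot, ← map_mul, hxy]
  · rw [← Category.assoc, hqp]
  · intro T T' j b a hj w
    -- `b` factors through `U`
    have hrange : Set.range b ⊆ Set.range U.ι := by
      rintro _ ⟨y, rfl⟩
      obtain ⟨z, rfl⟩ := surj j hj y
      have h1 : b (j z) = U.ι (I.subschemeι (a z)) := by
        have := congrArg (fun g : T ⟶ X => g z) w
        simpa using this
      rw [h1]
      exact ⟨_, rfl⟩
    let bU : T' ⟶ U := IsOpenImmersion.lift U.ι b hrange
    have hbU : bU ≫ U.ι = b := IsOpenImmersion.lift_fac _ _ _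
    have hjb : j ≫ bU = a ≫ I.subschemeι := by
      rw [← cancel_mono U.ι, Category.assoc, hbU, w, Category.assoc]
    have hle : p.ker ≤ bU.ker := by
      rw [hp, Scheme.IdealSheafData.ker_subschemeι, pow_two]
      refine le_trans ?_ (ker_comp_sq_le j hj bU)
      have hI : I ≤ (j ≫ bU).ker := by
        rw [hjb]
        have := le_ker_comp a I.subschemeι
        rwa [Scheme.IdealSheafData.ker_subschemeι] at this
      exact mul_le_mul' hI hI
    refine ⟨IsClosedImmersion.lift p bU hle, ⟨?_, ?_⟩, ?_⟩
    · rw [← cancel_mono p, Category.assoc, IsClosedImmersion.lift_fac, hjb, Category.assoc, hqp]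
    · rw [← Category.assoc, IsClosedImmersion.lift_fac, hbU]
    · rintro a'' ⟨-, h2⟩
      rw [← cancel_mono p, IsClosedImmersion.lift_fac, ← cancel_mono U.ι, Category.assoc, h2, hbU]

end Groth.Agent.Lib.helper7.UnivThick
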