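import Mathlib
import Groth.Prelude.Def_Omega3
import Groth.Agent.Lib.Helper7.UnivThick6

/-!
# Universal first order thickenings: locality on the thickening, open immersions (helper7)
-/

set_option autoImplicit false
universe u
open AlgebraicGeometry CategoryTheory Limits TopologicalSpace

namespace Groth.Agent.Lib.helper7.UnivThick

open Groth.Agent.Lib.Helper5.FormallyEtale

lemma isHomeomorph_of_thickening {T T' : Scheme.{u}} (t : T ⟶ T')
    (ht : MoreMor.IsFirstOrderThickening t) : IsHomeomorph t.base := by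
  have hcl : IsClosedImmersion t := ht.1.1
  exact isHomeomorph_iff_isEmbedding_surjective.mpr
    ⟨t.isClosedEmbedding.isEmbedding, ht.1.2.surj⟩

lemma exists_open_preimage {T T' : Scheme.{u}} (t : T ⟶ T')
    (ht : MoreMor.IsFirstOrderThickening t) (V : T.Opens) : ∃ O : T'.Opens, t ⁻¹ᵁ O = V := by
  have hhomeo := isHomeomorph_of_thickening t ht
  refine ⟨⟨t.base '' V, hhomeo.isOpenMap _ V.isOpen⟩, ?_⟩
  ext x
  constructor
  · rintro ⟨x', hx', hxx'⟩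
    have := hhomeo.injective hxx'
    subst this
    exact hx'
  · intro hx
    exact ⟨x, hx, rfl⟩

lemma thickening_iso_comp {T₀ T T' : Scheme.{u}} (e : T₀ ⟶ T) [IsIso e] (t : T ⟶ T')
    (ht : MoreMor.IsFirstOrderThickening t) : MoreMor.IsFirstOrderThickening (e ≫ t) := by
  have : IsClosedImmersion t := ht.1.1
  refine ⟨⟨inferInstance, ⟨fun y => ?_⟩⟩, ?_⟩
  · obtain ⟨x, rfl⟩ := ht.1.2.surj y
    refine ⟨(inv e) x, ?_⟩
    rw [← Scheme.Hom.comp_apply, IsIso.inv_hom_id_assoc]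
  · rw [Scheme.Hom.ker_comp_of_isIso]
    exact ht.2

/-- A morphism of universal thickenings over an open immersion is an open immersion. -/
theorem isOpenImmersion_of_univ {Z₁ Z₂ X Z'₁ Z'₂ : Scheme.{u}} (h₁ : Z₁ ⟶ X) (h₂ : Z₂ ⟶ X)
    (i₁ : Z₁ ⟶ Z'₁) (h'₁ : Z'₁ ⟶ X) (hu₁ : OmegaSh.IsUnivThickening h₁ i₁ h'₁)
    (i₂ : Z₂ ⟶ Z'₂) (h'₂ : Z'₂ ⟶ X) (hu₂ : OmegaSh.IsUnivThickening h₂ i₂ h'₂)
    (g : Z₁ ⟶ Z₂) [IsOpenImmersion g] (hg : g ≫ h₂ = h₁)
    (F : Z'₁ ⟶ Z'₂) (hF1 : i₁ ≫ F = g ≫ i₂) (hF2 : F ≫ h'₂ = h'₁) : IsOpenImmersion F := by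
  obtain ⟨O, hO⟩ := exists_open_preimage i₂ hu₂.1 g.opensRange
  have hrange : Set.range g = Set.range (i₂ ⁻¹ᵁ O).ι := by
    rw [Scheme.Opens.range_ι, hO]
    rfl
  let e : Z₁ ≅ (i₂ ⁻¹ᵁ O).toScheme := IsOpenImmersion.isoOfRangeEq g (i₂ ⁻¹ᵁ O).ι hrange
  have he : e.hom ≫ (i₂ ⁻¹ᵁ O).ι = g := IsOpenImmersion.isoOfRangeEq_hom_fac _ _ _
  let jO : Z₁ ⟶ O.toScheme := e.hom ≫ (i₂ ∣_ O)
  have hjO : MoreMor.IsFirstOrderThickening jO :=
    thickening_iso_comp e.hom _ (restrict i₂ hu₂.1 O)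
  have hjOι : jO ≫ O.ι = g ≫ i₂ := by
    rw [Category.assoc, morphismRestrict_ι, ← Category.assoc, he]
  obtain ⟨G, ⟨hG1, hG2⟩, -⟩ := hu₁.2.2 Z₁ O jO (O.ι ≫ h'₂) (𝟙 Z₁) hjO
    (by rw [← Category.assoc, hjOι, Category.assoc, hu₂.2.1, hg, Category.id_comp])
  have hFrange : Set.range F ⊆ Set.range O.ι := by
    rintro _ ⟨y, rfl⟩
    obtain ⟨z, rfl⟩ := surj i₁ hu₁.1 y
    have h1 : F (i₁ z) = i₂ (g z) := by
      have := congrArg (fun k : Z₁ ⟶ Z'₂ => k z) hF1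
      simpa using this
    rw [h1, Scheme.Opens.range_ι]
    have : g z ∈ i₂ ⁻¹ᵁ O := by
      rw [hO]
      exact ⟨z, rfl⟩
    exact this
  let FO : Z'₁ ⟶ O.toScheme := IsOpenImmersion.lift O.ι F hFrange
  have hFO : FO ≫ O.ι = F := IsOpenImmersion.lift_fac _ _ _
  have hi₁FO : i₁ ≫ FO = jO := by
    rw [← cancel_mono O.ι, Category.assoc, hFO, hF1, hjOι]
  have h1 : FO ≫ G = 𝟙 Z'₁ := by
    obtain ⟨l, -, hl⟩ := hu₁.2.2 Z₁ Z'₁ i₁ h'₁ (𝟙 Z₁) hu₁.1 (by rw [hu₁.2.1, Category.id_comp])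
    have e1 : FO ≫ G = l := hl _ ⟨by rw [← Category.assoc, hi₁FO, hG1],
      by rw [Category.assoc, hG2, ← Category.assoc, hFO, hF2]⟩
    have e2 : 𝟙 Z'₁ = l := hl _ ⟨by rw [Category.comp_id, Category.id_comp],
      Category.id_comp _⟩
    exact e1.trans e2.symm
  have h2 : G ≫ FO = 𝟙 O.toScheme := by
    rw [← cancel_mono O.ι, Category.assoc, hFO, Category.id_comp]
    obtain ⟨l, -, hl⟩ := hu₂.2.2 Z₁ O jO (O.ι ≫ h'₂) g hjO
      (by rw [← Category.assoc, hjOι, Category.assoc, hu₂.2.1])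
    have e1 : G ≫ F = l := hl _ ⟨by rw [← Category.assoc, hG1, Category.id_comp, hF1],
      by rw [Category.assoc, hF2, hG2]⟩
    have e2 : O.ι = l := hl _ ⟨hjOι, rfl⟩
    exact e1.trans e2.symm
  have : IsIso FO := ⟨G, h1, h2⟩
  rw [← hFO]
  infer_instance

section Local

variable {Z Z' X : Scheme.{u}} (h : Z ⟶ X) (i : Z ⟶ Z') (h' : Z' ⟶ X)
  {ι : Type u} (Zα : ι → Scheme.{u}) (Z'α : ι → Scheme.{u}) (g : ∀ α, Zα α ⟶ Z)
  (g' : ∀ α, Z'α α ⟶ Z') [∀ α, IsOpenImmersion (g α)] [∀ α, IsOpenImmersion (g' α)]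
  (iα : ∀ α, Zα α ⟶ Z'α α)

/-- open cover from a jointly surjective family of open immersions -/
def coverOf (hcov : ∀ z' : Z', ∃ α, z' ∈ Set.range (g' α)) : Z'.OpenCover where
  I₀ := ι
  X := Z'α
  f := g'
  mem₀ := by
    rw [Scheme.presieve₀_mem_precoverage_iff]
    exact ⟨hcov, inferInstance⟩

include h h' in
lemma isPullback_of_local (hsq : ∀ α, g α ≫ i = iα α ≫ g' α)
    (hpre : ∀ α (z : Z), i z ∈ Set.range (g' α) → z ∈ Set.range (g α)) (α : ι) :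
    IsPullback (iα α) (g α) (g' α) i := by
  refine IsOpenImmersion.isPullback (iα α) (g α) (g' α) i (hsq α) ?_
  ext z
  constructor
  · intro hz
    exact hpre α z hz
  · rintro ⟨y, rfl⟩
    refine ⟨iα α y, ?_⟩
    rw [← Scheme.Hom.comp_apply, ← hsq α]
    rfl

include h h' in
theorem thickening_of_local (hsq : ∀ α, g α ≫ i = iα α ≫ g' α)
    (ht : ∀ α, MoreMor.IsFirstOrderThickening (iα α))
    (hcov : ∀ z' : Z', ∃ α, z' ∈ Set.range (g' α))
    (hpre : ∀ α (z : Z), i z ∈ Set.range (g' α) → z ∈ Set.range (g α)) :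
    MoreMor.IsFirstOrderThickening i := by
  have hpb := isPullback_of_local h i h' Zα Z'α g g' iα hsq hpre
  have hcl : IsClosedImmersion i := by
    apply IsZariskiLocalAtTarget.of_openCover (P := @IsClosedImmersion) (coverOf Z'α g' hcov)
    intro α
    have : IsClosedImmersion (iα α) := (ht α).1.1
    have e : pullback.snd i (g' α) = (hpb α).flip.isoPullback.inv ≫ iα α := by
      rw [Iso.eq_inv_comp, IsPullback.isoPullback_hom_snd]
    show IsClosedImmersion (pullback.snd i (g' α))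
    rw [e]
    infer_instance
  refine ⟨⟨hcl, ⟨fun z' => ?_⟩⟩, ?_⟩
  · obtain ⟨α, y, rfl⟩ := hcov z'
    obtain ⟨x, rfl⟩ := (ht α).1.2.surj y
    refine ⟨g α x, ?_⟩
    rw [← Scheme.Hom.comp_apply, hsq α]
    rfl
  · apply le_antisymm _ bot_le
    apply Scheme.IdealSheafData.le_of_iSup_eq_top
      (fun p : Σ α, (Z'α α).affineOpens =>
        (⟨g' p.1 ''ᵁ p.2.1, p.2.2.image_of_isOpenImmersion _⟩ : Z'.affineOpens))
    · rw [eq_top_iff]
      intro z' _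
      obtain ⟨α, y, rfl⟩ := hcov z'
      obtain ⟨W, hW, hyW, -⟩ := Opens.isBasis_iff_nbhd.mp (Z'α α).isBasis_affineOpens
        (show y ∈ (⊤ : (Z'α α).Opens) from trivial)
      exact Opens.mem_iSup.mpr ⟨⟨α, ⟨W, hW⟩⟩, ⟨y, hyW, rfl⟩⟩
    · rintro ⟨α, W⟩
      rw [Scheme.IdealSheafData.ideal_mul, Pi.mul_apply, Scheme.IdealSheafData.ideal_bot,
        Pi.bot_apply, Ideal.mul_le]
      intro x hx x' hx'
      have key := Scheme.ker_ideal_of_isPullback_of_isOpenImmersion i (iα α) (g α)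
        (g' α) (hpb α) W
      obtain ⟨y, rfl⟩ := (ConcreteCategory.bijective_of_isIso ((g' α).appIso W.1).inv).2 x
      obtain ⟨y', rfl⟩ := (ConcreteCategory.bijective_of_isIso ((g' α).appIso W.1).inv).2 x'
      have hy : y ∈ (iα α).ker.ideal W := by
        rw [key]
        exact hx
      have hy' : y' ∈ (iα α).ker.ideal W := by
        rw [key]
        exact hx'
      have hyy : y * y' ∈ ((iα α).ker * (iα α).ker).ideal W := by
        rw [Scheme.IdealSheafData.ideal_mul, Pi.mul_apply]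
        exact Ideal.mul_mem_mul hy hy'
      rw [(ht α).2] at hyy
      have hyy0 : y * y' = 0 := (Ideal.mem_bot).mp hyy
      rw [Ideal.mem_bot, ← map_mul, hyy0, map_zero]

include Zα in
/-- **Locality**: a triple which restricts to universal thickenings on an open cover of `Z'`
is a universal thickening. -/
theorem isUnivThickening_of_local (hih : i ≫ h' = h) (hsq : ∀ α, g α ≫ i = iα α ≫ g' α)
    (hu : ∀ α, OmegaSh.IsUnivThickening (g α ≫ h) (iα α) (g' α ≫ h'))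
    (hcov : ∀ z' : Z', ∃ α, z' ∈ Set.range (g' α))
    (hpre : ∀ α (z : Z), i z ∈ Set.range (g' α) → z ∈ Set.range (g α)) :
    OmegaSh.IsUnivThickening h i h' := by
  refine ⟨thickening_of_local h i h' Zα Z'α g g' iα hsq (fun α => (hu α).1) hcov hpre, hih, ?_⟩
  intro T T' t b a ht w
  have hhomeo := isHomeomorph_of_thickening t ht
  have hsurj : Function.Surjective t.base := ht.1.2.surj
  let ℬ : Set T'.Opens := {W | ∃ α, ∀ x : T, t.base x ∈ W → a.base x ∈ Set.range (g α).base}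
  have hℬ : Opens.IsBasis ℬ := by
    rw [Opens.isBasis_iff_nbhd]
    intro W₀ y hy
    obtain ⟨x, rfl⟩ := hsurj y
    obtain ⟨α, hα⟩ := hcov (i (a x))
    have hz : a x ∈ Set.range (g α) := hpre α _ hα
    let O : T.Opens := a ⁻¹ᵁ (g α).opensRange
    let W₁ : T'.Opens := ⟨t.base '' O, hhomeo.isOpenMap _ O.isOpen⟩
    refine ⟨W₀ ⊓ W₁, ⟨α, ?_⟩, ⟨hy, ⟨x, hz, rfl⟩⟩, inf_le_left⟩
    rintro x' ⟨-, ⟨x'', hx'', hx'x''⟩⟩
    have : x'' = x' := hhomeo.injective hx'x''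
    subst this
    exact hx''
  have w' : t ≫ b = (a ≫ i) ≫ h' := by rw [Category.assoc, hih, w]
  refine glue_basis h' t (a ≫ i) b ℬ hℬ ?_
  rintro W ⟨α, hW⟩
  have htW : MoreMor.IsFirstOrderThickening (t ∣_ W) := restrict t ht W
  have hrange : Set.range ((t ⁻¹ᵁ W).ι ≫ a).base ⊆ Set.range (g α).base := by
    rintro _ ⟨x, rfl⟩
    exact hW x.1 x.2
  let aα : (t ⁻¹ᵁ W).toScheme ⟶ Zα α := IsOpenImmersion.lift (g α) ((t ⁻¹ᵁ W).ι ≫ a) hrange
  have haα : aα ≫ g α = (t ⁻¹ᵁ W).ι ≫ a := IsOpenImmersion.lift_fac _ _ _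
  have sq : (t ∣_ W) ≫ (W.ι ≫ b) = aα ≫ (g α ≫ h) := by
    rw [morphismRestrict_ι_assoc, w, ← Category.assoc, ← haα, Category.assoc]
  obtain ⟨l', ⟨h1, h2⟩, hl'u⟩ := (hu α).2.2 _ _ (t ∣_ W) (W.ι ≫ b) aα htW sq
  have hkey : aα ≫ iα α ≫ g' α = (t ⁻¹ᵁ W).ι ≫ a ≫ i := by
    rw [← hsq α, ← Category.assoc, haα, Category.assoc]
  refine ⟨l' ≫ g' α, ⟨?_, ?_⟩, ?_⟩
  · rw [← Category.assoc, h1, Category.assoc, hkey]
  · rw [Category.assoc, h2]
  · rintro l₁ ⟨h3, h4⟩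
    have hrange₁ : Set.range l₁.base ⊆ Set.range (g' α).base := by
      rintro _ ⟨y, rfl⟩
      obtain ⟨x, rfl⟩ := htW.1.2.surj y
      have e1 : l₁ ((t ∣_ W) x) = i (a ((t ⁻¹ᵁ W).ι x)) := by
        have := congrArg (fun k : (t ⁻¹ᵁ W).toScheme ⟶ Z' => k x) h3
        simpa using this
      obtain ⟨zα, hzα⟩ := hW x.1 x.2
      refine ⟨iα α zα, ?_⟩
      show (g' α) (iα α zα) = l₁ ((t ∣_ W) x)
      rw [e1, ← Scheme.Hom.comp_apply, ← hsq α, Scheme.Hom.comp_apply]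
      congr 1
    have h5 : IsOpenImmersion.lift (g' α) l₁ hrange₁ = l' := by
      apply hl'u
      constructor
      · rw [← cancel_mono (g' α), Category.assoc, IsOpenImmersion.lift_fac, h3, Category.assoc,
          hkey]
      · rw [← Category.assoc, IsOpenImmersion.lift_fac, h4]
    rw [← h5, IsOpenImmersion.lift_fac]

end Local

end Groth.Agent.Lib.helper7.UnivThick
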