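import Mathlib
import Groth.Prelude.Def_Omega3
import Groth.Agent.Lib.Helper7.UnivThick7
import Groth.Agent.S9426

/-!
# Universal first order thickenings: the affine local models (helper7)
-/

set_option autoImplicit false
universe u
open AlgebraicGeometry CategoryTheory Limits TopologicalSpace

namespace Groth.Agent.Lib.helper7.UnivThick

open Groth.Agent.Lib.Helper5.FormallyEtale

/-- Ring-hom formulation of a ring-level universal first order thickening of `Γ(Z,V)` over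
`Γ(X,U)`. -/
structure AffModel {Z X : Scheme.{u}} (h : Z ⟶ X) (V : Z.Opens) (U : X.Opens)
    (e : V ≤ h ⁻¹ᵁ U) where
  S' : Type u
  [cr : CommRing S']
  ρ : Γ(X, U) →+* S'
  π : S' →+* Γ(Z, V)
  hπρ : π.comp ρ = (h.appLE U V e).hom
  surj : Function.Surjective π
  sq : RingHom.ker π ^ 2 = ⊥
  up : ∀ (A₁ : Type u) [CommRing A₁] (I : Ideal A₁), I ^ 2 = ⊥ →
    ∀ (β : Γ(X, U) →+* A₁) (α : Γ(Z, V) →+* A₁ ⧸ I),
      α.comp (h.appLE U V e).hom = (Ideal.Quotient.mk I).comp β →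
      ∃! a' : S' →+* A₁, a'.comp ρ = β ∧ (Ideal.Quotient.mk I).comp a' = α.comp π

attribute [instance] AffModel.cr

theorem exists_affModel {Z X : Scheme.{u}} (h : Z ⟶ X) [FormallyUnramified h] (V : Z.Opens)
    (U : X.Opens) (hV : IsAffineOpen V) (hU : IsAffineOpen U) (e : V ≤ h ⁻¹ᵁ U) :
    Nonempty (AffModel h V U e) := by
  letI := (h.appLE U V e).hom.toAlgebra
  haveI : Algebra.FormallyUnramified Γ(X, U) Γ(Z, V) := h.formallyUnramified_appLE hU hV e
  obtain ⟨S', _, _, π, hπ⟩ := Groth.Agent.S9426.result Γ(X, U) Γ(Z, V)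
  refine ⟨{ S' := S', ρ := algebraMap Γ(X, U) S', π := π.toRingHom, hπρ := ?_, surj := hπ.1,
            sq := hπ.2.1, up := ?_ }⟩
  · ext x
    exact π.commutes x
  · intro A₁ _ I hI β α hαβ
    letI : Algebra Γ(X, U) A₁ := β.toAlgebra
    let αalg : Γ(Z, V) →ₐ[Γ(X, U)] A₁ ⧸ I :=
      { α with commutes' := fun r => RingHom.congr_fun hαβ r }
    obtain ⟨a', ha', ha'u⟩ := hπ.2.2 A₁ I hI αalg
    refine ⟨a'.toRingHom, ⟨?_, ?_⟩, ?_⟩
    · ext r
      exact a'.commutes r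
    · ext x
      exact AlgHom.congr_fun ha' x
    · rintro a'' ⟨h1, h2⟩
      let a''alg : S' →ₐ[Γ(X, U)] A₁ :=
        { a'' with commutes' := fun r => RingHom.congr_fun h1 r }
      have : a''alg = a' := by
        apply ha'u
        ext x
        exact RingHom.congr_fun h2 x
      rw [← this]

lemma thickening_Spec_of_surjective {B' B : Type u} [CommRing B'] [CommRing B] (π : B' →+* B)
    (hs : Function.Surjective π) (hk : RingHom.ker π ^ 2 = ⊥) :
    MoreMor.IsFirstOrderThickening (Spec.map (CommRingCat.ofHom π)) := by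
  let ψ : (B' ⧸ RingHom.ker π) ≃+* B := RingHom.quotientKerEquivOfSurjective hs
  have hψ : ψ.toRingHom.comp (Ideal.Quotient.mk (RingHom.ker π)) = π := by
    ext x
    rfl
  have e : Spec.map (CommRingCat.ofHom π) = Spec.map (CommRingCat.ofHom ψ.toRingHom) ≫
      Spec.map (CommRingCat.ofHom (Ideal.Quotient.mk (RingHom.ker π))) := by
    rw [Spec_map_ofHom_comp, hψ]
  rw [e]
  haveI : IsIso (CommRingCat.ofHom ψ.toRingHom) := (ψ.toCommRingCatIso).isIso_hom
  exact thickening_iso_comp _ _ (thickening_Spec B' (RingHom.ker π) hk)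

section Model

variable {Z X : Scheme.{u}} {h : Z ⟶ X} {V : Z.Opens} {U : X.Opens} {e : V ≤ h ⁻¹ᵁ U}
  (M : AffModel h V U e) (hV : IsAffineOpen V) (hU : IsAffineOpen U)

/-- the thickening scheme -/
noncomputable abbrev AffModel.Z' : Scheme.{u} := Spec (CommRingCat.of M.S')

/-- the thickening map -/
noncomputable def AffModel.i : (V : Scheme.{u}) ⟶ M.Z' :=
  hV.isoSpec.hom ≫ Spec.map (CommRingCat.ofHom M.π)

/-- the structure map -/
noncomputable def AffModel.h' : M.Z' ⟶ X :=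
  Spec.map (CommRingCat.ofHom M.ρ) ≫ hU.fromSpec

lemma AffModel.thickening_i : MoreMor.IsFirstOrderThickening (M.i hV) :=
  thickening_iso_comp _ _ (thickening_Spec_of_surjective M.π M.surj M.sq)

lemma isoSpec_hom_fromSpec : hV.isoSpec.hom ≫ hV.fromSpec = V.ι := by
  rw [← IsAffineOpen.isoSpec_inv_ι, Iso.hom_inv_id_assoc]

lemma AffModel.i_h' : M.i hV ≫ M.h' hU = V.ι ≫ h := by
  have h1 : Spec.map (CommRingCat.ofHom M.π) ≫ Spec.map (CommRingCat.ofHom M.ρ) =
      Spec.map (h.appLE U V e) := by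
    rw [Spec_map_ofHom_comp, M.hπρ]
    rfl
  show (hV.isoSpec.hom ≫ Spec.map (CommRingCat.ofHom M.π)) ≫
    Spec.map (CommRingCat.ofHom M.ρ) ≫ hU.fromSpec = V.ι ≫ h
  rw [Category.assoc, ← Category.assoc (Spec.map (CommRingCat.ofHom M.π)), h1,
    IsAffineOpen.SpecMap_appLE_fromSpec h hU hV e, ← Category.assoc, isoSpec_hom_fromSpec hV]

/-- The universal property against `Spec (A₁/I) → Spec A₁`. -/
lemma AffModel.up_Spec (A₁ : Type u) [CommRing A₁] (I : Ideal A₁) (hI : I ^ 2 = ⊥)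
    (a : Spec (CommRingCat.of (A₁ ⧸ I)) ⟶ (V : Scheme.{u})) (b : Spec (CommRingCat.of A₁) ⟶ X)
    (w : Spec.map (CommRingCat.ofHom (Ideal.Quotient.mk I)) ≫ b = a ≫ M.i hV ≫ M.h' hU) :
    ∃! l : Spec (CommRingCat.of A₁) ⟶ M.Z',
      Spec.map (CommRingCat.ofHom (Ideal.Quotient.mk I)) ≫ l = a ≫ M.i hV ∧ l ≫ M.h' hU = b := by
  set j := Spec.map (CommRingCat.ofHom (Ideal.Quotient.mk I)) with hj
  have hjt : MoreMor.IsFirstOrderThickening j := thickening_Spec A₁ I hI
  -- `b` factors through `U`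
  have hrange : Set.range b ⊆ Set.range hU.fromSpec := by
    rintro _ ⟨y, rfl⟩
    obtain ⟨z, rfl⟩ := UnivThick.surj j hjt y
    have h1 : b (j z) = h (V.ι (a z)) := by
      have := congrArg (fun k : Spec (CommRingCat.of (A₁ ⧸ I)) ⟶ X => k z)
        (w.trans (by rw [M.i_h' hV hU]))
      simpa using this
    rw [h1, hU.range_fromSpec]
    exact e (a z).2
  let b₁ : Spec (CommRingCat.of A₁) ⟶ Spec Γ(X, U) := IsOpenImmersion.lift hU.fromSpec b hrange
  have hb₁ : b₁ ≫ hU.fromSpec = b := IsOpenImmersion.lift_fac _ _ _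
  let β : Γ(X, U) →+* A₁ := (Spec.preimage b₁).hom
  have hβ : Spec.map (CommRingCat.ofHom β) = b₁ := Spec.map_preimage b₁
  let a₁ : Spec (CommRingCat.of (A₁ ⧸ I)) ⟶ Spec Γ(Z, V) := a ≫ hV.isoSpec.hom
  let α : Γ(Z, V) →+* A₁ ⧸ I := (Spec.preimage a₁).hom
  have hα : Spec.map (CommRingCat.ofHom α) = a₁ := Spec.map_preimage a₁
  have ha : a ≫ M.i hV = Spec.map (CommRingCat.ofHom (α.comp M.π)) := by
    rw [AffModel.i, ← Category.assoc, ← Spec_map_ofHom_comp, hα]
  have hrel : α.comp (h.appLE U V e).hom = (Ideal.Quotient.mk I).comp β := by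
    apply Spec_map_ofHom_inj
    rw [← Spec_map_ofHom_comp, ← Spec_map_ofHom_comp, hα, hβ]
    have hL : (j ≫ b₁) ≫ hU.fromSpec = a ≫ V.ι ≫ h := by
      rw [Category.assoc, hb₁, w, M.i_h' hV hU]
    have hR : (a₁ ≫ Spec.map (h.appLE U V e)) ≫ hU.fromSpec = a ≫ V.ι ≫ h := by
      rw [Category.assoc, IsAffineOpen.SpecMap_appLE_fromSpec h hU hV e]
      show (a ≫ hV.isoSpec.hom) ≫ hV.fromSpec ≫ h = _
      rw [Category.assoc, ← Category.assoc hV.isoSpec.hom, isoSpec_hom_fromSpec hV]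
    exact (cancel_mono hU.fromSpec).mp (hR.trans hL.symm)
  obtain ⟨a', ⟨ha'1, ha'2⟩, ha'u⟩ := M.up A₁ I hI β α hrel
  refine ⟨Spec.map (CommRingCat.ofHom a'), ⟨?_, ?_⟩, ?_⟩
  · rw [ha, hj, Spec_map_ofHom_comp, ha'2]
  · rw [AffModel.h', ← Category.assoc, Spec_map_ofHom_comp, ha'1, hβ, hb₁]
  · rintro l ⟨hl1, hl2⟩
    let lam : M.S' →+* A₁ := (Spec.preimage l).hom
    have hlam : Spec.map (CommRingCat.ofHom lam) = l := Spec.map_preimage l
    have h1 : lam.comp M.ρ = β := by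
      apply Spec_map_ofHom_inj
      rw [← Spec_map_ofHom_comp, hlam, hβ, ← cancel_mono hU.fromSpec, Category.assoc, hb₁, ← hl2]
      rfl
    have h2 : (Ideal.Quotient.mk I).comp lam = α.comp M.π := by
      apply Spec_map_ofHom_inj
      rw [← Spec_map_ofHom_comp, hlam, ← ha, ← hl1]
    rw [← hlam, ha'u lam ⟨h1, h2⟩]

end Model

end Groth.Agent.Lib.helper7.UnivThick
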