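import Groth.Agent.Lib.Helper7.OmegaSeqAlg
import Groth.Agent.Lib.Helper7.OmegaUniv

/-!
# Algebraic core of `C_{Z/Y} → C_{Z/X} → i^*Ω_{X/Y} → 0`, receptacle form (helper7)
-/

set_option autoImplicit false
set_option linter.style.haveILetI false
set_option linter.unusedSectionVars false
universe u
open TensorProduct KaehlerDifferential

namespace Groth.Agent.Lib.helper7.OmegaSeqAlg

open Groth.Agent.Lib.helper8.PullbackUnit

section Surj

variable {B A : Type u} [CommRing B] [CommRing A] [Algebra B A] {N P : Type u} [AddCommGroup N]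
  [Module B N] [AddCommGroup P] [Module A P] {k : N →+ P}

/-- a base change along a surjective ring map is surjective -/
theorem surjective_of_isBC (hμ : Function.Surjective (algebraMap B A))
    (hk : IsBC (algebraMap B A) k) : Function.Surjective k := by
  intro p
  have hp : p ∈ Submodule.span A (Set.range k) := by rw [span_range_of_isBC hk]; trivial
  induction hp using Submodule.span_induction with
  | mem y hy => exact hy
  | zero => exact ⟨0, map_zero k⟩
  | add y z _ _ hy hz =>
    obtain ⟨a, rfl⟩ := hy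
    obtain ⟨b, rfl⟩ := hz
    exact ⟨a + b, map_add k a b⟩
  | smul r y _ hy =>
    obtain ⟨a, rfl⟩ := hy
    obtain ⟨b, rfl⟩ := hμ r
    exact ⟨b • a, hk.map_smul b a⟩

end Surj

section Conormal2

variable (C A R : Type u) [CommRing C] [CommRing A] [CommRing R] [Algebra C A] [Algebra A R]
  [Algebra C R] [IsScalarTower C A R]
  (hA : Function.Surjective (algebraMap A R)) (hC : Function.Surjective (algebraMap C R))
  {MY P MI NI MJ PJ : Type u} [AddCommGroup MY] [Module A MY] [AddCommGroup P] [Module R P]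
  [AddCommGroup MI] [Module A MI] [AddCommGroup NI] [Module R NI] [AddCommGroup PJ] [Module R PJ]
  (d : A →+ MY) (ψY : MY ≃ₗ[A] Ω[A⁄C]) (hψY : ∀ b, ψY (d b) = D C A b)
  (k : MY →+ P) (hk : IsBC (algebraMap A R) k)
  (ιI : MI →ₗ[A] A) (hιI : Set.range ιI = (RingHom.ker (algebraMap A R) : Set A))
  (qI : MI →+ NI) (hqI : IsBC (algebraMap A R) qI)
  (ιJ : MJ → C) (hιJ : Set.range ιJ = (RingHom.ker (algebraMap C R) : Set C))
  (qJ : MJ → PJ) (hqJ : Submodule.span R (Set.range qJ) = ⊤)
  (ψm : PJ →ₗ[R] NI) (hψm : ∀ t s, ιI s = algebraMap C A (ιJ t) → ψm (qJ t) = qI s)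
  (φm : NI →ₗ[R] P) (hφm : ∀ s, φm (qI s) = k (d (ιI s)))

include hψY in
theorem d_algebraMap (c : C) : d (algebraMap C A c) = 0 := by
  apply ψY.injective
  rw [hψY, map_zero]
  exact (D C A).map_algebraMap c

include hιI hιJ in
theorem exists_ideal_lift (t : MJ) : ∃ s : MI, ιI s = algebraMap C A (ιJ t) := by
  have ht : ιJ t ∈ (RingHom.ker (algebraMap C R) : Set C) := by rw [← hιJ]; exact ⟨t, rfl⟩
  have h1 : algebraMap C A (ιJ t) ∈ (RingHom.ker (algebraMap A R) : Set A) := by
    change algebraMap A R (algebraMap C A (ιJ t)) = 0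
    rw [← IsScalarTower.algebraMap_apply]
    exact ht
  rw [← hιI] at h1
  exact h1

include hψY hιI hιJ hqJ hψm hφm in
theorem conormal2_comp_zero : φm ∘ₗ ψm = 0 := by
  refine LinearMap.ext_on_range hqJ (fun t => ?_)
  obtain ⟨s, hs⟩ := exists_ideal_lift C A R ιI hιI ιJ hιJ t
  change φm (ψm (qJ t)) = 0
  rw [hψm t s hs, hφm, hs, d_algebraMap C A d ψY hψY, map_zero]

include hA hC hψY hk hιI hqI hφm in
theorem conormal2_surjective : Function.Surjective φm := by
  have hsurj_k := surjective_of_isBC hA hk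
  have hqI_surj := surjective_of_isBC hA hqI
  -- `MY` is spanned by the `d a`
  have hspan : Submodule.span A (Set.range d) = ⊤ := by
    have h1 := KaehlerDifferential.span_range_derivation C A
    rw [eq_top_iff]
    intro x _
    have hx : ψY x ∈ (⊤ : Submodule A Ω[A⁄C]) := trivial
    rw [← h1] at hx
    have h2 : Submodule.span A (Set.range (D C A)) =
        Submodule.map ψY.toLinearMap (Submodule.span A (Set.range d)) := by
      rw [Submodule.map_span]
      congr 1
      ext y
      constructor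
      · rintro ⟨a, rfl⟩
        exact ⟨d a, ⟨a, rfl⟩, hψY a⟩
      · rintro ⟨_, ⟨a, rfl⟩, rfl⟩
        exact ⟨a, (hψY a).symm⟩
    rw [h2] at hx
    obtain ⟨q, hq, hqx⟩ := hx
    have : q = x := ψY.injective hqx
    rwa [← this]
  intro p
  obtain ⟨m, rfl⟩ := hsurj_k p
  have hm : m ∈ Submodule.span A (Set.range d) := by rw [hspan]; trivial
  induction hm using Submodule.span_induction with
  | mem y hy =>
    obtain ⟨a, rfl⟩ := hy
    obtain ⟨c, hc⟩ := hC (algebraMap A R a)
    have hx : a - algebraMap C A c ∈ (RingHom.ker (algebraMap A R) : Set A) := by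
      change algebraMap A R (a - algebraMap C A c) = 0
      rw [map_sub, ← IsScalarTower.algebraMap_apply, hc, sub_self]
    rw [← hιI] at hx
    obtain ⟨s, hs⟩ := hx
    refine ⟨qI s, ?_⟩
    rw [hφm, hs, map_sub, d_algebraMap C A d ψY hψY, sub_zero]
  | zero => exact ⟨0, by rw [map_zero, map_zero]⟩
  | add y z _ _ hy hz =>
    obtain ⟨a, ha⟩ := hy
    obtain ⟨b, hb⟩ := hz
    exact ⟨a + b, by rw [map_add, ha, hb, map_add]⟩
  | smul r y _ hy =>
    obtain ⟨a, ha⟩ := hy
    exact ⟨algebraMap A R r • a, by rw [map_smul, ha, hk.map_smul]⟩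

include hA hC hψY hk hιI hqI hιJ hqJ hψm hφm in
/-- exactness of `C_{Z/Y} → C_{Z/X} → i^*Ω_{X/Y}`, receptacle form -/
theorem conormal2_exact : Function.Exact ψm φm := by
  have hzero := conormal2_comp_zero C A R d ψY hψY k ιI hιI qI ιJ hιJ qJ hqJ ψm hψm φm hφm
  have hqI_surj := surjective_of_isBC hA hqI
  intro n
  constructor
  swap
  · rintro ⟨x, rfl⟩
    exact congr($hzero x)
  intro hn
  obtain ⟨s₀, rfl⟩ := hqI_surj n
  -- the quotient module and the key lemma
  let Q := NI ⧸ LinearMap.range ψm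
  let mk : NI →ₗ[R] Q := (LinearMap.range ψm).mkQ
  have key : ∀ (s₁ s₂ : MI) (c₀ : C), ιI s₁ - ιI s₂ = algebraMap C A c₀ →
      mk (qI s₁) = mk (qI s₂) := by
    intro s₁ s₂ c₀ h
    have hc₀ : c₀ ∈ (RingHom.ker (algebraMap C R) : Set C) := by
      change algebraMap C R c₀ = 0
      rw [IsScalarTower.algebraMap_apply C A R, ← h, map_sub]
      have h1 : ιI s₁ ∈ (RingHom.ker (algebraMap A R) : Set A) := by rw [← hιI]; exact ⟨s₁, rfl⟩
      have h2 : ιI s₂ ∈ (RingHom.ker (algebraMap A R) : Set A) := by rw [← hιI]; exact ⟨s₂, rfl⟩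
      rw [RingHom.mem_ker.mp h1, RingHom.mem_ker.mp h2, sub_zero]
    rw [← hιJ] at hc₀
    obtain ⟨t, rfl⟩ := hc₀
    have h3 : ψm (qJ t) = qI (s₁ - s₂) := hψm t (s₁ - s₂) (by rw [map_sub, h])
    rw [← sub_eq_zero, ← map_sub, ← map_sub, ← h3]
    exact (Submodule.Quotient.mk_eq_zero _).mpr ⟨qJ t, rfl⟩
  -- choices
  have hc : ∀ a : A, ∃ c : C, algebraMap C R c = algebraMap A R a := fun a => hC _
  choose cc hcc using hc
  have hs : ∀ a : A, ∃ s : MI, ιI s = a - algebraMap C A (cc a) := by
    intro a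
    have hx : a - algebraMap C A (cc a) ∈ (RingHom.ker (algebraMap A R) : Set A) := by
      change algebraMap A R (a - algebraMap C A (cc a)) = 0
      rw [map_sub, ← IsScalarTower.algebraMap_apply, hcc, sub_self]
    rw [← hιI] at hx
    exact hx
  choose ss hss using hs
  letI : Module A Q := Module.compHom Q (algebraMap A R)
  have hsmul : ∀ (a : A) (s : MI), mk (qI (a • s)) = a • mk (qI s) := by
    intro a s
    rw [hqI.map_smul, map_smul]
    rfl
  let δ : A →+ Q :=
    { toFun := fun a => mk (qI (ss a))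
      map_zero' := by
        have := key (ss 0) 0 (-(cc 0)) (by rw [hss, map_zero, sub_zero, zero_sub, map_neg])
        rw [this, map_zero, map_zero]
      map_add' := fun a b => by
        have := key (ss (a + b)) (ss a + ss b) (cc a + cc b - cc (a + b)) (by
          rw [map_add, hss, hss, hss, map_sub, map_add]; ring)
        rw [this, map_add, map_add] }
  have hδ : ∀ a, δ a = mk (qI (ss a)) := fun _ => rfl
  have hleib : ∀ a b : A, δ (a * b) = a • δ b + b • δ a := by
    intro a b
    have h1 := key (ss (a * b)) (a • ss b + algebraMap C A (cc b) • ss a)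
      (cc a * cc b - cc (a * b)) (by
        rw [map_add, map_smul, map_smul, hss, hss, hss, map_sub, map_mul, smul_eq_mul, smul_eq_mul]
        ring)
    rw [hδ, hδ, hδ, h1, map_add, map_add, hsmul, hsmul]
    congr 1
    change algebraMap A R (algebraMap C A (cc b)) • mk (qI (ss a)) =
      algebraMap A R b • mk (qI (ss a))
    rw [← IsScalarTower.algebraMap_apply, hcc]
  have hkillC : ∀ c : C, δ (algebraMap C A c) = 0 := by
    intro c
    have := key (ss (algebraMap C A c)) 0 (c - cc (algebraMap C A c)) (by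
      rw [hss, map_zero, sub_zero, map_sub])
    rw [hδ, this, map_zero, map_zero]
  obtain ⟨l, hl⟩ := OmegaUniv.exists_lift_of_leibniz C A Q δ hleib hkillC
  obtain ⟨l', hl', -⟩ := hk.existsUnique_lift Q (l.toAddMonoidHom.comp ψY.toLinearMap.toAddMonoidHom)
    (by
      intro r m
      change l (ψY (r • m)) = algebraMap A R r • l (ψY m)
      rw [map_smul, map_smul]
      rfl)
  have h4 : l' (φm (qI s₀)) = δ (ιI s₀) := by
    rw [hφm, hl']
    change l (ψY (d (ιI s₀))) = _
    rw [hψY, hl]
  rw [hn, map_zero] at h4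
  have h5 := key (ss (ιI s₀)) s₀ (-(cc (ιI s₀))) (by rw [hss, map_neg]; ring)
  rw [← hδ, ← h4] at h5
  exact (Submodule.Quotient.mk_eq_zero _).mp h5.symm

end Conormal2

end Groth.Agent.Lib.helper7.OmegaSeqAlg
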