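import Groth.Agent.Lib.Helper7.ConormalChart
import Groth.Agent.Lib.Helper7.OmegaSeqAlg2

/-!
# The sequence `C_{Z/Y} → C_{Z/X} → i^*Ω_{X/Y} → 0` (helper7)
-/

set_option autoImplicit false
set_option linter.style.haveILetI false
set_option linter.unusedSectionVars false
universe u
open CategoryTheory CategoryTheory.Limits AlgebraicGeometry TopologicalSpace Opposite
open Scheme.Modules

namespace Groth.Agent.Lib.helper7.OmegaSeq4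

open Groth.Agent.Lib.helper8.PullbackUnit OmegaChart

/-- `idealSect` as a linear map -/
noncomputable def idealSectₗ {X : Scheme.{u}} (I : X.IdealSheafData) (V : X.Opens) :
    Γ(ClSub.idealMod I, V) →ₗ[Γ(X, V)] Γ(X, V) where
  toFun := OmegaSh.idealSect I V
  map_add' := map_add _
  map_smul' a t := IdealMod.idealModι_app_smul I V a t

theorem idealSectₗ_apply {X : Scheme.{u}} (I : X.IdealSheafData) (V : X.Opens)
    (t : Γ(ClSub.idealMod I, V)) : idealSectₗ I V t = OmegaSh.idealSect I V t := rfl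

theorem appLE_congr {X Y : Scheme.{u}} {φ ψ : X ⟶ Y} (h : φ = ψ) (U : Y.Opens) (V : X.Opens)
    (e : V ≤ φ ⁻¹ᵁ U) (e' : V ≤ ψ ⁻¹ᵁ U) : φ.appLE U V e = ψ.appLE U V e' := by
  subst h; rfl

theorem surjective_of_isBC' {B A : Type u} [CommRing B] [CommRing A] {φ : B →+* A}
    (hφ : Function.Surjective φ) {N P : Type u} [AddCommGroup N] [Module B N] [AddCommGroup P]
    [Module A P] {k : N →+ P} (hk : IsBC φ k) : Function.Surjective k := by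
  letI := φ.toAlgebra
  exact OmegaSeqAlg.surjective_of_isBC hφ hk

theorem appLE_surjective_of_eq {Z Y : Scheme.{u}} (j : Z ⟶ Y) {W : Y.Opens}
    (hs : Function.Surjective (j.app W).hom) (T : Z.Opens) (hT : T = j ⁻¹ᵁ W) :
    Function.Surjective (j.appLE W T hT.le).hom := by
  subst hT
  rw [← j.app_eq_appLE]
  exact hs

theorem ker_appLE_of_eq {Z Y : Scheme.{u}} (j : Z ⟶ Y) {W : Y.Opens} (T : Z.Opens)
    (hT : T = j ⁻¹ᵁ W) :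
    RingHom.ker (j.appLE W T hT.le).hom = RingHom.ker (j.app W).hom := by
  subst hT
  rw [← j.app_eq_appLE]

section Seq

variable {Z X Y : Scheme.{u}} (p : X ⟶ Y) (i : Z ⟶ X) (j : Z ⟶ Y) [IsImmersion i] [IsImmersion j]
  [QuasiCompact i] [QuasiCompact j] (hij : i ≫ p = j)
  {Ω : X.Modules} (d : OmegaSh.Der p Ω) (hd : OmegaSh.IsUniversal d)
  (ψ : (Scheme.Modules.pullback (𝟙 Z)).obj (Omega.conormal j) ⟶ Omega.conormal i)
  (hψ : OmegaSh.IsConormalMap i j p (𝟙 Z) ψ)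
  (φ : Omega.conormal i ⟶ (Scheme.Modules.pullback i).obj Ω) (hφ : OmegaSh.IsConormalDiff i d φ)

include hij hd hψ hφ in
theorem chart_conormal2 {V : X.Opens} (hV : IsAffineOpen V) (hVc : V ≤ i.coborderRange)
    {W : Y.Opens} (hW : IsAffineOpen W) (hWc : W ≤ j.coborderRange) (eVW : V ≤ p ⁻¹ᵁ W)
    (hT : i ⁻¹ᵁ V = j ⁻¹ᵁ W) :
    (∀ x, (φ.app (i ⁻¹ᵁ V)).hom ((ψ.app (i ⁻¹ᵁ V)).hom x) = 0) ∧
      Function.Exact (ψ.app (i ⁻¹ᵁ V)).hom (φ.app (i ⁻¹ᵁ V)).hom ∧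
      Function.Surjective (φ.app (i ⁻¹ᵁ V)).hom := by
  obtain ⟨hTaff, hsi⟩ := ImmChart.of_le_coborder i hV hVc
  obtain ⟨-, hsj⟩ := ImmChart.of_le_coborder j hW hWc
  have eT : i ⁻¹ᵁ V ≤ i ⁻¹ᵁ V := le_rfl
  have eTW : i ⁻¹ᵁ V ≤ j ⁻¹ᵁ W := hT.le
  have eTW' : i ⁻¹ᵁ V ≤ (i ≫ p) ⁻¹ᵁ W := fun x hx => eVW (eT hx)
  letI algCA := (p.appLE W V eVW).hom.toAlgebra
  letI algAR := (i.appLE V (i ⁻¹ᵁ V) eT).hom.toAlgebra
  letI algCR := (j.appLE W (i ⁻¹ᵁ V) eTW).hom.toAlgebra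
  haveI : IsScalarTower Γ(Y, W) Γ(X, V) Γ(Z, i ⁻¹ᵁ V) := IsScalarTower.of_algebraMap_eq' (by
    change (j.appLE W (i ⁻¹ᵁ V) eTW).hom =
      (i.appLE V (i ⁻¹ᵁ V) eT).hom.comp (p.appLE W V eVW).hom
    rw [← CommRingCat.hom_comp, Scheme.Hom.appLE_comp_appLE,
      appLE_congr hij W (i ⁻¹ᵁ V) eTW' eTW])
  have happ : i.appLE V (i ⁻¹ᵁ V) eT = i.app V := (i.app_eq_appLE (U := V)).symm
  have hA : Function.Surjective (algebraMap Γ(X, V) Γ(Z, i ⁻¹ᵁ V)) := by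
    change Function.Surjective (i.appLE V (i ⁻¹ᵁ V) eT).hom
    rw [happ]; exact hsi
  have hC : Function.Surjective (algebraMap Γ(Y, W) Γ(Z, i ⁻¹ᵁ V)) :=
    appLE_surjective_of_eq j hsj (i ⁻¹ᵁ V) hT
  obtain ⟨ψY, hψY⟩ := OmegaStruct.exists_sectionsEquiv p d hd hV hW eVW
  haveI : Ω.IsQuasicoherent := OmegaQCoh.isQuasicoherent_of_isUniversal p d hd
  have hk : IsBC (algebraMap Γ(X, V) Γ(Z, i ⁻¹ᵁ V)) (ρ i eT Ω) := isBC_ρ i hV hTaff eT Ω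
  have hqI : IsBC (algebraMap Γ(X, V) Γ(Z, i ⁻¹ᵁ V)) (ρ i eT (ClSub.idealMod i.ker)) :=
    isBC_ρ i hV hTaff eT (ClSub.idealMod i.ker)
  have hιI : Set.range (idealSectₗ i.ker V) =
      (RingHom.ker (algebraMap Γ(X, V) Γ(Z, i ⁻¹ᵁ V)) : Set Γ(X, V)) := by
    change Set.range (OmegaSh.idealSect i.ker V) = _
    rw [OmegaSeq2.range_idealSect i.ker hV, Scheme.Hom.ker_apply]
    change _ = ((RingHom.ker (i.appLE V (i ⁻¹ᵁ V) eT).hom : Ideal Γ(X, V)) : Set Γ(X, V))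
    rw [happ]
  have hιJ : Set.range (OmegaSh.idealSect j.ker W) =
      (RingHom.ker (algebraMap Γ(Y, W) Γ(Z, i ⁻¹ᵁ V)) : Set Γ(Y, W)) := by
    rw [OmegaSeq2.range_idealSect j.ker hW, Scheme.Hom.ker_apply]
    change _ = ((RingHom.ker (j.appLE W (i ⁻¹ᵁ V) eTW).hom : Ideal Γ(Y, W)) : Set Γ(Y, W))
    rw [ker_appLE_of_eq j (i ⁻¹ᵁ V) hT]
  have e1 : i ⁻¹ᵁ V ≤ (𝟙 Z) ⁻¹ᵁ (i ⁻¹ᵁ V) := le_rfl
  haveI : (Omega.conormal j).IsQuasicoherent := OmegaAffine.conormal_qcoh j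
  let qJ : Γ(ClSub.idealMod j.ker, W) → Γ((Scheme.Modules.pullback (𝟙 Z)).obj (Omega.conormal j),
      i ⁻¹ᵁ V) := fun t => ρ (𝟙 Z) e1 (Omega.conormal j) (ρ j eTW (ClSub.idealMod j.ker) t)
  have hqJ : Submodule.span Γ(Z, i ⁻¹ᵁ V) (Set.range qJ) = ⊤ := by
    have h1 : Function.Surjective (ρ j eTW (ClSub.idealMod j.ker)) :=
      surjective_of_isBC' hC (isBC_ρ j hW hTaff eTW (ClSub.idealMod j.ker))
    have h2 : Function.Surjective (ρ (𝟙 Z) e1 (Omega.conormal j)) := by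
      refine surjective_of_isBC' ?_ (isBC_ρ (𝟙 Z) hTaff hTaff e1 (Omega.conormal j))
      have : ((𝟙 Z : Z ⟶ Z).appLE (i ⁻¹ᵁ V) (i ⁻¹ᵁ V) e1) = 𝟙 _ := by
        rw [Scheme.Hom.appLE, Scheme.Hom.id_app]
        exact (Category.id_comp _).trans (Z.presheaf.map_id _)
      rw [this]
      exact Function.surjective_id
    have h3 : Set.range qJ = Set.univ := (h2.comp h1).range_eq
    rw [h3]
    exact Submodule.span_univ
  have hψm : ∀ t s, idealSectₗ i.ker V s = algebraMap Γ(Y, W) Γ(X, V) (OmegaSh.idealSect j.ker W t) →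
      linApp ψ (i ⁻¹ᵁ V) (qJ t) = ρ i eT (ClSub.idealMod i.ker) s := fun t s hs =>
    ConormalChart.conormalMap_app i j p (𝟙 Z) ψ hψ eVW eTW e1 eT t s hs
  have hφm : ∀ s, linApp φ (i ⁻¹ᵁ V) (ρ i eT (ClSub.idealMod i.ker) s) =
      ρ i eT Ω (d.app V (idealSectₗ i.ker V s)) := fun s =>
    OmegaSeq2.conormalDiff_app p i d φ hφ eT s
  have hz := OmegaSeqAlg.conormal2_comp_zero Γ(Y, W) Γ(X, V) Γ(Z, i ⁻¹ᵁ V) (d.app V) ψY hψY
    (ρ i eT Ω) (idealSectₗ i.ker V) hιI (ρ i eT (ClSub.idealMod i.ker))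
    (OmegaSh.idealSect j.ker W) hιJ qJ hqJ (linApp ψ (i ⁻¹ᵁ V)) hψm (linApp φ (i ⁻¹ᵁ V)) hφm
  refine ⟨fun x => congr($hz x), ?_, ?_⟩
  · exact OmegaSeqAlg.conormal2_exact Γ(Y, W) Γ(X, V) Γ(Z, i ⁻¹ᵁ V) hA hC (d.app V) ψY hψY
      (ρ i eT Ω) hk (idealSectₗ i.ker V) hιI (ρ i eT (ClSub.idealMod i.ker)) hqI
      (OmegaSh.idealSect j.ker W) hιJ qJ hqJ (linApp ψ (i ⁻¹ᵁ V)) hψm (linApp φ (i ⁻¹ᵁ V)) hφm
  · exact OmegaSeqAlg.conormal2_surjective Γ(Y, W) Γ(X, V) Γ(Z, i ⁻¹ᵁ V) hA hC (d.app V) ψY hψY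
      (ρ i eT Ω) hk (idealSectₗ i.ker V) hιI (ρ i eT (ClSub.idealMod i.ker)) hqI
      (linApp φ (i ⁻¹ᵁ V)) hφm

/-- adapted chart pairs -/
abbrev Chart2 := {t : X.affineOpens × Y.affineOpens //
  t.1.1 ≤ i.coborderRange ∧ t.2.1 ≤ j.coborderRange ∧ t.1.1 ≤ p ⁻¹ᵁ t.2.1 ∧
    i ⁻¹ᵁ t.1.1 = j ⁻¹ᵁ t.2.1}

include hij in
theorem chart2_cover (z : Z) : ∃ t : Chart2 p i j, z ∈ i ⁻¹ᵁ t.1.1.1 := by
  obtain ⟨V, W, hV, hW, h1, h2, h3, h4, h5⟩ := ImmChart.exists_chart₂ p i j hij z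
  exact ⟨⟨(⟨V, hV⟩, ⟨W, hW⟩), h1, h2, h3, h4⟩, h5⟩

include hij hd hψ hφ in
/-- **`C_{Z/Y} → C_{Z/X} → i^*Ω_{X/Y} → 0` is exact.** -/
theorem conormal2_seq : ∃ w : ψ ≫ φ = 0, (ShortComplex.mk ψ φ w).Exact ∧ Epi φ := by
  haveI : Ω.IsQuasicoherent := OmegaQCoh.isQuasicoherent_of_isUniversal p d hd
  haveI : ((Scheme.Modules.pullback i).obj Ω).IsQuasicoherent :=
    Groth.Agent.Lib.helper16.QCohPullback.isQuasicoherent_pullback i Ω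
  haveI : (Omega.conormal i).IsQuasicoherent := OmegaAffine.conormal_qcoh i
  haveI : (Omega.conormal j).IsQuasicoherent := OmegaAffine.conormal_qcoh j
  haveI : ((Scheme.Modules.pullback (𝟙 Z)).obj (Omega.conormal j)).IsQuasicoherent :=
    Groth.Agent.Lib.helper16.QCohPullback.isQuasicoherent_pullback (𝟙 Z) (Omega.conormal j)
  have key := fun t : Chart2 p i j => chart_conormal2 p i j hij d hd ψ hψ φ hφ
    t.1.1.2 t.2.1 t.1.2.2 t.2.2.1 t.2.2.2.1 t.2.2.2.2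
  have haff : ∀ t : Chart2 p i j, IsAffineOpen (i ⁻¹ᵁ t.1.1.1) :=
    fun t => (ImmChart.of_le_coborder i t.1.1.2 t.2.1).1
  have w : ψ ≫ φ = 0 := QCohExact.comp_eq_zero_of_cover ψ φ
    (fun t : Chart2 p i j => i ⁻¹ᵁ t.1.1.1) haff (chart2_cover p i j hij) (fun t => (key t).1)
  refine ⟨w, ?_, ?_⟩
  · exact QCohExact.exact_of_cover ψ φ w (fun t : Chart2 p i j => i ⁻¹ᵁ t.1.1.1) haff
      (chart2_cover p i j hij) (fun t b hb => ((key t).2.1 b).mp hb)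
  · exact KerSections.epi_of_surjective_cover φ (fun t : Chart2 p i j => i ⁻¹ᵁ t.1.1.1) haff
      (chart2_cover p i j hij) (fun t => (key t).2.2)

end Seq

end Groth.Agent.Lib.helper7.OmegaSeq4
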