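import Groth.Agent.Lib.Helper7.ConormalTransAlg
import Groth.Agent.Lib.Helper7.OmegaSeq4
import Groth.Agent.Lib.Helper7.UnivThick4

/-!
# Transitivity sequence of conormal sheaves of universal thickenings (helper7)

For `Z ⟶ Y ⟶ X` formally unramified with universal thickenings `Z'` (of `Z` over `X`), `Y'`
(of `Y` over `X`), `Z''` (of `Z` over `Y`): `i^* C_{Y/Y'} → C_{Z/Z'} → C_{Z/Z''} → 0` is exact.
-/

set_option autoImplicit false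
set_option linter.style.haveILetI false
set_option linter.unusedSectionVars false
universe u
open CategoryTheory CategoryTheory.Limits AlgebraicGeometry TopologicalSpace Opposite
open Scheme.Modules

namespace Groth.Agent.Lib.helper7.ConormalTrans

open Groth.Agent.Lib.helper8.PullbackUnit OmegaChart Groth.Agent.Lib.helper7.UnivThick

/-- Universal first order thickenings are unique up to unique isomorphism. -/
theorem exists_iso_of_univ {Z X Z₁ Z₂ : Scheme.{u}} (h : Z ⟶ X) (i₁ : Z ⟶ Z₁) (h₁ : Z₁ ⟶ X)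
    (hu₁ : OmegaSh.IsUnivThickening h i₁ h₁) (i₂ : Z ⟶ Z₂) (h₂ : Z₂ ⟶ X)
    (hu₂ : OmegaSh.IsUnivThickening h i₂ h₂) :
    ∃ θ : Z₁ ≅ Z₂, i₁ ≫ θ.hom = i₂ ∧ θ.hom ≫ h₂ = h₁ := by
  obtain ⟨F, ⟨hF1, hF2⟩, -⟩ := hu₂.2.2 Z Z₁ i₁ h₁ (𝟙 Z) hu₁.1
    (by rw [hu₁.2.1, Category.id_comp])
  obtain ⟨G, ⟨hG1, hG2⟩, -⟩ := hu₁.2.2 Z Z₂ i₂ h₂ (𝟙 Z) hu₂.1
    (by rw [hu₂.2.1, Category.id_comp])
  rw [Category.id_comp] at hF1 hG1
  have h1 : F ≫ G = 𝟙 Z₁ := by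
    obtain ⟨l, -, hl⟩ := hu₁.2.2 Z Z₁ i₁ h₁ (𝟙 Z) hu₁.1 (by rw [hu₁.2.1, Category.id_comp])
    have e1 : F ≫ G = l := hl _ ⟨by rw [← Category.assoc, hF1, hG1, Category.id_comp],
      by rw [Category.assoc, hG2, hF2]⟩
    have e2 : 𝟙 Z₁ = l := hl _ ⟨by rw [Category.comp_id, Category.id_comp], Category.id_comp _⟩
    exact e1.trans e2.symm
  have h2 : G ≫ F = 𝟙 Z₂ := by
    obtain ⟨l, -, hl⟩ := hu₂.2.2 Z Z₂ i₂ h₂ (𝟙 Z) hu₂.1 (by rw [hu₂.2.1, Category.id_comp])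
    have e1 : G ≫ F = l := hl _ ⟨by rw [← Category.assoc, hG1, hF1, Category.id_comp],
      by rw [Category.assoc, hF2, hG2]⟩
    have e2 : 𝟙 Z₂ = l := hl _ ⟨by rw [Category.comp_id, Category.id_comp], Category.id_comp _⟩
    exact e1.trans e2.symm
  exact ⟨⟨F, G, h1, h2⟩, hF1, hF2⟩

/-- In the situation of the transitivity sequence, `Z'' = Y ×_{Y'} Z'`. -/
theorem isPullback_of_univ {Z Y X Z' Y' Z'' : Scheme.{u}} (i : Z ⟶ Y) (b : Y ⟶ X)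
    (i' : Z ⟶ Z') (c : Z' ⟶ X) (hZ' : OmegaSh.IsUnivThickening (i ≫ b) i' c)
    (j : Y ⟶ Y') (d : Y' ⟶ X) (hY' : OmegaSh.IsUnivThickening b j d)
    (m : Z' ⟶ Y') (hm₁ : i' ≫ m = i ≫ j) (hm₂ : m ≫ d = c)
    (i'' : Z ⟶ Z'') (e : Z'' ⟶ Y) (hZ'' : OmegaSh.IsUnivThickening i i'' e)
    (n : Z'' ⟶ Z') (hn₁ : i'' ≫ n = i') (hn₂ : n ≫ c = e ≫ b) :
    IsPullback n e m j := by
  obtain ⟨m₀, hm₀, hm₀d, hP⟩ := isUnivThickening_comp i b i' c hZ' j d hY'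
  obtain ⟨l, -, hl⟩ := hY'.2.2 Z Z' i' c i hZ'.1 hZ'.2.1
  have e1 : m₀ = l := hl _ ⟨hm₀, hm₀d⟩
  have e2 : m = l := hl _ ⟨hm₁, hm₂⟩
  obtain rfl : m₀ = m := e1.trans e2.symm
  obtain ⟨θ, hθ1, hθ2⟩ := exists_iso_of_univ i i'' e hZ'' _ _ hP
  have hn : n = θ.hom ≫ pullback.snd j m₀ := by
    obtain ⟨l', -, hl'⟩ := hZ'.2.2 Z Z'' i'' (e ≫ b) (𝟙 Z) hZ''.1
      (by rw [← Category.assoc, hZ''.2.1, Category.id_comp])
    have e3 : n = l' := hl' _ ⟨by rw [hn₁, Category.id_comp], hn₂⟩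
    have e4 : θ.hom ≫ pullback.snd j m₀ = l' := hl' _ ⟨by
      rw [← Category.assoc, hθ1, pullback.lift_snd, Category.id_comp], by
      rw [Category.assoc, ← hm₂, ← pullback.condition_assoc, ← Category.assoc, hθ2, hY'.2.1]⟩
    exact e3.trans e4.symm
  have hsq : IsPullback (pullback.snd j m₀) (pullback.fst j m₀) m₀ j :=
    (IsPullback.of_hasPullback j m₀).flip
  exact IsPullback.of_iso_pullback ⟨by
    rw [hn, Category.assoc, ← pullback.condition, ← Category.assoc, hθ2]⟩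
    (θ ≪≫ (pullbackSymmetry j m₀)) (by simp [hn]) (by simp [hθ2])

section Nat

variable {X Y : Scheme.{u}} (g : Y ⟶ X) {A B : X.Modules} (φ : A ⟶ B)

/-- naturality of `ρ` -/
theorem ρ_naturality {U : X.Opens} {V : Y.Opens} (e : V ≤ g ⁻¹ᵁ U) (a : Γ(A, U)) :
    (((Scheme.Modules.pullback g).map φ).app V).hom (ρ g e A a) = ρ g e B ((φ.app U).hom a) := by
  rw [ρ_apply, ρ_apply, Groth.Agent.Lib.helper16.QCohEpi.app_map]
  congr 1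
  have h := (pullbackPushforwardAdjunction g).unit.naturality φ
  have h2 := congrArg (fun ψ => (Scheme.Modules.Hom.app ψ U).hom a) h
  exact h2.symm

end Nat


theorem id_appLE_apply {Z : Scheme.{u}} (T : Z.Opens) (e : T ≤ (𝟙 Z) ⁻¹ᵁ T) (r : Γ(Z, T)) :
    ((𝟙 Z : Z ⟶ Z).appLE T T e).hom r = r := by
  have : ((𝟙 Z : Z ⟶ Z).appLE T T e) = 𝟙 _ := by
    rw [Scheme.Hom.appLE, Scheme.Hom.id_app]
    exact (Category.id_comp _).trans (Z.presheaf.map_id _)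
  rw [this]
  rfl

section Chart

open OmegaSeq4

variable {Z Y Z' Y' Z'' : Scheme.{u}} (i : Z ⟶ Y) (i' : Z ⟶ Z') (j : Y ⟶ Y') (m : Z' ⟶ Y')
  (i'' : Z ⟶ Z'') (n : Z'' ⟶ Z')
  (hi' : MoreMor.IsFirstOrderThickening i') (hj : MoreMor.IsFirstOrderThickening j)
  (hi'' : MoreMor.IsFirstOrderThickening i'')
  [IsClosedImmersion n] (hnker : n.ker = j.ker.comap m)
  (ψ₁ : (Scheme.Modules.pullback i).obj (Omega.conormal j) ⟶ Omega.conormal i')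
  (hψ₁ : OmegaSh.IsConormalMap i' j m i ψ₁)
  (ψ₂ : (Scheme.Modules.pullback (𝟙 Z)).obj (Omega.conormal i') ⟶ Omega.conormal i'')
  (hψ₂ : OmegaSh.IsConormalMap i'' i' n (𝟙 Z) ψ₂)

include hi' hj hi'' hnker hψ₁ hψ₂ in
theorem chart {W' : Y'.Opens} (hW' : IsAffineOpen W') {V' : Z'.Opens} (hV' : IsAffineOpen V')
    (eVW : V' ≤ m ⁻¹ᵁ W') :
    (∀ x, (ψ₂.app (i' ⁻¹ᵁ V')).hom
        ((((Scheme.Modules.pullback (𝟙 Z)).map ψ₁).app (i' ⁻¹ᵁ V')).hom x) = 0) ∧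
      Function.Exact (((Scheme.Modules.pullback (𝟙 Z)).map ψ₁).app (i' ⁻¹ᵁ V')).hom
        (ψ₂.app (i' ⁻¹ᵁ V')).hom ∧
      Function.Surjective (ψ₂.app (i' ⁻¹ᵁ V')).hom := by
  have hci' : IsClosedImmersion i' := hi'.1.1
  have hcj : IsClosedImmersion j := hj.1.1
  have hci'' : IsClosedImmersion i'' := hi''.1.1
  have hsq₁ : i ≫ j = i' ≫ m := hψ₁.1
  have hsq₂ : 𝟙 Z ≫ i' = i'' ≫ n := hψ₂.1
  rw [Category.id_comp] at hsq₂
  have hT : IsAffineOpen (i' ⁻¹ᵁ V') := hV'.preimage i'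
  have hV'' : IsAffineOpen (n ⁻¹ᵁ V') := hV'.preimage n
  have hTy : IsAffineOpen (j ⁻¹ᵁ W') := hW'.preimage j
  have eT : i' ⁻¹ᵁ V' ≤ i' ⁻¹ᵁ V' := le_rfl
  have eTy : j ⁻¹ᵁ W' ≤ j ⁻¹ᵁ W' := le_rfl
  have eV'' : n ⁻¹ᵁ V' ≤ n ⁻¹ᵁ V' := le_rfl
  have eTi : i' ⁻¹ᵁ V' ≤ i ⁻¹ᵁ (j ⁻¹ᵁ W') := by
    have h1 : i ⁻¹ᵁ (j ⁻¹ᵁ W') = i' ⁻¹ᵁ (m ⁻¹ᵁ W') := by
      change (i ≫ j) ⁻¹ᵁ W' = (i' ≫ m) ⁻¹ᵁ W'
      rw [hsq₁]
    rw [h1]
    exact fun x hx => eVW hx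
  have hT'' : i' ⁻¹ᵁ V' = i'' ⁻¹ᵁ (n ⁻¹ᵁ V') := by
    change _ = (i'' ≫ n) ⁻¹ᵁ V'
    rw [hsq₂]
  have eT'' : i' ⁻¹ᵁ V' ≤ i'' ⁻¹ᵁ (n ⁻¹ᵁ V') := hT''.le
  have e1 : i' ⁻¹ᵁ V' ≤ (𝟙 Z) ⁻¹ᵁ (i' ⁻¹ᵁ V') := le_rfl
  -- quasi-coherence
  haveI : (Omega.conormal j).IsQuasicoherent := OmegaAffine.conormal_qcoh j
  haveI : (Omega.conormal i').IsQuasicoherent := OmegaAffine.conormal_qcoh i'
  haveI : (Omega.conormal i'').IsQuasicoherent := OmegaAffine.conormal_qcoh i''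
  haveI : ((Scheme.Modules.pullback i).obj (Omega.conormal j)).IsQuasicoherent :=
    Groth.Agent.Lib.helper16.QCohPullback.isQuasicoherent_pullback i (Omega.conormal j)
  -- ring maps
  let mS : Γ(Y', W') →+* Γ(Z', V') := (m.appLE W' V' eVW).hom
  let nS : Γ(Z', V') →+* Γ(Z'', n ⁻¹ᵁ V') := (n.appLE V' (n ⁻¹ᵁ V') eV'').hom
  let π' : Γ(Z', V') →+* Γ(Z, i' ⁻¹ᵁ V') := (i'.appLE V' (i' ⁻¹ᵁ V') eT).hom
  let π'' : Γ(Z'', n ⁻¹ᵁ V') →+* Γ(Z, i' ⁻¹ᵁ V') := (i''.appLE (n ⁻¹ᵁ V') (i' ⁻¹ᵁ V') eT'').hom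
  have hnapp : n.appLE V' (n ⁻¹ᵁ V') eV'' = n.app V' := (n.app_eq_appLE (U := V')).symm
  have hi'app : i'.appLE V' (i' ⁻¹ᵁ V') eT = i'.app V' := (i'.app_eq_appLE (U := V')).symm
  have hπ : ∀ c, π'' (nS c) = π' c := by
    intro c
    change ((n.appLE V' (n ⁻¹ᵁ V') eV'') ≫ (i''.appLE (n ⁻¹ᵁ V') (i' ⁻¹ᵁ V') eT'')).hom c = _
    rw [Scheme.Hom.appLE_comp_appLE]
    exact congrArg (fun f : Γ(Z', V') ⟶ Γ(Z, i' ⁻¹ᵁ V') => f.hom c)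
      (appLE_congr hsq₂.symm V' (i' ⁻¹ᵁ V') _ eT)
  have hn : Function.Surjective nS := by
    change Function.Surjective (n.appLE V' (n ⁻¹ᵁ V') eV'').hom
    rw [hnapp]
    exact n.app_surjective V' hV'
  have hπ's : Function.Surjective π' := by
    change Function.Surjective (i'.appLE V' (i' ⁻¹ᵁ V') eT).hom
    rw [hi'app]
    exact i'.app_surjective V' hV'
  have hπ''s : Function.Surjective π'' :=
    appLE_surjective_of_eq i'' (i''.app_surjective _ hV'') (i' ⁻¹ᵁ V') hT''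
  have hjs : Function.Surjective (j.appLE W' (j ⁻¹ᵁ W') eTy).hom := by
    rw [← j.app_eq_appLE]
    exact j.app_surjective W' hW'
  -- ideals
  have hkern : RingHom.ker nS = Ideal.map mS (LinearMap.range (idealSectₗ j.ker W')) := by
    have h1 : RingHom.ker nS = n.ker.ideal ⟨V', hV'⟩ := by
      rw [Scheme.Hom.ker_apply]
      change RingHom.ker (n.appLE V' (n ⁻¹ᵁ V') eV'').hom = _
      rw [hnapp]
    have h2 : (LinearMap.range (idealSectₗ j.ker W') : Ideal Γ(Y', W')) = j.ker.ideal ⟨W', hW'⟩ := by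
      apply SetLike.coe_injective
      exact OmegaSeq2.range_idealSect j.ker hW'
    rw [h1, hnker, IdealComap.ideal_comap m j.ker hW' hV' eVW, h2]
  have hιK : ∀ c, c ∈ LinearMap.range (idealSectₗ i'.ker V') ↔ π' c = 0 := by
    intro c
    have h2 : (LinearMap.range (idealSectₗ i'.ker V') : Set Γ(Z', V')) = i'.ker.ideal ⟨V', hV'⟩ :=
      OmegaSeq2.range_idealSect i'.ker hV'
    rw [← SetLike.mem_coe, h2, Scheme.Hom.ker_apply, SetLike.mem_coe, RingHom.mem_ker]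
    change _ ↔ (i'.appLE V' (i' ⁻¹ᵁ V') eT).hom c = 0
    rw [hi'app]
  have hιK'' : ∀ c, c ∈ LinearMap.range (idealSectₗ i''.ker (n ⁻¹ᵁ V')) ↔ π'' c = 0 := by
    intro c
    have h2 : (LinearMap.range (idealSectₗ i''.ker (n ⁻¹ᵁ V')) : Set Γ(Z'', n ⁻¹ᵁ V')) =
        i''.ker.ideal ⟨n ⁻¹ᵁ V', hV''⟩ := OmegaSeq2.range_idealSect i''.ker hV''
    rw [← SetLike.mem_coe, h2, Scheme.Hom.ker_apply, SetLike.mem_coe,
      ← ker_appLE_of_eq i'' (i' ⁻¹ᵁ V') hT'', RingHom.mem_ker]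
  -- the maps `q`
  let q₁ : Γ(ClSub.idealMod j.ker, W') → Γ((Scheme.Modules.pullback i).obj (Omega.conormal j),
      i' ⁻¹ᵁ V') := fun t => ρ i eTi (Omega.conormal j) (ρ j eTy (ClSub.idealMod j.ker) t)
  have hq₁ : Submodule.span Γ(Z, i' ⁻¹ᵁ V') (Set.range q₁) = ⊤ := by
    have h1 : Function.Surjective (ρ j eTy (ClSub.idealMod j.ker)) :=
      ConormalTransAlg.surjective_of_isBC hjs (isBC_ρ j hW' hTy eTy (ClSub.idealMod j.ker))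
    have h3 : Set.range q₁ = Set.range (ρ i eTi (Omega.conormal j)) := by
      ext y
      constructor
      · rintro ⟨t, rfl⟩
        exact ⟨_, rfl⟩
      · rintro ⟨x, rfl⟩
        obtain ⟨t, rfl⟩ := h1 x
        exact ⟨t, rfl⟩
    rw [h3]
    letI := (i.appLE (j ⁻¹ᵁ W') (i' ⁻¹ᵁ V') eTi).hom.toAlgebra
    exact OmegaSeqAlg.span_range_of_isBC (isBC_ρ i hTy hT eTi (Omega.conormal j))
  have hρ'BC := isBC_ρ i' hV' hT eT (ClSub.idealMod i'.ker)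
  have hρ1BC := isBC_ρ (𝟙 Z) hT hT e1 (Omega.conormal i')
  have hid : Function.Surjective ((𝟙 Z : Z ⟶ Z).appLE (i' ⁻¹ᵁ V') (i' ⁻¹ᵁ V') e1).hom :=
    fun r => ⟨r, id_appLE_apply _ e1 r⟩
  let q₂ : Γ(ClSub.idealMod i'.ker, V') →+ Γ((Scheme.Modules.pullback (𝟙 Z)).obj (Omega.conormal i'),
      i' ⁻¹ᵁ V') := (ρ (𝟙 Z) e1 (Omega.conormal i')).comp (ρ i' eT (ClSub.idealMod i'.ker))
  have hq₂s : ∀ (c : Γ(Z', V')) (s : Γ(ClSub.idealMod i'.ker, V')), q₂ (c • s) = π' c • q₂ s := by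
    intro c s
    change ρ (𝟙 Z) e1 (Omega.conormal i') (ρ i' eT (ClSub.idealMod i'.ker) (c • s)) = _
    rw [hρ'BC.map_smul]
    refine (hρ1BC.map_smul _ _).trans ?_
    rw [id_appLE_apply]
    rfl
  have hq₂ : Function.Surjective q₂ :=
    (ConormalTransAlg.surjective_of_isBC hid hρ1BC).comp
      (ConormalTransAlg.surjective_of_isBC hπ's hρ'BC)
  have hρ''BC : IsBC π'' (ρ i'' eT'' (ClSub.idealMod i''.ker)) :=
    isBC_ρ i'' hV'' hT eT'' (ClSub.idealMod i''.ker)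
  have hq₃ : Function.Surjective (ρ i'' eT'' (ClSub.idealMod i''.ker)) :=
    ConormalTransAlg.surjective_of_isBC hπ''s hρ''BC
  have hq₃i : Function.Injective (ρ i'' eT'' (ClSub.idealMod i''.ker)) := by
    refine ConormalTransAlg.injective_of_isBC hπ''s hρ''BC (fun r hr s'' => ?_)
    apply ConormalChart.idealSect_injective i''.ker (n ⁻¹ᵁ V')
    rw [map_zero]
    change idealSectₗ i''.ker (n ⁻¹ᵁ V') (r • s'') = 0
    rw [_root_.map_smul, smul_eq_mul]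
    have hr' : r ∈ RingHom.ker (i''.app (n ⁻¹ᵁ V')).hom := by
      rw [← ker_appLE_of_eq i'' (i' ⁻¹ᵁ V') hT'']
      exact hr
    have hs' : idealSectₗ i''.ker (n ⁻¹ᵁ V') s'' ∈ RingHom.ker (i''.app (n ⁻¹ᵁ V')).hom := by
      rw [← ker_appLE_of_eq i'' (i' ⁻¹ᵁ V') hT'', RingHom.mem_ker]
      exact (hιK'' _).mp ⟨s'', rfl⟩
    have := Ideal.mul_mem_mul hr' hs'
    rw [ker_app_mul_self i'' hi'' _ hV''] at this
    exact this
  -- the linear maps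
  let ψ₁L : Γ((Scheme.Modules.pullback i).obj (Omega.conormal j), i' ⁻¹ᵁ V') →ₗ[Γ(Z, i' ⁻¹ᵁ V')]
      Γ((Scheme.Modules.pullback (𝟙 Z)).obj (Omega.conormal i'), i' ⁻¹ᵁ V') :=
    { toFun := fun x => ρ (𝟙 Z) e1 (Omega.conormal i') (linApp ψ₁ (i' ⁻¹ᵁ V') x)
      map_add' := fun x y => by rw [map_add, map_add]
      map_smul' := fun r x => by
        rw [_root_.map_smul]
        refine (hρ1BC.map_smul _ _).trans ?_
        rw [id_appLE_apply]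
        rfl }
  have hψ₁m : ∀ t s, idealSectₗ i'.ker V' s = mS (idealSectₗ j.ker W' t) →
      ψ₁L (q₁ t) = q₂ s := fun t s hs =>
    congrArg (ρ (𝟙 Z) e1 (Omega.conormal i'))
      (ConormalChart.conormalMap_app i' j m i ψ₁ hψ₁ eVW eTy eTi eT t s hs)
  have hψ₂m : ∀ s s'', idealSectₗ i''.ker (n ⁻¹ᵁ V') s'' = nS (idealSectₗ i'.ker V' s) →
      linApp ψ₂ (i' ⁻¹ᵁ V') (q₂ s) = ρ i'' eT'' (ClSub.idealMod i''.ker) s'' := fun s s'' hs =>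
    ConormalChart.conormalMap_app i'' i' n (𝟙 Z) ψ₂ hψ₂ eV'' eT e1 eT'' s s'' hs
  have hιKi := ConormalChart.idealSect_injective i'.ker V'
  have hιK''i := ConormalChart.idealSect_injective i''.ker (n ⁻¹ᵁ V')
  have hz := ConormalTransAlg.comp_zero mS nS π' π'' hπ (idealSectₗ j.ker W') hkern
    (idealSectₗ i'.ker V') hιK (idealSectₗ i''.ker (n ⁻¹ᵁ V')) hιK''i hιK'' q₁ hq₁ q₂
    (ρ i'' eT'' (ClSub.idealMod i''.ker)) ψ₁L hψ₁m (linApp ψ₂ (i' ⁻¹ᵁ V')) hψ₂m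
  have hex := ConormalTransAlg.exact mS nS π' π'' hπ (idealSectₗ j.ker W') hkern
    (idealSectₗ i'.ker V') hιKi hιK (idealSectₗ i''.ker (n ⁻¹ᵁ V')) hιK''i hιK'' q₁ hq₁ q₂ hq₂s hq₂
    (ρ i'' eT'' (ClSub.idealMod i''.ker)) hq₃i ψ₁L hψ₁m (linApp ψ₂ (i' ⁻¹ᵁ V')) hψ₂m
  have hsu := ConormalTransAlg.surjective nS π' π'' hπ hn
    (idealSectₗ i'.ker V') hιK (idealSectₗ i''.ker (n ⁻¹ᵁ V')) hιK'' q₂
    (ρ i'' eT'' (ClSub.idealMod i''.ker)) hq₃ (linApp ψ₂ (i' ⁻¹ᵁ V')) hψ₂m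
  -- translate
  have hρ1s : Function.Surjective (ρ (𝟙 Z) e1 ((Scheme.Modules.pullback i).obj (Omega.conormal j))) :=
    ConormalTransAlg.surjective_of_isBC hid
      (isBC_ρ (𝟙 Z) hT hT e1 ((Scheme.Modules.pullback i).obj (Omega.conormal j)))
  have hnat : ∀ x, (((Scheme.Modules.pullback (𝟙 Z)).map ψ₁).app (i' ⁻¹ᵁ V')).hom
      (ρ (𝟙 Z) e1 ((Scheme.Modules.pullback i).obj (Omega.conormal j)) x) = ψ₁L x := fun x =>
    ρ_naturality (𝟙 Z) ψ₁ e1 x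
  refine ⟨fun y => ?_, fun y => ⟨fun hy => ?_, ?_⟩, hsu⟩
  · obtain ⟨x, rfl⟩ := hρ1s y
    rw [hnat]
    exact congr($hz x)
  · obtain ⟨x, hx⟩ := (hex y).mp hy
    exact ⟨ρ (𝟙 Z) e1 _ x, (hnat x).trans hx⟩
  · rintro ⟨y', rfl⟩
    obtain ⟨x, rfl⟩ := hρ1s y'
    rw [hnat]
    exact congr($hz x)

end Chart


/-- **Transitivity sequence of conormal sheaves of universal thickenings.** -/
theorem main {Z Y X Z' Y' Z'' : Scheme.{u}} (i : Z ⟶ Y) (b : Y ⟶ X)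
    (i' : Z ⟶ Z') (c : Z' ⟶ X) (hZ' : OmegaSh.IsUnivThickening (i ≫ b) i' c)
    (j : Y ⟶ Y') (d : Y' ⟶ X) (hY' : OmegaSh.IsUnivThickening b j d)
    (m : Z' ⟶ Y') (hm₁ : i' ≫ m = i ≫ j) (hm₂ : m ≫ d = c)
    (i'' : Z ⟶ Z'') (e : Z'' ⟶ Y) (hZ'' : OmegaSh.IsUnivThickening i i'' e)
    (n : Z'' ⟶ Z') (hn₁ : i'' ≫ n = i') (hn₂ : n ≫ c = e ≫ b)
    (ψ₁ : (Scheme.Modules.pullback i).obj (Omega.conormal j) ⟶ Omega.conormal i')
    (hψ₁ : OmegaSh.IsConormalMap i' j m i ψ₁)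
    (ψ₂ : (Scheme.Modules.pullback (𝟙 Z)).obj (Omega.conormal i') ⟶ Omega.conormal i'')
    (hψ₂ : OmegaSh.IsConormalMap i'' i' n (𝟙 Z) ψ₂) :
    ∃ w : (Scheme.Modules.pullback (𝟙 Z)).map ψ₁ ≫ ψ₂ = 0,
      (ShortComplex.mk _ _ w).Exact ∧ Epi ψ₂ := by
  have hsq := isPullback_of_univ i b i' c hZ' j d hY' m hm₁ hm₂ i'' e hZ'' n hn₁ hn₂
  have hcj : IsClosedImmersion j := hY'.1.1.1
  have hci' : IsClosedImmersion i' := hZ'.1.1.1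
  have hcn : IsClosedImmersion n :=
    MorphismProperty.of_isPullback (P := @IsClosedImmersion) hsq.flip hcj
  have hnker : n.ker = j.ker.comap m := ker_eq_comap_of_isPullback j n m e hsq
  haveI : (Omega.conormal j).IsQuasicoherent := OmegaAffine.conormal_qcoh j
  haveI : (Omega.conormal i').IsQuasicoherent := OmegaAffine.conormal_qcoh i'
  haveI : (Omega.conormal i'').IsQuasicoherent := OmegaAffine.conormal_qcoh i''
  haveI : ((Scheme.Modules.pullback i).obj (Omega.conormal j)).IsQuasicoherent :=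
    Groth.Agent.Lib.helper16.QCohPullback.isQuasicoherent_pullback i (Omega.conormal j)
  haveI : ((Scheme.Modules.pullback (𝟙 Z)).obj (Omega.conormal i')).IsQuasicoherent :=
    Groth.Agent.Lib.helper16.QCohPullback.isQuasicoherent_pullback (𝟙 Z) (Omega.conormal i')
  haveI : ((Scheme.Modules.pullback (𝟙 Z)).obj
      ((Scheme.Modules.pullback i).obj (Omega.conormal j))).IsQuasicoherent :=
    Groth.Agent.Lib.helper16.QCohPullback.isQuasicoherent_pullback (𝟙 Z) _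
  have key := fun p : AffPair m => chart i i' j m i'' n hZ'.1 hY'.1 hZ''.1 hnker ψ₁ hψ₁ ψ₂ hψ₂
    p.1.2.2 p.1.1.2 p.2
  have haff : ∀ p : AffPair m, IsAffineOpen (i' ⁻¹ᵁ p.1.1.1) := fun p => p.1.1.2.preimage i'
  have hcov : ∀ z : Z, ∃ p : AffPair m, z ∈ i' ⁻¹ᵁ p.1.1.1 := by
    intro z
    have hz : i' z ∈ (⊤ : Z'.Opens) := trivial
    rw [← iSup_affPair m] at hz
    obtain ⟨p, hp⟩ := Opens.mem_iSup.mp hz
    exact ⟨p, hp⟩
  have w : (Scheme.Modules.pullback (𝟙 Z)).map ψ₁ ≫ ψ₂ = 0 :=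
    QCohExact.comp_eq_zero_of_cover _ ψ₂ (fun p : AffPair m => i' ⁻¹ᵁ p.1.1.1) haff hcov
      (fun p => (key p).1)
  refine ⟨w, ?_, ?_⟩
  · exact QCohExact.exact_of_cover _ ψ₂ w (fun p : AffPair m => i' ⁻¹ᵁ p.1.1.1) haff hcov
      (fun p y hy => ((key p).2.1 y).mp hy)
  · exact KerSections.epi_of_surjective_cover ψ₂ (fun p : AffPair m => i' ⁻¹ᵁ p.1.1.1) haff hcov
      (fun p => (key p).2.2)

end Groth.Agent.Lib.helper7.ConormalTrans
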