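import Groth.Agent.Lib.Helper7.OmegaChart
import Groth.Agent.Lib.Helper16.QCohEpi
import Mathlib.AlgebraicGeometry.Morphisms.FormallyUnramified

/-!
# The first exact sequence of differentials `f^*Ω_{Y/Z} → Ω_{X/Z} → Ω_{X/Y} → 0` (helper7)
-/

set_option autoImplicit false
set_option linter.style.haveILetI false
set_option linter.unusedSectionVars false
universe u
open CategoryTheory CategoryTheory.Limits AlgebraicGeometry TopologicalSpace Opposite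
open Scheme.Modules

namespace Groth.Agent.Lib.helper7.OmegaSeq

open Groth.Agent.Lib.helper8.PullbackUnit OmegaChart

section Comp

variable {X Y Z : Scheme.{u}} (f : X ⟶ Y) (g : Y ⟶ Z)
  {ΩY : Y.Modules} (dY : OmegaSh.Der g ΩY) (hY : OmegaSh.IsUniversal dY)
  {ΩX : X.Modules} (dX : OmegaSh.Der (f ≫ g) ΩX) (hX : OmegaSh.IsUniversal dX)
  {ΩXY : X.Modules} (dXY : OmegaSh.Der f ΩXY) (hXY : OmegaSh.IsUniversal dXY)
  (c₁ : (Scheme.Modules.pullback f).obj ΩY ⟶ ΩX) (hc₁ : OmegaSh.IsDiffCompat f dY dX c₁)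
  (c₂ : ΩX ⟶ ΩXY) (hc₂ : ∀ (U : X.Opens) (s : Γ(X, U)), (c₂.app U).hom (dX.app U s) = dXY.app U s)

include hY hX hXY hc₁ hc₂ in
theorem chart_comp {U : X.Opens} (hU : IsAffineOpen U) {V : Y.Opens} (hV : IsAffineOpen V)
    {W : Z.Opens} (hW : IsAffineOpen W) (eUV : U ≤ f ⁻¹ᵁ V) (eVW : V ≤ g ⁻¹ᵁ W) :
    Function.Surjective (c₂.app U).hom ∧ Function.Exact (c₁.app U).hom (c₂.app U).hom := by
  have eUW : U ≤ (f ≫ g) ⁻¹ᵁ W := fun x hx => eVW (eUV hx)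
  letI algCB := (g.appLE W V eVW).hom.toAlgebra
  letI algBA := (f.appLE V U eUV).hom.toAlgebra
  letI algCA := ((f ≫ g).appLE W U eUW).hom.toAlgebra
  haveI : IsScalarTower Γ(Z, W) Γ(Y, V) Γ(X, U) := IsScalarTower.of_algebraMap_eq' (by
    change ((f ≫ g).appLE W U eUW).hom = (f.appLE V U eUV).hom.comp (g.appLE W V eVW).hom
    rw [← CommRingCat.hom_comp, Scheme.Hom.appLE_comp_appLE])
  obtain ⟨ψY, hψY⟩ := OmegaStruct.exists_sectionsEquiv g dY hY hV hW eVW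
  obtain ⟨ψX, hψX⟩ := OmegaStruct.exists_sectionsEquiv (f ≫ g) dX hX hU hW eUW
  obtain ⟨ψXY, hψXY⟩ := OmegaStruct.exists_sectionsEquiv f dXY hXY hU hV eUV
  haveI : ΩY.IsQuasicoherent := OmegaQCoh.isQuasicoherent_of_isUniversal g dY hY
  have hk : IsBC (algebraMap Γ(Y, V) Γ(X, U)) (ρ f eUV ΩY) := isBC_ρ f hV hU eUV ΩY
  have hc₁' : ∀ b : Γ(Y, V), linApp c₁ U (ρ f eUV ΩY (dY.app V b)) =
      dX.app U (algebraMap Γ(Y, V) Γ(X, U) b) := fun b => diffCompat_app f dY dX c₁ hc₁ eUV b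
  have hc₂' : ∀ a : Γ(X, U), linApp c₂ U (dX.app U a) = dXY.app U a := fun a => hc₂ U a
  exact ⟨OmegaSeqAlg.comp_surjective Γ(Z, W) Γ(Y, V) Γ(X, U) (dX.app U) ψX hψX (dXY.app U) ψXY hψXY
      (linApp c₂ U) hc₂',
    OmegaSeqAlg.comp_exact Γ(Z, W) Γ(Y, V) Γ(X, U) (dY.app V) ψY hψY (dX.app U) ψX hψX (dXY.app U)
      ψXY hψXY (ρ f eUV ΩY) hk (linApp c₁ U) hc₁' (linApp c₂ U) hc₂'⟩

/-- chart triples for a composite -/
abbrev Chart3 := {t : X.affineOpens × Y.affineOpens × Z.affineOpens //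
  t.1.1 ≤ f ⁻¹ᵁ t.2.1.1 ∧ t.2.1.1 ≤ g ⁻¹ᵁ t.2.2.1}

theorem chart3_cover (x : X) : ∃ t : Chart3 f g, x ∈ t.1.1.1 := by
  obtain ⟨W, hW, hxW, -⟩ := Opens.isBasis_iff_nbhd.mp Z.isBasis_affineOpens
    (show g (f x) ∈ (⊤ : Z.Opens) from trivial)
  obtain ⟨V, hV, hxV, hVW⟩ := Opens.isBasis_iff_nbhd.mp Y.isBasis_affineOpens
    (show f x ∈ g ⁻¹ᵁ W from hxW)
  obtain ⟨U, hU, hxU, hUV⟩ := Opens.isBasis_iff_nbhd.mp X.isBasis_affineOpens
    (show x ∈ f ⁻¹ᵁ V from hxV)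
  exact ⟨⟨(⟨U, hU⟩, ⟨V, hV⟩, ⟨W, hW⟩), hUV, hVW⟩, hxU⟩

include hY hX hXY hc₁ hc₂ in
/-- **First exact sequence of differentials**: `c₂` is an epimorphism and `im c₁ = ker c₂`. -/
theorem comp_seq : Epi c₂ ∧ imageSubobject c₁ = kernelSubobject c₂ := by
  haveI : ΩY.IsQuasicoherent := OmegaQCoh.isQuasicoherent_of_isUniversal g dY hY
  haveI : ΩX.IsQuasicoherent := OmegaQCoh.isQuasicoherent_of_isUniversal (f ≫ g) dX hX
  haveI : ΩXY.IsQuasicoherent := OmegaQCoh.isQuasicoherent_of_isUniversal f dXY hXY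
  haveI : ((Scheme.Modules.pullback f).obj ΩY).IsQuasicoherent :=
    Groth.Agent.Lib.helper16.QCohPullback.isQuasicoherent_pullback f ΩY
  have key := fun t : Chart3 f g => chart_comp f g dY hY dX hX dXY hXY c₁ hc₁ c₂ hc₂
    t.1.1.2 t.1.2.1.2 t.1.2.2.2 t.2.1 t.2.2
  refine ⟨KerSections.epi_of_surjective_cover c₂ (fun t : Chart3 f g => t.1.1.1)
    (fun t => t.1.1.2) (chart3_cover f g) (fun t => (key t).1), ?_⟩
  refine QCohExact.image_eq_kernel_of_cover c₁ c₂ (fun t : Chart3 f g => t.1.1.1)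
    (fun t => t.1.1.2) (chart3_cover f g) (fun t a => ?_) (fun t b hb => ?_)
  · exact ((key t).2 _).mpr ⟨a, rfl⟩
  · exact ((key t).2 b).mp hb

include hY hX hc₁ in
theorem chart_surjective_iff {U : X.Opens} (hU : IsAffineOpen U) {V : Y.Opens}
    (hV : IsAffineOpen V) {W : Z.Opens} (hW : IsAffineOpen W) (eUV : U ≤ f ⁻¹ᵁ V)
    (eVW : V ≤ g ⁻¹ᵁ W) :
    Function.Surjective (c₁.app U).hom ↔ (f.appLE V U eUV).hom.FormallyUnramified := by
  have eUW : U ≤ (f ≫ g) ⁻¹ᵁ W := fun x hx => eVW (eUV hx)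
  letI algCB := (g.appLE W V eVW).hom.toAlgebra
  letI algBA := (f.appLE V U eUV).hom.toAlgebra
  letI algCA := ((f ≫ g).appLE W U eUW).hom.toAlgebra
  haveI : IsScalarTower Γ(Z, W) Γ(Y, V) Γ(X, U) := IsScalarTower.of_algebraMap_eq' (by
    change ((f ≫ g).appLE W U eUW).hom = (f.appLE V U eUV).hom.comp (g.appLE W V eVW).hom
    rw [← CommRingCat.hom_comp, Scheme.Hom.appLE_comp_appLE])
  obtain ⟨ψY, hψY⟩ := OmegaStruct.exists_sectionsEquiv g dY hY hV hW eVW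
  obtain ⟨ψX, hψX⟩ := OmegaStruct.exists_sectionsEquiv (f ≫ g) dX hX hU hW eUW
  haveI : ΩY.IsQuasicoherent := OmegaQCoh.isQuasicoherent_of_isUniversal g dY hY
  have hk : IsBC (algebraMap Γ(Y, V) Γ(X, U)) (ρ f eUV ΩY) := isBC_ρ f hV hU eUV ΩY
  have hc₁' : ∀ b : Γ(Y, V), linApp c₁ U (ρ f eUV ΩY (dY.app V b)) =
      dX.app U (algebraMap Γ(Y, V) Γ(X, U) b) := fun b => diffCompat_app f dY dX c₁ hc₁ eUV b
  rw [RingHom.FormallyUnramified, Algebra.formallyUnramified_iff]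
  exact OmegaSeqAlg.comp_left_surjective_iff Γ(Z, W) Γ(Y, V) Γ(X, U) (dY.app V) ψY hψY (dX.app U)
    ψX hψX (ρ f eUV ΩY) hk (linApp c₁ U) hc₁'

include hY hX hc₁ in
/-- **`f` is formally unramified iff `f^*Ω_{Y/Z} → Ω_{X/Z}` is an epimorphism.** -/
theorem formallyUnramified_iff_epi : FormallyUnramified f ↔ Epi c₁ := by
  haveI : ΩY.IsQuasicoherent := OmegaQCoh.isQuasicoherent_of_isUniversal g dY hY
  haveI : ΩX.IsQuasicoherent := OmegaQCoh.isQuasicoherent_of_isUniversal (f ≫ g) dX hX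
  haveI : ((Scheme.Modules.pullback f).obj ΩY).IsQuasicoherent :=
    Groth.Agent.Lib.helper16.QCohPullback.isQuasicoherent_pullback f ΩY
  have key := fun t : Chart3 f g => chart_surjective_iff f g dY hY dX hX c₁ hc₁
    t.1.1.2 t.1.2.1.2 t.1.2.2.2 t.2.1 t.2.2
  constructor
  · intro hf
    exact KerSections.epi_of_surjective_cover c₁ (fun t : Chart3 f g => t.1.1.1)
      (fun t => t.1.1.2) (chart3_cover f g)
      (fun t => (key t).mpr (hf.formallyUnramified_appLE t.1.2.1.2 t.1.1.2 t.2.1))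
  · intro hc
    rw [HasRingHomProperty.iff_exists_appLE (P := @FormallyUnramified)
      (RingHom.FormallyUnramified.stableUnderComposition.stableUnderCompositionWithLocalizationAway
        RingHom.FormallyUnramified.holdsForLocalizationAway).1]
    intro x
    obtain ⟨t, hxt⟩ := chart3_cover f g x
    exact ⟨t.1.2.1, t.1.1, hxt, t.2.1, (key t).mp
      (Groth.Agent.Lib.helper16.QCohEpi.surjective_app_of_epi c₁ t.1.1.2)⟩

end Comp

end Groth.Agent.Lib.helper7.OmegaSeq
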