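import Mathlib
import Groth.Prelude.Def_Omega3
import Groth.Agent.Lib.Helper7.UnivThick8

/-!
# Universal first order thickenings: from schemes back to rings (helper7)

If `(i : Z ⟶ Z', h' : Z' ⟶ X)` is a universal first order thickening of `h`, then for affine opens
`O ⊆ Z'`, `U ⊆ X` with `O ⊆ h'⁻¹ U`, the ring `Γ(Z', O)` is the ring-level universal first order
thickening of `Γ(Z, i⁻¹ O)` over `Γ(X, U)`.
-/

set_option autoImplicit false
universe u
open AlgebraicGeometry CategoryTheory Limits TopologicalSpace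

namespace Groth.Agent.Lib.helper7.UnivThick

open Groth.Agent.Lib.Helper5.FormallyEtale

theorem up_of_isUnivThickening {Z X Z' : Scheme.{u}} (h : Z ⟶ X) (i : Z ⟶ Z') (h' : Z' ⟶ X)
    (hu : OmegaSh.IsUnivThickening h i h') {U : X.Opens} (hU : IsAffineOpen U) {O : Z'.Opens}
    (hO : IsAffineOpen O) (e : O ≤ h' ⁻¹ᵁ U)
    (A₁ : Type u) [CommRing A₁] (I : Ideal A₁) (hI : I ^ 2 = ⊥)
    (β : Γ(X, U) →+* A₁) (α : Γ(Z, i ⁻¹ᵁ O) →+* A₁ ⧸ I)
    (hαβ : α.comp ((i.app O).hom.comp (h'.appLE U O e).hom) = (Ideal.Quotient.mk I).comp β) :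
    ∃! a' : Γ(Z', O) →+* A₁, a'.comp (h'.appLE U O e).hom = β ∧
      (Ideal.Quotient.mk I).comp a' = α.comp (i.app O).hom := by
  have hci : IsClosedImmersion i := hu.1.1.1
  have hV : IsAffineOpen (i ⁻¹ᵁ O) := hO.preimage i
  set j := Spec.map (CommRingCat.ofHom (Ideal.Quotient.mk I)) with hj
  have hjt : MoreMor.IsFirstOrderThickening j := thickening_Spec A₁ I hI
  let a : Spec (CommRingCat.of (A₁ ⧸ I)) ⟶ Z := Spec.map (CommRingCat.ofHom α) ≫ hV.fromSpec
  let b : Spec (CommRingCat.of A₁) ⟶ X := Spec.map (CommRingCat.ofHom β) ≫ hU.fromSpec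
  have hiO : Spec.map (i.app O) ≫ hO.fromSpec = hV.fromSpec ≫ i := by
    rw [i.app_eq_appLE]
    exact IsAffineOpen.SpecMap_appLE_fromSpec i hO hV le_rfl
  have hh'O : Spec.map (h'.appLE U O e) ≫ hU.fromSpec = hO.fromSpec ≫ h' :=
    IsAffineOpen.SpecMap_appLE_fromSpec h' hU hO e
  have w : j ≫ b = a ≫ h := by
    show j ≫ Spec.map (CommRingCat.ofHom β) ≫ hU.fromSpec =
      (Spec.map (CommRingCat.ofHom α) ≫ hV.fromSpec) ≫ h
    rw [← Category.assoc, hj, Spec_map_ofHom_comp, ← hαβ, ← Spec_map_ofHom_comp,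
      ← Spec_map_ofHom_comp, ← hu.2.1]
    show (Spec.map (CommRingCat.ofHom α) ≫ Spec.map (i.app O) ≫ Spec.map (h'.appLE U O e)) ≫
      hU.fromSpec = _
    rw [Category.assoc, Category.assoc, hh'O, ← Category.assoc (Spec.map (i.app O)), hiO]
    simp only [Category.assoc]
  obtain ⟨l, ⟨hl1, hl2⟩, hlu⟩ := hu.2.2 _ _ j b a hjt w
  have hrange : Set.range l ⊆ Set.range hO.fromSpec := by
    rintro _ ⟨y, rfl⟩
    obtain ⟨z, rfl⟩ := UnivThick.surj j hjt y
    have h1 : l (j z) = i (a z) := by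
      have := congrArg (fun k : Spec (CommRingCat.of (A₁ ⧸ I)) ⟶ Z' => k z) hl1
      simpa using this
    rw [h1, hO.range_fromSpec]
    have h2 : a z ∈ i ⁻¹ᵁ O := by
      have : a z ∈ Set.range hV.fromSpec := ⟨Spec.map (CommRingCat.ofHom α) z, rfl⟩
      rw [hV.range_fromSpec] at this
      exact this
    exact h2
  let l₀ : Spec (CommRingCat.of A₁) ⟶ Spec Γ(Z', O) := IsOpenImmersion.lift hO.fromSpec l hrange
  have hl₀ : l₀ ≫ hO.fromSpec = l := IsOpenImmersion.lift_fac _ _ _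
  let a' : Γ(Z', O) →+* A₁ := (Spec.preimage l₀).hom
  have ha' : Spec.map (CommRingCat.ofHom a') = l₀ := Spec.map_preimage l₀
  -- the two computations, for an arbitrary ring map
  have key1 : ∀ a'' : Γ(Z', O) →+* A₁,
      (Spec.map (CommRingCat.ofHom a'') ≫ hO.fromSpec) ≫ h' = b ↔
        a''.comp (h'.appLE U O e).hom = β := by
    intro a''
    constructor
    · intro H
      apply Spec_map_ofHom_inj
      rw [← Spec_map_ofHom_comp, ← cancel_mono hU.fromSpec]
      show (Spec.map (CommRingCat.ofHom a'') ≫ Spec.map (h'.appLE U O e)) ≫ hU.fromSpec = b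
      rw [Category.assoc, hh'O, ← Category.assoc, H]
    · intro H
      show _ = Spec.map (CommRingCat.ofHom β) ≫ hU.fromSpec
      rw [← H, ← Spec_map_ofHom_comp]
      show _ = (Spec.map (CommRingCat.ofHom a'') ≫ Spec.map (h'.appLE U O e)) ≫ hU.fromSpec
      simp only [Category.assoc]
      rw [hh'O]
  have key2 : ∀ a'' : Γ(Z', O) →+* A₁,
      j ≫ (Spec.map (CommRingCat.ofHom a'') ≫ hO.fromSpec) = a ≫ i ↔
        (Ideal.Quotient.mk I).comp a'' = α.comp (i.app O).hom := by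
    intro a''
    have hR : a ≫ i = (Spec.map (CommRingCat.ofHom α) ≫ Spec.map (i.app O)) ≫ hO.fromSpec := by
      show (Spec.map (CommRingCat.ofHom α) ≫ hV.fromSpec) ≫ i = _
      rw [Category.assoc, Category.assoc, hiO]
    constructor
    · intro H
      apply Spec_map_ofHom_inj
      rw [← Spec_map_ofHom_comp, ← Spec_map_ofHom_comp, ← cancel_mono hO.fromSpec]
      show (j ≫ Spec.map (CommRingCat.ofHom a'')) ≫ hO.fromSpec =
        (Spec.map (CommRingCat.ofHom α) ≫ Spec.map (i.app O)) ≫ hO.fromSpec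
      rw [Category.assoc, H, hR]
    · intro H
      rw [hR, ← Category.assoc, hj, Spec_map_ofHom_comp, H, ← Spec_map_ofHom_comp]
      rfl
  refine ⟨a', ⟨?_, ?_⟩, ?_⟩
  · apply (key1 a').mp
    rw [ha', hl₀, hl2]
  · apply (key2 a').mp
    rw [ha', hl₀, hl1]
  · rintro a'' ⟨h1, h2⟩
    have e1 : Spec.map (CommRingCat.ofHom a'') ≫ hO.fromSpec = l :=
      hlu _ ⟨(key2 a'').mpr h2, (key1 a'').mpr h1⟩
    apply Spec_map_ofHom_inj
    rw [ha', ← cancel_mono hO.fromSpec, e1, hl₀]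

end Groth.Agent.Lib.helper7.UnivThick
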