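import Mathlib
import Groth.Prelude.Def_Omega3
import Groth.Agent.Lib.Helper7.UnivThickAlg

/-!
# Ring-level universal first order thickenings (helper7)
-/

set_option autoImplicit false
universe u
open TrivSqZeroExt KaehlerDifferential TensorProduct

namespace Groth.Agent.Lib.helper7.UnivThickRing

section Basic

variable {A B B' : Type u} [CommRing A] [CommRing B] [CommRing B'] [Algebra A B] [Algebra A B']
  (π : B' →ₐ[A] B) (h : OmegaSh.IsUnivThickeningRing A B B' π)

/-- descending an algebra map along the surjection `π` -/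
lemma exists_desc {B₁ : Type u} [CommRing B₁] [Algebra A B₁] (hπ : Function.Surjective π)
    (q₀ : B' →ₐ[A] B₁) (hq : ∀ c, π c = 0 → q₀ c = 0) :
    ∃ abar : B →ₐ[A] B₁, abar.comp π = q₀ := by
  let e : (B' ⧸ RingHom.ker π) ≃ₐ[A] B := Ideal.quotientKerAlgEquivOfSurjective hπ
  let q : (B' ⧸ RingHom.ker π) →ₐ[A] B₁ :=
    Ideal.Quotient.liftₐ (RingHom.ker π) q₀ (fun c hc => hq c hc)
  refine ⟨q.comp e.symm.toAlgHom, ?_⟩
  ext x
  have h1 : e.symm (π x) = Ideal.Quotient.mk (RingHom.ker π) x := by
    rw [AlgEquiv.symm_apply_eq]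
    rfl
  show q (e.symm (π x)) = q₀ x
  rw [h1]
  rfl

include h in
theorem formallyUnramified_of_isUnivThickeningRing : Algebra.FormallyUnramified A B' := by
  have hC : RingHom.ker π.toRingHom * RingHom.ker π.toRingHom = ⊥ := by
    rw [← pow_two]
    exact h.2.1
  apply UnivThickAlg.formallyUnramified_of_unique_lift A B' (RingHom.ker π.toRingHom) hC
  intro B₁ _ I hI f g hfg hdiff hCI
  letI : Algebra A B₁ := (f.comp (algebraMap A B')).toAlgebra
  let fA : B' →ₐ[A] B₁ := { f with commutes' := fun r => rfl }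
  let gA : B' →ₐ[A] B₁ := { g with commutes' := fun r => (RingHom.congr_fun hfg r).symm }
  obtain ⟨abar, habar⟩ := exists_desc π h.1 ((Ideal.Quotient.mkₐ A I).comp fA) (fun c hc => by
    show Ideal.Quotient.mk I (f c) = 0
    rw [Ideal.Quotient.eq_zero_iff_mem]
    exact hCI c hc)
  obtain ⟨a', -, huniq⟩ := h.2.2 B₁ I hI abar
  have e1 : fA = a' := huniq fA habar.symm
  have e2 : gA = a' := by
    apply huniq
    rw [habar]
    ext x
    show Ideal.Quotient.mk I (g x) = Ideal.Quotient.mk I (f x)
    rw [Ideal.Quotient.eq]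
    have := hdiff x
    rw [← neg_sub] at this
    exact (Ideal.neg_mem_iff _).mp this
  have : fA = gA := e1.trans e2.symm
  ext x
  exact AlgHom.congr_fun this x

end Basic

section ExtDer

variable {A B B' : Type u} [CommRing A] [CommRing B] [CommRing B'] [Algebra A B] [Algebra A B']
  [Algebra B' B] [IsScalarTower A B' B]
  {N : Type u} [AddCommGroup N] [Module B N] [Module B' N] [IsScalarTower B' B N]

/-- the opposite action, for `TrivSqZeroExt` -/
noncomputable def opMod : Module B'ᵐᵒᵖ N :=
  Module.compHom _ ((RingHom.id B').fromOpposite mul_comm)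

attribute [local instance] opMod

lemma isCentral : @IsCentralScalar B' N _ (opMod (B' := B') (N := N)).toSMul := ⟨fun _ _ => rfl⟩

attribute [local instance] isCentral

variable (D : A →+ N)
  (hD : ∀ a₁ a₂, D (a₁ * a₂) = algebraMap A B' a₁ • D a₂ + algebraMap A B' a₂ • D a₁)

include hD in
lemma D_one : D 1 = 0 := by
  have := hD 1 1
  rw [mul_one, (algebraMap A B').map_one, one_smul] at this
  have h2 : D 1 + 0 = D 1 + D 1 := by rw [add_zero]; exact this
  exact (add_left_cancel h2).symm

/-- the twisted structure map `a ↦ (a, D a)` -/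
noncomputable def rho : A →+* TrivSqZeroExt B' N where
  toFun a := inl (algebraMap A B' a) + inr (D a)
  map_one' := by
    rw [D_one D hD, inr_zero, add_zero, map_one, inl_one]
  map_mul' a₁ a₂ := by
    ext
    · simp
    · simp only [snd_add, snd_inl, snd_inr, zero_add, snd_mul, fst_add, fst_inl, fst_inr, add_zero,
        op_smul_eq_smul]
      exact hD a₁ a₂
  map_zero' := by
    rw [map_zero, map_zero, inr_zero, add_zero, inl_zero]
  map_add' a₁ a₂ := by
    rw [map_add, map_add, inl_add, inr_add]
    abel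

/-- the square zero ideal `{x | π x.fst = 0}` -/
noncomputable def Iq : Ideal (TrivSqZeroExt B' N) :=
  (RingHom.ker (algebraMap B' B)).comap (fstHom B' B' N).toRingHom

lemma mem_Iq (x : TrivSqZeroExt B' N) : x ∈ Iq (B := B) (B' := B') (N := N) ↔
    algebraMap B' B x.fst = 0 := Iff.rfl

lemma ker_smul (c : B') (hc : algebraMap B' B c = 0) (n : N) : c • n = 0 := by
  rw [← algebraMap_smul B c n, hc, zero_smul]

lemma Iq_sq (hC : RingHom.ker (algebraMap B' B) ^ 2 = ⊥) :
    Iq (B := B) (B' := B') (N := N) ^ 2 = ⊥ := by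
  rw [eq_bot_iff, pow_two, Ideal.mul_le]
  intro x hx y hy
  rw [mem_Iq] at hx hy
  rw [Ideal.mem_bot]
  ext
  · rw [fst_mul, fst_zero]
    have : x.fst * y.fst ∈ RingHom.ker (algebraMap B' B) ^ 2 := by
      rw [pow_two]
      exact Ideal.mul_mem_mul hx hy
    rw [hC, Ideal.mem_bot] at this
    exact this
  · rw [snd_mul, snd_zero, op_smul_eq_smul, ker_smul _ hx, ker_smul _ hy, add_zero]

include hD in
/-- **Extension of derivations to the universal thickening.** -/
theorem exists_extension
    (h : OmegaSh.IsUnivThickeningRing A B B' (IsScalarTower.toAlgHom A B' B)) :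
    ∃ D' : B' →+ N, (∀ x y, D' (x * y) = x • D' y + y • D' x) ∧
      ∀ a, D' (algebraMap A B' a) = D a := by
  set π := IsScalarTower.toAlgHom A B' B with hπ
  have hC : RingHom.ker (algebraMap B' B) ^ 2 = ⊥ := h.2.1
  letI : Algebra A (TrivSqZeroExt B' N) := (rho D hD).toAlgebra
  have halg : ∀ a, algebraMap A (TrivSqZeroExt B' N) a = inl (algebraMap A B' a) + inr (D a) :=
    fun a => rfl
  let I := Iq (B := B) (B' := B') (N := N)
  have hI : I ^ 2 = ⊥ := Iq_sq hC
  -- the map `B' → T/I`
  let q₀ : B' →ₐ[A] TrivSqZeroExt B' N ⧸ I :=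
    { (Ideal.Quotient.mk I).comp (inlHom B' N) with
      commutes' := fun a => by
        show Ideal.Quotient.mk I (inl (algebraMap A B' a)) =
          Ideal.Quotient.mk I (algebraMap A (TrivSqZeroExt B' N) a)
        rw [Ideal.Quotient.eq, halg, mem_Iq]
        simp }
  obtain ⟨abar, habar⟩ := UnivThickRing.exists_desc π h.1 q₀ (fun c hc => by
    show Ideal.Quotient.mk I (inl c) = 0
    rw [Ideal.Quotient.eq_zero_iff_mem, mem_Iq]
    exact hc)
  obtain ⟨a', ha', -⟩ := h.2.2 (TrivSqZeroExt B' N) I hI abar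
  rw [habar] at ha'
  -- first components
  have hfst : ∀ x, algebraMap B' B (a' x).fst = algebraMap B' B x := by
    intro x
    have h1 := AlgHom.congr_fun ha' x
    have h2 : Ideal.Quotient.mk I (a' x) = Ideal.Quotient.mk I (inl x) := h1
    rw [Ideal.Quotient.eq, mem_Iq] at h2
    simpa [sub_eq_zero] using h2
  let fstA : TrivSqZeroExt B' N →ₐ[A] B' :=
    { (fstHom B' B' N).toRingHom with
      commutes' := fun a => by
        show (algebraMap A (TrivSqZeroExt B' N) a).fst = algebraMap A B' a
        rw [halg]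
        simp }
  obtain ⟨abar₀, habar₀⟩ := UnivThickRing.exists_desc π h.1
    (Ideal.Quotient.mkₐ A (RingHom.ker π.toRingHom)) (fun c hc => by
      show Ideal.Quotient.mk _ c = 0
      rw [Ideal.Quotient.eq_zero_iff_mem]
      exact hc)
  obtain ⟨a'', -, hu⟩ := h.2.2 B' (RingHom.ker π.toRingHom) h.2.1 abar₀
  have e1 : AlgHom.id A B' = a'' := hu _ (by rw [habar₀]; rfl)
  have e2 : fstA.comp a' = a'' := hu _ (by
    rw [habar₀]
    ext x
    show Ideal.Quotient.mk _ (a' x).fst = Ideal.Quotient.mk _ x
    rw [Ideal.Quotient.eq]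
    show algebraMap B' B ((a' x).fst - x) = 0
    rw [map_sub, hfst, sub_self])
  have hid : ∀ x, (a' x).fst = x := by
    intro x
    have := AlgHom.congr_fun (e2.trans e1.symm) x
    exact this
  refine ⟨{ toFun := fun x => (a' x).snd, map_zero' := by rw [map_zero, snd_zero],
            map_add' := fun x y => by rw [map_add, snd_add] }, ?_, ?_⟩
  · intro x y
    show (a' (x * y)).snd = x • (a' y).snd + y • (a' x).snd
    rw [map_mul, snd_mul, op_smul_eq_smul, hid, hid]
  · intro a
    show (a' (algebraMap A B' a)).snd = D a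
    rw [a'.commutes, halg]
    simp

end ExtDer

end Groth.Agent.Lib.helper7.UnivThickRing
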