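import Mathlib
import Groth.Prelude.Def_Omega3
import Groth.Agent.Lib.Helper7.UnivThickRing

/-!
# Differentials of a universal first order thickening (helper7)
-/

set_option autoImplicit false
universe u
open KaehlerDifferential TensorProduct

namespace Groth.Agent.Lib.helper7.UnivThickRing

section Main

variable (R : Type u) [CommRing R] (A : Type u) [CommRing A] [Algebra R A] (B : Type u) [CommRing B]
  [Algebra A B] (B' : Type u) [CommRing B'] [Algebra A B']
  [Algebra R B'] [IsScalarTower R A B'] [Algebra B' B] [IsScalarTower A B' B]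

/-- the source of the comparison map -/
abbrev M₁ : Type u := B ⊗[B'] (B' ⊗[A] Ω[A⁄R])

/-- the derivation `a ↦ 1 ⊗ (1 ⊗ da)` -/
noncomputable def D₀ : A →+ M₁ R A B B' where
  toFun a := (1 : B) ⊗ₜ[B'] ((1 : B') ⊗ₜ[A] KaehlerDifferential.D R A a)
  map_zero' := by simp
  map_add' a b := by simp [tmul_add]

lemma one_tmul_smul (a : A) (ω : Ω[A⁄R]) :
    (1 : B) ⊗ₜ[B'] ((1 : B') ⊗ₜ[A] (a • ω)) =
      algebraMap A B' a • ((1 : B) ⊗ₜ[B'] ((1 : B') ⊗ₜ[A] ω)) := by
  rw [TensorProduct.tmul_smul, ← TensorProduct.smul_tmul, TensorProduct.smul_tmul',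
    algebraMap_smul]

lemma D₀_mul (a₁ a₂ : A) : D₀ R A B B' (a₁ * a₂) =
    algebraMap A B' a₁ • D₀ R A B B' a₂ + algebraMap A B' a₂ • D₀ R A B B' a₁ := by
  show (1 : B) ⊗ₜ[B'] ((1 : B') ⊗ₜ[A] KaehlerDifferential.D R A (a₁ * a₂)) = _
  rw [Derivation.leibniz, TensorProduct.tmul_add, TensorProduct.tmul_add, one_tmul_smul,
    one_tmul_smul]
  rfl

variable [Algebra.FormallyUnramified A B]

theorem main (h : OmegaSh.IsUnivThickeningRing A B B' (IsScalarTower.toAlgHom A B' B)) :
    Algebra.FormallyUnramified A B' ∧
      Function.Bijective ((KaehlerDifferential.mapBaseChange R A B').baseChange B) := by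
  have hfu : Algebra.FormallyUnramified A B' :=
    formallyUnramified_of_isUnivThickeningRing (IsScalarTower.toAlgHom A B' B) h
  refine ⟨hfu, ?_, ?_⟩
  · -- injective: construct a retraction
    obtain ⟨D', hD'leib, hD'ext⟩ := exists_extension (N := M₁ R A B B') (D₀ R A B B')
      (D₀_mul R A B B') h
    letI : Module R (M₁ R A B B') := Module.compHom _ (algebraMap R B')
    haveI : IsScalarTower R B' (M₁ R A B B') := ⟨fun r b' m => by
      show (r • b') • m = algebraMap R B' r • (b' • m)
      rw [Algebra.smul_def, mul_smul]⟩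
    have hzero : ∀ r : R, D' (algebraMap R B' r) = 0 := by
      intro r
      rw [IsScalarTower.algebraMap_apply R A B', hD'ext]
      show (1 : B) ⊗ₜ[B'] ((1 : B') ⊗ₜ[A] KaehlerDifferential.D R A (algebraMap R A r)) = 0
      rw [Derivation.map_algebraMap, TensorProduct.tmul_zero, TensorProduct.tmul_zero]
    let D'lin : B' →ₗ[R] M₁ R A B B' :=
      { D' with
        map_smul' := fun r x => by
          show D' (r • x) = algebraMap R B' r • D' x
          rw [Algebra.smul_def, hD'leib, hzero r, smul_zero, add_zero] }
    let Dder : Derivation R B' (M₁ R A B B') := Derivation.mk' D'lin hD'leib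
    let ψ₀ : Ω[B'⁄R] →ₗ[B'] M₁ R A B B' := Dder.liftKaehlerDifferential
    let ψ : B ⊗[B'] Ω[B'⁄R] →ₗ[B] M₁ R A B B' := LinearMap.liftBaseChange B ψ₀
    have key : ∀ ω : Ω[A⁄R], ψ₀ (KaehlerDifferential.map R R A B' ω) =
        (1 : B) ⊗ₜ[B'] ((1 : B') ⊗ₜ[A] ω) := by
      intro ω
      have hω : ω ∈ Submodule.span A (Set.range (KaehlerDifferential.D R A)) := by
        rw [KaehlerDifferential.span_range_derivation]
        exact Submodule.mem_top
      induction hω using Submodule.span_induction with
      | mem x hx =>
        obtain ⟨a, rfl⟩ := hx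
        rw [KaehlerDifferential.map_D, Derivation.liftKaehlerDifferential_comp_D]
        exact hD'ext a
      | zero => simp
      | add x y _ _ hx hy => rw [map_add, map_add, hx, hy, TensorProduct.tmul_add,
          TensorProduct.tmul_add]
      | smul a x _ hx =>
        rw [map_smul, ← algebraMap_smul B' a, map_smul, hx, one_tmul_smul]
    have hleft : ∀ x : M₁ R A B B',
        ψ ((KaehlerDifferential.mapBaseChange R A B').baseChange B x) = x := by
      intro x
      induction x using TensorProduct.induction_on with
      | zero => simp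
      | add x y hx hy => rw [map_add, map_add, hx, hy]
      | tmul b y =>
        induction y using TensorProduct.induction_on with
        | zero => simp
        | add y z hy hz => rw [TensorProduct.tmul_add, map_add, map_add, hy, hz]
        | tmul b' ω =>
          rw [LinearMap.baseChange_tmul, KaehlerDifferential.mapBaseChange_tmul,
            LinearMap.liftBaseChange_tmul, map_smul, key]
          rw [TensorProduct.smul_tmul', TensorProduct.smul_tmul, TensorProduct.smul_tmul',
            smul_eq_mul, mul_one, TensorProduct.smul_tmul', smul_eq_mul, mul_one]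
    exact Function.LeftInverse.injective hleft
  · -- surjective
    have hs : Function.Surjective (KaehlerDifferential.mapBaseChange R A B') := by
      intro y
      have : KaehlerDifferential.map R A B' B' y = 0 := Subsingleton.elim _ _
      exact (KaehlerDifferential.exact_mapBaseChange_map R A B' y).mp this
    intro z
    induction z using TensorProduct.induction_on with
    | zero => exact ⟨0, map_zero _⟩
    | tmul b y =>
      obtain ⟨x, rfl⟩ := hs y
      exact ⟨b ⊗ₜ x, LinearMap.baseChange_tmul _ _ _⟩
    | add z w hz hw =>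
      obtain ⟨x, rfl⟩ := hz
      obtain ⟨x', rfl⟩ := hw
      exact ⟨x + x', map_add _ _ _⟩

end Main

end Groth.Agent.Lib.helper7.UnivThickRing
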