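import Groth.Agent.Lib.Helper7.UnivThickOmegaAlg
import Groth.Agent.Lib.Helper7.UnivThick11
import Groth.Agent.Lib.Helper7.UnivThickRing2
import Groth.Agent.Lib.Helper7.ConormalTrans
import Groth.Agent.Lib.Helper7.OmegaSeq

/-!
# Differentials of a universal first order thickening (helper7)

For `h : Z ⟶ X` formally unramified with universal first order thickening `(i, h')` and
`q : X ⟶ S`, the pullback along `i` of `h'^* Ω_{X/S} → Ω_{Z'/S}` is an isomorphism.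
-/

set_option autoImplicit false
set_option linter.style.haveILetI false
set_option linter.unusedSectionVars false
universe u
open CategoryTheory CategoryTheory.Limits AlgebraicGeometry TopologicalSpace Opposite
open Scheme.Modules

namespace Groth.Agent.Lib.helper7.UnivThickOmega

open Groth.Agent.Lib.helper8.PullbackUnit OmegaChart Groth.Agent.Lib.helper7.UnivThick

section Ring

variable {Z X Z' : Scheme.{u}} (h : Z ⟶ X) (i : Z ⟶ Z') (h' : Z' ⟶ X)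
  (hu : OmegaSh.IsUnivThickening h i h')

include hu in
/-- ring-level universal thickening on affine charts of a scheme-level universal thickening -/
theorem isUnivThickeningRing_chart {U : X.Opens} (hU : IsAffineOpen U) {O : Z'.Opens}
    (hO : IsAffineOpen O) (eOU : O ≤ h' ⁻¹ᵁ U) (eTU : i ⁻¹ᵁ O ≤ h ⁻¹ᵁ U) :
    letI := (h'.appLE U O eOU).hom.toAlgebra
    letI := (i.appLE O (i ⁻¹ᵁ O) le_rfl).hom.toAlgebra
    letI := (h.appLE U (i ⁻¹ᵁ O) eTU).hom.toAlgebra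
    ∀ [IsScalarTower Γ(X, U) Γ(Z', O) Γ(Z, i ⁻¹ᵁ O)],
    OmegaSh.IsUnivThickeningRing Γ(X, U) Γ(Z, i ⁻¹ᵁ O) Γ(Z', O)
      (IsScalarTower.toAlgHom Γ(X, U) Γ(Z', O) Γ(Z, i ⁻¹ᵁ O)) := by
  letI algAB' := (h'.appLE U O eOU).hom.toAlgebra
  letI algB'B := (i.appLE O (i ⁻¹ᵁ O) le_rfl).hom.toAlgebra
  letI algAB := (h.appLE U (i ⁻¹ᵁ O) eTU).hom.toAlgebra
  intro hST
  have hci : IsClosedImmersion i := hu.1.1.1
  have happ : i.appLE O (i ⁻¹ᵁ O) le_rfl = i.app O := (i.app_eq_appLE (U := O)).symm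
  have hπ : ∀ x, (IsScalarTower.toAlgHom Γ(X, U) Γ(Z', O) Γ(Z, i ⁻¹ᵁ O)) x = (i.app O).hom x := by
    intro x
    change (i.appLE O (i ⁻¹ᵁ O) le_rfl).hom x = _
    rw [happ]
  refine ⟨?_, ?_, ?_⟩
  · intro y
    obtain ⟨x, hx⟩ := i.app_surjective O hO y
    exact ⟨x, (hπ x).trans hx⟩
  · have hk : RingHom.ker (IsScalarTower.toAlgHom Γ(X, U) Γ(Z', O) Γ(Z, i ⁻¹ᵁ O)).toRingHom =
        RingHom.ker (i.app O).hom := by
      ext x
      rw [RingHom.mem_ker, RingHom.mem_ker]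
      exact (hπ x) ▸ Iff.rfl
    rw [hk, pow_two]
    exact ker_app_mul_self i hu.1 O hO
  · intro A₁ _ _ I hI a
    have hαβ : a.toRingHom.comp ((i.app O).hom.comp (h'.appLE U O eOU).hom) =
        (Ideal.Quotient.mk I).comp (algebraMap Γ(X, U) A₁) := by
      ext r
      change a ((i.app O).hom (algebraMap Γ(X, U) Γ(Z', O) r)) = _
      rw [← hπ, IsScalarTower.toAlgHom_apply, ← IsScalarTower.algebraMap_apply, a.commutes]
      rfl
    obtain ⟨a', ⟨ha'1, ha'2⟩, ha'u⟩ := up_of_isUnivThickening h i h' hu hU hO eOU A₁ I hI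
      (algebraMap Γ(X, U) A₁) a.toRingHom hαβ
    refine ⟨{ a' with commutes' := fun r => RingHom.congr_fun ha'1 r }, ?_, ?_⟩
    · ext x
      change (Ideal.Quotient.mk I) (a' x) = a (IsScalarTower.toAlgHom Γ(X, U) Γ(Z', O) _ x)
      rw [hπ]
      exact RingHom.congr_fun ha'2 x
    · intro a'' ha''
      have h1 : a''.toRingHom.comp (h'.appLE U O eOU).hom = algebraMap Γ(X, U) A₁ := by
        ext r
        exact a''.commutes r
      have h2 : (Ideal.Quotient.mk I).comp a''.toRingHom = a.toRingHom.comp (i.app O).hom := by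
        ext x
        have := AlgHom.congr_fun ha'' x
        change (Ideal.Quotient.mk I) (a'' x) = a (IsScalarTower.toAlgHom Γ(X, U) Γ(Z', O) _ x)
          at this
        rw [hπ] at this
        exact this
      have h3 := ha'u a''.toRingHom ⟨h1, h2⟩
      ext x
      exact RingHom.congr_fun h3 x

end Ring


section Main

variable {Z X S Z' : Scheme.{u}} (h : Z ⟶ X) (q : X ⟶ S) [FormallyUnramified h]
  (i : Z ⟶ Z') (h' : Z' ⟶ X) (hu : OmegaSh.IsUnivThickening h i h')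
  {ΩX : X.Modules} (dX : OmegaSh.Der q ΩX) (hdX : OmegaSh.IsUniversal dX)
  {ΩZ' : Z'.Modules} (dZ' : OmegaSh.Der (h' ≫ q) ΩZ') (hdZ' : OmegaSh.IsUniversal dZ')
  (c : (Scheme.Modules.pullback h').obj ΩX ⟶ ΩZ') (hc : OmegaSh.IsDiffCompat h' dX dZ' c)

include hu hdX hdZ' hc in
theorem chart {W : S.Opens} (hW : IsAffineOpen W) {U : X.Opens} (hU : IsAffineOpen U)
    (eUW : U ≤ q ⁻¹ᵁ W) {O : Z'.Opens} (hO : IsAffineOpen O) (eOU : O ≤ h' ⁻¹ᵁ U) :
    Function.Bijective (((Scheme.Modules.pullback i).map c).app (i ⁻¹ᵁ O)).hom := by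
  have hci : IsClosedImmersion i := hu.1.1.1
  have hT : IsAffineOpen (i ⁻¹ᵁ O) := hO.preimage i
  have eT : i ⁻¹ᵁ O ≤ i ⁻¹ᵁ O := le_rfl
  have eOW : O ≤ (h' ≫ q) ⁻¹ᵁ W := fun x hx => eUW (eOU hx)
  have eTU' : i ⁻¹ᵁ O ≤ (i ≫ h') ⁻¹ᵁ U := fun x hx => eOU hx
  have eTU : i ⁻¹ᵁ O ≤ h ⁻¹ᵁ U := by
    rw [← hu.2.1]
    exact eTU'
  letI algRA := (q.appLE W U eUW).hom.toAlgebra
  letI algAB' := (h'.appLE U O eOU).hom.toAlgebra
  letI algRB' := ((h' ≫ q).appLE W O eOW).hom.toAlgebra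
  letI algB'B := (i.appLE O (i ⁻¹ᵁ O) eT).hom.toAlgebra
  letI algAB := (h.appLE U (i ⁻¹ᵁ O) eTU).hom.toAlgebra
  haveI : IsScalarTower Γ(S, W) Γ(X, U) Γ(Z', O) := IsScalarTower.of_algebraMap_eq' (by
    change ((h' ≫ q).appLE W O eOW).hom = (h'.appLE U O eOU).hom.comp (q.appLE W U eUW).hom
    rw [← CommRingCat.hom_comp, Scheme.Hom.appLE_comp_appLE])
  haveI : IsScalarTower Γ(X, U) Γ(Z', O) Γ(Z, i ⁻¹ᵁ O) := IsScalarTower.of_algebraMap_eq' (by
    change (h.appLE U (i ⁻¹ᵁ O) eTU).hom =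
      (i.appLE O (i ⁻¹ᵁ O) eT).hom.comp (h'.appLE U O eOU).hom
    rw [← CommRingCat.hom_comp, Scheme.Hom.appLE_comp_appLE,
      OmegaSeq4.appLE_congr hu.2.1 U (i ⁻¹ᵁ O) eTU' eTU])
  haveI : Algebra.FormallyUnramified Γ(X, U) Γ(Z, i ⁻¹ᵁ O) :=
    h.formallyUnramified_appLE hU hT eTU
  have hring := isUnivThickeningRing_chart h i h' hu hU hO eOU eTU
  have hbij := (UnivThickRing.main Γ(S, W) Γ(X, U) Γ(Z, i ⁻¹ᵁ O) Γ(Z', O) hring).2
  obtain ⟨ψ₁, hψ₁⟩ := OmegaStruct.exists_sectionsEquiv q dX hdX hU hW eUW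
  obtain ⟨ψ₂, hψ₂⟩ := OmegaStruct.exists_sectionsEquiv (h' ≫ q) dZ' hdZ' hO hW eOW
  haveI : ΩX.IsQuasicoherent := OmegaQCoh.isQuasicoherent_of_isUniversal q dX hdX
  haveI : ΩZ'.IsQuasicoherent := OmegaQCoh.isQuasicoherent_of_isUniversal (h' ≫ q) dZ' hdZ'
  haveI : ((Scheme.Modules.pullback h').obj ΩX).IsQuasicoherent :=
    Groth.Agent.Lib.helper16.QCohPullback.isQuasicoherent_pullback h' ΩX
  have hk₁ : IsBC (algebraMap Γ(X, U) Γ(Z', O)) (ρ h' eOU ΩX) := isBC_ρ h' hU hO eOU ΩX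
  have hk₂ : IsBC (algebraMap Γ(Z', O) Γ(Z, i ⁻¹ᵁ O)) (ρ i eT ((Scheme.Modules.pullback h').obj ΩX)) :=
    isBC_ρ i hO hT eT _
  have hk₃ : IsBC (algebraMap Γ(Z', O) Γ(Z, i ⁻¹ᵁ O)) (ρ i eT ΩZ') := isBC_ρ i hO hT eT ΩZ'
  have hc' : ∀ b : Γ(X, U), linApp c O (ρ h' eOU ΩX (dX.app U b)) =
      dZ'.app O (algebraMap Γ(X, U) Γ(Z', O) b) := fun b => diffCompat_app h' dX dZ' c hc eOU b
  have hic : ∀ x, linApp ((Scheme.Modules.pullback i).map c) (i ⁻¹ᵁ O)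
      (ρ i eT ((Scheme.Modules.pullback h').obj ΩX) x) = ρ i eT ΩZ' (linApp c O x) := fun x =>
    ConormalTrans.ρ_naturality i c eT x
  exact OmegaSeqAlg.thick_bijective Γ(S, W) Γ(X, U) Γ(Z', O) Γ(Z, i ⁻¹ᵁ O) (dX.app U) ψ₁ hψ₁
    (dZ'.app O) ψ₂ hψ₂ (ρ h' eOU ΩX) hk₁ (linApp c O) hc' (ρ i eT _) hk₂ (ρ i eT ΩZ') hk₃
    (linApp ((Scheme.Modules.pullback i).map c) (i ⁻¹ᵁ O)) hic hbij

include hu hdX hdZ' hc in
/-- **`i^*(h'^*Ω_{X/S} → Ω_{Z'/S})` is an isomorphism for a universal first order thickening.** -/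
theorem main : IsIso ((Scheme.Modules.pullback i).map c) := by
  have hci : IsClosedImmersion i := hu.1.1.1
  haveI : ΩX.IsQuasicoherent := OmegaQCoh.isQuasicoherent_of_isUniversal q dX hdX
  haveI : ΩZ'.IsQuasicoherent := OmegaQCoh.isQuasicoherent_of_isUniversal (h' ≫ q) dZ' hdZ'
  haveI : ((Scheme.Modules.pullback h').obj ΩX).IsQuasicoherent :=
    Groth.Agent.Lib.helper16.QCohPullback.isQuasicoherent_pullback h' ΩX
  haveI : ((Scheme.Modules.pullback i).obj ((Scheme.Modules.pullback h').obj ΩX)).IsQuasicoherent :=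
    Groth.Agent.Lib.helper16.QCohPullback.isQuasicoherent_pullback i _
  haveI : ((Scheme.Modules.pullback i).obj ΩZ').IsQuasicoherent :=
    Groth.Agent.Lib.helper16.QCohPullback.isQuasicoherent_pullback i _
  refine KerSections.isIso_of_bijective_cover _
    (fun t : OmegaSeq.Chart3 h' q => i ⁻¹ᵁ t.1.1.1) (fun t => t.1.1.2.preimage i) (fun z => ?_)
    (fun t => chart h q i h' hu dX hdX dZ' hdZ' c hc t.1.2.2.2 t.1.2.1.2 t.2.2 t.1.1.2 t.2.1)
  obtain ⟨t, ht⟩ := OmegaSeq.chart3_cover h' q (i z)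
  exact ⟨t, ht⟩

end Main

end Groth.Agent.Lib.helper7.UnivThickOmega
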