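import Mathlib
import Groth.Agent.Lib.Helper7.SnapperMain
import Groth.Agent.Lib.Helper8.DevSupp
import Groth.Agent.Lib.Helper18.HHSum
import Groth.Agent.Lib.Helper18.HHConseq

/-!
# Growth of `h^p(X, F ⊗ L^n)`: basic inequalities (helper7)

* `hh k X F L p n = dim_k H^p(X, F ⊗ L^{⊗ n})`
* `hh_iso`, `hh_zero`
* `hh_mid_le`, `hh_left_succ_le`, `hh_left_zero_le`: inequalities from the long exact sequence of a short
  exact sequence of coherent modules tensored with `L^n`
* `hh_push`: projection formula along a closed immersion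
* `Bd k X β F L`: `∀ p, ∃ C, ∀ n, hh k X F L p n ≤ C * β p n`, with `Bd.iso`, `Bd.zero`, `Bd.ext`, `Bd.left`,
  `Bd.mono`
-/

set_option autoImplicit false
set_option linter.unusedSectionVars false
set_option linter.style.haveILetI false
universe u

open CategoryTheory CategoryTheory.Limits AlgebraicGeometry Opposite TopologicalSpace Module

namespace Groth.Agent.Lib.helper7.Growth

open Groth.Agent.Lib.Lead.ModTensor Groth.Agent.Lib.Helper18
open Scheme.Modules

section LinAlg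

variable {K : Type*} [Field K] {V₁ V₂ V₃ : Type*}
  [AddCommGroup V₁] [Module K V₁] [AddCommGroup V₂] [Module K V₂] [AddCommGroup V₃] [Module K V₃]

theorem finrank_le_add_of_exact [Module.Finite K V₁] [Module.Finite K V₂] [Module.Finite K V₃]
    (f : V₁ →ₗ[K] V₂) (g : V₂ →ₗ[K] V₃) (hfg : Function.Exact f g) :
    finrank K V₂ ≤ finrank K V₁ + finrank K V₃ := by
  have h1 := LinearMap.finrank_range_add_finrank_ker g
  rw [LinearMap.exact_iff.mp hfg] at h1
  have h2 := LinearMap.finrank_range_le f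
  have h3 : finrank K (LinearMap.range g) ≤ finrank K V₃ := Submodule.finrank_le _
  omega

end LinAlg

section Basic

variable (k : Type u) [Field k] (X : Scheme.{u}) [X.Over (Spec (CommRingCat.of k))]

/-- `h^p(X, F ⊗ L^n)` -/
noncomputable def hh (F L : X.Modules) (p n : ℕ) : ℕ :=
  Module.finrank k (Coh.HH X (CohB1.tensorMod F (CohB1.tensorPow L n)) p)

theorem hh_iso {F G : X.Modules} (e : F ≅ G) (L : X.Modules) (p n : ℕ) :
    hh k X F L p n = hh k X G L p n :=
  (HH.isoEquivOver k (tensorIso e (Iso.refl _)) p).finrank_eq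

theorem hh_zero {N : X.Modules} (hN : IsZero N) (L : X.Modules) (p n : ℕ) : hh k X N L p n = 0 := by
  haveI := Groth.Agent.Lib.helper8.Dev.subsingleton_HH_of_isZero
    (Groth.Agent.Lib.Helper18.Punctual.isZero_tensorMod_left hN (CohB1.tensorPow L n)) p
  exact Module.finrank_zero_of_subsingleton

variable [IsProper (X ↘ Spec (CommRingCat.of k))]

theorem isFLF_tensorPow {L : X.Modules} (hL : PicF.IsInvertible L) (n : ℕ) :
    FlatMod.IsFinLocFreeOfRank 1 (CohB1.tensorPow L n) :=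
  (Groth.Agent.Lib.helper16.FLF.isInvertible_iff_isFinLocFreeOfRank_one _).mp
    (Groth.Agent.Lib.helper12.TensorInv.isInvertible_tensorPow hL n)

theorem finite_tensor {F L : X.Modules} (hF : Coh.IsCoh F) (hL : PicF.IsInvertible L) (p n : ℕ) :
    Module.Finite k (Coh.HH X (CohB1.tensorMod F (CohB1.tensorPow L n)) p) :=
  Groth.Agent.Lib.Lead.ProperEuler.finite_HH k X _
    (Groth.Agent.Lib.Helper18.DegCalc.isCoh_tensorMod hF
      (Groth.Agent.Lib.Lead.CurveInv.isCoh_of_isInvertible X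
        (Groth.Agent.Lib.helper12.TensorInv.isInvertible_tensorPow hL n))) p

variable (S : ShortComplex X.Modules) (hS : S.ShortExact)
  (h₁ : Coh.IsCoh S.X₁) (h₂ : Coh.IsCoh S.X₂) (h₃ : Coh.IsCoh S.X₃)
  {L : X.Modules} (hL : PicF.IsInvertible L)

include hS h₁ h₂ h₃ hL in
theorem hh_mid_le (p n : ℕ) : hh k X S.X₂ L p n ≤ hh k X S.X₁ L p n + hh k X S.X₃ L p n := by
  obtain ⟨w, hS'⟩ := Groth.Agent.Lib.Helper18.DegCalc.shortExact_tensor S hS (isFLF_tensorPow X hL n)
  haveI := finite_tensor k X h₁ hL p n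
  haveI := finite_tensor k X h₂ hL p n
  haveI := finite_tensor k X h₃ hL p n
  exact finrank_le_add_of_exact _ _ (HH.exactOver₂ hS' k p)

include hS h₁ h₂ h₃ hL in
theorem hh_left_succ_le (p n : ℕ) :
    hh k X S.X₁ L (p + 1) n ≤ hh k X S.X₂ L (p + 1) n + hh k X S.X₃ L p n := by
  obtain ⟨w, hS'⟩ := Groth.Agent.Lib.Helper18.DegCalc.shortExact_tensor S hS (isFLF_tensorPow X hL n)
  haveI := finite_tensor k X h₁ hL (p + 1) n
  haveI := finite_tensor k X h₂ hL (p + 1) n
  haveI := finite_tensor k X h₃ hL p n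
  have h := finrank_le_add_of_exact _ _ (HH.exactOver₁ hS' k p)
  exact h.trans (le_of_eq (Nat.add_comm _ _))

include hS h₁ h₂ hL in
theorem hh_left_zero_le (n : ℕ) : hh k X S.X₁ L 0 n ≤ hh k X S.X₂ L 0 n := by
  obtain ⟨w, hS'⟩ := Groth.Agent.Lib.Helper18.DegCalc.shortExact_tensor S hS (isFLF_tensorPow X hL n)
  haveI := finite_tensor k X h₁ hL 0 n
  haveI := finite_tensor k X h₂ hL 0 n
  exact LinearMap.finrank_le_finrank_of_injective (HH.injective_mapOver_f_zero hS' k)

end Basic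

section Push

variable (k : Type u) [Field k] (X : Scheme.{u}) [X.Over (Spec (CommRingCat.of k))]
  {Z : Scheme.{u}} (i : Z ⟶ X) [IsClosedImmersion i]

/-- the projection formula for `hh` along a closed immersion -/
theorem hh_push (G : Z.Modules) [G.IsQuasicoherent] {L : X.Modules} (hL : PicF.IsInvertible L)
    (p n : ℕ) :
    letI : Z.Over (Spec (CommRingCat.of k)) := ⟨i ≫ (X ↘ Spec (CommRingCat.of k))⟩
    hh k X ((pushforward i).obj G) L p n = hh k Z G ((Scheme.Modules.pullback i).obj L) p n := by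
  letI : Z.Over (Spec (CommRingCat.of k)) := ⟨i ≫ (X ↘ Spec (CommRingCat.of k))⟩
  haveI : i.IsOver (Spec (CommRingCat.of k)) := ⟨rfl⟩
  have hLn := Groth.Agent.Lib.helper12.TensorInv.isInvertible_tensorPow hL n
  have hE : FlatMod.IsFinLocFree (CohB1.tensorPow L n) :=
    Groth.Agent.Lib.helper16.FLF.isFinLocFree_of_isInvertible hLn
  have e1 := Groth.Agent.Lib.Helper18.ProjFormulaLF.projIso i G (CohB1.tensorPow L n) hE
  have hinv : PicF.IsInvertible ((Scheme.Modules.pullback i).obj (CohB1.tensorPow L n)) :=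
    Groth.Agent.Lib.helper11.InvMod.isInvertible_pullback i hLn
  haveI : ((Scheme.Modules.pullback i).obj (CohB1.tensorPow L n)).IsQuasicoherent :=
    (Groth.Agent.Lib.Lead.CurveInv.isCoh_of_isInvertible Z hinv).1
  haveI : (CohB1.tensorMod G ((Scheme.Modules.pullback i).obj (CohB1.tensorPow L n))).IsQuasicoherent :=
    Groth.Agent.Lib.helper2.TensorQCoh.isQuasicoherent_tensorMod _ _
  unfold hh
  rw [(HH.isoEquivOver k e1 p).finrank_eq]
  rw [show Module.finrank k (Coh.HH X ((pushforward i).obj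
      (CohB1.tensorMod G ((Scheme.Modules.pullback i).obj (CohB1.tensorPow L n)))) p) =
      Module.finrank k (Coh.HH Z
        (CohB1.tensorMod G ((Scheme.Modules.pullback i).obj (CohB1.tensorPow L n))) p) from
    Groth.Agent.Lib.Helper18.HH.finrank_push i _ k p]
  exact (HH.isoEquivOver k (tensorIso (Iso.refl G)
    (Groth.Agent.Lib.helper12.PullAmple.pullTensorPowIso i hL n)) p).finrank_eq

end Push

section Bd

variable (k : Type u) [Field k] (X : Scheme.{u}) [X.Over (Spec (CommRingCat.of k))]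

/-- the growth bound `β` holds for `F` (and `L`) -/
def Bd (β : ℕ → ℕ → ℕ) (F L : X.Modules) : Prop :=
  ∀ p, ∃ C : ℕ, ∀ n, hh k X F L p n ≤ C * β p n

variable {k X}

theorem Bd.iso {β : ℕ → ℕ → ℕ} {F G L : X.Modules} (h : Bd k X β F L) (e : F ≅ G) :
    Bd k X β G L := fun p => by
  obtain ⟨C, hC⟩ := h p
  exact ⟨C, fun n => by rw [← hh_iso k X e L p n]; exact hC n⟩

theorem Bd.zero (β : ℕ → ℕ → ℕ) {N : X.Modules} (hN : IsZero N) (L : X.Modules) :
    Bd k X β N L := fun p => ⟨0, fun n => by rw [hh_zero k X hN L p n]; exact Nat.zero_le _⟩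

theorem Bd.mono {β β' : ℕ → ℕ → ℕ} {F L : X.Modules} (h : Bd k X β F L)
    (hβ : ∀ p n, β p n ≤ β' p n) : Bd k X β' F L := fun p => by
  obtain ⟨C, hC⟩ := h p
  exact ⟨C, fun n => (hC n).trans (Nat.mul_le_mul_left C (hβ p n))⟩

variable [IsProper (X ↘ Spec (CommRingCat.of k))]

theorem Bd.ext {β : ℕ → ℕ → ℕ} (S : ShortComplex X.Modules) (hS : S.ShortExact)
    (h₁ : Coh.IsCoh S.X₁) (h₂ : Coh.IsCoh S.X₂) (h₃ : Coh.IsCoh S.X₃)
    {L : X.Modules} (hL : PicF.IsInvertible L)
    (a : Bd k X β S.X₁ L) (b : Bd k X β S.X₃ L) : Bd k X β S.X₂ L := fun p => by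
  obtain ⟨C₁, hC₁⟩ := a p
  obtain ⟨C₃, hC₃⟩ := b p
  refine ⟨C₁ + C₃, fun n => ?_⟩
  have h := hh_mid_le k X S hS h₁ h₂ h₃ hL p n
  have := hC₁ n
  have := hC₃ n
  rw [add_mul]
  omega

/-- the left term of a short exact sequence: `h^{p+1}(X₁) ≤ h^{p+1}(X₂) + h^p(X₃)` -/
theorem Bd.left {β β' : ℕ → ℕ → ℕ} (S : ShortComplex X.Modules) (hS : S.ShortExact)
    (h₁ : Coh.IsCoh S.X₁) (h₂ : Coh.IsCoh S.X₂) (h₃ : Coh.IsCoh S.X₃)
    {L : X.Modules} (hL : PicF.IsInvertible L)
    (hβ : ∀ p n, β p n ≤ β' (p + 1) n)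
    (a : Bd k X β' S.X₂ L) (b : Bd k X β S.X₃ L) : Bd k X β' S.X₁ L := fun p => by
  obtain ⟨C₂, hC₂⟩ := a p
  cases p with
  | zero =>
    exact ⟨C₂, fun n => (hh_left_zero_le k X S hS h₁ h₂ hL n).trans (hC₂ n)⟩
  | succ p =>
    obtain ⟨C₃, hC₃⟩ := b p
    refine ⟨C₂ + C₃, fun n => ?_⟩
    have h := hh_left_succ_le k X S hS h₁ h₂ h₃ hL p n
    have h2 := hC₂ n
    have h3 := (hC₃ n).trans (Nat.mul_le_mul_left C₃ (hβ p n))
    rw [add_mul]
    omega

end Bd

end Groth.Agent.Lib.helper7.Growth
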