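import Mathlib
import Groth.Agent.Lib.Helper7.Growth1

/-!
# Growth of `h^p(X, F ⊗ L^n)`: the dévissage (helper7)

`Statement k Good β e`: for every proper `k`-scheme `X`, invertible `L` with `Good X L` and coherent `F`
with `dim Supp F < e` the bound `Bd k X (β e) F L` holds.  `statement_succ` reduces the inductive step
to the case of the structure sheaf of an integral scheme.
-/

set_option autoImplicit false
set_option linter.unusedSectionVars false
set_option linter.style.haveILetI false
universe u

open CategoryTheory CategoryTheory.Limits AlgebraicGeometry Opposite TopologicalSpace Module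

namespace Groth.Agent.Lib.helper7.Growth

open Groth.Agent.Lib.Lead.ModTensor Groth.Agent.Lib.Helper18
open Scheme.Modules Groth.Agent.Lib.helper7.SnapperMain

section Coker

variable {Z : Scheme.{u}}

/-- `O_Z / I` is killed by the sections of `I` -/
theorem smul_cokernel_ideal {I : Z.Modules} (ι : I ⟶ Coh.structureModule Z) [I.IsQuasicoherent]
    {V : Z.Opens} (hV : IsAffineOpen V) (x : Γ(I, V)) (q : Γ(cokernel ι, V)) :
    (show Γ(Z, V) from (ι.app V).hom x) • q = 0 := by
  haveI : (Coh.structureModule Z).IsQuasicoherent :=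
    (Groth.Agent.Lib.helper8.Dev.isCoh_structureModule Z).1
  haveI : (cokernel ι).IsQuasicoherent :=
    Groth.Agent.Lib.helper7.CohKer.isQuasicoherent_cokernel _
  obtain ⟨a, rfl⟩ := Groth.Agent.Lib.helper16.QCohEpi.surjective_app_of_epi (cokernel.π ι) hV q
  have h1 : (show Γ(Z, V) from (ι.app V).hom x) • a = (ι.app V).hom ((show Γ(Z, V) from a) • x) := by
    rw [Hom.app_smul, Groth.Agent.Lib.helper8.Dev.structureModule_smul,
      Groth.Agent.Lib.helper8.Dev.structureModule_smul]
    exact mul_comm (G := Γ(Z, V)) _ _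
  rw [← Hom.app_smul, h1, ← ConcreteCategory.comp_apply, ← Hom.comp_app, cokernel.condition]
  rfl

end Coker

section Main

variable (k : Type u) [Field k]

/-- the inductive statement -/
def Statement (Good : ∀ X : Scheme.{u}, X.Modules → Prop) (β : ℕ → ℕ → ℕ → ℕ) (e : ℕ) : Prop :=
  ∀ (X : Scheme.{u}) [X.Over (Spec (CommRingCat.of k))] [IsProper (X ↘ Spec (CommRingCat.of k))]
    (L : X.Modules), PicF.IsInvertible L → Good X L → ∀ F : X.Modules, Coh.IsCoh F →
    topologicalKrullDim (CohB1.support F) < ((e : ℕ) : WithBot ℕ∞) → Bd k X (β e) F L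

theorem statement_zero (Good : ∀ X : Scheme.{u}, X.Modules → Prop) (β : ℕ → ℕ → ℕ → ℕ) :
    Statement.{u} k Good β 0 := by
  intro X _ _ L hL hG F hF hd
  have hE : IsEmpty (CohB1.support F) := isEmpty_of_dim_lt_zero hd
  have h0 : CohB1.support F = ∅ := Set.isEmpty_coe_sort.mp hE
  exact Bd.zero _ (isZero_of_support_eq_empty F h0) L

theorem statement_succ (Good : ∀ X : Scheme.{u}, X.Modules → Prop) (β : ℕ → ℕ → ℕ → ℕ)
    (hpull : ∀ {X Z : Scheme.{u}} (i : Z ⟶ X) (L : X.Modules), Good X L →
      Good Z ((Scheme.Modules.pullback i).obj L))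
    (hβ : ∀ e p n, β e p n ≤ β (e + 1) (p + 1) n)
    (e : ℕ) (ih : Statement.{u} k Good β e)
    (hint : ∀ (Z : Scheme.{u}) [Z.Over (Spec (CommRingCat.of k))]
      [IsProper (Z ↘ Spec (CommRingCat.of k))] [IsIntegral Z],
      topologicalKrullDim Z < ((e + 1 : ℕ) : WithBot ℕ∞) → ∀ L : Z.Modules, PicF.IsInvertible L →
      Good Z L → Bd k Z (β (e + 1)) (Coh.structureModule Z) L) :
    Statement.{u} k Good β (e + 1) := by
  intro X _ _ L hL hG F hF hd
  haveI := Groth.Agent.Lib.Lead.CurveEuler.isNoetherian k X
  let P : X.Modules → Prop := fun G => Bd k X (β (e + 1)) G L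
  have hPiso : ∀ M N : X.Modules, Nonempty (M ≅ N) → P M → P N := by
    rintro M N ⟨e⟩ hM
    exact hM.iso e
  refine Groth.Agent.Lib.helper8.Dev.devissage_master_aux P hPiso (CohB1.support F) ?_ ?_ ?_ F hF
    subset_rfl
  · intro N hN
    exact Bd.zero _ hN L
  · intro S hS h1 h2 h3 _ a b
    exact Bd.ext S hS h1 h2 h3 hL a b
  · intro Z i _ _ hT hsmall I ι hι hIq hI0
    haveI := hι
    haveI : I.IsQuasicoherent := hIq
    letI : Z.Over (Spec (CommRingCat.of k)) := ⟨i ≫ (X ↘ Spec (CommRingCat.of k))⟩
    haveI : IsProper (Z ↘ Spec (CommRingCat.of k)) := by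
      show IsProper (i ≫ (X ↘ Spec (CommRingCat.of k)))
      infer_instance
    -- dimension of `Z`
    have hdimZ : topologicalKrullDim Z < ((e + 1 : ℕ) : WithBot ℕ∞) := by
      refine lt_of_le_of_lt ?_ hd
      have hind : Topology.IsInducing (Set.codRestrict i.base (CohB1.support F)
          (fun z => hT ⟨z, rfl⟩)) :=
        (Topology.IsInducing.codRestrict i.isClosedEmbedding.isInducing _)
      exact hind.topologicalKrullDim_le
    haveI : (Coh.structureModule Z).IsQuasicoherent :=
      (Groth.Agent.Lib.helper8.Dev.isCoh_structureModule Z).1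
    -- `P (i_* O_Z)`
    have hPO : P ((pushforward i).obj (Coh.structureModule Z)) := by
      have h1 := hint Z hdimZ ((Scheme.Modules.pullback i).obj L)
        (Groth.Agent.Lib.helper11.InvMod.isInvertible_pullback i hL) (hpull i L hG)
      intro p
      obtain ⟨C, hC⟩ := h1 p
      exact ⟨C, fun n => by rw [hh_push k X i (Coh.structureModule Z) hL p n]; exact hC n⟩
    -- the sequence `0 → I → O_Z → O_Z/I → 0`
    haveI : (cokernel ι).IsQuasicoherent :=
      Groth.Agent.Lib.helper7.CohKer.isQuasicoherent_cokernel _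
    have hS := Groth.Agent.Lib.helper8.Dev.shortExact_cokernel ι
    have hcoh := Groth.Agent.Lib.helper8.Dev.isCoh_push_structureModule i
    have hS' := Groth.Agent.Lib.helper8.Dev.shortExact_map_pushforward i _ hS
    obtain ⟨h1, h3⟩ := Groth.Agent.Lib.helper8.Dev.isCoh_push_of_shortExact _ hS hcoh
    obtain ⟨U, x₀, hx₀⟩ := Groth.Agent.Lib.helper8.Dev.exists_section_ne_zero i I hI0
    have hιx₀ : (ι.app (i ⁻¹ᵁ U.1)).hom x₀ ≠ 0 := by
      intro h0'
      apply hx₀
      apply Groth.Agent.S2542.injective_app_of_mono ι (i ⁻¹ᵁ U.1)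
      rw [h0', map_zero]
    have hsm : Groth.Agent.Lib.helper8.Dev.Small i ((pushforward i).obj (cokernel ι)) :=
      Groth.Agent.Lib.helper8.Dev.small_push U (cokernel ι) h3 _ hιx₀
        (fun t => smul_cokernel_ideal ι (U.2.preimage i) x₀ t)
    -- the dimension of the support drops
    have hdimQ : topologicalKrullDim (CohB1.support ((pushforward i).obj (cokernel ι))) <
        ((e : ℕ) : WithBot ℕ∞) := by
      have hsub := Groth.Agent.Lib.helper8.Dev.support_subset_range_of_small i _ hsm
      have hnot := Groth.Agent.Lib.helper8.Dev.map_genericPoint_notMem_support_of_small i _ hsm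
      have hcl : IsClosed (CohB1.support ((pushforward i).obj (cokernel ι))) :=
        Groth.Agent.Lib.helper8.Dev.isClosed_support_of_isCoh _ h3
      have hirr : IsIrreducible (Set.range i) := by
        rw [← Set.image_univ]
        exact (IrreducibleSpace.isIrreducible_univ Z).image i i.continuous.continuousOn
      have hne : CohB1.support ((pushforward i).obj (cokernel ι)) ≠ Set.range i := by
        intro h
        apply hnot
        rw [h]
        exact ⟨_, rfl⟩
      have h4 := Groth.Agent.Lib.helper8.DimLt.topologicalKrullDim_add_one_le hsub hcl hirr hne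
      have h5 : topologicalKrullDim ↥(Set.range i) = topologicalKrullDim Z :=
        ((i.isClosedEmbedding.isEmbedding.toHomeomorph).isHomeomorph.topologicalKrullDim_eq).symm
      rw [h5] at h4
      exact dim_lt_of_add_one_le h4 hdimZ
    have hQ := ih X L hL hG _ h3 hdimQ
    exact Bd.left _ hS' h1 hcoh h3 hL (hβ e) hPO hQ

end Main

end Groth.Agent.Lib.helper7.Growth
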