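import Mathlib
import Groth.Agent.Lib.Helper7.Growth2

/-!
# Growth of `h^p(X, F ⊗ L^n)`: the two main cases (helper7)

* `growth_general`: for `X` proper over a field, `L` invertible, `F` coherent with `dim Supp F < e + 1`:
  `h^p(X, F ⊗ L^n) ≤ C (n + 1)^e` for every `p`.
* `growth_gg`: if moreover `L` is globally generated then `h^p(X, F ⊗ L^n) ≤ C (n + 1)^(e - 1)` for `p ≥ 1`
  (and `= 0` when `e = 0`).
-/

set_option autoImplicit false
set_option linter.unusedSectionVars false
set_option linter.style.haveILetI false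
universe u

open CategoryTheory CategoryTheory.Limits AlgebraicGeometry Opposite TopologicalSpace Module

namespace Groth.Agent.Lib.helper7.Growth

open Groth.Agent.Lib.Lead.ModTensor Groth.Agent.Lib.Helper18 Groth.Agent.Lib.helper11.IsoLocus
open Scheme.Modules Groth.Agent.Lib.helper7.SnapperMain

section Arith

/-- `∑_{m < n} (m + 1)^j ≤ (n + 1)^(j + 1)` -/
theorem sum_pow_le (j n : ℕ) : ∑ m ∈ Finset.range n, (m + 1) ^ j ≤ (n + 1) ^ (j + 1) := by
  calc ∑ m ∈ Finset.range n, (m + 1) ^ j ≤ ∑ _m ∈ Finset.range n, (n + 1) ^ j := by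
        apply Finset.sum_le_sum
        intro m hm
        exact Nat.pow_le_pow_left (by have := Finset.mem_range.mp hm; omega) j
    _ = n * (n + 1) ^ j := by rw [Finset.sum_const, Finset.card_range, smul_eq_mul]
    _ ≤ (n + 1) * (n + 1) ^ j := Nat.mul_le_mul_right _ (Nat.le_succ n)
    _ = (n + 1) ^ (j + 1) := by rw [pow_succ, mul_comm]

/-- a recurrence `a (n+1) ≤ a n + K b n` with `∑_{m<n} b m ≤ B n` gives `a n ≤ a 0 + K B n` -/
theorem le_of_recurrence (a b B : ℕ → ℕ) (K : ℕ) (hrec : ∀ n, a (n + 1) ≤ a n + K * b n)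
    (hsum : ∀ n, ∑ m ∈ Finset.range n, b m ≤ B n) (n : ℕ) : a n ≤ a 0 + K * B n := by
  have h : ∀ n, a n ≤ a 0 + K * ∑ m ∈ Finset.range n, b m := by
    intro n
    induction n with
    | zero => simp
    | succ n ih =>
      rw [Finset.sum_range_succ, mul_add]
      have := hrec n
      omega
  exact (h n).trans (Nat.add_le_add_left (Nat.mul_le_mul_left K (hsum n)) _)

end Arith

section Shift

variable (k : Type u) [Field k] (X : Scheme.{u}) [X.Over (Spec (CommRingCat.of k))]

theorem hh_shift (F L : X.Modules) (p n : ℕ) :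
    hh k X F L p (n + 1) = hh k X (CohB1.tensorMod F L) L p n :=
  (HH.isoEquivOver k (tensorIso (Iso.refl F) (braid (CohB1.tensorPow L n) L) ≪≫
    (assoc F L (CohB1.tensorPow L n)).symm) p).finrank_eq

theorem hh_structure_shift (L : X.Modules) (p n : ℕ) :
    hh k X (Coh.structureModule X) L p (n + 1) = hh k X L L p n := by
  rw [hh_shift]
  exact hh_iso k X (leftUnitor L) L p n

end Shift

section Dim

variable {Z : Scheme.{u}} [IsIntegral Z]

theorem dim_support_cokernel_lt {e : ℕ}
    (hdim : topologicalKrullDim Z < ((e + 1 : ℕ) : WithBot ℕ∞)) {A B : Z.Modules} (φ : A ⟶ B)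
    (W : Z.Opens) (hW : W ≤ isoLocus φ) (hWne : (W : Set Z).Nonempty) :
    topologicalKrullDim ↥(CohB1.support (cokernel φ)) < ((e : ℕ) : WithBot ℕ∞) := by
  have hC : IsClosed (((W : Z.Opens) : Set Z)ᶜ) := W.isOpen.isClosed_compl
  have hCne : ((W : Z.Opens) : Set Z)ᶜ ≠ Set.univ := by
    intro h
    obtain ⟨x, hx⟩ := hWne
    have : x ∈ ((W : Z.Opens) : Set Z)ᶜ := by rw [h]; trivial
    exact this hx
  have hdimC : topologicalKrullDim ↥(((W : Z.Opens) : Set Z)ᶜ) < ((e : ℕ) : WithBot ℕ∞) := by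
    have h1 := Groth.Agent.Lib.helper8.DimLt.topologicalKrullDim_add_one_le
      (Set.subset_univ _) hC (IrreducibleSpace.isIrreducible_univ Z) hCne
    have h2 : topologicalKrullDim ↥(Set.univ : Set Z) = topologicalKrullDim Z :=
      (Homeomorph.Set.univ Z).isHomeomorph.topologicalKrullDim_eq
    rw [h2] at h1
    exact dim_lt_of_add_one_le h1 hdim
  refine lt_of_le_of_lt (Groth.Agent.Lib.helper8.DimLt.topologicalKrullDim_le_of_subset ?_) hdimC
  intro x hx hxW
  exact support_cokernel_subset φ hx (hW hxW)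

end Dim

section General

variable (k : Type u) [Field k]

/-- the bound function in the general case: `(n + 1)^(e - 1)`, and `0` for `e = 0` -/
def β₁ : ℕ → ℕ → ℕ → ℕ
  | 0, _, _ => 0
  | e + 1, _, n => (n + 1) ^ e

theorem β₁_le (e p n : ℕ) : β₁ e p n ≤ β₁ (e + 1) (p + 1) n := by
  cases e with
  | zero => exact Nat.zero_le _
  | succ e => exact Nat.pow_le_pow_right (Nat.succ_pos n) (Nat.le_succ e)

theorem β₁_sum (e p n : ℕ) : ∑ m ∈ Finset.range n, β₁ e p m ≤ β₁ (e + 1) p n := by
  cases e with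
  | zero => simp [β₁]
  | succ e => exact sum_pow_le e n

theorem integral_general (e : ℕ) (ih : Statement.{u} k (fun _ _ => True) β₁ e)
    (Z : Scheme.{u}) [Z.Over (Spec (CommRingCat.of k))] [IsProper (Z ↘ Spec (CommRingCat.of k))]
    [IsIntegral Z] (hdim : topologicalKrullDim Z < ((e + 1 : ℕ) : WithBot ℕ∞))
    (L : Z.Modules) (hL : PicF.IsInvertible L) :
    Bd k Z (β₁ (e + 1)) (Coh.structureModule Z) L := by
  obtain ⟨G, p, q, W, hG, hp, hq, hWp, hWq, hWne⟩ :=
    Groth.Agent.Lib.helper9.CurveDegAdd.exists_common_submodule k Z hL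
  haveI := hp
  haveI := hq
  have hLc := Groth.Agent.Lib.Lead.CurveInv.isCoh_of_isInvertible Z hL
  have hOc := Groth.Agent.Lib.helper8.Dev.isCoh_structureModule Z
  have hQ1 : Coh.IsCoh (cokernel p) := Groth.Agent.Lib.helper7.CohKer.isCoh_cokernel hG hLc p
  have hQ2 : Coh.IsCoh (cokernel q) := Groth.Agent.Lib.helper7.CohKer.isCoh_cokernel hG hOc q
  have hS1 := Groth.Agent.Lib.helper8.Dev.shortExact_cokernel p
  have hS2 := Groth.Agent.Lib.helper8.Dev.shortExact_cokernel q
  have hD1 := ih Z L hL trivial (cokernel p) hQ1 (dim_support_cokernel_lt hdim p W hWp hWne)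
  have hD2 := ih Z L hL trivial (cokernel q) hQ2 (dim_support_cokernel_lt hdim q W hWq hWne)
  intro j
  obtain ⟨K₁, hK₁⟩ := hD1 j
  -- the recurrence
  have hrec : ∃ K : ℕ, ∀ n, hh k Z (Coh.structureModule Z) L j (n + 1) ≤
      hh k Z (Coh.structureModule Z) L j n + K * β₁ e j n := by
    cases j with
    | zero =>
      refine ⟨K₁, fun n => ?_⟩
      rw [hh_structure_shift]
      have a1 := hh_mid_le k Z _ hS1 hG hLc hQ1 hL 0 n
      have a2 := hh_left_zero_le k Z _ hS2 hG hOc hL n
      have a3 := hK₁ n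
      simp only at a1 a2
      omega
    | succ j =>
      obtain ⟨K₂, hK₂⟩ := hD2 j
      refine ⟨K₁ + K₂, fun n => ?_⟩
      rw [hh_structure_shift]
      have a1 := hh_mid_le k Z _ hS1 hG hLc hQ1 hL (j + 1) n
      have a2 := hh_left_succ_le k Z _ hS2 hG hOc hQ2 hL j n
      have a3 := hK₁ n
      have a4 := hK₂ n
      have a5 : β₁ e j n = β₁ e (j + 1) n := by cases e <;> rfl
      simp only at a1 a2
      rw [add_mul]
      rw [a5] at a4
      omega
  obtain ⟨K, hK⟩ := hrec
  refine ⟨hh k Z (Coh.structureModule Z) L j 0 + K, fun n => ?_⟩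
  have h1 := le_of_recurrence (fun n => hh k Z (Coh.structureModule Z) L j n) (fun n => β₁ e j n)
    (fun n => β₁ (e + 1) j n) K hK (fun n => β₁_sum e j n) n
  have h2 : 1 ≤ β₁ (e + 1) j n := Nat.one_le_pow _ _ (Nat.succ_pos n)
  calc hh k Z (Coh.structureModule Z) L j n
      ≤ hh k Z (Coh.structureModule Z) L j 0 + K * β₁ (e + 1) j n := h1
    _ ≤ hh k Z (Coh.structureModule Z) L j 0 * β₁ (e + 1) j n + K * β₁ (e + 1) j n :=
        Nat.add_le_add_right (Nat.le_mul_of_pos_right _ h2) _
    _ = (hh k Z (Coh.structureModule Z) L j 0 + K) * β₁ (e + 1) j n := (add_mul _ _ _).symm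

/-- the general growth bound -/
theorem growth_general (e : ℕ) : Statement.{u} k (fun _ _ => True) β₁ e := by
  induction e with
  | zero => exact statement_zero k _ _
  | succ e ih =>
    exact statement_succ k _ β₁ (fun _ _ _ => trivial) β₁_le e ih
      (fun Z _ _ _ hdim L hL _ => integral_general k e ih Z hdim L hL)

end General

end Groth.Agent.Lib.helper7.Growth
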