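import Mathlib
import Groth.Agent.Lib.Helper7.Growth3
import Groth.Prelude.Def_W4c5asymptcohfnACF

/-!
# Asymptotic cohomological functions: insensitivity to small modifications (helper7)

* `limsup_eq_of_sub_tendsto_zero`: two nonnegative eventually bounded real sequences whose difference tends to
  `0` have the same `limsup`
* `tendsto_seq_zero`, `bdd_seq`: real-analysis consequences of the bounds `a m ≤ C * β₁ n p m`
* `hh_right_le`: `h^p(X₃) ≤ h^p(X₂) + h^{p+1}(X₁)`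
* `cohSeq_bdd`: the sequence `cohSeq k X n i F L` is eventually bounded if `dim Supp F ≤ n`
* `hhatF_eq_of_le`: if `|h^i(F ⊗ L^m) - h^i(G ⊗ L^m)| ≤ a m = O(m^{n-1})` then `ĥ^i(F, L) = ĥ^i(G, L)`
* `hhatF_mid_eq_right`, `hhatF_left_eq_mid`: for a short exact sequence with small left (resp. right) term
-/

set_option autoImplicit false
set_option linter.unusedSectionVars false
set_option linter.style.haveILetI false
universe u

open CategoryTheory CategoryTheory.Limits AlgebraicGeometry Opposite TopologicalSpace Module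

namespace Groth.Agent.Lib.helper7.Growth

open Groth.Agent.Lib.Lead.ModTensor Groth.Agent.Lib.Helper18
open Scheme.Modules

section Real

open Filter Topology

theorem limsup_le_of_sub_tendsto_zero {u v : ℕ → ℝ} (hu0 : ∀ m, 0 ≤ u m) (hv0 : ∀ m, 0 ≤ v m)
    (hvb : ∃ B, ∀ᶠ m in atTop, v m ≤ B)
    (h : Tendsto (fun m => u m - v m) atTop (𝓝 0)) : limsup u atTop ≤ limsup v atTop := by
  obtain ⟨B, hB⟩ := hvb
  have hvbd : IsBoundedUnder (· ≤ ·) atTop v := ⟨B, by simpa using hB⟩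
  have hvco : IsCoboundedUnder (· ≤ ·) atTop v :=
    (isBoundedUnder_of ⟨0, fun m => hv0 m⟩ : IsBoundedUnder (· ≥ ·) atTop v).isCoboundedUnder_flip
  have huco : IsCoboundedUnder (· ≤ ·) atTop u :=
    (isBoundedUnder_of ⟨0, fun m => hu0 m⟩ : IsBoundedUnder (· ≥ ·) atTop u).isCoboundedUnder_flip
  apply le_of_forall_pos_le_add
  intro ε hε
  have hev : ∀ᶠ m in atTop, u m ≤ v m + ε := by
    have := (tendsto_order.mp h).2 ε hε
    filter_upwards [this] with m hm
    linarith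
  have hbd2 : IsBoundedUnder (· ≤ ·) atTop (fun m => v m + ε) := by
    obtain ⟨B', hB'⟩ := hvbd
    refine ⟨B' + ε, ?_⟩
    simp only [eventually_map] at hB' ⊢
    filter_upwards [hB'] with m hm
    linarith
  calc limsup u atTop ≤ limsup (fun m => v m + ε) atTop := limsup_le_limsup hev huco hbd2
    _ = limsup v atTop + ε := limsup_add_const atTop v ε hvbd hvco

theorem limsup_eq_of_sub_tendsto_zero {u v : ℕ → ℝ} (hu0 : ∀ m, 0 ≤ u m) (hv0 : ∀ m, 0 ≤ v m)
    (hub : ∃ B, ∀ᶠ m in atTop, u m ≤ B) (hvb : ∃ B, ∀ᶠ m in atTop, v m ≤ B)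
    (h : Tendsto (fun m => u m - v m) atTop (𝓝 0)) : limsup u atTop = limsup v atTop := by
  apply le_antisymm (limsup_le_of_sub_tendsto_zero hu0 hv0 hvb h)
  apply limsup_le_of_sub_tendsto_zero hv0 hu0 hub
  have := h.neg
  simpa using this

theorem tendsto_seq_zero_aux (a : ℕ → ℕ) (e C : ℕ) (h : ∀ m, a m ≤ C * (m + 1) ^ e) :
    Tendsto (fun m : ℕ => (a m : ℝ) * ((e + 1).factorial : ℝ) / (m : ℝ) ^ (e + 1)) atTop (𝓝 0) := by
  have hK := tendsto_const_div_atTop_nhds_zero_nat ((C : ℝ) * 2 ^ e * ((e + 1).factorial : ℝ))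
  refine squeeze_zero' (Eventually.of_forall fun m => by positivity) ?_ hK
  filter_upwards [eventually_ge_atTop 1] with m hm
  have hm0 : (0 : ℝ) < m := by exact_mod_cast hm
  rw [div_le_div_iff₀ (by positivity) hm0]
  have h1 : (a m : ℝ) ≤ (C : ℝ) * ((m : ℝ) + 1) ^ e := by exact_mod_cast h m
  have h2 : ((m : ℝ) + 1) ^ e ≤ (2 * (m : ℝ)) ^ e := by
    apply pow_le_pow_left₀ (by positivity)
    have : (1 : ℝ) ≤ m := by exact_mod_cast hm
    linarith
  have h3 : (a m : ℝ) ≤ (C : ℝ) * (2 ^ e * (m : ℝ) ^ e) := by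
    rw [← mul_pow]
    exact h1.trans (mul_le_mul_of_nonneg_left h2 (by positivity))
  calc (a m : ℝ) * ((e + 1).factorial : ℝ) * m
      ≤ (C : ℝ) * (2 ^ e * (m : ℝ) ^ e) * ((e + 1).factorial : ℝ) * m := by gcongr
    _ = (C : ℝ) * 2 ^ e * ((e + 1).factorial : ℝ) * (m : ℝ) ^ (e + 1) := by ring

/-- a sequence bounded by `C * β₁ n p m` (i.e. `O(m^{n-1})`) is `o(m^n)` -/
theorem tendsto_seq_zero (a : ℕ → ℕ) (n p C : ℕ) (h : ∀ m, a m ≤ C * β₁ n p m) :
    Tendsto (fun m : ℕ => (a m : ℝ) * (n.factorial : ℝ) / (m : ℝ) ^ n) atTop (𝓝 0) := by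
  cases n with
  | zero =>
    have h0 : ∀ m, a m = 0 := fun m => by
      have := h m
      simpa [β₁] using this
    simp [h0]
  | succ e => exact tendsto_seq_zero_aux a e C h

theorem bdd_seq (a : ℕ → ℕ) (n C : ℕ) (h : ∀ m, a m ≤ C * (m + 1) ^ n) :
    ∃ B : ℝ, ∀ᶠ m : ℕ in atTop, (a m : ℝ) * (n.factorial : ℝ) / (m : ℝ) ^ n ≤ B := by
  refine ⟨(C : ℝ) * 2 ^ n * (n.factorial : ℝ), ?_⟩
  filter_upwards [eventually_ge_atTop 1] with m hm
  have hm0 : (0 : ℝ) < m := by exact_mod_cast hm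
  rw [div_le_iff₀ (by positivity)]
  have h1 : (a m : ℝ) ≤ (C : ℝ) * ((m : ℝ) + 1) ^ n := by exact_mod_cast h m
  have h2 : ((m : ℝ) + 1) ^ n ≤ (2 * (m : ℝ)) ^ n := by
    apply pow_le_pow_left₀ (by positivity)
    have : (1 : ℝ) ≤ m := by exact_mod_cast hm
    linarith
  have h3 : (a m : ℝ) ≤ (C : ℝ) * (2 ^ n * (m : ℝ) ^ n) := by
    rw [← mul_pow]
    exact h1.trans (mul_le_mul_of_nonneg_left h2 (by positivity))
  calc (a m : ℝ) * (n.factorial : ℝ)
      ≤ (C : ℝ) * (2 ^ n * (m : ℝ) ^ n) * (n.factorial : ℝ) := by gcongr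
    _ = (C : ℝ) * 2 ^ n * (n.factorial : ℝ) * (m : ℝ) ^ n := by ring

end Real

section Main

variable (k : Type u) [Field k] (X : Scheme.{u}) [X.Over (Spec (CommRingCat.of k))]
  [IsProper (X ↘ Spec (CommRingCat.of k))]

theorem hh_right_le (S : ShortComplex X.Modules) (hS : S.ShortExact)
    (h₁ : Coh.IsCoh S.X₁) (h₂ : Coh.IsCoh S.X₂) (h₃ : Coh.IsCoh S.X₃)
    {L : X.Modules} (hL : PicF.IsInvertible L) (p n : ℕ) :
    hh k X S.X₃ L p n ≤ hh k X S.X₂ L p n + hh k X S.X₁ L (p + 1) n := by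
  obtain ⟨w, hS'⟩ := Groth.Agent.Lib.Helper18.DegCalc.shortExact_tensor S hS (isFLF_tensorPow X hL n)
  haveI := finite_tensor k X h₁ hL (p + 1) n
  haveI := finite_tensor k X h₂ hL p n
  haveI := finite_tensor k X h₃ hL p n
  exact finrank_le_add_of_exact _ _ (HH.exactOver₃ hS' k p)

theorem cohSeq_eq (n i : ℕ) (F L : X.Modules) (m : ℕ) :
    W4c5asymptcohfn.cohSeq k X n i F L m =
      (hh k X F L i m : ℝ) * (n.factorial : ℝ) / (m : ℝ) ^ n := rfl

theorem cohSeq_nonneg (n i : ℕ) (F L : X.Modules) (m : ℕ) :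
    0 ≤ W4c5asymptcohfn.cohSeq k X n i F L m := by
  rw [cohSeq_eq]
  positivity

open Filter Topology in
/-- the normalised sequence is eventually bounded if `dim X ≤ n` -/
theorem cohSeq_bdd (n : ℕ) (hn : topologicalKrullDim X ≤ (n : WithBot ℕ∞)) (i : ℕ)
    {F L : X.Modules} (hF : Coh.IsCoh F) (hL : PicF.IsInvertible L) :
    ∃ B : ℝ, ∀ᶠ m : ℕ in atTop, W4c5asymptcohfn.cohSeq k X n i F L m ≤ B := by
  have hdim : topologicalKrullDim (CohB1.support F) < ((n + 1 : ℕ) : WithBot ℕ∞) := by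
    have h1 : topologicalKrullDim (CohB1.support F) ≤ topologicalKrullDim X :=
      (Topology.IsEmbedding.subtypeVal).toIsInducing.topologicalKrullDim_le
    refine lt_of_le_of_lt (h1.trans hn) ?_
    exact_mod_cast Nat.lt_succ_self n
  obtain ⟨C, hC⟩ := growth_general k (n + 1) X L hL trivial F hF hdim i
  exact bdd_seq (fun m => hh k X F L i m) n C hC

open Filter Topology in
/-- if `h^i(F ⊗ L^m)` and `h^i(G ⊗ L^m)` differ by at most `a m = O(m^{n-1})`, then `ĥ^i(F) = ĥ^i(G)` -/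
theorem hhatF_eq_of_le (n : ℕ) (hn : topologicalKrullDim X ≤ (n : WithBot ℕ∞)) (i : ℕ)
    {F G L : X.Modules} (hF : Coh.IsCoh F) (hG : Coh.IsCoh G) (hL : PicF.IsInvertible L)
    (a : ℕ → ℕ) (p C : ℕ) (ha : ∀ m, a m ≤ C * β₁ n p m)
    (h1 : ∀ m, hh k X F L i m ≤ hh k X G L i m + a m)
    (h2 : ∀ m, hh k X G L i m ≤ hh k X F L i m + a m) :
    W4c5asymptcohfn.hhatF k X n i F L = W4c5asymptcohfn.hhatF k X n i G L := by
  unfold W4c5asymptcohfn.hhatF
  refine limsup_eq_of_sub_tendsto_zero (cohSeq_nonneg k X n i F L) (cohSeq_nonneg k X n i G L)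
    (cohSeq_bdd k X n hn i hF hL) (cohSeq_bdd k X n hn i hG hL) ?_
  have h0 := tendsto_seq_zero a n p C ha
  have hneg := h0.neg
  rw [neg_zero] at hneg
  refine tendsto_of_tendsto_of_tendsto_of_le_of_le hneg h0 (fun m => ?_) (fun m => ?_)
  · simp only [cohSeq_eq]
    have h2' : (hh k X G L i m : ℝ) ≤ (hh k X F L i m : ℝ) + (a m : ℝ) := by exact_mod_cast h2 m
    rw [← sub_div, ← sub_mul, ← neg_div, ← neg_mul]
    apply div_le_div_of_nonneg_right _ (by positivity)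
    apply mul_le_mul_of_nonneg_right _ (by positivity)
    linarith
  · simp only [cohSeq_eq]
    have h1' : (hh k X F L i m : ℝ) ≤ (hh k X G L i m : ℝ) + (a m : ℝ) := by exact_mod_cast h1 m
    rw [← sub_div, ← sub_mul]
    apply div_le_div_of_nonneg_right _ (by positivity)
    apply mul_le_mul_of_nonneg_right _ (by positivity)
    linarith

variable (S : ShortComplex X.Modules) (hS : S.ShortExact)
  (h₁ : Coh.IsCoh S.X₁) (h₂ : Coh.IsCoh S.X₂) (h₃ : Coh.IsCoh S.X₃)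
  {L : X.Modules} (hL : PicF.IsInvertible L)

include hS h₁ h₂ h₃ hL in
/-- if the left term of a short exact sequence has support of dimension `< n`, then `ĥ^i(X₂) = ĥ^i(X₃)` -/
theorem hhatF_mid_eq_right (n : ℕ) (hn : topologicalKrullDim X ≤ (n : WithBot ℕ∞))
    (hdim : topologicalKrullDim (CohB1.support S.X₁) < (n : WithBot ℕ∞)) (i : ℕ) :
    W4c5asymptcohfn.hhatF k X n i S.X₂ L = W4c5asymptcohfn.hhatF k X n i S.X₃ L := by
  have hbd := growth_general k n X L hL trivial S.X₁ h₁ hdim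
  obtain ⟨C₁, hC₁⟩ := hbd i
  obtain ⟨C₂, hC₂⟩ := hbd (i + 1)
  refine hhatF_eq_of_le k X n hn i h₂ h₃ hL
    (fun m => hh k X S.X₁ L i m + hh k X S.X₁ L (i + 1) m) 0 (C₁ + C₂) (fun m => ?_)
    (fun m => ?_) (fun m => ?_)
  · have e1 : β₁ n i m = β₁ n 0 m := by cases n <;> rfl
    have e2 : β₁ n (i + 1) m = β₁ n 0 m := by cases n <;> rfl
    have a1 := hC₁ m
    have a2 := hC₂ m
    rw [e1] at a1
    rw [e2] at a2
    rw [add_mul]
    exact Nat.add_le_add a1 a2
  · have := hh_mid_le k X S hS h₁ h₂ h₃ hL i m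
    omega
  · have := hh_right_le k X S hS h₁ h₂ h₃ hL i m
    omega

include hS h₁ h₂ h₃ hL in
/-- if the right term of a short exact sequence has support of dimension `< n`, then `ĥ^i(X₁) = ĥ^i(X₂)` -/
theorem hhatF_left_eq_mid (n : ℕ) (hn : topologicalKrullDim X ≤ (n : WithBot ℕ∞))
    (hdim : topologicalKrullDim (CohB1.support S.X₃) < (n : WithBot ℕ∞)) (i : ℕ) :
    W4c5asymptcohfn.hhatF k X n i S.X₁ L = W4c5asymptcohfn.hhatF k X n i S.X₂ L := by
  have hbd := growth_general k n X L hL trivial S.X₃ h₃ hdim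
  obtain ⟨C₁, hC₁⟩ := hbd i
  obtain ⟨C₂, hC₂⟩ := hbd (i - 1)
  refine hhatF_eq_of_le k X n hn i h₁ h₂ hL
    (fun m => hh k X S.X₃ L i m + hh k X S.X₃ L (i - 1) m) 0 (C₁ + C₂) (fun m => ?_)
    (fun m => ?_) (fun m => ?_)
  · have e1 : β₁ n i m = β₁ n 0 m := by cases n <;> rfl
    have e2 : β₁ n (i - 1) m = β₁ n 0 m := by cases n <;> rfl
    have a1 := hC₁ m
    have a2 := hC₂ m
    rw [e1] at a1
    rw [e2] at a2
    rw [add_mul]
    exact Nat.add_le_add a1 a2
  · cases i with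
    | zero =>
      have := hh_left_zero_le k X S hS h₁ h₂ hL m
      omega
    | succ j =>
      have := hh_left_succ_le k X S hS h₁ h₂ h₃ hL j m
      simp only [Nat.add_sub_cancel]
      omega
  · have := hh_mid_le k X S hS h₁ h₂ h₃ hL i m
    omega

end Main

end Groth.Agent.Lib.helper7.Growth
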