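import Mathlib
import Groth.Agent.Lib.Helper7.Growth5
import Groth.Agent.Lib.Helper9.CurveHopf

/-!
# The volume increases in effective directions (helper7)

* `mono_tensorMap_of_mono`, `twistMap`, `powMap`, `mono_powMap`: `L^m ⟶ (L ⊗ E)^m` induced by a section of `E`
* `finrank_H0_le_of_mono`
* `vol_le_vol_tensor` (S19807)
-/

set_option autoImplicit false
set_option linter.unusedSectionVars false
set_option linter.style.haveILetI false
universe u

open Filter Topology
open scoped ENNReal
open CategoryTheory CategoryTheory.Limits AlgebraicGeometry Opposite TopologicalSpace Module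

namespace Groth.Agent.Lib.helper7.Growth

open Groth.Agent.Lib.Lead.ModTensor Groth.Agent.Lib.Helper18 Groth.Agent.Lib.helper11.IsoLocus
open Scheme.Modules Groth.Agent.Lib.helper7.SnapperMain Groth.Agent.Lib.helper7

section PowMap

variable {X : Scheme.{u}}

theorem mono_tensorMap_of_mono {A A' B B' : X.Modules} (f : A ⟶ A') (g : B ⟶ B') [Mono f] [Mono g]
    (hB : FlatMod.IsFinLocFree B) (hA' : FlatMod.IsFinLocFree A') : Mono (tensorMap f g) := by
  have h : tensorMap f g = tensorMap f (𝟙 B) ≫ tensorMap (𝟙 A') g := by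
    rw [← tensorMap_comp, Category.comp_id, Category.id_comp]
  rw [h]
  haveI := Groth.Agent.Lib.helper9.CurveHopf.mono_tensorMap_of_isFinLocFree f hB
  haveI := Groth.Agent.Lib.helper9.CurveHopf.mono_tensorMap_right_of_isFinLocFree g hA'
  exact mono_comp _ _

/-- `L ⟶ L ⊗ E` induced by a section `s` of `E` -/
noncomputable def twistMap (L : X.Modules) {E : X.Modules} (s : Coh.structureModule X ⟶ E) :
    L ⟶ CohB1.tensorMod L E :=
  (rightUnitor L).inv ≫ tensorMap (𝟙 L) s

/-- `L^m ⟶ (L ⊗ E)^m` induced by a section `s` of `E` -/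
noncomputable def powMap (L : X.Modules) {E : X.Modules} (s : Coh.structureModule X ⟶ E) :
    ∀ m : ℕ, CohB1.tensorPow L m ⟶ CohB1.tensorPow (CohB1.tensorMod L E) m
  | 0 => 𝟙 _
  | m + 1 => tensorMap (powMap L s m) (twistMap L s)

theorem mono_twistMap {L E : X.Modules} (hL : PicF.IsInvertible L)
    (s : Coh.structureModule X ⟶ E) [Mono s] : Mono (twistMap L s) := by
  haveI := Groth.Agent.Lib.helper9.CurveHopf.mono_tensorMap_right_of_isFinLocFree s
    (Groth.Agent.Lib.helper16.FLF.isFinLocFree_of_isInvertible hL)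
  unfold twistMap
  exact mono_comp _ _

theorem mono_powMap {L E : X.Modules} (hL : PicF.IsInvertible L) (hE : PicF.IsInvertible E)
    (s : Coh.structureModule X ⟶ E) [Mono s] : ∀ m, Mono (powMap L s m)
  | 0 => by
    unfold powMap
    exact (inferInstance : Mono (𝟙 (Coh.structureModule X)))
  | m + 1 => by
    haveI := mono_powMap hL hE s m
    haveI := mono_twistMap hL s
    have hLE := Groth.Agent.Lib.helper12.TensorInv.isInvertible_tensorMod hL hE
    exact mono_tensorMap_of_mono (powMap L s m) (twistMap L s)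
      (Groth.Agent.Lib.helper16.FLF.isFinLocFree_of_isInvertible hL)
      (Groth.Agent.Lib.helper16.FLF.isFinLocFree_of_isInvertible
        (Groth.Agent.Lib.helper12.TensorInv.isInvertible_tensorPow hLE m))

end PowMap

section Vol

variable (k : Type u) [Field k] (X : Scheme.{u}) [X.Over (Spec (CommRingCat.of k))]
  [IsProper (X ↘ Spec (CommRingCat.of k))]

/-- `H^0` of a monomorphism into a coherent module: inequality of dimensions -/
theorem finrank_H0_le_of_mono {A B : X.Modules} (f : A ⟶ B) [Mono f] (hB : Coh.IsCoh B) :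
    Module.finrank k (Coh.HH X A 0) ≤ Module.finrank k (Coh.HH X B 0) := by
  haveI := Groth.Agent.Lib.Lead.ProperEuler.finite_HH k X B hB 0
  have hS := Groth.Agent.Lib.helper8.Dev.shortExact_cokernel f
  exact LinearMap.finrank_le_finrank_of_injective (HH.injective_mapOver_f_zero hS k)

variable [IsIntegral X]

/-- the volume increases in effective directions (S19807) -/
theorem vol_le_vol_tensor (d : ℕ) {L E : X.Modules} (hL : PicF.IsInvertible L)
    (hE : PicF.IsInvertible E) (s : Coh.structureModule X ⟶ E) (hs : s ≠ 0) :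
    limsup (fun m : ℕ => (Module.finrank k (Coh.HH X (CohB1.tensorPow L m) 0) : ℝ≥0∞) /
        (m : ℝ≥0∞) ^ d) atTop ≤
      limsup (fun m : ℕ =>
        (Module.finrank k (Coh.HH X (CohB1.tensorPow (CohB1.tensorMod L E) m) 0) : ℝ≥0∞) /
          (m : ℝ≥0∞) ^ d) atTop := by
  haveI : Mono s := Groth.Agent.Lib.Lead.CurveInv.mono_of_ne_zero
    (Groth.Agent.Lib.helper11.InvMod.isInvertible_structureModule X) hE s hs
  have hLE := Groth.Agent.Lib.helper12.TensorInv.isInvertible_tensorMod hL hE
  refine limsup_le_limsup ?_ (by isBoundedDefault) (by isBoundedDefault)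
  · refine Eventually.of_forall (fun m => ?_)
    haveI := mono_powMap hL hE s m
    have hc : Coh.IsCoh (CohB1.tensorPow (CohB1.tensorMod L E) m) :=
      Groth.Agent.Lib.Lead.CurveInv.isCoh_of_isInvertible X
        (Groth.Agent.Lib.helper12.TensorInv.isInvertible_tensorPow hLE m)
    have h := finrank_H0_le_of_mono k X (powMap L s m) hc
    apply ENNReal.div_le_div_right
    exact_mod_cast h

end Vol

end Groth.Agent.Lib.helper7.Growth
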