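import Mathlib.CategoryTheory.Abelian.LeftDerived

/-!
# helper7: left derived functors are additive
-/

universe v u v' u'

open CategoryTheory Category Limits

namespace Groth.Agent.Lib.helper7.LeftDerivedAdditive

variable {C : Type u} [Category.{v} C] [Abelian C] [HasProjectiveResolutions C]
variable {D : Type u'} [Category.{v'} D] [Abelian D]

theorem leftDerived_map_add (F : C ⥤ D) [F.Additive] (n : ℕ) {X Y : C} (f g : X ⟶ Y) :
    (F.leftDerived n).map (f + g) = (F.leftDerived n).map f + (F.leftDerived n).map g := by
  obtain ⟨P⟩ : Nonempty (ProjectiveResolution X) := HasProjectiveResolution.out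
  obtain ⟨Q⟩ : Nonempty (ProjectiveResolution Y) := HasProjectiveResolution.out
  have wf := ProjectiveResolution.lift_commutes f P Q
  have wg := ProjectiveResolution.lift_commutes g P Q
  have wfg : (ProjectiveResolution.lift f P Q + ProjectiveResolution.lift g P Q) ≫ Q.π =
      P.π ≫ (ChainComplex.single₀ C).map (f + g) := by
    rw [Preadditive.add_comp, wf, wg, Functor.map_add, Preadditive.comp_add]
  rw [F.leftDerived_map_eq n f _ wf, F.leftDerived_map_eq n g _ wg,
    F.leftDerived_map_eq n (f + g) _ wfg, Functor.map_add, Preadditive.add_comp,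
    Preadditive.comp_add]

instance leftDerived_additive (F : C ⥤ D) [F.Additive] (n : ℕ) : (F.leftDerived n).Additive where
  map_add := leftDerived_map_add F n _ _

end Groth.Agent.Lib.helper7.LeftDerivedAdditive
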