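import Groth.Agent.Lib.Helper7.TorAPI3
import Groth.Agent.Lib.Helper7.ModSES
import Groth.Agent.Lib.Helper7.LeftDerivedAdditive

/-!
# helper7: Tor on `ModuleCat`: more consequences of the long exact sequence
-/

universe u

open CategoryTheory Category Limits MonoidalCategory

namespace Groth.Agent.Lib.helper7.TorAPI

variable {A : Type u} [CommRing A]

instance (n : ℕ) (M : ModuleCat.{u} A) : (T n M).Additive :=
  LeftDerivedAdditive.leftDerived_additive (tF M) n

lemma mono_T0_map_iff (M : ModuleCat.{u} A) {X Y : ModuleCat.{u} A} (f : X ⟶ Y) :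
    Mono ((T 0 M).map f) ↔ Mono ((tF M).map f) := by
  have hnat : (T 0 M).map f ≫ (tor0Iso M).hom.app Y =
      (tor0Iso M).hom.app X ≫ (tF M).map f := (tor0Iso M).hom.naturality f
  constructor
  · intro h
    have : (tF M).map f = (tor0Iso M).inv.app X ≫ (T 0 M).map f ≫
        (tor0Iso M).hom.app Y := by
      rw [hnat, ← assoc, ← NatTrans.comp_app, Iso.inv_hom_id, NatTrans.id_app, id_comp]
    rw [this]
    infer_instance
  · intro h
    have : (T 0 M).map f = (tor0Iso M).hom.app X ≫ (tF M).map f ≫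
        (tor0Iso M).inv.app Y := by
      rw [← assoc, ← hnat, assoc, ← NatTrans.comp_app, Iso.hom_inv_id, NatTrans.id_app, comp_id]
    rw [this]
    infer_instance

lemma tF_map_hom (M : ModuleCat.{u} A) {X Y : ModuleCat.{u} A} (f : X ⟶ Y) :
    ((tF M).map f).hom = LinearMap.lTensor M f.hom := rfl

lemma mono_tF_map_iff (M : ModuleCat.{u} A) {X Y : ModuleCat.{u} A} (f : X ⟶ Y) :
    Mono ((tF M).map f) ↔ Function.Injective (LinearMap.lTensor M f.hom) := by
  rw [ModuleCat.mono_iff_injective]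
  exact Iff.rfl

variable (M : ModuleCat.{u} A) {S : ShortComplex (ModuleCat.{u} A)} (hS : S.ShortExact)

include hS in
/-- `Tor_{n+1}(M, X₂) → Tor_{n+1}(M, X₃)` is epi iff `Tor_n(M, X₁) → Tor_n(M, X₂)` is mono. -/
theorem epi_T_succ_map_g_iff (n : ℕ) :
    Epi ((T (n + 1) M).map S.g) ↔ Mono ((T n M).map S.f) := by
  obtain ⟨δ, w₁, w₂, e₁, e₂⟩ := T_exists_δ M hS n
  constructor
  · intro h
    have hδ : δ = 0 := by rw [← cancel_epi ((T (n + 1) M).map S.g), w₁, comp_zero]
    exact e₂.mono_g hδ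
  · intro h
    have hδ : δ = 0 := by rw [← cancel_mono ((T n M).map S.f), w₂, zero_comp]
    exact e₁.epi_f hδ

include hS in
/-- `Tor_1(M, X₂) → Tor_1(M, X₃)` is epi iff `M ⊗ X₁ → M ⊗ X₂` is injective. -/
theorem epi_T_one_map_g_iff :
    Epi ((T 1 M).map S.g) ↔ Function.Injective (LinearMap.lTensor M S.f.hom) := by
  rw [epi_T_succ_map_g_iff M hS 0, mono_T0_map_iff, mono_tF_map_iff]

include hS in
/-- `Tor_1(M, X₃)` embeds in `M ⊗ X₁` with image the kernel of `M ⊗ X₁ → M ⊗ X₂`, when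
`Tor_1(M, X₂) = 0`. -/
theorem exists_linearMap_tor_one (h₁ : IsZero ((T 1 M).obj S.X₂)) :
    ∃ d : ((T 1 M).obj S.X₃) →ₗ[A] (TensorProduct A M S.X₁), Function.Injective d ∧
      LinearMap.range d = LinearMap.ker (LinearMap.lTensor M S.f.hom) := by
  obtain ⟨δ, w₁, w₂, e₁, e₂⟩ := T_exists_δ M hS 0
  haveI : Mono δ := e₁.mono_g (h₁.eq_of_src _ _)
  have hnat : (T 0 M).map S.f ≫ (tor0Iso M).hom.app S.X₂ =
      (tor0Iso M).hom.app S.X₁ ≫ (tF M).map S.f := (tor0Iso M).hom.naturality S.f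
  obtain ⟨δ', hδ'⟩ : ∃ δ' : (T 1 M).obj S.X₃ ⟶ (tF M).obj S.X₁,
      δ' = δ ≫ (tor0Iso M).hom.app S.X₁ := ⟨_, rfl⟩
  haveI : Mono δ' := by rw [hδ']; infer_instance
  have w' : δ' ≫ (tF M).map S.f = 0 := by
    rw [hδ', assoc, ← hnat, reassoc_of% w₂, zero_comp]
  have hex : (ShortComplex.mk δ' ((tF M).map S.f) w').Exact := by
    refine ShortComplex.exact_of_iso ?_ e₂
    exact ShortComplex.isoMk (Iso.refl _) ((tor0Iso M).app S.X₁) ((tor0Iso M).app S.X₂)
      (by simp [hδ']) (by simp)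
  refine ⟨δ'.hom, (ModuleCat.mono_iff_injective δ').1 inferInstance, ?_⟩
  exact (ShortComplex.moduleCat_exact_iff_range_eq_ker _).1 hex

section additive

variable {D : Type*} [Category D] [Preadditive D] [HasBinaryBiproducts D]
variable (G : ModuleCat.{u} A ⥤ D) [G.Additive]
variable {X Y Z : Type u} [AddCommGroup X] [Module A X] [AddCommGroup Y] [Module A Y]
  [AddCommGroup Z] [Module A Z]

/-- for an additive functor on modules, `G(X) ⊞ G(Y) ⟶ G(Z)` is epi iff `G(X × Y) ⟶ G(Z)` is. -/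
lemma epi_biprod_desc_iff (p : X →ₗ[A] Z) (q : Y →ₗ[A] Z) :
    Epi (biprod.desc (G.map (ModuleCat.ofHom p)) (G.map (ModuleCat.ofHom q))) ↔
      Epi (G.map (ModuleCat.ofHom (p.coprod q))) := by
  obtain ⟨ψ, hψ⟩ : ∃ ψ, ψ = biprod.desc (G.map (ModuleCat.ofHom (LinearMap.inl A X Y)))
    (G.map (ModuleCat.ofHom (LinearMap.inr A X Y))) := ⟨_, rfl⟩
  have h1 : ψ ≫ G.map (ModuleCat.ofHom (p.coprod q)) =
      biprod.desc (G.map (ModuleCat.ofHom p)) (G.map (ModuleCat.ofHom q)) := by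
    rw [hψ]
    apply biprod.hom_ext'
    · rw [biprod.inl_desc_assoc, biprod.inl_desc, ← G.map_comp, ← ModuleCat.ofHom_comp,
        LinearMap.coprod_inl]
    · rw [biprod.inr_desc_assoc, biprod.inr_desc, ← G.map_comp, ← ModuleCat.ofHom_comp,
        LinearMap.coprod_inr]
  have h2 : biprod.lift (G.map (ModuleCat.ofHom (LinearMap.fst A X Y)))
      (G.map (ModuleCat.ofHom (LinearMap.snd A X Y))) ≫ ψ = 𝟙 _ := by
    rw [hψ, biprod.lift_desc, ← G.map_comp, ← G.map_comp, ← G.map_add, ← G.map_id]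
    congr 1
    apply ModuleCat.hom_ext
    apply LinearMap.ext
    rintro ⟨x, y⟩
    simp [ModuleCat.hom_add]
  haveI : Epi ψ := ⟨fun a b hab => by
    have := congrArg (fun t => biprod.lift (G.map (ModuleCat.ofHom (LinearMap.fst A X Y)))
      (G.map (ModuleCat.ofHom (LinearMap.snd A X Y))) ≫ t) hab
    simpa only [reassoc_of% h2] using this⟩
  rw [← h1]
  constructor
  · intro h
    exact epi_of_epi ψ _
  · intro h
    infer_instance

end additive

end Groth.Agent.Lib.helper7.TorAPI
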