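import Groth.Agent.Lib.Helper7.LeftDerivedLES
import Mathlib.CategoryTheory.Monoidal.Tor
import Mathlib.Algebra.Category.ModuleCat.Monoidal.Closed
import Mathlib.Algebra.Category.ModuleCat.Projective
import Mathlib.Algebra.Homology.ShortComplex.ModuleCat

/-!
# helper7: API for Mathlib's `Tor` on `ModuleCat` (long exact sequence in the second variable,
dimension shifting)
-/

universe u

open CategoryTheory Category Limits MonoidalCategory

namespace Groth.Agent.Lib.helper7.TorAPI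

variable {A : Type u} [CommRing A]

/-- `M ⊗ -`. -/
noncomputable abbrev tF (M : ModuleCat.{u} A) : ModuleCat.{u} A ⥤ ModuleCat.{u} A :=
  (tensoringLeft (ModuleCat.{u} A)).obj M

/-- `Tor_n(M, -)`. -/
noncomputable abbrev T (n : ℕ) (M : ModuleCat.{u} A) : ModuleCat.{u} A ⥤ ModuleCat.{u} A :=
  (Tor (ModuleCat.{u} A) n).obj M

lemma T_eq (n : ℕ) (M : ModuleCat.{u} A) : T n M = (tF M).leftDerived n := rfl

instance (M : ModuleCat.{u} A) : PreservesFiniteColimits (tF M) :=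
  inferInstanceAs (PreservesFiniteColimits (tensorLeft M))

/-- `Tor_0(M, -) ≅ M ⊗ -`. -/
noncomputable def tor0Iso (M : ModuleCat.{u} A) : T 0 M ≅ tF M :=
  (tF M).leftDerivedZeroIsoSelf

lemma isZero_T_projective (M P : ModuleCat.{u} A) [Projective P] (n : ℕ) :
    IsZero ((T (n + 1) M).obj P) :=
  Functor.isZero_leftDerived_obj_projective_succ (tF M) n P

variable (M : ModuleCat.{u} A) {S : ShortComplex (ModuleCat.{u} A)} (hS : S.ShortExact)

include hS in
lemma T_map_comp_eq_zero (n : ℕ) : (T n M).map S.f ≫ (T n M).map S.g = 0 :=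
  LeftDerivedLES.leftDerived_map_comp_eq_zero hS (tF M) n

include hS in
theorem T_exact₂ (n : ℕ) :
    (ShortComplex.mk ((T n M).map S.f) ((T n M).map S.g) (T_map_comp_eq_zero M hS n)).Exact :=
  LeftDerivedLES.leftDerived_exact₂ hS (tF M) n

include hS in
theorem T_exists_δ (n : ℕ) :
    ∃ (δ : (T (n + 1) M).obj S.X₃ ⟶ (T n M).obj S.X₁)
      (w₁ : (T (n + 1) M).map S.g ≫ δ = 0) (w₂ : δ ≫ (T n M).map S.f = 0),
      (ShortComplex.mk ((T (n + 1) M).map S.g) δ w₁).Exact ∧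
        (ShortComplex.mk δ ((T n M).map S.f) w₂).Exact :=
  LeftDerivedLES.leftDerived_exists_δ hS (tF M) n

include hS in
/-- dimension shifting: the connecting map is an isomorphism when `Tor(M, X₂)` vanishes. -/
theorem exists_iso_of_isZero (n : ℕ) (h₁ : IsZero ((T (n + 1) M).obj S.X₂))
    (h₀ : IsZero ((T n M).obj S.X₂)) :
    Nonempty ((T (n + 1) M).obj S.X₃ ≅ (T n M).obj S.X₁) := by
  obtain ⟨δ, w₁, w₂, e₁, e₂⟩ := T_exists_δ M hS n
  haveI : Mono δ := e₁.mono_g (h₁.eq_of_src _ _)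
  haveI : Epi δ := e₂.epi_f (h₀.eq_of_tgt _ _)
  haveI : IsIso δ := isIso_of_mono_of_epi δ
  exact ⟨asIso δ⟩

include hS in
theorem isZero_succ_iff (n : ℕ) (h₁ : IsZero ((T (n + 1) M).obj S.X₂))
    (h₀ : IsZero ((T n M).obj S.X₂)) :
    IsZero ((T (n + 1) M).obj S.X₃) ↔ IsZero ((T n M).obj S.X₁) := by
  obtain ⟨e⟩ := exists_iso_of_isZero M hS n h₁ h₀
  exact ⟨fun h => h.of_iso e.symm, fun h => h.of_iso e⟩

include hS in
/-- `Tor_1(M, X₃) = 0` iff `M ⊗ X₁ → M ⊗ X₂` is a monomorphism, when `Tor_1(M, X₂) = 0`. -/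
theorem isZero_one_iff (h₁ : IsZero ((T 1 M).obj S.X₂)) :
    IsZero ((T 1 M).obj S.X₃) ↔ Mono ((tF M).map S.f) := by
  obtain ⟨δ, w₁, w₂, e₁, e₂⟩ := T_exists_δ M hS 0
  haveI : Mono δ := e₁.mono_g (h₁.eq_of_src _ _)
  have hnat : (T 0 M).map S.f ≫ (tor0Iso M).hom.app S.X₂ =
      (tor0Iso M).hom.app S.X₁ ≫ (tF M).map S.f := (tor0Iso M).hom.naturality S.f
  have hmono : Mono ((T 0 M).map S.f) ↔ Mono ((tF M).map S.f) := by
    constructor
    · intro h
      have : (tF M).map S.f = (tor0Iso M).inv.app S.X₁ ≫ (T 0 M).map S.f ≫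
          (tor0Iso M).hom.app S.X₂ := by
        rw [hnat, ← assoc, ← NatTrans.comp_app, Iso.inv_hom_id, NatTrans.id_app, id_comp]
      rw [this]
      infer_instance
    · intro h
      have : (T 0 M).map S.f = (tor0Iso M).hom.app S.X₁ ≫ (tF M).map S.f ≫
          (tor0Iso M).inv.app S.X₂ := by
        rw [← assoc, ← hnat, assoc, ← NatTrans.comp_app, Iso.hom_inv_id, NatTrans.id_app, comp_id]
      rw [this]
      infer_instance
  rw [← hmono]
  constructor
  · intro h
    have hδ : δ = 0 := h.eq_of_src _ _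
    exact (ShortComplex.exact_iff_mono _ hδ).1 e₂
  · intro h
    have hδ : δ = 0 := by
      rw [← cancel_mono ((T 0 M).map S.f), w₂, zero_comp]
    rw [IsZero.iff_id_eq_zero, ← cancel_mono δ, hδ, comp_zero, zero_comp]

end Groth.Agent.Lib.helper7.TorAPI
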