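import Groth.Prelude.Def_SpSeq
import Mathlib.CategoryTheory.Abelian.Basic
import Mathlib.CategoryTheory.Subobject.Limits
import Mathlib.CategoryTheory.Subobject.Lattice

/-!
# Generalised elements of subobjects in an abelian category, strict morphisms of filtered objects
(helper7)
-/

set_option autoImplicit false
universe v u

open CategoryTheory CategoryTheory.Limits

namespace Groth.Agent.Lib.helper7.FilObjElem

variable {A : Type u} [Category.{v} A] [Abelian A]

/-- A subobject in an abelian category is the kernel of its cokernel: factoring criterion. -/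
theorem factors_iff_comp_cokernel {X T : A} (S : Subobject X) (x : T ⟶ X) :
    S.Factors x ↔ x ≫ cokernel.π S.arrow = 0 := by
  constructor
  · intro h
    rw [← Subobject.factorThru_arrow S x h, Category.assoc, cokernel.condition, comp_zero]
  · intro h
    rw [Subobject.factors_iff]
    exact ⟨Abelian.monoLift S.arrow x h, Abelian.monoLift_comp S.arrow x h⟩

theorem factors_of_epi_comp {X T T' : A} (S : Subobject X) (π : T' ⟶ T) [Epi π] (x : T ⟶ X)
    (h : S.Factors (π ≫ x)) : S.Factors x := by
  rw [factors_iff_comp_cokernel] at h ⊢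
  rw [Category.assoc] at h
  exact (cancel_epi π).mp (h.trans comp_zero.symm)

omit [Abelian A] in
theorem le_iff_factors {X : A} (S S' : Subobject X) :
    S ≤ S' ↔ ∀ (T : A) (x : T ⟶ X), S.Factors x → S'.Factors x :=
  ⟨fun h _ x hx => Subobject.factors_of_le x h hx,
    fun h => Subobject.le_of_factors (h _ _ S.factors_self)⟩

omit [Abelian A] in
theorem eq_iff_factors {X : A} (S S' : Subobject X) :
    S = S' ↔ ∀ (T : A) (x : T ⟶ X), S.Factors x ↔ S'.Factors x :=
  ⟨fun h _ _ => by rw [h], fun h => le_antisymm ((le_iff_factors _ _).2 fun T x => (h T x).1)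
    ((le_iff_factors _ _).2 fun T x => (h T x).2)⟩

/-- Generalised elements of the image. -/
theorem imageSubobject_factors_iff {X Y T : A} (h : X ⟶ Y) (x : T ⟶ Y) :
    (imageSubobject h).Factors x ↔
      ∃ (T' : A) (π : T' ⟶ T) (_ : Epi π) (y : T' ⟶ X), π ≫ x = y ≫ h := by
  constructor
  · intro hx
    refine ⟨pullback ((imageSubobject h).factorThru x hx) (factorThruImageSubobject h),
      pullback.fst _ _, inferInstance, pullback.snd _ _, ?_⟩
    have e : (imageSubobject h).factorThru x hx ≫ (imageSubobject h).arrow = x :=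
      Subobject.factorThru_arrow _ x hx
    calc pullback.fst ((imageSubobject h).factorThru x hx) (factorThruImageSubobject h) ≫ x
        = (pullback.fst ((imageSubobject h).factorThru x hx) (factorThruImageSubobject h) ≫
            (imageSubobject h).factorThru x hx) ≫ (imageSubobject h).arrow := by
          rw [Category.assoc, e]
      _ = _ := by
          rw [pullback.condition, Category.assoc, imageSubobject_arrow_comp]
  · rintro ⟨T', π, _, y, hy⟩
    apply factors_of_epi_comp _ π
    rw [hy]
    exact imageSubobject_factors_comp_self h y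

open SpSeq

/-- The elementwise form of a morphism of filtered objects. -/
theorem hom_factors {K L : FilObj A} (f : K ⟶ L) (p : ℤ) {T : A} (x : T ⟶ K.obj)
    (hx : (K.fil p).Factors x) : (L.fil p).Factors (x ≫ f.hom) :=
  (Limits.pullback_factors_iff _ _ _).mp (Subobject.factors_of_le x (f.compat p) hx)

/-- Elementwise criterion for strictness. -/
theorem isStrict_iff {K L : FilObj A} (f : K ⟶ L) :
    FilObj.IsStrict f ↔ ∀ (p : ℤ) (T : A) (x : T ⟶ L.obj), (L.fil p).Factors x →
      (∃ (T' : A) (π : T' ⟶ T) (_ : Epi π) (y : T' ⟶ K.obj), π ≫ x = y ≫ f.hom) →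
      ∃ (T' : A) (π : T' ⟶ T) (_ : Epi π) (y : T' ⟶ K.obj),
        (K.fil p).Factors y ∧ π ≫ x = y ≫ f.hom := by
  constructor
  · intro hf p T x hx him
    have h1 : (imageSubobject f.hom ⊓ L.fil p).Factors x :=
      (Subobject.inf_factors x).mpr ⟨(imageSubobject_factors_iff _ _).mpr him, hx⟩
    rw [← hf p, imageSubobject_factors_iff] at h1
    obtain ⟨T', π, hπ, y, hy⟩ := h1
    exact ⟨T', π, hπ, y ≫ (K.fil p).arrow, Subobject.factors_comp_arrow y, by
      rw [hy, Category.assoc]⟩
  · intro h p
    rw [eq_iff_factors]
    intro T x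
    rw [Subobject.inf_factors, imageSubobject_factors_iff, imageSubobject_factors_iff]
    constructor
    · rintro ⟨T', π, hπ, y, hy⟩
      refine ⟨⟨T', π, hπ, y ≫ (K.fil p).arrow, by rw [hy, Category.assoc]⟩, ?_⟩
      apply factors_of_epi_comp _ π
      rw [hy, ← Category.assoc]
      exact hom_factors f p _ (Subobject.factors_comp_arrow y)
    · rintro ⟨him, hx⟩
      obtain ⟨T', π, hπ, y, hy1, hy2⟩ := h p T x hx him
      exact ⟨T', π, hπ, (K.fil p).factorThru y hy1, by
        rw [← Category.assoc, Subobject.factorThru_arrow, hy2]⟩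

end Groth.Agent.Lib.helper7.FilObjElem
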