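import Groth.Agent.Lib.Helper7.FilObjElem
import Mathlib.Algebra.Homology.ShortComplex.HomologicalComplex
import Mathlib.Algebra.Homology.ShortComplex.Exact

/-!
# Basic lemmas on the spectral sequence of a filtered complex (`SpSeq.FilCx`) (helper7)
-/

set_option autoImplicit false
universe v u

open CategoryTheory CategoryTheory.Limits SpSeq SpSeq.FilCx

namespace Groth.Agent.Lib.helper7.FilCxBasic

variable {A : Type u} [Category.{v} A] [Abelian A]

lemma isZero_subquot_of_eq {X : A} (Z B : Subobject X) (h : B ≤ Z) (h' : Z = B) :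
    IsZero (subquot Z B h) := by
  subst h'
  unfold subquot
  have : IsIso (Z.ofLE Z h) := by
    rw [Subobject.ofLE_refl]
    infer_instance
  exact isZero_cokernel_of_epi _

lemma pullback_bot_le_kernel {X Y : A} (f : X ⟶ Y) :
    (Subobject.pullback f).obj ⊥ ≤ kernelSubobject f := by
  rw [FilObjElem.le_iff_factors]
  intro T x hx
  rw [pullback_factors_iff, Subobject.bot_factors_iff_zero] at hx
  exact (kernelSubobject_factors_iff f x).mpr hx

lemma pullback_bot_eq_kernel {X Y : A} (f : X ⟶ Y) :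
    (Subobject.pullback f).obj ⊥ = kernelSubobject f :=
  le_antisymm (pullback_bot_le_kernel f) (FilCx.kernelSubobject_le_pullback f ⊥)

variable (K : FilCx A)

lemma filX_eq_bot_of_le (n : ℤ) {b p : ℤ} (hb : K.filX b n = ⊥) (h : b ≤ p) : K.filX p n = ⊥ :=
  le_bot_iff.mp (hb ▸ K.filX_anti n h)

lemma filX_eq_top_of_le (n : ℤ) {a p : ℤ} (ha : K.filX a n = ⊤) (h : p ≤ a) : K.filX p n = ⊤ :=
  top_le_iff.mp (ha ▸ K.filX_anti n h)

lemma filH_eq_bot_of_le (n : ℤ) {b p : ℤ} (hb : K.filH b n = ⊥) (h : b ≤ p) : K.filH p n = ⊥ :=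
  le_bot_iff.mp (hb ▸ K.filH_anti n h)

lemma filH_eq_top_of_le (n : ℤ) {a p : ℤ} (ha : K.filH a n = ⊤) (h : p ≤ a) : K.filH p n = ⊤ :=
  top_le_iff.mp (ha ▸ K.filH_anti n h)

/-- If `F^b K^n = 0` then `F^b H^n = 0`. -/
lemma filH_eq_bot (n b : ℤ) (hb : K.filX b n = ⊥) : K.filH b n = ⊥ := by
  unfold filH
  have h0 : (K.fil b).arrow.f n = 0 := Subobject.mk_eq_bot_iff_zero.mp hb
  have hz : IsZero ((K.fil b : CochainComplex A ℤ).X n) := IsZero.of_mono_eq_zero _ h0
  have hz2 : IsZero ((K.fil b : CochainComplex A ℤ).homology n) :=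
    (ShortComplex.exact_iff_isZero_homology _).mp (ShortComplex.exact_of_isZero_X₂ _ hz)
  have h1 : HomologicalComplex.homologyMap (K.fil b).arrow n = 0 := hz2.eq_of_src _ _
  simp only [h1, imageSubobject_zero]

/-- If `F^a K^m = K^m` for `m = prev n, n, next n` then `F^a H^n = H^n`. -/
lemma filH_eq_top (n a : ℤ) (h1 : K.filX a ((ComplexShape.up ℤ).prev n) = ⊤)
    (h2 : K.filX a n = ⊤) (h3 : K.filX a ((ComplexShape.up ℤ).next n) = ⊤) :
    K.filH a n = ⊤ := by
  unfold filH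
  have i1 : IsIso ((K.fil a).arrow.f ((ComplexShape.up ℤ).prev n)) :=
    (Subobject.isIso_iff_mk_eq_top _).mpr h1
  have i2 : IsIso ((K.fil a).arrow.f n) := (Subobject.isIso_iff_mk_eq_top _).mpr h2
  have i3 : IsIso ((K.fil a).arrow.f ((ComplexShape.up ℤ).next n)) :=
    (Subobject.isIso_iff_mk_eq_top _).mpr h3
  have hiso : IsIso (HomologicalComplex.homologyMap (K.fil a).arrow n) := by
    unfold HomologicalComplex.homologyMap
    apply ShortComplex.isIso_homologyMap_of_epi_of_isIso_of_mono'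
    · change Epi ((K.fil a).arrow.f _)
      infer_instance
    · change IsIso ((K.fil a).arrow.f _)
      infer_instance
    · change Mono ((K.fil a).arrow.f _)
      infer_instance
  rw [imageSubobject_mono]
  exact (Subobject.isIso_iff_mk_eq_top _).mp hiso

/-- `ZTop ≤ ZSub r`. -/
lemma ZTop_le_ZSub (r : ℕ) (p n : ℤ) : K.ZTop p n ≤ K.ZSub r p n :=
  sup_le_sup_right (inf_le_inf_left _ (FilCx.kernelSubobject_le_pullback _ _)) _

/-- `BSub r ≤ BBot`. -/
lemma BSub_le_BBot (r : ℕ) (p n : ℤ) : K.BSub r p n ≤ K.BBot p n :=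
  sup_le_sup_right (inf_le_inf_left _ (imageSubobject_comp_le _ _)) _

/-- If `F^{p+r} K^{n+1} = 0` then `ZSub r = ZTop`. -/
lemma ZSub_eq_ZTop (r : ℕ) (p n : ℤ) (h : K.filX (p + r) (n + 1) = ⊥) :
    K.ZSub r p n = K.ZTop p n := by
  unfold ZSub ZTop
  rw [h, pullback_bot_eq_kernel]

/-- If `F^{p-r+1} K^{n-1} = K^{n-1}` then `BSub r = BBot`. -/
lemma BSub_eq_BBot (r : ℕ) (p n : ℤ) (h : K.filX (p - r + 1) (n - 1) = ⊤) :
    K.BSub r p n = K.BBot p n := by
  unfold BSub BBot
  have : IsIso (K.filX (p - r + 1) (n - 1)).arrow := (Subobject.isIso_arrow_iff_eq_top _).mpr h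
  rw [imageSubobject_iso_comp]

/-- A filtered object with some step zero is complete. -/
lemma isComplete_of_fil_eq_bot (L : FilObj A) (b : ℤ) (hb : L.fil b = ⊥) : L.IsComplete := by
  intro T f hf
  have harrow : ∀ p, b ≤ p → (L.fil p).arrow = 0 := by
    intro p hp
    have h1 : L.fil p = ⊥ := le_bot_iff.mp (hb ▸ L.anti hp)
    rw [h1]
    exact Subobject.bot_arrow
  -- sections of the projections
  have hs : ∀ p, b ≤ p → ∃ s : L.quot p ⟶ L.obj,
      cokernel.π (L.fil p).arrow ≫ s = 𝟙 _ ∧ s ≫ cokernel.π (L.fil p).arrow = 𝟙 _ := by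
    intro p hp
    refine ⟨cokernel.desc _ (𝟙 _) (by rw [harrow p hp, zero_comp]), cokernel.π_desc _ _ _, ?_⟩
    rw [← cancel_epi (cokernel.π (L.fil p).arrow), ← Category.assoc, cokernel.π_desc,
      Category.id_comp, Category.comp_id]
  obtain ⟨s, hs1, hs2⟩ := hs b le_rfl
  have hπq : ∀ (p q : ℤ) (h : p ≤ q),
      cokernel.π (L.fil q).arrow ≫ L.quotMap h = cokernel.π (L.fil p).arrow := by
    intro p q h
    unfold FilObj.quotMap
    rw [cokernel.π_desc]
  refine ⟨f b ≫ s, fun p => ?_⟩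
  rcases le_total p b with hp | hp
  · rw [Category.assoc, ← hπq p b hp, ← Category.assoc s, hs2, Category.id_comp]
    exact hf p b hp
  · obtain ⟨sp, hsp1, hsp2⟩ := hs p hp
    have h1 : L.quotMap hp ≫ s = sp := by
      rw [← cancel_epi (cokernel.π (L.fil p).arrow), ← Category.assoc, hπq b p hp, hs1, hsp1]
    rw [← hf b p hp, Category.assoc, Category.assoc, ← Category.assoc (L.quotMap hp), h1, hsp2,
      Category.comp_id]

end Groth.Agent.Lib.helper7.FilCxBasic
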