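import Groth.Agent.Lib.Helper7.FittSheaf2
import Groth.Agent.Lib.Helper7.IdealCartier
import Groth.Agent.Lib.Helper16.FLF7
import Groth.Agent.Lib.Helper16.QCohEpi

/-!
# Fitting ideal sheaves and local generation (helper7)
-/

set_option autoImplicit false
set_option linter.style.haveILetI false
set_option linter.unusedSectionVars false
universe u
open CategoryTheory CategoryTheory.Limits AlgebraicGeometry TopologicalSpace Opposite
open Scheme.Modules

namespace Groth.Agent.Lib.helper7.FittSheaf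

open Groth.Agent.Lib.helper16.CohFinite Groth.Agent.Lib.helper16.CohStalk
  Groth.Agent.Lib.helper15.FittLink Groth.Agent.Lib.helper16.FLF
  Groth.Agent.Lib.helper16.QCohPullback

variable {X : Scheme.{u}} (F : X.Modules) [F.IsQuasicoherent]

set_option backward.isDefEq.respectTransparency false in
/-- generating sections over an affine open give an epimorphism from a free module -/
theorem exists_epi_freeMod_of_span {U : X.Opens} (hU : IsAffineOpen U) {r : ℕ}
    (g : Fin r → Γ(F, U)) (hg : Submodule.span Γ(X, U) (Set.range g) = ⊤) :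
    ∃ π : FlatMod.freeMod (↑U) r ⟶ F.restrict U.ι, Epi π := by
  let p : (Fin r → Γ(X, U)) →ₗ[Γ(X, U)] Γ(F, U) := Fintype.linearCombination Γ(X, U) g
  have hp : Function.Surjective p := by
    rw [← LinearMap.range_eq_top, Fintype.range_linearCombination]
    exact hg
  let q : stdFree Γ(X, U) r ⟶ secMod F hU :=
    ModuleCat.ofHom p ≫ (secEquiv F hU).toModuleIso.hom
  have hq0 : Epi (ModuleCat.ofHom p) := (ModuleCat.epi_iff_surjective _).mpr hp
  have hq : Epi q := epi_comp' hq0 inferInstance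
  have h2 : Epi ((tilde.functor Γ(X, U)).map q) := inferInstance
  have h1 : IsIso (F.restrict hU.fromSpec).fromTildeΓ :=
    Scheme.Modules.isIso_fromTildeΓ_of_isQuasicoherent _
  let π₀ : FlatMod.freeMod (Spec Γ(X, U)) r ⟶ F.restrict hU.fromSpec :=
    (tildeFreeModIso Γ(X, U) r).inv ≫ (tilde.functor Γ(X, U)).map q ≫
      (F.restrict hU.fromSpec).fromTildeΓ
  have h3 : Epi π₀ := epi_comp' inferInstance (epi_comp' h2 inferInstance)
  have h4 : Epi ((Scheme.Modules.restrictFunctor hU.isoSpec.hom).map π₀) := inferInstance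
  exact ⟨(restrictFreeModIso hU.isoSpec.hom r).inv ≫
    (Scheme.Modules.restrictFunctor hU.isoSpec.hom).map π₀ ≫ (restrictIsoSpecIso F hU).hom,
    epi_comp' inferInstance (epi_comp' h4 inferInstance)⟩

theorem fitt_ideal_congr_module {R : Type u} [CommRing R] {M : Type u} [AddCommGroup M]
    (m₁ m₂ : Module R M) (h : ∀ (r : R) (x : M), m₁.smul r x = m₂.smul r x) (k : ℕ) :
    @Fitt.ideal R _ M _ m₁ k = @Fitt.ideal R _ M _ m₂ k := by
  have : m₁ = m₂ := Module.ext' _ _ h
  rw [this]

/-- the module structure on `Γ(F, V.ι ''ᵁ W)` coming from `F.restrict V.ι` -/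
@[reducible]
noncomputable def restrictModule (V : X.Opens) (W : (↑V : Scheme.{u}).Opens) :
    Module Γ(X, V.ι ''ᵁ W) Γ(F, V.ι ''ᵁ W) :=
  inferInstanceAs (Module Γ((↑V : Scheme.{u}), W) Γ(F.restrict V.ι, W))

omit [F.IsQuasicoherent] in
theorem restrictModule_eq (V : X.Opens) (W : (↑V : Scheme.{u}).Opens) :
    restrictModule F V W = (inferInstance : Module Γ(X, V.ι ''ᵁ W) Γ(F, V.ι ''ᵁ W)) := by
  refine Module.ext' _ _ fun a y => ?_
  exact IdealCartier.restrict_smul V F W a y

set_option backward.isDefEq.respectTransparency false in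
omit [F.IsQuasicoherent] in
/-- Fitting ideals of sections of a restriction to an open subscheme -/
theorem fitt_restrict_eq (V : X.Opens) (W : (↑V : Scheme.{u}).Opens) (r : ℕ) :
    Fitt.ideal Γ((↑V : Scheme.{u}), W) Γ(F.restrict V.ι, W) r =
      (Fitt.ideal Γ(X, V.ι ''ᵁ W) Γ(F, V.ι ''ᵁ W) r : Ideal Γ(X, V.ι ''ᵁ W)) := by
  change @Fitt.ideal Γ(X, V.ι ''ᵁ W) _ Γ(F, V.ι ''ᵁ W) _ (restrictModule F V W) r = _
  rw [restrictModule_eq]

/-- the action of a morphism of modules on sections, as a linear map -/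
noncomputable def appₗ {M N : X.Modules} (φ : M ⟶ N) (U : X.Opens) :
    Γ(M, U) →ₗ[Γ(X, U)] Γ(N, U) where
  toFun := (φ.app U).hom
  map_add' := map_add _
  map_smul' := fun r x => Scheme.Modules.Hom.app_smul φ r x

variable (hft : SheafOfModules.IsFiniteType (R := X.ringCatSheaf) F)

include hft in
/-- **`F` is generated by `r` sections near `s` iff `s ∉ V(Fit_r F)`** -/
theorem exists_epi_freeMod_iff (s : X) (r : ℕ) :
    (∃ U : X.Opens, s ∈ U ∧ ∃ π : FlatMod.freeMod (↑U) r ⟶ F.restrict U.ι, Epi π) ↔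
      s ∉ (Fitt.sheafIdeal F r).support := by
  constructor
  · rintro ⟨U, hsU, π, hπ⟩
    obtain ⟨_, ⟨W, hW : IsAffineOpen W, rfl⟩, hsW, -⟩ :=
      (↑U : Scheme.{u}).isBasis_affineOpens.exists_subset_of_mem_open
        (Set.mem_univ (⟨s, hsU⟩ : (↑U : Scheme.{u}))) isOpen_univ
    have hflf := isFinLocFree_freeMod (↑U : Scheme.{u}) r
    haveI qc1 : (FlatMod.freeMod (↑U : Scheme.{u}) r).IsQuasicoherent :=
      isQuasicoherent_of_isFinLocFree _ hflf
    haveI qc2 : (F.restrict U.ι).IsQuasicoherent := inferInstance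
    have hftfree : SheafOfModules.IsFiniteType (R := (↑U : Scheme.{u}).ringCatSheaf)
        (FlatMod.freeMod (↑U : Scheme.{u}) r) := isFiniteType_of_isFinLocFree _ hflf
    have hsurj := Groth.Agent.Lib.helper16.QCohEpi.surjective_app_of_epi π hW
    haveI : Module.Finite Γ((↑U : Scheme.{u}), W) Γ(FlatMod.freeMod (↑U : Scheme.{u}) r, W) :=
      finite_sections_of_isFiniteType _ hftfree hW
    have hfree : Fitt.ideal Γ((↑U : Scheme.{u}), W)
        Γ(FlatMod.freeMod (↑U : Scheme.{u}) r, W) r = ⊤ := by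
      have := (isFinLocFreeOfRank_iff_fitt (FlatMod.freeMod (↑U : Scheme.{u}) r) hftfree r).mp
        (isFinLocFreeOfRank_freeMod (↑U : Scheme.{u}) r)
      rw [← sheafIdeal_ideal _ hftfree r ⟨W, hW⟩, this.2 r le_rfl]; rfl
    have h1 : Fitt.ideal Γ((↑U : Scheme.{u}), W) Γ(F.restrict U.ι, W) r = ⊤ := by
      have := fitt_le_of_surjective (appₗ π W) hsurj r
      rw [hfree] at this
      exact top_le_iff.mp this
    have hV : IsAffineOpen (U.ι ''ᵁ W) := hW.image_of_isOpenImmersion U.ι
    have hsV : s ∈ U.ι ''ᵁ W := ⟨⟨s, hsU⟩, hsW, rfl⟩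
    rw [mem_support_iff F hft r hV s hsV, ← fitt_restrict_eq F U W r, h1]
    intro h
    exact (hV.primeIdealOf ⟨s, hsV⟩).isPrime.ne_top (top_le_iff.mp h)
  · intro hs
    obtain ⟨_, ⟨U, hU : IsAffineOpen U, rfl⟩, hxU, -⟩ :=
      X.isBasis_affineOpens.exists_subset_of_mem_open (Set.mem_univ s) isOpen_univ
    haveI : Module.Finite Γ(X, U) Γ(F, U) := finite_sections_of_isFiniteType F hft hU
    rw [mem_support_iff F hft r hU s hxU] at hs
    obtain ⟨d, hd, -, g, hg⟩ := exists_smul_mem_span_of_not_le r _ hs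
    have hV : IsAffineOpen (X.basicOpen d) := hU.basicOpen d
    have hspan := span_res_eq_top F hU d g hg
    exact ⟨X.basicOpen d, (mem_basicOpen_iff hU ⟨s, hxU⟩ d).mpr hd,
      exists_epi_freeMod_of_span F hV _ hspan⟩

end Groth.Agent.Lib.helper7.FittSheaf
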