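import Groth.Agent.Lib.Helper7.FittSheaf
import Groth.Agent.Lib.Helper7.IdealComap
import Groth.Agent.Lib.Helper16.QCohPullback

/-!
# Fitting ideal sheaves commute with pullback (helper7)
-/

set_option autoImplicit false
set_option linter.style.haveILetI false
set_option linter.unusedSectionVars false
universe u
open CategoryTheory CategoryTheory.Limits AlgebraicGeometry TopologicalSpace Opposite
open Scheme.Modules TensorProduct

namespace Groth.Agent.Lib.helper7.FittSheaf

open Groth.Agent.Lib.helper16.CohFinite Groth.Agent.Lib.helper15.FittLink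
  Groth.Agent.Lib.helper16.QCohPullback

variable {T S : Scheme.{u}} (f : T ⟶ S) (F : S.Modules) [F.IsQuasicoherent]
  (hft : SheafOfModules.IsFiniteType (R := S.ringCatSheaf) F)

/-- pairs of affine opens `V ⊆ T`, `U ⊆ S` with `V ⊆ f⁻¹ U` -/
abbrev AffPair := {p : T.affineOpens × S.affineOpens // p.1.1 ≤ f ⁻¹ᵁ p.2.1}

theorem iSup_affPair : ⨆ p : AffPair f, (p.1.1.1 : T.Opens) = ⊤ := by
  rw [eq_top_iff]
  intro x _
  obtain ⟨W, hW, hxW, -⟩ := Opens.isBasis_iff_nbhd.mp S.isBasis_affineOpens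
    (show f x ∈ (⊤ : S.Opens) from trivial)
  obtain ⟨U, hU, hxU, hUW⟩ := Opens.isBasis_iff_nbhd.mp T.isBasis_affineOpens
    (show x ∈ f ⁻¹ᵁ W from hxW)
  exact Opens.mem_iSup.mpr ⟨⟨(⟨U, hU⟩, ⟨W, hW⟩), hUW⟩, hxU⟩

include hft in
theorem finite_pullback_sections (p : AffPair f) :
    Module.Finite Γ(T, p.1.1.1) Γ((Scheme.Modules.pullback f).obj F, p.1.1.1) := by
  letI := (f.appLE p.1.2.1 p.1.1.1 p.2).hom.toAlgebra
  haveI : Module.Finite Γ(S, p.1.2.1) Γ(F, p.1.2.1) :=
    finite_sections_of_isFiniteType F hft p.1.2.2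
  exact Module.Finite.equiv (pullbackSectionsEquiv f F p.1.2.2 p.1.1.2 p.2).symm

include hft in
theorem isFiniteType_pullback :
    SheafOfModules.IsFiniteType (R := T.ringCatSheaf) ((Scheme.Modules.pullback f).obj F) := by
  haveI : ((Scheme.Modules.pullback f).obj F).IsQuasicoherent := isQuasicoherent_pullback f F
  exact isFiniteType_of_finite_sections _ (fun p : AffPair f => p.1.1.1) (fun p => p.1.1.2)
    (iSup_affPair f) (finite_pullback_sections f F hft)

include hft in
/-- **Fitting ideals commute with pullback** -/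
theorem sheafIdeal_comap (i : ℕ) :
    (Fitt.sheafIdeal F i).comap f = Fitt.sheafIdeal ((Scheme.Modules.pullback f).obj F) i := by
  haveI : ((Scheme.Modules.pullback f).obj F).IsQuasicoherent := isQuasicoherent_pullback f F
  have hft' := isFiniteType_pullback f F hft
  refine Scheme.IdealSheafData.ext_of_iSup_eq_top (fun p : AffPair f => p.1.1) (iSup_affPair f)
    fun p => ?_
  rw [IdealComap.ideal_comap f _ p.1.2.2 p.1.1.2 p.2, sheafIdeal_ideal F hft i p.1.2,
    sheafIdeal_ideal _ hft' i p.1.1]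
  letI := (f.appLE p.1.2.1 p.1.1.1 p.2).hom.toAlgebra
  haveI : Module.Finite Γ(S, p.1.2.1) Γ(F, p.1.2.1) :=
    finite_sections_of_isFiniteType F hft p.1.2.2
  rw [fitt_congr (pullbackSectionsEquiv f F p.1.2.2 p.1.1.2 p.2) i, fitt_baseChange i]
  rfl

end Groth.Agent.Lib.helper7.FittSheaf
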