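import Groth.Agent.Lib.Helper7.FittSheaf
import Groth.Agent.Lib.Helper16.FLF5

/-!
# Fitting ideal sheaves and local freeness (helper7)
-/

set_option autoImplicit false
set_option linter.style.haveILetI false
set_option linter.unusedSectionVars false
universe u
open CategoryTheory CategoryTheory.Limits AlgebraicGeometry TopologicalSpace Opposite
open Scheme.Modules

namespace Groth.Agent.Lib.helper7.FittSheaf

open Groth.Agent.Lib.helper16.CohFinite Groth.Agent.Lib.helper16.CohStalk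
  Groth.Agent.Lib.helper15.FittLink

variable {X : Scheme.{u}} (F : X.Modules) [F.IsQuasicoherent]
  (hft : SheafOfModules.IsFiniteType (R := X.ringCatSheaf) F)

/-- if `d • Γ(F,U) ⊆ span g` then the restrictions of `g` span `Γ(F, D(d))` -/
theorem span_res_eq_top {U : X.Opens} (hU : IsAffineOpen U) (d : Γ(X, U)) {k : ℕ}
    (g : Fin k → Γ(F, U)) (hg : ∀ m : Γ(F, U), d • m ∈ Submodule.span Γ(X, U) (Set.range g)) :
    Submodule.span Γ(X, X.basicOpen d)
      (Set.range fun i => F.presheaf.map (homOfLE (X.basicOpen_le d)).op (g i)) = ⊤ := by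
  have hle : X.basicOpen d ≤ U := X.basicOpen_le d
  letI := algOfLE (X := X) hle
  letI := modOfLE F hle
  haveI := isScalarTower_ofLE F hle
  haveI hloc := isLocalizedModule_of_eq_basicOpen F hU d hle rfl
  have hunit : IsUnit (resRing hle d) := RingedSpace.isUnit_res_basicOpen X.toRingedSpace d
  rw [eq_top_iff]
  rintro y -
  obtain ⟨⟨m, ⟨_, n, rfl⟩⟩, hm⟩ := hloc.surj y
  -- `d^n • y = res m`
  have h1 : resLin F hle (d • m) ∈ Submodule.span Γ(X, X.basicOpen d)
      (Set.range fun i => F.presheaf.map (homOfLE hle).op (g i)) := by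
    have h2 := hg m
    obtain ⟨c, hc⟩ := (Submodule.mem_span_range_iff_exists_fun Γ(X, U)).mp h2
    rw [← hc, map_sum]
    refine Submodule.sum_mem _ fun i _ => ?_
    rw [_root_.map_smul, ← algebraMap_smul Γ(X, X.basicOpen d) (c i)]
    exact Submodule.smul_mem _ _ (Submodule.subset_span ⟨i, rfl⟩)
  have h3 : resLin F hle (d • m) = (resRing hle d * resRing hle (d ^ n)) • y := by
    rw [_root_.map_smul, ← hm, mul_smul]
    rfl
  rw [h3] at h1
  have hu2 : IsUnit (resRing hle d * resRing hle (d ^ n)) := by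
    rw [map_pow]
    exact hunit.mul (hunit.pow n)
  obtain ⟨v, hv⟩ := hu2
  have := Submodule.smul_mem _ (↑v⁻¹ : Γ(X, X.basicOpen d)) h1
  rwa [← hv, smul_smul, Units.inv_mul, one_smul] at this

include hft in
/-- **`F` is finite locally free of rank `r` iff `Fit_k = 0` for `k < r` and `Fit_k = O` for
`k ≥ r`.** -/
theorem isFinLocFreeOfRank_iff_fitt (r : ℕ) :
    FlatMod.IsFinLocFreeOfRank r F ↔
      (∀ k : ℕ, k < r → Fitt.sheafIdeal F k = ⊥) ∧ (∀ k : ℕ, r ≤ k → Fitt.sheafIdeal F k = ⊤) := by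
  rw [Groth.Agent.Lib.helper16.FLF.isFinLocFreeOfRank_iff_sections]
  constructor
  · intro h
    choose U hU hxU he using h
    have hcov : ⨆ x : X, ((⟨U x, hU x⟩ : X.affineOpens) : X.Opens) = ⊤ := by
      rw [eq_top_iff]
      intro x _
      exact Opens.mem_iSup.mpr ⟨x, hxU x⟩
    refine ⟨fun k hk => ?_, fun k hk => ?_⟩
    · refine Scheme.IdealSheafData.ext_of_iSup_eq_top (fun x : X => ⟨U x, hU x⟩) hcov fun x => ?_
      rw [sheafIdeal_ideal F hft k]
      obtain ⟨e⟩ := he x
      exact fitt_eq_bot_of_basis (Module.Basis.ofEquivFun e) hk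
    · refine Scheme.IdealSheafData.ext_of_iSup_eq_top (fun x : X => ⟨U x, hU x⟩) hcov fun x => ?_
      rw [sheafIdeal_ideal F hft k]
      obtain ⟨e⟩ := he x
      exact fitt_eq_top_of_basis (Module.Basis.ofEquivFun e) hk
  · rintro ⟨hbot, htop⟩ x
    obtain ⟨_, ⟨U, hU : IsAffineOpen U, rfl⟩, hxU, -⟩ :=
      X.isBasis_affineOpens.exists_subset_of_mem_open (Set.mem_univ x) isOpen_univ
    haveI : Module.Finite Γ(X, U) Γ(F, U) := finite_sections_of_isFiniteType F hft hU
    have h1 : Fitt.ideal Γ(X, U) Γ(F, U) r = ⊤ := by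
      rw [← sheafIdeal_ideal F hft r ⟨U, hU⟩, htop r le_rfl]; rfl
    have h2 : ¬ Fitt.ideal Γ(X, U) Γ(F, U) r ≤ (hU.primeIdealOf ⟨x, hxU⟩).asIdeal := by
      rw [h1]
      intro h
      exact (hU.primeIdealOf ⟨x, hxU⟩).isPrime.ne_top (top_le_iff.mp h)
    obtain ⟨d, hd, -, g, hg⟩ := exists_smul_mem_span_of_not_le r _ h2
    have hV : IsAffineOpen (X.basicOpen d) := hU.basicOpen d
    have hspan := span_res_eq_top F hU d g hg
    have hfit : ∀ k, k < r → Fitt.ideal Γ(X, X.basicOpen d) Γ(F, X.basicOpen d) k = ⊥ := by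
      intro k hk
      rw [← sheafIdeal_ideal F hft k ⟨X.basicOpen d, hV⟩, hbot k hk]; rfl
    have hli := linearIndependent_of_fitt_eq_bot _ hspan hfit
    refine ⟨X.basicOpen d, hV, (mem_basicOpen_iff hU ⟨x, hxU⟩ d).mpr hd, ?_⟩
    exact ⟨(Module.Basis.mk hli hspan.ge).equivFun⟩

end Groth.Agent.Lib.helper7.FittSheaf
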