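import Groth.Agent.Lib.Helper7.OmegaSeq6
import Groth.Agent.Lib.Helper7.FSmoothHom
import Mathlib.RingTheory.Smooth.Kaehler

/-!
# `0 → C_{X'/X} → j^*Ω_{X/Y}` for `j ≫ f` formally smooth (helper7)
-/

set_option autoImplicit false
set_option linter.style.haveILetI false
set_option linter.unusedSectionVars false
universe u
open CategoryTheory CategoryTheory.Limits AlgebraicGeometry TopologicalSpace Opposite
open Scheme.Modules TensorProduct KaehlerDifferential

namespace Groth.Agent.Lib.helper7.OmegaFS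

open Groth.Agent.Lib.helper8.PullbackUnit OmegaChart OmegaSeq4

/-- `I/I² → R ⊗_A Ω_{A/C}` is injective if `R = A/I` is formally smooth over `C` -/
theorem kerCotangentToTensor_injective (C A R : Type u) [CommRing C] [CommRing A] [CommRing R]
    [Algebra C A] [Algebra A R] [Algebra C R] [IsScalarTower C A R]
    (hsurj : Function.Surjective (algebraMap A R)) [Algebra.FormallySmooth C R] :
    Function.Injective (KaehlerDifferential.kerCotangentToTensor C A R) := by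
  have hs : Function.Surjective (IsScalarTower.toAlgHom C A R).kerSquareLift := by
    intro r
    obtain ⟨a, rfl⟩ := hsurj r
    exact ⟨Ideal.Quotient.mk _ a, rfl⟩
  have hnil : IsNilpotent (RingHom.ker
      ((IsScalarTower.toAlgHom C A R).kerSquareLift :
        (A ⧸ RingHom.ker (IsScalarTower.toAlgHom C A R).toRingHom ^ 2) →+* R)) := by
    refine ⟨2, ?_⟩
    exact (congrArg (· ^ 2) (AlgHom.ker_kerSquareLift (IsScalarTower.toAlgHom C A R))).trans
      (Ideal.cotangentIdeal_square _)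
  let g := Algebra.FormallySmooth.liftOfSurjective (AlgHom.id C R)
    (IsScalarTower.toAlgHom C A R).kerSquareLift hs hnil
  have hg : (IsScalarTower.toAlgHom C A R).kerSquareLift.comp g = AlgHom.id C R :=
    Algebra.FormallySmooth.comp_liftOfSurjective _ _ hs hnil
  obtain ⟨l, hl⟩ := (retractionKerCotangentToTensorEquivSection (R := C) hsurj).symm ⟨g, hg⟩
  intro x y hxy
  have := congrArg l hxy
  rwa [← LinearMap.comp_apply, ← LinearMap.comp_apply, hl] at this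

section Alg

variable (C A R : Type u) [CommRing C] [CommRing A] [CommRing R] [Algebra C A] [Algebra A R]
  [Algebra C R] [IsScalarTower C A R] (hsurj : Function.Surjective (algebraMap A R))
  [Algebra.FormallySmooth C R]
  {MY P MI N : Type u} [AddCommGroup MY] [Module A MY]
  [AddCommGroup P] [Module R P] [AddCommGroup MI] [Module A MI] [AddCommGroup N] [Module R N]
  (dY : A →+ MY) (ψY : MY ≃ₗ[A] Ω[A⁄C]) (hψY : ∀ b, ψY (dY b) = D C A b)
  (k : MY →+ P) (hk : IsBC (algebraMap A R) k)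
  (ι : MI →ₗ[A] A) (hιinj : Function.Injective ι)
  (hι : Set.range ι = (RingHom.ker (algebraMap A R) : Set A))
  (q : MI →+ N) (hq : IsBC (algebraMap A R) q)
  (φ : N →ₗ[R] P) (hφ : ∀ m, φ (q m) = k (dY (ι m)))

include hsurj hψY hk hιinj hι hq hφ in
/-- injectivity of `I/I² → R ⊗_A Ω[A/C]` for `R/C` formally smooth, receptacle form -/
theorem conormal_injective : Function.Injective φ := by
  obtain ⟨e, he⟩ := OmegaSeqAlg.exists_equiv_of_isBC hk
  have hinj := kerCotangentToTensor_injective C A R hsurj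
  rw [injective_iff_map_eq_zero]
  intro n hn
  obtain ⟨m, rfl⟩ := OmegaSeqAlg.surjective_of_isBC hsurj hq n
  have hm : ι m ∈ RingHom.ker (algebraMap A R) := by
    have : ι m ∈ Set.range ι := ⟨m, rfl⟩
    rw [hι] at this
    exact this
  have h1 : (1 : R) ⊗ₜ[A] D C A (ι m) = 0 := by
    have h := congrArg (fun p => (TensorProduct.AlgebraTensorModule.congr
      (LinearEquiv.refl R R) ψY) (e p)) hn
    simp only [hφ, he, map_zero] at h
    rw [TensorProduct.AlgebraTensorModule.congr_tmul, hψY] at h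
    exact h
  have h2 : KaehlerDifferential.kerCotangentToTensor C A R (Ideal.toCotangent _ ⟨ι m, hm⟩) = 0 :=
    h1
  have h3 := hinj (h2.trans (map_zero _).symm)
  have h4 : ι m ∈ (RingHom.ker (algebraMap A R)) ^ 2 := (Ideal.toCotangent_eq_zero _ _).1 h3
  exact OmegaSeqAlg.qJ_eq_zero_of_mem_sq A R ι hιinj hι q hq.map_smul m h4

end Alg

section Seq

variable {X Y Z : Scheme.{u}} (f : Y ⟶ Z) (j : X ⟶ Y) [IsImmersion j] [QuasiCompact j]
  {ΩY : Y.Modules} (dY : OmegaSh.Der f ΩY) (hY : OmegaSh.IsUniversal dY)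
  (φ : Omega.conormal j ⟶ (Scheme.Modules.pullback j).obj ΩY)
  (hφ : OmegaSh.IsConormalDiff j dY φ)

include hY hφ in
theorem chart_conormal_injective {V : Y.Opens} (hV : IsAffineOpen V)
    (hU : IsAffineOpen (j ⁻¹ᵁ V))
    (hs : Function.Surjective (j.app V).hom) {W : Z.Opens} (hW : IsAffineOpen W)
    (eVW : V ≤ f ⁻¹ᵁ W)
    (hfs : ((j ≫ f).appLE W (j ⁻¹ᵁ V) (fun _ hx => eVW hx)).hom.FormallySmooth) :
    Function.Injective (φ.app (j ⁻¹ᵁ V)).hom := by
  have eUV : j ⁻¹ᵁ V ≤ j ⁻¹ᵁ V := le_rfl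
  have eUW : j ⁻¹ᵁ V ≤ (j ≫ f) ⁻¹ᵁ W := fun x hx => eVW (eUV hx)
  letI algCA := (f.appLE W V eVW).hom.toAlgebra
  letI algAR := (j.appLE V (j ⁻¹ᵁ V) eUV).hom.toAlgebra
  letI algCR := ((j ≫ f).appLE W (j ⁻¹ᵁ V) eUW).hom.toAlgebra
  haveI : IsScalarTower Γ(Z, W) Γ(Y, V) Γ(X, j ⁻¹ᵁ V) := IsScalarTower.of_algebraMap_eq' (by
    change ((j ≫ f).appLE W (j ⁻¹ᵁ V) eUW).hom =
      (j.appLE V (j ⁻¹ᵁ V) eUV).hom.comp (f.appLE W V eVW).hom
    rw [← CommRingCat.hom_comp, Scheme.Hom.appLE_comp_appLE])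
  haveI : Algebra.FormallySmooth Γ(Z, W) Γ(X, j ⁻¹ᵁ V) := hfs
  have happ : j.appLE V (j ⁻¹ᵁ V) eUV = j.app V := (j.app_eq_appLE (U := V)).symm
  have hsurj : Function.Surjective (algebraMap Γ(Y, V) Γ(X, j ⁻¹ᵁ V)) := by
    change Function.Surjective (j.appLE V (j ⁻¹ᵁ V) eUV).hom
    rw [happ]; exact hs
  obtain ⟨ψY, hψY⟩ := OmegaStruct.exists_sectionsEquiv f dY hY hV hW eVW
  haveI : ΩY.IsQuasicoherent := OmegaQCoh.isQuasicoherent_of_isUniversal f dY hY
  have hk : IsBC (algebraMap Γ(Y, V) Γ(X, j ⁻¹ᵁ V)) (ρ j eUV ΩY) := isBC_ρ j hV hU eUV ΩY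
  have hq : IsBC (algebraMap Γ(Y, V) Γ(X, j ⁻¹ᵁ V)) (ρ j eUV (ClSub.idealMod j.ker)) :=
    isBC_ρ j hV hU eUV (ClSub.idealMod j.ker)
  have hι : Set.range (idealSectₗ j.ker V) =
      (RingHom.ker (algebraMap Γ(Y, V) Γ(X, j ⁻¹ᵁ V)) : Set Γ(Y, V)) := by
    change Set.range (OmegaSh.idealSect j.ker V) = _
    rw [OmegaSeq2.range_idealSect j.ker hV, Scheme.Hom.ker_apply]
    change _ = ((RingHom.ker (j.appLE V (j ⁻¹ᵁ V) eUV).hom : Ideal Γ(Y, V)) : Set Γ(Y, V))
    rw [happ]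
  have hφ' : ∀ m, linApp φ (j ⁻¹ᵁ V) (ρ j eUV (ClSub.idealMod j.ker) m) =
      ρ j eUV ΩY (dY.app V (idealSectₗ j.ker V m)) :=
    fun m => OmegaSeq2.conormalDiff_app f j dY φ hφ eUV m
  exact conormal_injective Γ(Z, W) Γ(Y, V) Γ(X, j ⁻¹ᵁ V) hsurj (dY.app V) ψY hψY
    (ρ j eUV ΩY) hk (idealSectₗ j.ker V) (ConormalChart.idealSect_injective j.ker V) hι
    (ρ j eUV (ClSub.idealMod j.ker)) hq (linApp φ (j ⁻¹ᵁ V)) hφ'

include hY hφ in
/-- for `j ≫ f` formally smooth the map `C_{X/Y} → j^*Ω_{Y/Z}` is a monomorphism -/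
theorem mono_conormalDiff (hf : MoreMor.IsFormallySmoothHom (j ≫ f)) : Mono φ := by
  haveI : ΩY.IsQuasicoherent := OmegaQCoh.isQuasicoherent_of_isUniversal f dY hY
  haveI : ((Scheme.Modules.pullback j).obj ΩY).IsQuasicoherent :=
    Groth.Agent.Lib.helper16.QCohPullback.isQuasicoherent_pullback j ΩY
  haveI : (Omega.conormal j).IsQuasicoherent := OmegaAffine.conormal_qcoh j
  exact KerSections.mono_of_injective_cover φ (fun t : OmegaSeq2.ChartJ f j => j ⁻¹ᵁ t.1.1.1)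
    (fun t => t.2.2.1) (OmegaSeq2.chartJ_cover f j)
    (fun t => chart_conormal_injective f j dY hY φ hφ t.1.1.2 t.2.2.1 t.2.2.2 t.1.2.2 t.2.1
      (FSmoothHom.formallySmooth_appLE (j ≫ f) hf t.2.2.1 t.1.2.2 _))

end Seq

end Groth.Agent.Lib.helper7.OmegaFS
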