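import Mathlib

/-!
# Lifting standard smooth algebras along square-zero surjections (helper7)

`exists_lift`: if `A' → A` is surjective with kernel of square zero and `S` is a standard smooth
`A`-algebra, there is a standard smooth (hence flat) `A'`-algebra `S'` with a surjection
`θ : S' → S` over `A' → A` whose kernel is generated by the kernel of `A' → A`.
-/

set_option autoImplicit false
universe u
open MvPolynomial

namespace Groth.Agent.Lib.helper7.SmoothLift

theorem isUnit_of_map_of_sq_zero {S' S : Type*} [CommRing S'] [CommRing S] (θ : S' →+* S)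
    (hθ : Function.Surjective θ) (hsq : ∀ x y, θ x = 0 → θ y = 0 → x * y = 0) (x : S')
    (hx : IsUnit (θ x)) : IsUnit x := by
  obtain ⟨u, hu⟩ := hx
  obtain ⟨y, hy⟩ := hθ (↑u⁻¹ : S)
  have hε : θ (x * y - 1) = 0 := by
    rw [map_sub, map_mul, map_one, hy, ← hu, Units.mul_inv, sub_self]
  have h2 : (x * y - 1) * (x * y - 1) = 0 := hsq _ _ hε hε
  refine IsUnit.of_mul_eq_one (y * (1 - (x * y - 1))) ?_
  have : x * (y * (1 - (x * y - 1))) = 1 - (x * y - 1) * (x * y - 1) := by ring
  rw [this, h2, sub_zero]

variable {A' A S : Type u} [CommRing A'] [CommRing A] [CommRing S] [Algebra A' A] [Algebra A S]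

theorem exists_lift [Algebra.IsStandardSmooth A S]
    (hsurj : Function.Surjective (algebraMap A' A))
    (hsq : RingHom.ker (algebraMap A' A) ^ 2 = ⊥) :
    ∃ (S' : Type u) (_ : CommRing S') (_ : Algebra A' S') (θ : S' →+* S),
      Algebra.IsStandardSmooth A' S' ∧ Function.Surjective θ ∧
      (∀ a, θ (algebraMap A' S' a) = algebraMap A S (algebraMap A' A a)) ∧
      RingHom.ker θ = (RingHom.ker (algebraMap A' A)).map (algebraMap A' S') := by
  obtain ⟨ι, σ, _, _, ⟨P⟩⟩ := ‹Algebra.IsStandardSmooth A S›
  classical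
  cases nonempty_fintype σ
  let φ : A' →+* A := algebraMap A' A
  have hmap : Function.Surjective (MvPolynomial.map (σ := ι) φ) :=
    MvPolynomial.map_surjective φ hsurj
  choose v' hv' using fun r : σ => hmap (P.relation r)
  let I' : Ideal (MvPolynomial ι A') := Ideal.span (Set.range v')
  let P' : Algebra.PreSubmersivePresentation A' (MvPolynomial ι A' ⧸ I') ι σ :=
    Algebra.PreSubmersivePresentation.naive P.map P.map_inj
  -- the map `θ`
  let θ₀ : MvPolynomial ι A' →+* S := (algebraMap P.Ring S).comp (MvPolynomial.map φ)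
  have hθ₀v : ∀ r, θ₀ (v' r) = 0 := by
    intro r
    show algebraMap P.Ring S (MvPolynomial.map φ (v' r)) = 0
    rw [hv', Algebra.Generators.algebraMap_apply]
    exact P.aeval_val_relation r
  have hθ₀ : ∀ x ∈ I', θ₀ x = 0 := by
    intro x hx
    have h1 : I' ≤ RingHom.ker θ₀ := by
      rw [Ideal.span_le]
      rintro _ ⟨r, rfl⟩
      exact hθ₀v r
    exact h1 hx
  let θ : (MvPolynomial ι A' ⧸ I') →+* S := Ideal.Quotient.lift I' θ₀ hθ₀
  have hθmk : ∀ p, θ (Ideal.Quotient.mk I' p) = θ₀ p := fun p => Ideal.Quotient.lift_mk I' θ₀ hθ₀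
  have hθsurj : Function.Surjective θ := by
    intro s
    obtain ⟨p, hp⟩ := P.algebraMap_surjective s
    obtain ⟨p', rfl⟩ := hmap p
    exact ⟨Ideal.Quotient.mk I' p', (hθmk p').trans hp⟩
  have hθalg : ∀ a, θ (algebraMap A' (MvPolynomial ι A' ⧸ I') a) =
      algebraMap A S (algebraMap A' A a) := by
    intro a
    have h1 : algebraMap A' (MvPolynomial ι A' ⧸ I') a = Ideal.Quotient.mk I' (C a) := rfl
    rw [h1, hθmk]
    show algebraMap P.Ring S (MvPolynomial.map φ (C a)) = _
    rw [MvPolynomial.map_C]
    show algebraMap P.Ring S (algebraMap A P.Ring (φ a)) = _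
    rw [← IsScalarTower.algebraMap_apply A P.Ring S]
  have hker : RingHom.ker θ =
      (RingHom.ker (algebraMap A' A)).map (algebraMap A' (MvPolynomial ι A' ⧸ I')) := by
    apply le_antisymm
    · intro x hx
      obtain ⟨p, rfl⟩ := Ideal.Quotient.mk_surjective x
      have h1 : algebraMap P.Ring S (MvPolynomial.map φ p) = 0 := (hθmk p).symm.trans hx
      have h2 : MvPolynomial.map φ p ∈ Ideal.span (Set.range P.relation) := by
        rw [P.span_range_relation_eq_ker]
        exact h1
      -- lift the combination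
      have h3 : Ideal.span (Set.range P.relation) = I'.map (MvPolynomial.map (σ := ι) φ) := by
        rw [Ideal.map_span]
        congr 1
        ext q
        constructor
        · rintro ⟨r, rfl⟩
          exact ⟨v' r, ⟨r, rfl⟩, hv' r⟩
        · rintro ⟨_, ⟨r, rfl⟩, rfl⟩
          exact ⟨r, (hv' r).symm⟩
      rw [h3] at h2
      obtain ⟨q, hq, hqp⟩ := (Ideal.mem_map_iff_of_surjective _ hmap).mp h2
      have h4 : p - q ∈ RingHom.ker (MvPolynomial.map (σ := ι) φ) := by
        rw [RingHom.mem_ker, map_sub, hqp, sub_self]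
      rw [MvPolynomial.ker_map] at h4
      have h5 : Ideal.Quotient.mk I' p = Ideal.Quotient.mk I' (p - q) := by
        rw [map_sub, Ideal.Quotient.eq_zero_iff_mem.mpr hq, sub_zero]
      rw [h5]
      have h6 : (RingHom.ker φ).map (algebraMap A' (MvPolynomial ι A' ⧸ I')) =
          ((RingHom.ker φ).map (C : A' →+* MvPolynomial ι A')).map (Ideal.Quotient.mk I') := by
        rw [Ideal.map_map]
        rfl
      show _ ∈ (RingHom.ker φ).map (algebraMap A' (MvPolynomial ι A' ⧸ I'))
      rw [h6]
      exact Ideal.mem_map_of_mem _ h4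
    · rw [Ideal.map_le_iff_le_comap]
      intro a ha
      show θ (algebraMap A' _ a) = 0
      rw [hθalg, (show algebraMap A' A a = 0 from ha), map_zero]
  have hkersq : ∀ x y, θ x = 0 → θ y = 0 → x * y = 0 := by
    intro x y hx hy
    have h1 : x * y ∈ RingHom.ker θ ^ 2 := by
      rw [pow_two]
      exact Ideal.mul_mem_mul hx hy
    rw [hker, ← Ideal.map_pow, hsq, Ideal.map_bot] at h1
    exact h1
  -- the jacobian
  have hjac : θ P'.jacobian = P.jacobian := by
    rw [Algebra.PreSubmersivePresentation.jacobian_eq_jacobiMatrix_det,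
      Algebra.PreSubmersivePresentation.jacobian_eq_jacobiMatrix_det]
    have h1 : algebraMap P'.Ring (MvPolynomial ι A' ⧸ I') P'.jacobiMatrix.det =
        Ideal.Quotient.mk I' P'.jacobiMatrix.det := rfl
    rw [h1, hθmk]
    show algebraMap P.Ring S (MvPolynomial.map φ P'.jacobiMatrix.det) = _
    congr 1
    rw [RingHom.map_det]
    congr 1
    ext i j
    rw [RingHom.mapMatrix_apply, Matrix.map_apply,
      Algebra.PreSubmersivePresentation.jacobiMatrix_naive,
      Algebra.PreSubmersivePresentation.jacobiMatrix_apply, ← MvPolynomial.pderiv_map, hv']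
  have hunit : IsUnit P'.jacobian := by
    apply isUnit_of_map_of_sq_zero θ hθsurj hkersq
    rw [hjac]
    exact P.jacobian_isUnit
  let P'' : Algebra.SubmersivePresentation A' (MvPolynomial ι A' ⧸ I') ι σ :=
    { toPreSubmersivePresentation := P', jacobian_isUnit := hunit }
  exact ⟨MvPolynomial ι A' ⧸ I', inferInstance, inferInstance, θ, P''.isStandardSmooth,
    hθsurj, hθalg, hker⟩

end Groth.Agent.Lib.helper7.SmoothLift
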