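import Mathlib
import Groth.Agent.Lib.Helper7.TensorReg
import Groth.Agent.Lib.Helper16.QCohEpi

/-!
# `O_X/I ⊗ O_X/J ≅ O_X/(I + J)` (helper7)

* algebra: for surjections `p₁ : A → M₁`, `p₂ : A → M₂`, every element of `M₁ ⊗ M₂` is
  `p₁ a ⊗ p₂ 1`, and this vanishes iff `a ∈ ker p₁ + ker p₂`
* `quotTensorIso I J : quotMod I ⊗ quotMod J ≅ quotMod (I ⊔ J)`
-/

set_option autoImplicit false
set_option linter.unusedSectionVars false
set_option linter.style.haveILetI false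
universe u

open CategoryTheory CategoryTheory.Limits AlgebraicGeometry Opposite TopologicalSpace TensorProduct

namespace Groth.Agent.Lib.helper7.QuotTensor

section Alg

variable {A : Type*} [CommRing A] {M₁ M₂ : Type*} [AddCommGroup M₁] [Module A M₁]
  [AddCommGroup M₂] [Module A M₂] (p₁ : A →ₗ[A] M₁) (p₂ : A →ₗ[A] M₂)

theorem exists_tmul_one (h₁ : Function.Surjective p₁) (h₂ : Function.Surjective p₂)
    (z : M₁ ⊗[A] M₂) : ∃ a : A, z = p₁ a ⊗ₜ[A] p₂ 1 := by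
  induction z using TensorProduct.induction_on with
  | zero => exact ⟨0, by rw [map_zero, TensorProduct.zero_tmul]⟩
  | tmul x y =>
    obtain ⟨a, rfl⟩ := h₁ x
    obtain ⟨b, rfl⟩ := h₂ y
    refine ⟨b * a, ?_⟩
    have hb : p₂ b = b • p₂ 1 := by rw [← map_smul, smul_eq_mul, mul_one]
    rw [hb, ← TensorProduct.smul_tmul, ← map_smul, smul_eq_mul]
  | add x y hx hy =>
    obtain ⟨a, rfl⟩ := hx
    obtain ⟨b, rfl⟩ := hy
    exact ⟨a + b, by rw [map_add, TensorProduct.add_tmul]⟩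

theorem tmul_eq_zero_of_mem_sup (a : A)
    (ha : a ∈ (LinearMap.ker p₁ ⊔ LinearMap.ker p₂ : Submodule A A)) :
    p₁ a ⊗ₜ[A] p₂ 1 = 0 := by
  obtain ⟨x, hx, y, hy, rfl⟩ := Submodule.mem_sup.mp ha
  rw [LinearMap.mem_ker] at hx hy
  rw [map_add, hx, zero_add]
  have h1 : p₁ y = y • p₁ 1 := by rw [← map_smul, smul_eq_mul, mul_one]
  rw [h1, TensorProduct.smul_tmul, ← map_smul, smul_eq_mul, mul_one, hy, TensorProduct.tmul_zero]

theorem mem_sup_of_tmul_eq_zero (h₁ : Function.Surjective p₁) (h₂ : Function.Surjective p₂)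
    (a : A) (h : p₁ a ⊗ₜ[A] p₂ 1 = 0) :
    a ∈ (LinearMap.ker p₁ ⊔ LinearMap.ker p₂ : Submodule A A) := by
  set K : Ideal A := LinearMap.ker p₁ ⊔ LinearMap.ker p₂ with hK
  let e₁ := p₁.quotKerEquivOfSurjective h₁
  let e₂ := p₂.quotKerEquivOfSurjective h₂
  let g₁ : (A ⧸ LinearMap.ker p₁) →ₗ[A] A ⧸ K :=
    Submodule.mapQ _ K LinearMap.id (fun x hx => (le_sup_left : LinearMap.ker p₁ ≤ K) hx)
  let g₂ : (A ⧸ LinearMap.ker p₂) →ₗ[A] A ⧸ K :=
    Submodule.mapQ _ K LinearMap.id (fun x hx => (le_sup_right : LinearMap.ker p₂ ≤ K) hx)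
  let f₁ : M₁ →ₗ[A] A ⧸ K := g₁ ∘ₗ e₁.symm.toLinearMap
  let f₂ : M₂ →ₗ[A] A ⧸ K := g₂ ∘ₗ e₂.symm.toLinearMap
  have hf₁ : ∀ x : A, f₁ (p₁ x) = Ideal.Quotient.mk K x := by
    intro x
    have h2 : e₁.symm (p₁ x) = Submodule.Quotient.mk x := by
      rw [LinearEquiv.symm_apply_eq]
      rfl
    change g₁ (e₁.symm (p₁ x)) = _
    rw [h2]
    rfl
  have hf₂ : ∀ x : A, f₂ (p₂ x) = Ideal.Quotient.mk K x := by
    intro x
    have h2 : e₂.symm (p₂ x) = Submodule.Quotient.mk x := by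
      rw [LinearEquiv.symm_apply_eq]
      rfl
    change g₂ (e₂.symm (p₂ x)) = _
    rw [h2]
    rfl
  let B : M₁ →ₗ[A] M₂ →ₗ[A] A ⧸ K := (LinearMap.mul A (A ⧸ K)).compl₁₂ f₁ f₂
  have h3 := congrArg (TensorProduct.lift B) h
  rw [TensorProduct.lift.tmul, map_zero] at h3
  have h4 : B (p₁ a) (p₂ 1) = Ideal.Quotient.mk K a := by
    change f₁ (p₁ a) * f₂ (p₂ 1) = _
    rw [hf₁, hf₂, map_one, mul_one]
  rw [h4] at h3
  exact Ideal.Quotient.eq_zero_iff_mem.mp h3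

end Alg

section Geo

open Groth.Agent.Lib.helper7.IdealMod Groth.Agent.Lib.helper11.TensorASec

variable {X : Scheme.{u}} (I J : X.IdealSheafData)

/-- the projection `O(W) → (O/I)(W)` as a linear map -/
noncomputable def proj (W : X.Opens) : Γ(X, W) →ₗ[Γ(X, W)] Γ(ClSub.quotMod I, W) where
  toFun a := ((ClSub.toSubscheme I).app W).hom a
  map_add' a b := map_add _ a b
  map_smul' a b := (ClSub.toSubscheme I).app_smul a b

theorem proj_apply (W : X.Opens) (a : Γ(X, W)) :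
    proj I W a = ((ClSub.toSubscheme I).app W).hom a := rfl

theorem proj_surjective {W : X.Opens} (hW : IsAffineOpen W) : Function.Surjective (proj I W) :=
  I.subschemeι_app_surjective ⟨W, hW⟩

theorem ker_proj {W : X.Opens} (hW : IsAffineOpen W) :
    (LinearMap.ker (proj I W) : Submodule Γ(X, W) Γ(X, W)) = I.ideal ⟨W, hW⟩ := by
  ext a
  rw [LinearMap.mem_ker, proj_apply, toSubscheme_app, ← I.ker_subschemeι_app ⟨W, hW⟩,
    RingHom.mem_ker]
  exact Iff.rfl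

/-- `O → O/I ⊗ O/J`, `1 ↦ 1 ⊗ 1` -/
noncomputable def ψ : Coh.structureModule X ⟶ CohB1.tensorMod (ClSub.quotMod I) (ClSub.quotMod J) :=
  SecTwist.tmulHom (ClSub.toSubscheme I) (ClSub.toSubscheme J)

theorem ψ_app (W : X.Opens) (a : Γ(X, W)) :
    ((ψ I J).app W).hom a = cW (ClSub.quotMod I) (ClSub.quotMod J) W (proj I W a ⊗ₜ proj J W 1) := by
  have h1 : ((ψ I J).app W).hom (1 : Γ(X, W)) =
      cW (ClSub.quotMod I) (ClSub.quotMod J) W (proj I W 1 ⊗ₜ proj J W 1) :=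
    SecTwist.val_tmulHom (ClSub.toSubscheme I) (ClSub.toSubscheme J) W
  have h2 : ((ψ I J).app W).hom a = a • ((ψ I J).app W).hom (1 : Γ(X, W)) := by
    have := (ψ I J).app_smul a (1 : Γ(X, W))
    rw [← this]
    congr 1
    exact (mul_one a).symm
  rw [h2, h1, ← map_smul, TensorProduct.smul_tmul', ← map_smul, smul_eq_mul, mul_one]

theorem idealModι_ψ : ClSub.idealModι (I ⊔ J) ≫ ψ I J = 0 := by
  refine Groth.Agent.Lib.helper16.QCohEpi.hom_ext_of_basis _ _ {D : X.Opens | IsAffineOpen D}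
    X.isBasis_affineOpens (fun D hD s => ?_)
  have hmem : ((ClSub.idealModι (I ⊔ J)).app D).hom s ∈ (I ⊔ J).ideal ⟨D, hD⟩ :=
    idealModι_app_mem (I ⊔ J) ⟨D, hD⟩ s
  set a : Γ(X, D) := ((ClSub.idealModι (I ⊔ J)).app D).hom s with ha
  have h := ψ_app I J D a
  change ((ψ I J).app D).hom a = 0
  rw [h, tmul_eq_zero_of_mem_sup, map_zero]
  rw [ker_proj I hD, ker_proj J hD]
  exact hmem

/-- the comparison map `O/(I+J) → O/I ⊗ O/J` -/
noncomputable def φ : ClSub.quotMod (I ⊔ J) ⟶ CohB1.tensorMod (ClSub.quotMod I) (ClSub.quotMod J) :=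
  haveI : Epi (idealSeq (I ⊔ J)).g := epi_toSubscheme (I ⊔ J)
  (CokernelCofork.IsColimit.desc' (idealSeq_shortExact (I ⊔ J)).exact.gIsCokernel (ψ I J)
    (idealModι_ψ I J)).1

theorem toSubscheme_φ : ClSub.toSubscheme (I ⊔ J) ≫ φ I J = ψ I J :=
  haveI : Epi (idealSeq (I ⊔ J)).g := epi_toSubscheme (I ⊔ J)
  (CokernelCofork.IsColimit.desc' (idealSeq_shortExact (I ⊔ J)).exact.gIsCokernel (ψ I J)
    (idealModι_ψ I J)).2

theorem φ_proj (W : X.Opens) (a : Γ(X, W)) :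
    ((φ I J).app W).hom (proj (I ⊔ J) W a) =
      cW (ClSub.quotMod I) (ClSub.quotMod J) W (proj I W a ⊗ₜ proj J W 1) := by
  rw [← ψ_app, ← toSubscheme_φ]
  rfl

instance isIso_φ : IsIso (φ I J) := by
  haveI : (CohB1.tensorMod (ClSub.quotMod I) (ClSub.quotMod J)).IsQuasicoherent :=
    Groth.Agent.Lib.helper2.TensorQCoh.isQuasicoherent_tensorMod _ _
  refine KerSections.isIso_of_bijective_affine (φ I J) (fun W hW => ⟨?_, ?_⟩)
  · rw [injective_iff_map_eq_zero]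
    intro q hq
    obtain ⟨a, rfl⟩ := proj_surjective (I ⊔ J) hW q
    rw [φ_proj] at hq
    have h1 : proj I W a ⊗ₜ[Γ(X, W)] proj J W 1 = 0 := by
      apply (bijective_cW (ClSub.quotMod I) (ClSub.quotMod J) W hW).1
      rw [hq, map_zero]
    have h2 := mem_sup_of_tmul_eq_zero (proj I W) (proj J W) (proj_surjective I hW)
      (proj_surjective J hW) a h1
    rw [ker_proj I hW, ker_proj J hW] at h2
    have h3 : a ∈ (LinearMap.ker (proj (I ⊔ J) W) : Submodule Γ(X, W) Γ(X, W)) := by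
      rw [ker_proj (I ⊔ J) hW]
      exact h2
    exact LinearMap.mem_ker.mp h3
  · intro t
    obtain ⟨z, rfl⟩ := (bijective_cW (ClSub.quotMod I) (ClSub.quotMod J) W hW).2 t
    obtain ⟨a, rfl⟩ := exists_tmul_one (proj I W) (proj J W) (proj_surjective I hW)
      (proj_surjective J hW) z
    exact ⟨proj (I ⊔ J) W a, φ_proj I J W a⟩

/-- `O/I ⊗ O/J ≅ O/(I + J)` -/
noncomputable def quotTensorIso :
    CohB1.tensorMod (ClSub.quotMod I) (ClSub.quotMod J) ≅ ClSub.quotMod (I ⊔ J) :=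
  (asIso (φ I J)).symm

end Geo

end Groth.Agent.Lib.helper7.QuotTensor
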