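import Mathlib
import Groth.Agent.Lib.Helper7.SnapperCartier2
import Groth.Agent.Lib.Helper7.QuotTensor

/-!
# `(M; F) − (M; F ⊗ I_D) = (M; F ⊗ O_D) − (M; Tor_1(F, O_D))` (helper7)

* `torK F D`: the kernel of `F ⊗ I_D → F`
* `intNum_sub_intNum_tensor_idealMod`
-/

set_option autoImplicit false
set_option linter.unusedSectionVars false
set_option linter.style.haveILetI false
universe u

open CategoryTheory CategoryTheory.Limits AlgebraicGeometry Opposite TopologicalSpace

namespace Groth.Agent.Lib.helper7.KerTensor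

open Groth.Agent.Lib.helper7.SnapperDiff Groth.Agent.Lib.helper7.SnapperMain
open Groth.Agent.Lib.helper7.SnapperSplit Groth.Agent.Lib.helper7.SnapperQuot
open Groth.Agent.Lib.helper7.SnapperTensor Groth.Agent.Lib.helper7.SnapperCartier2
open Groth.Agent.Lib.helper7.TensorReg
open Groth.Agent.Lib.Lead.ModTensor

section Abelian

variable {C : Type*} [Category C] [Abelian C]

/-- for `A --u--> B --v--> C'` exact, `0 → ker u → A → ker v → 0` is short exact -/
theorem shortExact_kernel_lift {A B C' : C} (u : A ⟶ B) (v : B ⟶ C') (w : u ≫ v = 0)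
    (hex : (ShortComplex.mk u v w).Exact) :
    (ShortComplex.mk (kernel.ι u) (kernel.lift v u w)
      (by rw [← cancel_mono (kernel.ι v), Category.assoc, kernel.lift_ι, kernel.condition,
        zero_comp])).ShortExact := by
  have hepi : Epi (kernel.lift v u w) := by
    have := (ShortComplex.exact_iff_epi_kernel_lift (ShortComplex.mk u v w)).mp hex
    exact this
  have hlim : IsLimit (KernelFork.ofι (kernel.ι u)
      (show kernel.ι u ≫ kernel.lift v u w = 0 by
        rw [← cancel_mono (kernel.ι v), Category.assoc, kernel.lift_ι, kernel.condition,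
          zero_comp])) :=
    isKernelOfComp (kernel.ι v) u (kernelIsKernel u) _ (kernel.lift_ι v u w)
  exact
    { exact := ShortComplex.exact_of_f_is_kernel _ hlim
      mono_f := inferInstanceAs (Mono (kernel.ι u))
      epi_g := hepi }

/-- for `v` epi, `0 → ker v → B → C' → 0` is short exact -/
theorem shortExact_kernel_of_epi {B C' : C} (v : B ⟶ C') [Epi v] :
    (ShortComplex.mk (kernel.ι v) v (kernel.condition v)).ShortExact :=
  { exact := ShortComplex.exact_of_f_is_kernel _ (kernelIsKernel v)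
    mono_f := inferInstanceAs (Mono (kernel.ι v))
    epi_g := inferInstanceAs (Epi v) }

end Abelian

section Def

variable {X : Scheme.{u}} (F : X.Modules) (D : X.IdealSheafData)

/-- `Tor_1(F, O_D)`: the kernel of `F ⊗ I_D → F` -/
noncomputable def torK : X.Modules := kernel (mulHom F D)

theorem isCoh_idealMod [IsLocallyNoetherian X] : Coh.IsCoh (ClSub.idealMod D) :=
  Groth.Agent.Lib.helper7.CohKer.isCoh_kernel
    (Groth.Agent.Lib.helper8.Dev.isCoh_structureModule X) (isCoh_quotMod D) (ClSub.toSubscheme D)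

theorem isCoh_torK [IsLocallyNoetherian X] (hF : Coh.IsCoh F) : Coh.IsCoh (torK F D) :=
  Groth.Agent.Lib.helper7.CohKer.isCoh_kernel
    (Groth.Agent.Lib.Helper18.DegCalc.isCoh_tensorMod hF (isCoh_idealMod D)) hF (mulHom F D)

/-- `u = I_D ⊗ F → O ⊗ F` in terms of `mulHom` -/
theorem tensorMap_idealModι_eq :
    tensorMap (ClSub.idealModι D) (𝟙 F) =
      (braid _ _).hom ≫ mulHom F D ≫ (SecTwist.unitorR F).inv ≫ (braid _ _).inv := by
  have h := Groth.Agent.Lib.helper9.CurveHopf.braid_naturality (ClSub.idealModι D) (𝟙 F)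
  unfold mulHom
  rw [Category.assoc, Iso.hom_inv_id_assoc, ← Category.assoc, ← h, Category.assoc,
    Iso.hom_inv_id, Category.comp_id]

/-- the kernel of `I_D ⊗ F → O ⊗ F` is `torK F D` -/
noncomputable def kernelIso :
    kernel (tensorMap (ClSub.idealModι D) (𝟙 F)) ≅ torK F D :=
  kernel.mapIso _ _ (braid _ _) ((braid _ _) ≪≫ SecTwist.unitorR F) (by
    rw [tensorMap_idealModι_eq]
    simp)

end Def

section Local

open TensorProduct

variable {A : Type*} [CommRing A] {N J : Type*} [AddCommGroup N] [Module A N]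
  [AddCommGroup J] [Module A J]

theorem exists_tmul_eq (ι : J →ₗ[A] A) (hι : Function.Injective ι) (a : A)
    (hrange : LinearMap.range ι = Ideal.span {a}) :
    ∃ j₀ : J, ι j₀ = a ∧ ∀ z : N ⊗[A] J, ∃ n : N, z = n ⊗ₜ[A] j₀ := by
  obtain ⟨j₀, hj₀⟩ : ∃ j₀, ι j₀ = a := by
    have : a ∈ LinearMap.range ι := by
      rw [hrange]; exact Ideal.subset_span rfl
    exact this
  refine ⟨j₀, hj₀, fun z => ?_⟩
  have hsurj : Function.Surjective (LinearMap.toSpanSingleton A J j₀) := by
    intro j
    have hj : ι j ∈ Ideal.span {a} := by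
      rw [← hrange]; exact ⟨j, rfl⟩
    obtain ⟨r, hr⟩ := Ideal.mem_span_singleton'.mp hj
    refine ⟨r, hι ?_⟩
    rw [LinearMap.toSpanSingleton_apply, map_smul, hj₀, smul_eq_mul, hr]
  obtain ⟨y, rfl⟩ := LinearMap.lTensor_surjective N hsurj z
  refine ⟨TensorProduct.rid A N y, ?_⟩
  have hy : y = (TensorProduct.rid A N y) ⊗ₜ[A] (1 : A) := by
    rw [← TensorProduct.rid_symm_apply, LinearEquiv.symm_apply_apply]
  conv_lhs => rw [hy]
  rw [LinearMap.lTensor_tmul, LinearMap.toSpanSingleton_apply, one_smul]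

end Local

section LocalGeo

open TensorProduct Groth.Agent.Lib.helper11.TensorASec Groth.Agent.Lib.helper7.IdealMod
  Groth.Agent.Lib.helper8.StalkLen

variable {X : Scheme.{u}} (F : X.Modules) (D : X.IdealSheafData)

/-- if the local equation of `D` at `x` is a nonzerodivisor on `F` near `x`, then
`x ∉ Supp Tor_1(F, O_D)` -/
theorem notMem_support_torK [F.IsQuasicoherent] [(ClSub.idealMod D).IsQuasicoherent]
    {W : X.Opens} (hW : IsAffineOpen W) (x : X) (hx : x ∈ W) (a : Γ(X, W))
    (ha : D.ideal ⟨W, hW⟩ = Ideal.span {a})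
    (hreg : ∀ m : Γ(F, W), a • m = 0 →
      ∃ g : Γ(X, W), g ∉ (hW.primeIdealOf ⟨x, hx⟩).asIdeal ∧ g • m = 0) :
    x ∉ CohB1.support (torK F D) := by
  haveI : (CohB1.tensorMod F (ClSub.idealMod D)).IsQuasicoherent :=
    Groth.Agent.Lib.helper2.TensorQCoh.isQuasicoherent_tensorMod _ _
  haveI : (torK F D).IsQuasicoherent :=
    Groth.Agent.Lib.helper7.CohKer.isQuasicoherent_kernel (mulHom F D)
  intro hmem
  have hnt : Nontrivial ↑((torK F D).presheaf.stalk x) := not_subsingleton_iff_nontrivial.mp hmem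
  rw [nontrivial_stalk_iff (torK F D) hW x hx] at hnt
  refine absurd hnt ?_
  rw [Module.notMem_support_iff']
  intro t
  let ιW : Γ(ClSub.idealMod D, W) →ₗ[Γ(X, W)] Γ(X, W) :=
    (D.ideal ⟨W, hW⟩).subtype ∘ₗ (sectionsEquiv D ⟨W, hW⟩).toLinearMap
  have hιinj : Function.Injective ιW :=
    (Submodule.injective_subtype _).comp (sectionsEquiv D ⟨W, hW⟩).injective
  have hrange : LinearMap.range ιW = Ideal.span {a} := by
    rw [LinearMap.range_comp, LinearEquiv.range, Submodule.map_top, Submodule.range_subtype, ha]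
  have hc := bijective_cW F (ClSub.idealMod D) W hW
  have key : ∀ z : Γ(F, W) ⊗[Γ(X, W)] Γ(ClSub.idealMod D, W),
      ((mulHom F D).app W).hom (cW F (ClSub.idealMod D) W z) = mulMap ιW z := by
    intro z
    induction z using TensorProduct.induction_on with
    | zero => rw [map_zero, map_zero, map_zero]
    | tmul f i =>
      rw [mulMap_tmul]
      exact mulHom_tmul F D W f i (ιW i) rfl
    | add x y hx hy => rw [map_add, map_add, hx, hy, map_add]
  set s := ((kernel.ι (mulHom F D)).app W).hom t with hs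
  have hs0 : ((mulHom F D).app W).hom s = 0 :=
    KerSections.kernel_ι_app_comp (mulHom F D) W t
  obtain ⟨z, hz⟩ := hc.2 s
  obtain ⟨j₀, hj₀, hall⟩ := exists_tmul_eq (N := Γ(F, W)) ιW hιinj a hrange
  obtain ⟨n, rfl⟩ := hall z
  rw [← hz, key, mulMap_tmul, hj₀] at hs0
  obtain ⟨g, hg, hgn⟩ := hreg n hs0
  refine ⟨g, hg, ?_⟩
  apply KerSections.kernel_ι_app_injective (mulHom F D) W
  have h1 : ((kernel.ι (mulHom F D)).app W).hom (g • t) = g • s :=
    (kernel.ι (mulHom F D)).app_smul g t
  have h2 : ((kernel.ι (mulHom F D)).app W).hom (0 : Γ(kernel (mulHom F D), W)) = 0 :=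
    map_zero _
  refine h1.trans (Eq.trans ?_ h2.symm)
  rw [← hz, ← map_smul, TensorProduct.smul_tmul', hgn, TensorProduct.zero_tmul, map_zero]

end LocalGeo

section Main

variable (k : Type u) [Field k] (X : Scheme.{u}) [X.Over (Spec (CommRingCat.of k))]
  [IsProper (X ↘ Spec (CommRingCat.of k))]

theorem intNum_sub_intNum_tensor_idealMod (d : ℕ) (hd : topologicalKrullDim X ≤ d) {r : ℕ}
    (M : Fin r → X.Modules) (hM : ∀ i, PicF.IsInvertible (M i))
    (F : X.Modules) (hF : Coh.IsCoh F) (D : X.IdealSheafData) :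
    FGA.intNum k X d M F - FGA.intNum k X d M (CohB1.tensorMod F (ClSub.idealMod D)) =
      FGA.intNum k X d M (CohB1.tensorMod F (ClSub.quotMod D)) -
        FGA.intNum k X d M (torK F D) := by
  haveI := Groth.Agent.Lib.Lead.CurveEuler.isNoetherian k X
  have hO : Coh.IsCoh (Coh.structureModule X) :=
    Groth.Agent.Lib.helper8.Dev.isCoh_structureModule X
  have hQ : Coh.IsCoh (ClSub.quotMod D) := isCoh_quotMod D
  have hI : Coh.IsCoh (ClSub.idealMod D) := isCoh_idealMod D
  have hA : Coh.IsCoh (CohB1.tensorMod (ClSub.idealMod D) F) :=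
    Groth.Agent.Lib.Helper18.DegCalc.isCoh_tensorMod hI hF
  have hB : Coh.IsCoh (CohB1.tensorMod (Coh.structureModule X) F) :=
    Groth.Agent.Lib.Helper18.DegCalc.isCoh_tensorMod hO hF
  have hC : Coh.IsCoh (CohB1.tensorMod (ClSub.quotMod D) F) :=
    Groth.Agent.Lib.Helper18.DegCalc.isCoh_tensorMod hQ hF
  -- right exactness
  haveI := Groth.Agent.Lib.Helper21.FlatSES.additive_tens (O := X.sheaf) F
  haveI := Groth.Agent.Lib.Helper21.TensorAdj.isLeftAdjoint_tens X.sheaf F
  let S' : ShortComplex (ModSite.Mod X.sheaf) := Groth.Agent.Lib.helper7.IdealMod.idealSeq D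
  have hS : S'.ShortExact := Groth.Agent.Lib.helper7.IdealMod.idealSeq_shortExact D
  haveI := hS.mono_f
  haveI := hS.epi_g
  have hex : (S'.map (Groth.Agent.Lib.Helper21.TensorAdj.tens X.sheaf F)).Exact :=
    hS.exact.map_of_epi_of_preservesCokernel _ inferInstance inferInstance
  haveI hepi : Epi (tensorMap (ClSub.toSubscheme D) (𝟙 F)) :=
    (Groth.Agent.Lib.Helper21.TensorAdj.tens X.sheaf F).map_epi S'.g
  set u := tensorMap (ClSub.idealModι D) (𝟙 F) with hu
  set v := tensorMap (ClSub.toSubscheme D) (𝟙 F) with hv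
  have w : u ≫ v = 0 := (S'.map (Groth.Agent.Lib.Helper21.TensorAdj.tens X.sheaf F)).zero
  have hex' : (ShortComplex.mk u v w).Exact := hex
  have h1 := intNum_additive k X d hd M hM _ (shortExact_kernel_lift u v w hex')
    (Groth.Agent.Lib.helper7.CohKer.isCoh_kernel hA hB u)
    (Groth.Agent.Lib.helper7.CohKer.isCoh_kernel hB hC v)
  have h2 := intNum_additive k X d hd M hM _ (shortExact_kernel_of_epi v)
    (Groth.Agent.Lib.helper7.CohKer.isCoh_kernel hB hC v) hC
  change FGA.intNum k X d M (CohB1.tensorMod (ClSub.idealMod D) F) =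
    FGA.intNum k X d M (kernel u) + FGA.intNum k X d M (kernel v) at h1
  change FGA.intNum k X d M (CohB1.tensorMod (Coh.structureModule X) F) =
    FGA.intNum k X d M (kernel v) + FGA.intNum k X d M (CohB1.tensorMod (ClSub.quotMod D) F) at h2
  rw [intNum_iso k X d hd M (leftUnitor F)] at h2
  rw [intNum_iso k X d hd M (braid (ClSub.idealMod D) F),
    intNum_iso k X d hd M (kernelIso F D)] at h1
  rw [intNum_iso k X d hd M (braid (ClSub.quotMod D) F)] at h2
  rw [h1, h2]
  ring

end Main

end Groth.Agent.Lib.helper7.KerTensor
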