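import Mathlib
import Groth.Agent.Lib.Helper3.IrredDim
import Groth.Agent.Lib.Helper18.StalkPushClosed
import Groth.Agent.Lib.Helper7.SnapperQuot
import Groth.Agent.Lib.Helper7.TensorReg
import Groth.Agent.Lib.Lead.HilbPos4

/-!
# Dimension of an effective Cartier divisor on an integral scheme of finite type over a field
(helper7)

* `support_quotMod_eq`: `Supp (O_X / I_D) = D.support`
* `exists_mem_support_stalk_dim_le_one`: every point of an effective Cartier divisor `D` on a
  locally Noetherian scheme has a generization `ξ ∈ D` with `dim O_{X,ξ} ≤ 1` (Krull)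
* `le_dim_support_of_effCartier`: for `X` integral, locally of finite type over a field, of
  dimension `s + 1`, a nonempty effective Cartier divisor has dimension `≥ s`
-/

set_option autoImplicit false
set_option linter.unusedSectionVars false
set_option linter.style.haveILetI false
universe u

open CategoryTheory CategoryTheory.Limits AlgebraicGeometry Opposite TopologicalSpace

namespace Groth.Agent.Lib.helper7.DivisorDim

section Support

variable {X : Scheme.{u}}

theorem support_quotMod_eq (D : X.IdealSheafData) :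
    CohB1.support (ClSub.quotMod D) = (D.support : Set X) := by
  apply Set.Subset.antisymm (Groth.Agent.Lib.helper7.SnapperQuot.support_quotMod_subset D)
  intro x hx
  rw [← Scheme.IdealSheafData.range_subschemeι] at hx
  obtain ⟨y, rfl⟩ := hx
  have hemb := Scheme.Hom.isClosedEmbedding D.subschemeι
  have hbij := Groth.Agent.Lib.Helper18.StalkPushClosed.stalkPush_bijective D.subschemeι
    (Coh.structureModule D.subscheme) y hemb.isClosedMap
    (fun a ha => hemb.injective ha)
  intro hsub
  have hy := Groth.Agent.Lib.Lead.HilbPos.mem_support_structureModule D.subscheme y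
  exact hy (hbij.2.subsingleton)

end Support

section Krull

open Groth.Agent.Lib.helper3.DimIneq

variable {X : Scheme.{u}} [IsLocallyNoetherian X]

theorem exists_mem_support_stalk_dim_le_one (D : X.IdealSheafData)
    (hD : BlowUp.IsEffCartierIdeal D) (x : X) (hx : x ∈ D.support) :
    ∃ ξ : X, ξ ∈ D.support ∧ ringKrullDim (X.presheaf.stalk ξ) ≤ 1 := by
  obtain ⟨U, hxU, a, -, ha⟩ := hD x
  haveI : IsNoetherianRing Γ(X, U.1) := IsLocallyNoetherian.component_noetherian U
  have hap : a ∈ (U.2.primeIdealOf ⟨x, hxU⟩).asIdeal := by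
    rw [Scheme.IdealSheafData.mem_support_iff_of_mem (U := U) hxU, Scheme.mem_zeroLocus_iff] at hx
    have h1 := hx a (by rw [ha]; exact Ideal.subset_span rfl)
    rwa [Groth.Agent.Lib.helper7.TensorReg.mem_basicOpen_iff U.2 x hxU, not_not] at h1
  obtain ⟨q, hq, hqle⟩ := Ideal.exists_minimalPrimes_le (I := Ideal.span {a})
    (J := (U.2.primeIdealOf ⟨x, hxU⟩).asIdeal) ((Ideal.span_singleton_le_iff_mem _).mpr hap)
  haveI : q.IsPrime := hq.1.1
  obtain ⟨ξ, hξU, hξq⟩ := exists_point_of_prime U.2 q
  refine ⟨ξ, ?_, ?_⟩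
  · rw [Scheme.IdealSheafData.mem_support_iff_of_mem (U := U) hξU, Scheme.mem_zeroLocus_iff]
    intro f hf
    rw [Groth.Agent.Lib.helper7.TensorReg.mem_basicOpen_iff U.2 ξ hξU, not_not, hξq]
    rw [ha] at hf
    obtain ⟨r, rfl⟩ := Ideal.mem_span_singleton'.mp hf
    exact Ideal.mul_mem_left _ r (hq.1.2 (Ideal.subset_span rfl))
  · rw [ringKrullDim_stalk_eq_height U.2 ξ hξU, hξq]
    have := Ideal.height_le_one_of_isPrincipal_of_mem_minimalPrimes (Ideal.span {a}) _ hq
    exact_mod_cast this

end Krull

section Dim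

open Groth.Agent.Lib.helper3.FTField Groth.Agent.Lib.helper3.IrredDim

theorem le_dim_support_of_effCartier (k : Type u) [Field k] (X : Scheme.{u})
    [X.Over (Spec (CommRingCat.of k))]
    [LocallyOfFiniteType (X ↘ Spec (CommRingCat.of k))] [IsIntegral X] (s : ℕ)
    (hdim : topologicalKrullDim X = ((s + 1 : ℕ) : WithBot ℕ∞))
    (D : X.IdealSheafData) (hD : BlowUp.IsEffCartierIdeal D) (x : X) (hx : x ∈ D.support) :
    ((s : ℕ) : WithBot ℕ∞) ≤ topologicalKrullDim (D.support : Set X) := by
  haveI := isLocallyNoetherian_of_lft k X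
  obtain ⟨ξ, hξD, hξ1⟩ := exists_mem_support_stalk_dim_le_one D hD x hx
  obtain ⟨d, hd, hloc⟩ := exists_dim_eq_localDim_of_irreducible k X
  obtain ⟨a, b, ha, hb, hab⟩ := localDim_eq_trdeg_add_stalk k X ξ
  have hds : d = s + 1 := by
    rw [hdim] at hd
    exact_mod_cast hd.symm
  have habd : a + b = d := by
    rw [hloc ξ] at hab
    exact_mod_cast hab.symm
  have hb1 : b ≤ 1 := by
    rw [hb] at hξ1
    exact_mod_cast hξ1
  have has : s ≤ a := by omega
  have h1 := dim_closure_eq_trdeg k X ξ a ha
  have hsub : closure ({ξ} : Set X) ⊆ (D.support : Set X) :=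
    closure_minimal (Set.singleton_subset_iff.mpr hξD) D.support.isClosed
  have h2 := Groth.Agent.Lib.helper8.DimLt.topologicalKrullDim_le_of_subset hsub
  rw [h1] at h2
  refine le_trans ?_ h2
  exact_mod_cast has

end Dim

end Groth.Agent.Lib.helper7.DivisorDim
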