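import Mathlib
import Groth.Agent.Lib.Helper3.IrredDim
import Groth.Agent.Lib.Helper24.FlatDepth5
import Groth.Agent.Lib.Helper26.Unmixed
import Groth.Agent.Lib.Helper7.QuotTensor
import Groth.Agent.Lib.Helper7.DivisorDim

/-!
# Associated points of an effective Cartier divisor on a Cohen–Macaulay scheme (helper7)

* `isCM_of_ringEquiv`, `isCohenMacaulayRing_sections`
* `height_eq_one_of_mem_minimalPrimes_ann`: in a CM ring `S`, minimal primes over annihilators of
  elements of `S/(f)`, `f` a nonzerodivisor, have height one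
* `trdeg_eq_zero_of_mem_finite_closed`: points of a finite closed subset of a scheme locally of
  finite type over a field have residue field algebraic over the field
* `le_ringKrullDim_stalk_of_mem_finite_closed`: such points have local dimension at least the
  common dimension of the irreducible components
* `not_isAssPoint_quotMod`
-/

set_option autoImplicit false
set_option linter.unusedSectionVars false
set_option linter.style.haveILetI false
universe u

open CategoryTheory CategoryTheory.Limits AlgebraicGeometry Opposite TopologicalSpace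

namespace Groth.Agent.Lib.helper7.CMAss

section RingEquiv

/-- Cohen–Macaulayness is invariant under ring isomorphisms (copy of helper23's lemma). -/
theorem isCM_of_ringEquiv {S T : Type u} [CommRing S] [CommRing T] (e : S ≃+* T)
    (h : LocCoh.IsCohenMacaulayLocalRing S) : LocCoh.IsCohenMacaulayLocalRing T := by
  haveI : IsNoetherianRing S := h.toIsNoetherian
  haveI : IsLocalRing S := h.toIsLocalRing
  haveI : IsNoetherianRing T := isNoetherianRing_of_ringEquiv S e
  haveI : IsLocalRing T := e.isLocalRing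
  refine { supportDim_eq_depth := ?_ }
  have h1 := h.supportDim_eq_depth
  rw [Module.supportDim_self_eq_ringKrullDim] at h1 ⊢
  rw [← ringKrullDim_eq_of_ringEquiv e, Groth.Agent.Lib.Helper24.FlatDepth.depth_eq_of_ringEquiv e]
  exact h1

end RingEquiv

section Sections

open Groth.Agent.Lib.helper3.DimIneq

variable {X : Scheme.{u}} [IsLocallyNoetherian X]

theorem isCohenMacaulayRing_sections
    (hCM : ∀ x : X, LocCoh.IsCohenMacaulayLocalRing (X.presheaf.stalk x))
    {W : X.Opens} (hW : IsAffineOpen W) : LocCoh.IsCohenMacaulayRing Γ(X, W) := by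
  haveI : IsNoetherianRing Γ(X, W) := IsLocallyNoetherian.component_noetherian ⟨W, hW⟩
  refine { isCohenMacaulayLocalRing_localization := ?_ }
  intro p hp
  obtain ⟨ξ, hξ, rfl⟩ := exists_point_of_prime hW p
  letI : Algebra Γ(X, W) (X.presheaf.stalk ξ) :=
    TopCat.Presheaf.algebra_section_stalk X.presheaf ⟨ξ, hξ⟩
  haveI := hW.isLocalization_stalk ⟨ξ, hξ⟩
  let e : X.presheaf.stalk ξ ≃+* Localization.AtPrime (hW.primeIdealOf ⟨ξ, hξ⟩).asIdeal :=
    (IsLocalization.algEquiv (hW.primeIdealOf ⟨ξ, hξ⟩).asIdeal.primeCompl (X.presheaf.stalk ξ)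
      (Localization.AtPrime (hW.primeIdealOf ⟨ξ, hξ⟩).asIdeal)).toRingEquiv
  exact isCM_of_ringEquiv e (hCM ξ)

end Sections

section Unmixed

open Groth.Agent.Lib.helper16.QCohAss

theorem height_eq_one_of_mem_minimalPrimes_ann {S : Type u} [CommRing S]
    [LocCoh.IsCohenMacaulayRing S] {M : Type u} [AddCommGroup M] [Module S M]
    (p : S →ₗ[S] M) (hp : Function.Surjective p) (f : S) (hf : f ∈ nonZeroDivisors S)
    (hker : (LinearMap.ker p : Submodule S S) = Ideal.span {f}) (n : M) (P : Ideal S)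
    (hP : P ∈ (ann S n).minimalPrimes) : P.height = 1 := by
  haveI : IsNoetherianRing S := LocCoh.IsCohenMacaulayRing.toIsNoetherian
  obtain ⟨b, rfl⟩ := hp n
  have hann : ann S (p b) = Submodule.colon (⊥ : Submodule S (S ⧸ Ideal.ofList [f]))
      {Ideal.Quotient.mk (Ideal.ofList [f]) b} := by
    ext a
    rw [mem_ann, Submodule.mem_colon_singleton, Submodule.mem_bot, ← map_smul, smul_eq_mul,
      ← LinearMap.mem_ker, hker, ← Ideal.ofList_singleton]
    change _ ↔ Ideal.Quotient.mk (Ideal.ofList [f]) (a * b) = 0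
    rw [Ideal.Quotient.eq_zero_iff_mem]
  rw [hann] at hP
  obtain ⟨x', hx'⟩ := Submodule.exists_eq_colon_of_mem_minimalPrimes hP
  have hprime : P.IsPrime := hP.1.1
  have hass : P ∈ associatedPrimes S (S ⧸ Ideal.ofList [f]) := by
    refine ⟨hprime, x', ?_⟩
    rw [← hx']
    exact hprime.radical.symm
  have hJ : (([f] : List S).length : ℕ∞) ≤ (Ideal.ofList [f]).height := by
    rw [Ideal.ofList_singleton]
    simpa using Ideal.one_le_height_span_singleton_of_mem_nonZeroDivisors hf
  have := Groth.Agent.Lib.helper26.Unmixed.height_eq_of_mem_associatedPrimes S [f] hJ P hass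
  simpa using this

end Unmixed

section Dim

open Groth.Agent.Lib.helper3.FTField Groth.Agent.Lib.helper3.IrredDim
  Groth.Agent.Lib.helper3.DimIneq

theorem trdeg_eq_zero_of_mem_finite_closed (k : Type u) [Field k] (X : Scheme.{u})
    [X.Over (Spec (CommRingCat.of k))] [LocallyOfFiniteType (X ↘ Spec (CommRingCat.of k))]
    (Z : Set X) (hZfin : Z.Finite) (hZcl : IsClosed Z) (x : X) (hx : x ∈ Z) :
    @Algebra.trdeg k (X.residueField x) _ _ (Curv2.resAlgebra k X x) = 0 := by
  obtain ⟨n, hn⟩ := exists_nat_trdeg_residueField k X x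
  rw [hn]
  have hclx : closure ({x} : Set X) ⊆ Z := closure_minimal (Set.singleton_subset_iff.mpr hx) hZcl
  set S : Set X := closure ({x} : Set X) \ {x} with hS
  have hSfin : S.Finite := (hZfin.subset hclx).subset Set.sdiff_subset
  have hclS : closure S = ⋃ y ∈ S, closure ({y} : Set X) := by
    have h1 : S = ⋃ y ∈ S, ({y} : Set X) := (Set.biUnion_of_singleton S).symm
    conv_lhs => rw [h1]
    exact hSfin.closure_biUnion _
  have hxW : x ∈ (closure S)ᶜ := by
    intro hmem
    rw [hclS] at hmem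
    simp only [Set.mem_iUnion, exists_prop] at hmem
    obtain ⟨y, hyS, hxy⟩ := hmem
    have h1 : y ⤳ x := specializes_iff_mem_closure.mpr hxy
    have h2 : x ⤳ y := specializes_iff_mem_closure.mpr hyS.1
    exact hyS.2 ((h1.antisymm h2).eq)
  obtain ⟨c, hc, hcm⟩ := exists_chain_in_open k X x (closure S)ᶜ isClosed_closure.isOpen_compl hxW
    n hn
  have hall : ∀ i, c i = x := by
    intro i
    obtain ⟨h1, h2⟩ := hcm i
    by_contra hne
    exact h1 (subset_closure ⟨h2, hne⟩)
  cases n with
  | zero => rfl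
  | succ m =>
    exfalso
    have := (hc 0).2
    rw [hall, hall] at this
    exact this specializes_rfl

theorem le_ringKrullDim_stalk_of_mem_finite_closed (k : Type u) [Field k] (X : Scheme.{u})
    [X.Over (Spec (CommRingCat.of k))] [LocallyOfFiniteType (X ↘ Spec (CommRingCat.of k))]
    (e : ℕ) (hdim : ∀ Z ∈ irreducibleComponents (X : Type u), topologicalKrullDim Z = (e : WithBot ℕ∞))
    (Z : Set X) (hZfin : Z.Finite) (hZcl : IsClosed Z) (x : X) (hx : x ∈ Z) :
    (e : WithBot ℕ∞) ≤ ringKrullDim (X.presheaf.stalk x) := by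
  obtain ⟨W, hW, hxW, -⟩ := exists_isAffineOpen_mem_and_subset (x := x) (U := ⊤) trivial
  haveI : IsNoetherianRing Γ(X, W) := isNoetherianRing_of_isAffineOpen k X hW
  set p := (hW.primeIdealOf ⟨x, hxW⟩).asIdeal with hp
  obtain ⟨q, hq, hqle⟩ := Ideal.exists_minimalPrimes_le (I := ⊥) (J := p) bot_le
  haveI : q.IsPrime := hq.1.1
  obtain ⟨ξ, hξW, hξq⟩ := exists_point_of_prime hW q
  have hcomp : closure ({ξ} : Set X) ∈ irreducibleComponents X :=
    closure_mem_irreducibleComponents hW ξ hξW (by rw [hξq]; exact hq)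
  obtain ⟨m, hm⟩ := exists_nat_trdeg_residueField k X ξ
  have h1 := dim_closure_eq_trdeg k X ξ m hm
  rw [hdim _ hcomp] at h1
  have hme : m = e := by exact_mod_cast h1.symm
  have h0 := trdeg_eq_zero_of_mem_finite_closed k X Z hZfin hZcl x hx
  have hle : (hW.primeIdealOf ⟨ξ, hξW⟩).asIdeal ≤ (hW.primeIdealOf ⟨x, hxW⟩).asIdeal := by
    rw [hξq]; exact hqle
  have h2 := height_map_add_trdeg_residueField k X hW ξ x hξW hxW hle
  rw [h0, hm, add_zero] at h2
  have h3 : ((hW.primeIdealOf ⟨x, hxW⟩).asIdeal.map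
      (Ideal.Quotient.mk (hW.primeIdealOf ⟨ξ, hξW⟩).asIdeal)).height = (m : ℕ∞) := by
    exact_mod_cast h2
  haveI : (hW.primeIdealOf ⟨ξ, hξW⟩).asIdeal.IsPrime := (hW.primeIdealOf ⟨ξ, hξW⟩).isPrime
  have h4 := height_map_le (hW.primeIdealOf ⟨ξ, hξW⟩).asIdeal (hW.primeIdealOf ⟨x, hxW⟩).asIdeal hle
  rw [h3] at h4
  rw [ringKrullDim_stalk_eq_height hW x hxW, ← hme]
  exact_mod_cast h4

end Dim

section Main

open Groth.Agent.Lib.helper16.QCohAss Groth.Agent.Lib.helper7.QuotTensor
  Groth.Agent.Lib.helper7.IdealMod Groth.Agent.Lib.helper3.DimIneq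

/-- On a Cohen–Macaulay scheme, locally of finite type over a field, all of whose irreducible
components have dimension `e ≥ 2`: if two effective Cartier divisors `C`, `D` meet in a finite
set, then no associated point of `O_C` lies on `D`. -/
theorem not_isAssPoint_quotMod (k : Type u) [Field k] (X : Scheme.{u})
    [X.Over (Spec (CommRingCat.of k))] [LocallyOfFiniteType (X ↘ Spec (CommRingCat.of k))]
    (e : ℕ) (he : 2 ≤ e)
    (hdim : ∀ Z ∈ irreducibleComponents (X : Type u), topologicalKrullDim Z = (e : WithBot ℕ∞))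
    (hCM : ∀ x : X, LocCoh.IsCohenMacaulayLocalRing (X.presheaf.stalk x))
    (IC ID : X.IdealSheafData) (hC : BlowUp.IsEffCartierIdeal IC)
    (hfin : ((IC ⊔ ID).support : Set X).Finite) (x : X) (hxD : x ∈ ID.support) :
    ¬ Curv2.IsAssPoint (ClSub.quotMod IC) x := by
  haveI : IsLocallyNoetherian X := Groth.Agent.Lib.helper3.IrredDim.isLocallyNoetherian_of_lft k X
  intro hass
  rw [isAssPoint_iff_isWeakAssPoint] at hass
  obtain ⟨W, hxW, f, hf, hIf⟩ := hC x
  rw [isWeakAssPoint_iff (ClSub.quotMod IC) W.2 x hxW] at hass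
  obtain ⟨n, hn⟩ := hass
  haveI : LocCoh.IsCohenMacaulayRing Γ(X, W.1) := isCohenMacaulayRing_sections hCM W.2
  have hker : (LinearMap.ker (proj IC W.1) : Submodule Γ(X, W.1) Γ(X, W.1)) = Ideal.span {f} := by
    rw [ker_proj IC W.2]
    exact hIf
  have hht := height_eq_one_of_mem_minimalPrimes_ann (proj IC W.1) (proj_surjective IC W.2) f hf
    hker n _ hn
  -- `x` lies on `C`
  have hfP : f ∈ (W.2.primeIdealOf ⟨x, hxW⟩).asIdeal := by
    apply hn.1.2
    rw [mem_ann]
    obtain ⟨b, rfl⟩ := proj_surjective IC W.2 n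
    rw [← map_smul, smul_eq_mul, ← LinearMap.mem_ker, hker]
    exact Ideal.mul_mem_right _ _ (Ideal.subset_span rfl)
  have hxC : x ∈ IC.support := by
    rw [Scheme.IdealSheafData.mem_support_iff_of_mem (U := W) hxW, Scheme.mem_zeroLocus_iff]
    intro g hg
    rw [Groth.Agent.Lib.helper7.TensorReg.mem_basicOpen_iff W.2 x hxW, not_not]
    rw [hIf] at hg
    obtain ⟨r, rfl⟩ := Ideal.mem_span_singleton'.mp hg
    exact Ideal.mul_mem_left _ r hfP
  have hxZ : x ∈ ((IC ⊔ ID).support : Set X) := by
    rw [Scheme.IdealSheafData.support_sup]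
    exact ⟨hxC, hxD⟩
  have h2 := le_ringKrullDim_stalk_of_mem_finite_closed k X e hdim _ hfin
    (IC ⊔ ID).support.isClosed x hxZ
  rw [ringKrullDim_stalk_eq_height W.2 x hxW, hht] at h2
  have h3 : (e : ℕ∞) ≤ 1 := by exact_mod_cast h2
  have h4 : e ≤ 1 := by exact_mod_cast h3
  omega

end Main

end Groth.Agent.Lib.helper7.CMAss
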