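import Mathlib
import Groth.Agent.Lib.Helper7.SnapperSplit
import Groth.Agent.Lib.Lead.HilbPos5
import Groth.Agent.Lib.Helper18.HHSum

/-!
# Asymptotic Riemann–Roch (helper7)

* `nonempty_tensorPows_const`: `tensorPows F r (fun _ => L) n ≅ F ⊗ L^{Σ n}`
* `sum_alt_eval`: `Σ_I (-1)^{d-|I|} Q(|I|) = d! · Q.coeff d` for `deg Q ≤ d`
* `coeff_ones_eq_factorial_mul`: the mixed coefficient of the Snapper polynomial of `(L,…,L)` is
  `d!` times the leading coefficient of the Hilbert polynomial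
* `asymptotic_rr`: the statement of S7649
-/

set_option autoImplicit false
set_option linter.unusedSectionVars false
set_option linter.style.haveILetI false
universe u

open CategoryTheory CategoryTheory.Limits AlgebraicGeometry Opposite TopologicalSpace

namespace Groth.Agent.Lib.helper7.SnapperARR

open Groth.Agent.Lib.helper7.SnapperDiff Groth.Agent.Lib.helper7.SnapperMain
open Groth.Agent.Lib.helper7.SnapperSplit
open Groth.Agent.Lib.Lead.ModTensor Groth.Agent.Lib.Lead.HilbPos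

section Tensor

variable {X : Scheme.{u}}

theorem nonempty_tensorPows_const (F L : X.Modules) : ∀ (r : ℕ) (n : Fin r → ℕ),
    Nonempty (Curv2.tensorPows F r (fun _ => L) n ≅
      CohB1.tensorMod F (CohB1.tensorPow L (∑ i, n i)))
  | 0, n => by
    rw [Finset.univ_eq_empty, Finset.sum_empty]
    exact ⟨(rightUnitor F).symm⟩
  | r + 1, n => by
    obtain ⟨e⟩ := nonempty_tensorPows_const F L r (fun i => n i.castSucc)
    rw [Fin.sum_univ_castSucc]
    exact ⟨tensorIso e (Iso.refl _) ≪≫ assoc _ _ _ ≪≫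
      tensorIso (Iso.refl F) (tensorPowAdd L _ _)⟩

theorem sum_ind {r : ℕ} (I : Finset (Fin r)) : ∑ i, ind I i = I.card := by
  unfold ind
  rw [Finset.sum_ite_mem, Finset.univ_inter, Finset.sum_const, smul_eq_mul, mul_one]

end Tensor

section Poly

open Polynomial

/-- the `d`-th finite difference of a polynomial of degree `≤ d` -/
theorem fwdDiff_iter_eval (Q : ℚ[X]) (d : ℕ) (hQ : Q.natDegree ≤ d) :
    (fwdDiff (1 : ℚ))^[d] (fun x => Q.eval x) 0 = (d.factorial : ℚ) * Q.coeff d := by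
  rcases lt_or_eq_of_le hQ with h | h
  · have h0 := Polynomial.fwdDiff_iter_eq_zero_of_degree_lt (P := Q) h
    have h1 : (fun x => Q.eval x) = Q.eval := rfl
    rw [h1, h0, coeff_eq_zero_of_natDegree_lt h]
    simp
  · have h0 := Polynomial.fwdDiff_iter_degree_eq_factorial Q
    have h1 : (fun x => Q.eval x) = Q.eval := rfl
    rw [h1, ← h, h0]
    simp only [Pi.smul_apply, smul_eq_mul]
    rw [mul_comm]
    rfl

theorem sum_alt_eval (Q : ℚ[X]) (d : ℕ) (hQ : Q.natDegree ≤ d) :
    ∑ I ∈ (Finset.univ : Finset (Fin d)).powerset,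
      ((-1 : ℤ) ^ (d - I.card) : ℚ) * Q.eval (I.card : ℚ) = (d.factorial : ℚ) * Q.coeff d := by
  rw [← fwdDiff_iter_eval Q d hQ, fwdDiff_iter_eq_sum_shift,
    Finset.sum_powerset_apply_card (fun j => ((-1 : ℤ) ^ (d - j) : ℚ) * Q.eval (j : ℚ))]
  rw [Finset.card_univ, Fintype.card_fin]
  apply Finset.sum_congr rfl
  intro j _
  simp only [zero_add, nsmul_eq_mul, mul_one, zsmul_eq_mul]
  push_cast
  ring

end Poly

section Main

variable (k : Type u) [Field k] (X : Scheme.{u}) [X.Over (Spec (CommRingCat.of k))]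
  [IsProper (X ↘ Spec (CommRingCat.of k))]

theorem chi_const_ind (F L : X.Modules) (d : ℕ) (I : Finset (Fin d)) :
    chi k X F d (fun _ => L) (ind I) = hilb k X L F I.card := by
  obtain ⟨e⟩ := nonempty_tensorPows_const F L d (ind I)
  rw [sum_ind] at e
  exact Groth.Agent.Lib.Lead.CurveEuler.euler_eq_of_iso k X e

/-- the mixed coefficient is `d!` times the leading coefficient of the Hilbert polynomial -/
theorem coeff_ones_eq_factorial_mul (d : ℕ) (L : X.Modules) (hL : PicF.IsInvertible L)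
    (F : X.Modules) (hF : Coh.IsCoh F)
    (hd : topologicalKrullDim (CohB1.support F) ≤ ((d : ℕ) : WithBot ℕ∞))
    (P : MvPolynomial (Fin d) ℚ)
    (hP : ∀ n : Fin d → ℕ, (Curv2.euler k X (Curv2.tensorPows F d (fun _ => L) n) : ℚ) =
      MvPolynomial.eval (fun i => (n i : ℚ)) P)
    (Q : Polynomial ℚ) (hQ : ShStab.IsHilbPoly k X L F Q) :
    MvPolynomial.coeff (Finsupp.equivFunOnFinite.symm fun _ : Fin d => 1) P =
      (d.factorial : ℚ) * Q.coeff d := by
  have hlt : topologicalKrullDim (CohB1.support F) < ((d + 1 : ℕ) : WithBot ℕ∞) := by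
    refine lt_of_le_of_lt hd ?_
    exact_mod_cast Nat.lt_succ_self d
  have hf : DegLT (d + 1) (chi k X F d (fun _ => L)) :=
    snapper k (d + 1) X F hF hlt d (fun _ => L) (fun _ => hL)
  have h1 := coeff_ones_of_degLT (chi k X F d (fun _ => L)) hf P hP
  have hQd : Q.natDegree ≤ d := natDegree_le k X hL hF d hd hQ
  rw [← sum_alt_eval Q d hQd]
  change MvPolynomial.coeff (ones d) P = _
  rw [h1]
  push_cast
  apply Finset.sum_congr rfl
  intro I _
  rw [chi_const_ind k X F L d I, ← hQ I.card]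
  rfl

theorem dim_support_structureModule [IsLocallyNoetherian X] :
    topologicalKrullDim (CohB1.support (Coh.structureModule X)) = topologicalKrullDim X := by
  have h : CohB1.support (Coh.structureModule X) = Set.univ :=
    Set.eq_univ_of_forall (fun y => mem_support_structureModule X y)
  rw [h]
  exact (Homeomorph.Set.univ X).isHomeomorph.topologicalKrullDim_eq

/-- elementary bound of a polynomial minus its top term -/
theorem abs_eval_sub_le (Q : Polynomial ℚ) (d : ℕ) (hQ : Q.natDegree ≤ d) (m : ℕ) :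
    |Q.eval (m : ℚ) - Q.coeff d * (m : ℚ) ^ d| ≤
      (∑ j ∈ Finset.range d, |Q.coeff j|) * ((m : ℚ) + 1) ^ (d - 1) := by
  rw [Polynomial.eval_eq_sum_range' (Nat.lt_succ_of_le hQ), Finset.sum_range_succ,
    add_sub_cancel_right, Finset.sum_mul]
  refine (Finset.abs_sum_le_sum_abs _ _).trans (Finset.sum_le_sum (fun j hj => ?_))
  have hj' : j ≤ d - 1 := by have := Finset.mem_range.mp hj; omega
  rw [abs_mul]
  have hm0 : (0 : ℚ) ≤ (m : ℚ) := Nat.cast_nonneg m
  have h1 : |(m : ℚ) ^ j| ≤ ((m : ℚ) + 1) ^ (d - 1) := by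
    rw [abs_of_nonneg (pow_nonneg hm0 j)]
    calc (m : ℚ) ^ j ≤ ((m : ℚ) + 1) ^ j := pow_le_pow_left₀ hm0 (by linarith) j
      _ ≤ ((m : ℚ) + 1) ^ (d - 1) := pow_le_pow_right₀ (by linarith) hj'
  exact mul_le_mul_of_nonneg_left h1 (abs_nonneg _)

/-- **S7649** -/
theorem asymptotic_rr (d : ℕ) (hX : topologicalKrullDim X = d) (L : X.Modules)
    (hL : CohB1.IsAmple L) (P : MvPolynomial (Fin d) ℚ)
    (hP : ∀ n : Fin d → ℕ, (Curv2.euler k X
      (Curv2.tensorPows (Coh.structureModule X) d (fun _ => L) n) : ℚ) =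
        MvPolynomial.eval (fun i => (n i : ℚ)) P) :
    0 < MvPolynomial.coeff (Finsupp.equivFunOnFinite.symm fun _ : Fin d => 1) P ∧
      ∃ C : ℚ, ∀ n : ℕ,
        |(Module.finrank k (Coh.HH X (CohB1.tensorPow L n) 0) : ℚ) -
            MvPolynomial.coeff (Finsupp.equivFunOnFinite.symm fun _ : Fin d => 1) P /
              (d.factorial : ℚ) * (n : ℚ) ^ d| ≤
          C * ((n : ℚ) + 1) ^ (d - 1) := by
  haveI := Groth.Agent.Lib.Lead.CurveEuler.isNoetherian k X
  have hO : Coh.IsCoh (Coh.structureModule X) :=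
    Groth.Agent.Lib.helper8.Dev.isCoh_structureModule X
  have hsupp : topologicalKrullDim (CohB1.support (Coh.structureModule X)) =
      ((d : ℕ) : WithBot ℕ∞) := by
    rw [dim_support_structureModule X, hX]
  obtain ⟨Q, hQ, hQd⟩ := exists_isHilbPoly k X hL.1 hO d hsupp.le
  have hcoeff := coeff_ones_eq_factorial_mul k X d L hL.1 _ hO hsupp.le P hP Q hQ
  have hpos : 0 < Q.coeff d := coeff_pos k X hL hO d hsupp hQ
  have hfac : (0 : ℚ) < (d.factorial : ℚ) := by exact_mod_cast Nat.factorial_pos d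
  refine ⟨by rw [hcoeff]; exact mul_pos hfac hpos, ?_⟩
  have hdiv : MvPolynomial.coeff (Finsupp.equivFunOnFinite.symm fun _ : Fin d => 1) P /
      (d.factorial : ℚ) = Q.coeff d := by
    rw [hcoeff, mul_comm, mul_div_assoc, div_self hfac.ne', mul_one]
  rw [hdiv]
  obtain ⟨N, hN⟩ := exists_hilb_eq_finrank k X hL hO
  have hfin : ∀ m : ℕ, N ≤ m →
      (Module.finrank k (Coh.HH X (CohB1.tensorPow L m) 0) : ℚ) = Q.eval (m : ℚ) := by
    intro m hm
    rw [← hQ m]
    have h1 := hN m hm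
    have h2 : Module.finrank k (Coh.HH X (ShStab.twist X L (Coh.structureModule X) m) 0) =
        Module.finrank k (Coh.HH X (CohB1.tensorPow L m) 0) :=
      (Groth.Agent.Lib.Helper18.HH.isoEquivOver k (leftUnitor (CohB1.tensorPow L m)) 0).finrank_eq
    rw [h2] at h1
    show _ = ((hilb k X L (Coh.structureModule X) m : ℤ) : ℚ)
    rw [h1]
    simp
  let g : ℕ → ℚ := fun m => |(Module.finrank k (Coh.HH X (CohB1.tensorPow L m) 0) : ℚ) -
    Q.coeff d * (m : ℚ) ^ d|
  refine ⟨(∑ j ∈ Finset.range d, |Q.coeff j|) + ∑ m ∈ Finset.range N, g m, fun m => ?_⟩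
  have hone : (1 : ℚ) ≤ ((m : ℚ) + 1) ^ (d - 1) := by
    have hm0 : (0 : ℚ) ≤ (m : ℚ) := Nat.cast_nonneg m
    exact one_le_pow₀ (by linarith)
  have hC1 : 0 ≤ ∑ j ∈ Finset.range d, |Q.coeff j| :=
    Finset.sum_nonneg (fun j _ => abs_nonneg _)
  have hC2 : 0 ≤ ∑ m ∈ Finset.range N, g m := Finset.sum_nonneg (fun j _ => abs_nonneg _)
  have hpw : (0 : ℚ) ≤ ((m : ℚ) + 1) ^ (d - 1) := le_trans zero_le_one hone
  rw [add_mul]
  rcases le_or_gt N m with hm | hm
  · rw [hfin m hm]
    have := abs_eval_sub_le Q d hQd m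
    have h3 : 0 ≤ (∑ m ∈ Finset.range N, g m) * ((m : ℚ) + 1) ^ (d - 1) := mul_nonneg hC2 hpw
    linarith
  · have h4 : g m ≤ ∑ m ∈ Finset.range N, g m :=
      Finset.single_le_sum (f := g) (fun j _ => abs_nonneg _) (Finset.mem_range.mpr hm)
    have h5 : (∑ m ∈ Finset.range N, g m) ≤
        (∑ m ∈ Finset.range N, g m) * ((m : ℚ) + 1) ^ (d - 1) := by
      calc (∑ m ∈ Finset.range N, g m) = (∑ m ∈ Finset.range N, g m) * 1 := (mul_one _).symm
        _ ≤ _ := mul_le_mul_of_nonneg_left hone hC2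
    have h6 : 0 ≤ (∑ j ∈ Finset.range d, |Q.coeff j|) * ((m : ℚ) + 1) ^ (d - 1) :=
      mul_nonneg hC1 hpw
    show g m ≤ _
    linarith

end Main

end Groth.Agent.Lib.helper7.SnapperARR
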