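import Mathlib
import Groth.Agent.S1686
import Groth.Agent.Lib.Helper7.SnapperSplit
import Groth.Agent.Lib.Helper7.IdealMod
import Groth.Agent.Lib.Helper11.AmpleAffine

/-!
# Intersecting with an effective Cartier divisor (helper7)

* `dim_support_le_of_effCartier`: `dim D ≤ e` when `dim X = e + 1`
* `chi_cartier`: `χ(L^{n+e_0}) − χ(L^n) = χ(O_D ⊗ L^{n+e_0})` when `L_0 ⊗ I_D ≅ O_X`
* `coeff_cartier`: the statement of S7648
-/

set_option autoImplicit false
set_option linter.unusedSectionVars false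
set_option linter.style.haveILetI false
universe u

open CategoryTheory CategoryTheory.Limits AlgebraicGeometry Opposite TopologicalSpace

namespace Groth.Agent.Lib.helper7.SnapperCartier

open Groth.Agent.Lib.helper7.SnapperDiff Groth.Agent.Lib.helper7.SnapperMain
open Groth.Agent.Lib.helper7.SnapperSplit Groth.Agent.Lib.helper7.SnapperQuot
open Groth.Agent.Lib.Lead.ModTensor

section Dim

variable {X : Scheme.{u}}

theorem lt_add_one_imp_le {a : WithBot ℕ∞} {e : ℕ} (h : a < ((e : ℕ) : WithBot ℕ∞) + 1) :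
    a ≤ ((e : ℕ) : WithBot ℕ∞) := by
  induction a with
  | bot => exact bot_le
  | coe a =>
    have h1 : ((e : ℕ) : WithBot ℕ∞) + 1 = (((e + 1 : ℕ) : ℕ∞) : WithBot ℕ∞) := by
      push_cast; rfl
    rw [h1, WithBot.coe_lt_coe] at h
    have h2 : ((e : ℕ) : WithBot ℕ∞) = (((e : ℕ) : ℕ∞) : WithBot ℕ∞) := rfl
    rw [h2, WithBot.coe_le_coe]
    induction a with
    | top => exact absurd h (not_lt.mpr le_top)
    | coe a =>
      have : a < e + 1 := by exact_mod_cast h
      exact_mod_cast Nat.lt_succ_iff.mp this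

theorem dim_support_le_of_effCartier (D : X.IdealSheafData) (hD : BlowUp.IsEffCartierIdeal D)
    (e : ℕ) (hX : topologicalKrullDim X = e + 1) :
    topologicalKrullDim (D.support : Set X) ≤ e := by
  rcases isEmpty_or_nonempty (IrreducibleCloseds ↥(D.support : Set X)) with hE | hN
  · unfold topologicalKrullDim
    rw [Order.krullDim_eq_bot]
    exact bot_le
  · let j : ↥(D.support : Set X) → ↥(((⊤ : X.Opens) : Set X)) := fun z => ⟨z.1, trivial⟩
    have hj : Topology.IsInducing j := by
      have h1 : Topology.IsInducing (Subtype.val ∘ j) := Topology.IsInducing.subtypeVal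
      have hc : Continuous j := continuous_subtype_val.subtype_mk _
      exact Topology.IsInducing.of_comp hc continuous_subtype_val h1
    have htop : topologicalKrullDim ↥(((⊤ : X.Opens) : Set X)) ≤ ((e : ℕ) : WithBot ℕ∞) + 1 := by
      rw [← hX]
      exact Topology.IsInducing.subtypeVal.topologicalKrullDim_le
    have hfin : Order.krullDim (IrreducibleCloseds ↥(((⊤ : X.Opens) : Set X))) ≠ ⊤ := by
      intro h
      have h' : topologicalKrullDim ↥(((⊤ : X.Opens) : Set X)) = ⊤ := h
      rw [h'] at htop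
      have h1 : ((e : ℕ) : WithBot ℕ∞) + 1 = (((e + 1 : ℕ) : ℕ∞) : WithBot ℕ∞) := by
        push_cast; rfl
      rw [h1] at htop
      have h2 : ((⊤ : ℕ∞) : WithBot ℕ∞) ≤ (((e + 1 : ℕ) : ℕ∞) : WithBot ℕ∞) := htop
      rw [WithBot.coe_le_coe] at h2
      exact absurd h2 (not_le.mpr (ENat.natCast_lt_top _))
    have hlt := Groth.Agent.S1686.krullDim_lt_of_strictMono
      (IrreducibleCloseds.map j hj.continuous)
      (IrreducibleCloseds.map_strictMono_of_isInducing hj) ?_ hfin
    · have h2 : topologicalKrullDim ↥(D.support : Set X) < ((e : ℕ) : WithBot ℕ∞) + 1 :=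
        lt_of_lt_of_le hlt htop
      exact lt_add_one_imp_le h2
    · intro T
      apply Groth.Agent.S1686.exists_gt D hD ⊤
      intro z hz
      have hcl : IsClosed {z : ↥(((⊤ : X.Opens) : Set X)) | z.1 ∈ D.support} := by
        have : IsClosed (D.support : Set X) := D.support.isClosed
        exact this.preimage continuous_subtype_val
      have hsub : j '' (T : Set ↥(D.support : Set X)) ⊆
          {z : ↥(((⊤ : X.Opens) : Set X)) | z.1 ∈ D.support} := by
        rintro _ ⟨w, -, rfl⟩
        exact w.2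
      exact closure_minimal hsub hcl hz

end Dim

section Chi

variable (k : Type u) [Field k] (X : Scheme.{u}) [X.Over (Spec (CommRingCat.of k))]
  [IsProper (X ↘ Spec (CommRingCat.of k))]

/-- `χ(L^{n + e_0}) = χ(L^n) + χ(O_D ⊗ L^{n + e_0})` when `L_0 ⊗ I_D ≅ O_X` -/
theorem chi_cartier (D : X.IdealSheafData) (r : ℕ) (L : Fin (r + 1) → X.Modules)
    (hL : ∀ j, PicF.IsInvertible (L j))
    (hLD : ClSub.IsInverseOf (L 0) (ClSub.idealMod D)) (n : Fin (r + 1) → ℕ) :
    chi k X (Coh.structureModule X) (r + 1) L (n + Pi.single 0 1) =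
      chi k X (Coh.structureModule X) (r + 1) L n +
        chi k X (ClSub.quotMod D) (r + 1) L (n + Pi.single 0 1) := by
  have hI : PicF.IsInvertible (ClSub.idealMod D) :=
    Groth.Agent.Lib.helper11.AmpleAffine.isInvertible_of_isInverseOf (hL 0) hLD
  have hIc : Coh.IsCoh (ClSub.idealMod D) :=
    Groth.Agent.Lib.Lead.CurveInv.isCoh_of_isInvertible X hI
  have hadd := chi_additive k X (Groth.Agent.Lib.helper7.IdealMod.idealSeq D)
    (Groth.Agent.Lib.helper7.IdealMod.idealSeq_shortExact D) hIc (isCoh_quotMod D) (r + 1) L hL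
    (n + Pi.single 0 1)
  obtain ⟨ε⟩ := hLD
  have h1 : chi k X (ClSub.idealMod D) (r + 1) L (n + Pi.single 0 1) =
      chi k X (Coh.structureModule X) (r + 1) L n := by
    rw [chi_shift k X (ClSub.idealMod D) (r + 1) L n 0]
    exact chi_iso k X (braid _ _ ≪≫ ε) (r + 1) L n
  rw [← h1]
  exact hadd

theorem chi_cons_zero' (F : X.Modules) (r : ℕ) (L : Fin (r + 1) → X.Modules) (m : Fin r → ℕ) :
    chi k X F (r + 1) L (Fin.cons 0 m) = chi k X F r (fun j => L j.succ) m := by
  rw [chi_cons]
  simp only [Fin.cons_zero, Fin.cons_succ]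
  exact chi_iso k X (rightUnitor F) r _ m

theorem sum_sign (r : ℕ) (h : (Fin r → ℕ) → ℤ) :
    ∑ I ∈ (Finset.univ : Finset (Fin r)).powerset, (-1 : ℤ) ^ (r - I.card) * h (ind I) =
      (-1) ^ r * ∑ I : Finset (Fin r), (-1 : ℤ) ^ I.card * h (ind I) := by
  rw [Finset.powerset_univ, Finset.mul_sum]
  apply Finset.sum_congr rfl
  intro I _
  have hle : I.card ≤ r := by simpa using Finset.card_le_univ I
  have h2 : (-1 : ℤ) ^ I.card * (-1) ^ I.card = 1 := by
    rw [← pow_add, ← two_mul, pow_mul]; simp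
  have h3 : (-1 : ℤ) ^ (r - I.card) = (-1) ^ r * (-1) ^ I.card := by
    calc (-1 : ℤ) ^ (r - I.card) = (-1) ^ (r - I.card) * ((-1) ^ I.card * (-1) ^ I.card) := by
          rw [h2, mul_one]
      _ = (-1) ^ (r - I.card + I.card) * (-1) ^ I.card := by rw [pow_add, mul_assoc]
      _ = (-1) ^ r * (-1) ^ I.card := by rw [Nat.sub_add_cancel hle]
  rw [h3]
  ring

/-- `(L_0 ⋯ L_e · X) = (L_1 ⋯ L_e · D)` for an effective Cartier divisor `D` with `L_0 ≅ O(D)` -/
theorem coeff_cartier (e : ℕ) (hX : topologicalKrullDim X = e + 1) (D : X.IdealSheafData)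
    (hD : BlowUp.IsEffCartierIdeal D)
    (L : Fin (e + 1) → X.Modules) (hL : ∀ j, PicF.IsInvertible (L j))
    (hLD : ClSub.IsInverseOf (L 0) (ClSub.idealMod D))
    (P : MvPolynomial (Fin (e + 1)) ℚ) (Q : MvPolynomial (Fin e) ℚ)
    (hP : ∀ n : Fin (e + 1) → ℕ, (chi k X (Coh.structureModule X) (e + 1) L n : ℚ) =
      MvPolynomial.eval (fun i => (n i : ℚ)) P)
    (hQ : ∀ n : Fin e → ℕ, (chi k X (ClSub.quotMod D) e (fun j => L j.succ) n : ℚ) =
      MvPolynomial.eval (fun i => (n i : ℚ)) Q) :
    MvPolynomial.coeff (ones (e + 1)) P = MvPolynomial.coeff (ones e) Q := by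
  have hDdim := dim_support_le_of_effCartier D hD e hX
  have hO : Coh.IsCoh (Coh.structureModule X) :=
    Groth.Agent.Lib.helper8.Dev.isCoh_structureModule X
  have hOdim : topologicalKrullDim (CohB1.support (Coh.structureModule X)) ≤
      ((e + 1 : ℕ) : WithBot ℕ∞) := by
    refine le_trans Topology.IsInducing.subtypeVal.topologicalKrullDim_le ?_
    rw [hX]
    push_cast
    exact le_rfl
  have h1 := coeff_ones_of_degLT (chi k X (Coh.structureModule X) (e + 1) L)
    (degLT_of_dim_le k X _ hO (e + 1) hOdim (e + 1) L hL) P hP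
  have h2 := coeff_ones_of_degLT (chi k X (ClSub.quotMod D) e (fun j => L j.succ))
    (degLT_quotMod k X D e hDdim e _ (fun j => hL j.succ)) Q hQ
  rw [h1, h2, sum_sign, sum_sign, sum_split]
  have hα : ∀ m : Fin e → ℕ, chi k X (Coh.structureModule X) (e + 1) L (Fin.cons 1 m) =
      chi k X (Coh.structureModule X) (e + 1) L (Fin.cons 0 m) +
        chi k X (ClSub.quotMod D) (e + 1) L (Fin.cons 1 m) := by
    intro m
    have h := chi_cartier k X D e L hL hLD (Fin.cons 0 m)
    have hc : ((Fin.cons 0 m : Fin (e + 1) → ℕ) + Pi.single 0 1) = Fin.cons 1 m := by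
      funext i
      refine Fin.cases ?_ (fun j => ?_) i
      · simp
      · simp [Fin.succ_ne_zero]
    rw [hc] at h
    exact h
  have hβ : ∀ m : Fin e → ℕ, chi k X (ClSub.quotMod D) (e + 1) L (Fin.cons 0 m) =
      chi k X (ClSub.quotMod D) e (fun j => L j.succ) m :=
    fun m => chi_cons_zero' k X _ e L m
  have hγ : ∑ J : Finset (Fin e), (-1 : ℤ) ^ J.card *
      (chi k X (ClSub.quotMod D) (e + 1) L (Fin.cons 0 (ind J)) -
        chi k X (ClSub.quotMod D) (e + 1) L (Fin.cons 1 (ind J))) = 0 := by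
    rw [← sum_split]
    have hG := degLT_quotMod k X D e hDdim (e + 1) L hL
    have hcard : (Finset.univ : Finset (Fin (e + 1))).card = e + 1 := Finset.card_fin (e + 1)
    have hG' : DegLT (Finset.univ : Finset (Fin (e + 1))).card
        (chi k X (ClSub.quotMod D) (e + 1) L) := by
      rw [hcard]; exact hG
    have h0 := sum_powerset_eq_zero (Finset.univ : Finset (Fin (e + 1))) _ hG' 0
    rw [Finset.powerset_univ] at h0
    rw [← h0]
    apply Finset.sum_congr rfl
    intro I _
    rw [zero_add]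
  have key : ∑ J : Finset (Fin e), (-1 : ℤ) ^ J.card *
      (chi k X (Coh.structureModule X) (e + 1) L (Fin.cons 0 (ind J)) -
        chi k X (Coh.structureModule X) (e + 1) L (Fin.cons 1 (ind J))) =
      - ∑ J : Finset (Fin e), (-1 : ℤ) ^ J.card *
        chi k X (ClSub.quotMod D) e (fun j => L j.succ) (ind J) := by
    rw [← sub_eq_zero, sub_neg_eq_add, ← Finset.sum_add_distrib, ← hγ]
    apply Finset.sum_congr rfl
    intro J _
    rw [hα (ind J), hβ (ind J)]
    ring
  rw [key]
  push_cast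
  ring

end Chi

end Groth.Agent.Lib.helper7.SnapperCartier
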