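import Mathlib
import Groth.Agent.Lib.Helper7.SnapperSplit
import Groth.Agent.Lib.Helper2.TensorSupp
import Groth.Agent.Lib.Helper11.AmpleAffine

/-!
# `χ(L^m ⊗ F) = Σ_i C(m+i-1,i) ∫ c_1(L)^i F` (helper7)
-/

set_option autoImplicit false
set_option linter.unusedSectionVars false
set_option linter.style.haveILetI false
universe u

open CategoryTheory CategoryTheory.Limits AlgebraicGeometry Opposite TopologicalSpace

namespace Groth.Agent.Lib.helper7.SnapperNewton

open Groth.Agent.Lib.helper7.SnapperDiff Groth.Agent.Lib.helper7.SnapperMain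
open Groth.Agent.Lib.helper7.SnapperSplit
open Groth.Agent.Lib.Lead.ModTensor

/-- Abel summation with binomial coefficients -/
theorem abel_choose (a : ℕ → ℤ) (m : ℕ) : ∀ r : ℕ,
    ∑ i ∈ Finset.range (r + 1), ((m + i).choose i : ℤ) * (a i - a (i + 1)) =
      ∑ i ∈ Finset.range (r + 1), ((m + i - 1).choose i : ℤ) * a i -
        ((m + r).choose r : ℤ) * a (r + 1)
  | 0 => by simp
  | r + 1 => by
    rw [Finset.sum_range_succ, abel_choose a m r, Finset.sum_range_succ _ (r + 1)]
    have h1 : m + (r + 1) - 1 = m + r := by omega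
    have h2 : (m + (r + 1)).choose (r + 1) = (m + r).choose r + (m + r).choose (r + 1) := by
      rw [← add_assoc, Nat.choose_succ_succ]
    rw [h1, h2]
    push_cast
    ring

section

variable {X : Scheme.{u}}

theorem support_tensorMod_subset {G A : X.Modules} (hG : Coh.IsCoh G) (hA : Coh.IsCoh A) :
    CohB1.support (CohB1.tensorMod G A) ⊆ CohB1.support G := by
  haveI : G.IsQuasicoherent := hG.1
  haveI : A.IsQuasicoherent := hA.1
  rw [Groth.Agent.Lib.helper2.TensorSupp.support_tensorMod G A hG.2 hA.2]
  exact Set.inter_subset_left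

end

variable (k : Type u) [Field k] (X : Scheme.{u}) [X.Over (Spec (CommRingCat.of k))]
  [IsProper (X ↘ Spec (CommRingCat.of k))]

/-- the `i`-fold self-intersection symbol -/
noncomputable abbrev D (d : ℕ) (M : X.Modules) (i : ℕ) (G : X.Modules) : ℤ :=
  FGA.intNum k X d (fun _ : Fin i => M) G

theorem D_succ (d : ℕ) (hd : topologicalKrullDim X ≤ d) (M : X.Modules) (i : ℕ) (G : X.Modules) :
    D k X d M (i + 1) G = D k X d M i G - D k X d M i (CohB1.tensorMod G M) := by
  have h := intNum_cons k X d hd M (fun _ : Fin i => M) G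
  have hc : (Fin.cons M (fun _ : Fin i => M) : Fin (i + 1) → X.Modules) = fun _ => M := by
    funext j
    refine Fin.cases rfl (fun _ => rfl) j
  rw [hc] at h
  exact h

theorem D_zero (d : ℕ) (hd : topologicalKrullDim X ≤ d) (M : X.Modules) (G : X.Modules) :
    D k X d M 0 G = Curv2.euler k X G := by
  unfold D
  rw [intNum_eq k X d hd]
  have hu : (Finset.univ : Finset (Finset (Fin 0))) = {∅} := by
    ext I
    simp only [Finset.mem_univ, Finset.mem_singleton, true_iff]
    exact Finset.eq_empty_of_isEmpty I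
  rw [hu, Finset.sum_singleton, Finset.card_empty, pow_zero, one_mul]
  rfl

theorem newton (d : ℕ) (hd : topologicalKrullDim X ≤ d)
    (L M : X.Modules) (hL : PicF.IsInvertible L)
    (hLM : Nonempty (CohB1.tensorMod L M ≅ Coh.structureModule X)) (r : ℕ) :
    ∀ (m : ℕ) (G : X.Modules), Coh.IsCoh G → topologicalKrullDim (CohB1.support G) ≤ r →
      Curv2.euler k X (CohB1.tensorMod (CohB1.tensorPow L m) G) =
        ∑ i ∈ Finset.range (r + 1), ((m + i - 1).choose i : ℤ) * D k X d M i G := by
  have hM : PicF.IsInvertible M :=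
    Groth.Agent.Lib.helper11.AmpleAffine.isInvertible_of_isInverseOf hL hLM
  have hLc : Coh.IsCoh L := Groth.Agent.Lib.Lead.CurveInv.isCoh_of_isInvertible X hL
  obtain ⟨ε⟩ := hLM
  intro m
  induction m with
  | zero =>
    intro G hG hr
    rw [Finset.sum_range_succ', Finset.sum_eq_zero, zero_add]
    · simp only [Nat.zero_add, Nat.sub_self, Nat.choose_self, Nat.cast_one, one_mul]
      rw [D_zero k X d hd]
      exact Groth.Agent.Lib.Lead.CurveEuler.euler_eq_of_iso k X (leftUnitor G)
    · intro i _
      have : (0 + (i + 1) - 1).choose (i + 1) = 0 := by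
        apply Nat.choose_eq_zero_of_lt
        omega
      rw [this]
      simp
  | succ m ih =>
    intro G hG hr
    -- `G' = L ⊗ G`
    have hG' : Coh.IsCoh (CohB1.tensorMod G L) :=
      Groth.Agent.Lib.Helper18.DegCalc.isCoh_tensorMod hG hLc
    have hr' : topologicalKrullDim (CohB1.support (CohB1.tensorMod G L)) ≤ r :=
      (Groth.Agent.Lib.helper8.DimLt.topologicalKrullDim_le_of_subset
        (support_tensorMod_subset hG hLc)).trans hr
    have e1 : CohB1.tensorMod (CohB1.tensorPow L (m + 1)) G ≅
        CohB1.tensorMod (CohB1.tensorPow L m) (CohB1.tensorMod G L) :=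
      assoc _ L G ≪≫ tensorIso (Iso.refl _) (braid L G)
    rw [Groth.Agent.Lib.Lead.CurveEuler.euler_eq_of_iso k X e1, ih _ hG' hr']
    -- `(G ⊗ L) ⊗ M ≅ G`
    have e2 : CohB1.tensorMod (CohB1.tensorMod G L) M ≅ G :=
      assoc G L M ≪≫ tensorIso (Iso.refl G) ε ≪≫ rightUnitor G
    have hstep : ∀ i, D k X d M i G =
        D k X d M i (CohB1.tensorMod G L) - D k X d M (i + 1) (CohB1.tensorMod G L) := by
      intro i
      have e3 : D k X d M i (CohB1.tensorMod (CohB1.tensorMod G L) M) = D k X d M i G :=
        intNum_iso k X d hd _ e2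
      rw [D_succ k X d hd M i, e3]
      ring
    have hvan : D k X d M (r + 1) (CohB1.tensorMod G L) = 0 := by
      apply intNum_eq_zero k X d hd _ (fun _ => hM) _ hG'
      refine lt_of_le_of_lt hr' ?_
      exact_mod_cast Nat.lt_succ_self r
    have habel := abel_choose (fun i => D k X d M i (CohB1.tensorMod G L)) m r
    simp only [hvan, mul_zero, sub_zero] at habel
    rw [← habel]
    apply Finset.sum_congr rfl
    intro i _
    have : m + 1 + i - 1 = m + i := by omega
    rw [this, hstep i]

end Groth.Agent.Lib.helper7.SnapperNewton
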