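import Mathlib
import Groth.Agent.Lib.Helper7.SnapperNewton
import Groth.Agent.Lib.Helper7.SnapperCartier2
import Groth.Agent.Lib.Lead.HilbPos5

/-!
# Positivity of self-intersection numbers of ample modules; last-slot multilinearity (helper7)

* `D_top_eq`: `∫ c_1(L)^r F = r! · (coefficient of degree r of the Hilbert polynomial)`
* `intNum_const_pos`: `∫ c_1(L)^r F > 0` for `L` ample and `dim Supp F = r`
* `intNum_snoc_iso`, `intNum_snoc_unit`, `intNum_snoc_tensor`, `intNum_snoc_tensorPow`
-/

set_option autoImplicit false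
set_option linter.unusedSectionVars false
set_option linter.style.haveILetI false
universe u

open CategoryTheory CategoryTheory.Limits AlgebraicGeometry Opposite TopologicalSpace

namespace Groth.Agent.Lib.helper7.SnapperPos

open Groth.Agent.Lib.helper7.SnapperDiff Groth.Agent.Lib.helper7.SnapperMain
open Groth.Agent.Lib.helper7.SnapperSplit Groth.Agent.Lib.helper7.SnapperNewton
open Groth.Agent.Lib.helper7.SnapperCartier2
open Groth.Agent.Lib.Lead.ModTensor Groth.Agent.Lib.Lead.HilbPos

section Poly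

open Polynomial

theorem eval_ascPochhammer_nat (i m : ℕ) :
    (ascPochhammer ℚ i).eval (m : ℚ) = (i.factorial : ℚ) * ((m + i - 1).choose i : ℚ) := by
  rw [ascPochhammer_nat_eq_natCast_ascFactorial, Nat.ascFactorial_eq_factorial_mul_choose']
  push_cast
  rfl

theorem coeff_ascPochhammer_of_le {i r : ℕ} (hi : i ≤ r) :
    (ascPochhammer ℚ i).coeff r = if i = r then 1 else 0 := by
  split_ifs with h
  · subst h
    have h1 := (monic_ascPochhammer ℚ i).leadingCoeff
    rwa [leadingCoeff, ascPochhammer_natDegree] at h1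
  · apply coeff_eq_zero_of_natDegree_lt
    rw [ascPochhammer_natDegree]
    omega

/-- if `Q(m) = Σ_{i ≤ r} C(m+i-1,i) b_i` on the naturals then `b_r = r! · Q.coeff r` -/
theorem top_coeff_of_eval (Q : ℚ[X]) (r : ℕ) (b : ℕ → ℤ)
    (h : ∀ m : ℕ, Q.eval (m : ℚ) =
      ((∑ i ∈ Finset.range (r + 1), ((m + i - 1).choose i : ℤ) * b i : ℤ) : ℚ)) :
    (b r : ℚ) = (r.factorial : ℚ) * Q.coeff r := by
  let R : ℚ[X] := ∑ i ∈ Finset.range (r + 1),
    C ((b i : ℚ) / (i.factorial : ℚ)) * ascPochhammer ℚ i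
  have hRQ : R = Q := by
    apply Groth.Agent.Lib.Lead.HilbPos.eq_of_eval_nat_eq
    intro m
    rw [h m]
    simp only [R, eval_finsetSum, eval_mul, eval_C, eval_ascPochhammer_nat]
    push_cast
    apply Finset.sum_congr rfl
    intro i _
    have hi : (i.factorial : ℚ) ≠ 0 := by exact_mod_cast (Nat.factorial_pos i).ne'
    field_simp
  have hcoeff : R.coeff r = (b r : ℚ) / (r.factorial : ℚ) := by
    simp only [R, finsetSum_coeff, coeff_C_mul]
    rw [Finset.sum_range_succ, Finset.sum_eq_zero, zero_add,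
      coeff_ascPochhammer_of_le le_rfl, if_pos rfl, mul_one]
    intro i hi
    have hi' := Finset.mem_range.mp hi
    rw [coeff_ascPochhammer_of_le hi'.le, if_neg hi'.ne, mul_zero]
  rw [← hRQ, hcoeff]
  have hr : (r.factorial : ℚ) ≠ 0 := by exact_mod_cast (Nat.factorial_pos r).ne'
  field_simp

end Poly

section Main

variable (k : Type u) [Field k] (X : Scheme.{u}) [X.Over (Spec (CommRingCat.of k))]
  [IsProper (X ↘ Spec (CommRingCat.of k))]

/-- `∫ c_1(L)^r F = r! ·` (top coefficient of the Hilbert polynomial) -/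
theorem D_top_eq (d : ℕ) (hd : topologicalKrullDim X ≤ d) (L M : X.Modules)
    (hL : PicF.IsInvertible L) (hLM : Nonempty (CohB1.tensorMod L M ≅ Coh.structureModule X))
    (r : ℕ) (F : X.Modules) (hF : Coh.IsCoh F)
    (hr : topologicalKrullDim (CohB1.support F) ≤ ((r : ℕ) : WithBot ℕ∞))
    (Q : Polynomial ℚ) (hQ : ShStab.IsHilbPoly k X L F Q) :
    (D k X d M r F : ℚ) = (r.factorial : ℚ) * Q.coeff r := by
  apply top_coeff_of_eval Q r (fun i => D k X d M i F)
  intro m
  rw [← hQ m, ← newton k X d hd L M hL hLM r m F hF hr]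
  congr 1
  exact Groth.Agent.Lib.Lead.CurveEuler.euler_eq_of_iso k X (braid _ _)

/-- **positivity of the self-intersection number of an ample module** -/
theorem intNum_const_pos (d : ℕ) (hd : topologicalKrullDim X ≤ d) (L M : X.Modules)
    (hL : CohB1.IsAmple L) (hLM : Nonempty (CohB1.tensorMod L M ≅ Coh.structureModule X))
    (r : ℕ) (F : X.Modules) (hF : Coh.IsCoh F)
    (hr : topologicalKrullDim (CohB1.support F) = ((r : ℕ) : WithBot ℕ∞)) :
    0 < FGA.intNum k X d (fun _ : Fin r => M) F := by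
  obtain ⟨Q, hQ, -⟩ := exists_isHilbPoly k X hL.1 hF r hr.le
  have h1 := D_top_eq k X d hd L M hL.1 hLM r F hF hr.le Q hQ
  have h2 : 0 < Q.coeff r := coeff_pos k X hL hF r hr hQ
  have h3 : (0 : ℚ) < (D k X d M r F : ℚ) := by
    rw [h1]
    exact mul_pos (by exact_mod_cast Nat.factorial_pos r) h2
  exact_mod_cast h3

/-! ### the last slot -/

theorem intNum_snoc_iso (d : ℕ) (hd : topologicalKrullDim X ≤ d) {r : ℕ} {A B : X.Modules}
    (e : A ≅ B) (M : Fin r → X.Modules) (F : X.Modules) :
    FGA.intNum k X d (Fin.snoc M A : Fin (r + 1) → X.Modules) F =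
      FGA.intNum k X d (Fin.snoc M B : Fin (r + 1) → X.Modules) F := by
  rw [intNum_snoc k X d hd, intNum_snoc k X d hd,
    intNum_iso k X d hd M (tensorIso (Iso.refl F) e)]

theorem intNum_snoc_unit (d : ℕ) (hd : topologicalKrullDim X ≤ d) {r : ℕ}
    (M : Fin r → X.Modules) (F : X.Modules) :
    FGA.intNum k X d (Fin.snoc M (Coh.structureModule X) : Fin (r + 1) → X.Modules) F = 0 := by
  rw [intNum_snoc k X d hd, intNum_iso k X d hd M (rightUnitor F), sub_self]

theorem isInvertible_snoc {r : ℕ} {M : Fin r → X.Modules} (hM : ∀ i, PicF.IsInvertible (M i))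
    {A : X.Modules} (hA : PicF.IsInvertible A) :
    ∀ i, PicF.IsInvertible ((Fin.snoc M A : Fin (r + 1) → X.Modules) i) := by
  intro i
  refine Fin.lastCases ?_ (fun j => ?_) i
  · simpa using hA
  · simpa using hM j

/-- additivity in the last slot -/
theorem intNum_snoc_tensor (d : ℕ) (hd : topologicalKrullDim X ≤ d) {r : ℕ}
    (M : Fin r → X.Modules) (hM : ∀ i, PicF.IsInvertible (M i)) (A B : X.Modules)
    (hA : PicF.IsInvertible A) (hB : PicF.IsInvertible B) (F : X.Modules) (hF : Coh.IsCoh F)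
    (hr : topologicalKrullDim (CohB1.support F) ≤ ((r + 1 : ℕ) : WithBot ℕ∞)) :
    FGA.intNum k X d (Fin.snoc M (CohB1.tensorMod A B) : Fin (r + 1) → X.Modules) F =
      FGA.intNum k X d (Fin.snoc M A : Fin (r + 1) → X.Modules) F +
        FGA.intNum k X d (Fin.snoc M B : Fin (r + 1) → X.Modules) F := by
  have h0 : FGA.intNum k X d
      (Fin.snoc (Fin.snoc M A : Fin (r + 1) → X.Modules) B : Fin (r + 1 + 1) → X.Modules) F = 0 := by
    apply intNum_eq_zero k X d hd _ (isInvertible_snoc X (isInvertible_snoc X hM hA) hB) F hF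
    refine lt_of_le_of_lt hr ?_
    exact_mod_cast Nat.lt_succ_self (r + 1)
  rw [intNum_snoc k X d hd, intNum_snoc k X d hd, intNum_snoc k X d hd,
    intNum_iso k X d hd M (assoc F B A ≪≫ tensorIso (Iso.refl F) (braid B A))] at h0
  rw [intNum_snoc k X d hd, intNum_snoc k X d hd, intNum_snoc k X d hd]
  linarith

/-- homogeneity in the last slot -/
theorem intNum_snoc_tensorPow (d : ℕ) (hd : topologicalKrullDim X ≤ d) {r : ℕ}
    (M : Fin r → X.Modules) (hM : ∀ i, PicF.IsInvertible (M i)) (A : X.Modules)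
    (hA : PicF.IsInvertible A) (F : X.Modules) (hF : Coh.IsCoh F)
    (hr : topologicalKrullDim (CohB1.support F) ≤ ((r + 1 : ℕ) : WithBot ℕ∞)) (m : ℕ) :
    FGA.intNum k X d (Fin.snoc M (CohB1.tensorPow A m) : Fin (r + 1) → X.Modules) F =
      (m : ℤ) * FGA.intNum k X d (Fin.snoc M A : Fin (r + 1) → X.Modules) F := by
  induction m with
  | zero =>
    rw [Nat.cast_zero, zero_mul]
    exact intNum_snoc_unit k X d hd M F
  | succ m ih =>
    have h := intNum_snoc_tensor k X d hd M hM (CohB1.tensorPow A m) A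
      (Groth.Agent.Lib.helper12.TensorInv.isInvertible_tensorPow hA m) hA F hF hr
    show FGA.intNum k X d
      (Fin.snoc M (CohB1.tensorMod (CohB1.tensorPow A m) A) : Fin (r + 1) → X.Modules) F = _
    rw [h, ih]
    push_cast
    ring

theorem snoc_const {r : ℕ} (A : X.Modules) :
    (Fin.snoc (fun _ : Fin r => A) A : Fin (r + 1) → X.Modules) = fun _ => A := by
  funext i
  refine Fin.lastCases ?_ (fun j => ?_) i
  · simp
  · simp

end Main

end Groth.Agent.Lib.helper7.SnapperPos
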