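import Mathlib
import Groth.Agent.Lib.Helper7.SnapperPos1
import Groth.Agent.Lib.Helper7.IdealCartier
import Groth.Agent.Lib.Helper7.TensorReg
import Groth.Agent.Lib.Helper11.IdealOfMono
import Groth.Agent.Lib.Helper16.EffCartier
import Groth.Agent.Lib.Helper16.QCohAss
import Groth.Agent.Lib.Lead.CurveInv

/-!
# The divisor of a nonzero section of an invertible module on an integral scheme (helper7)

* `not_isAssPoint_structureModule`: on an integral scheme no point of an effective Cartier divisor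
  is an associated point of `O`
* `dualSec`, `divisor`, `idealMod_divisor_iso`, `isEffCartier_divisor`, `notMem_support_divisor`
-/

set_option autoImplicit false
set_option linter.unusedSectionVars false
set_option linter.style.haveILetI false
universe u

open CategoryTheory CategoryTheory.Limits AlgebraicGeometry Opposite TopologicalSpace

namespace Groth.Agent.Lib.helper7.SnapperPos

open Groth.Agent.Lib.Lead.ModTensor Groth.Agent.Lib.helper11.IsoLocus
open Groth.Agent.Lib.helper16.QCohAss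

section Ass

variable {Z : Scheme.{u}} [IsIntegral Z]

theorem not_isAssPoint_structureModule (D : Z.IdealSheafData) (hD : BlowUp.IsEffCartierIdeal D)
    (x : Z) (hx : x ∈ D.support) : ¬ Curv2.IsAssPoint (Coh.structureModule Z) x := by
  intro h
  haveI : (Coh.structureModule Z).IsQuasicoherent :=
    (Groth.Agent.Lib.helper8.Dev.isCoh_structureModule Z).1
  rw [isAssPoint_iff_isWeakAssPoint] at h
  obtain ⟨V, hxV, -, t, ht, hI⟩ :=
    Groth.Agent.Lib.helper16.EffCartier.exists_principal_le hD x ⊤ trivial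
  rw [isWeakAssPoint_iff (Coh.structureModule Z) V.2 x hxV] at h
  obtain ⟨m, hm⟩ := h
  haveI : Nonempty V.1 := ⟨⟨x, hxV⟩⟩
  have htp : t ∈ (V.2.primeIdealOf ⟨x, hxV⟩).asIdeal := by
    by_contra hcon
    have h1 := (Groth.Agent.Lib.helper7.TensorReg.mem_basicOpen_iff V.2 x hxV t).mpr hcon
    have h2 := (Scheme.IdealSheafData.mem_support_iff_of_mem (I := D) (U := V) hxV).mp hx
    rw [Scheme.mem_zeroLocus_iff] at h2
    exact h2 t (by rw [hI]; exact Ideal.subset_span rfl) h1
  have hp0 : (V.2.primeIdealOf ⟨x, hxV⟩).asIdeal = ⊥ := by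
    by_cases hm0 : m = 0
    · exfalso
      have hann : ann Γ(Z, V.1) m = ⊤ := by
        rw [Ideal.eq_top_iff_one, mem_ann, hm0, smul_zero]
      rw [hann] at hm
      exact hm.1.1.ne_top (top_le_iff.mp hm.1.2)
    · have hann : ann Γ(Z, V.1) m = ⊥ := by
        rw [eq_bot_iff]
        intro a ha
        rw [mem_ann] at ha
        have h3 : a * (show Γ(Z, V.1) from m) = 0 := ha
        rcases mul_eq_zero.mp h3 with h4 | h4
        · exact h4
        · exact absurd h4 hm0
      rw [hann] at hm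
      exact le_bot_iff.mp (hm.2 ⟨Ideal.isPrime_bot, le_rfl⟩ bot_le)
  rw [hp0] at htp
  exact (nonZeroDivisors.ne_zero ht) htp

end Ass

section Divisor

variable {Z : Scheme.{u}} (N N' : Z.Modules)
  (ε : CohB1.tensorMod N N' ≅ Coh.structureModule Z) (s : Coh.structureModule Z ⟶ N)

/-- the "dual" `N' ⟶ O` of a section `s : O ⟶ N`, for `N ⊗ N' ≅ O` -/
noncomputable def dualSec : N' ⟶ Coh.structureModule Z :=
  (leftUnitor N').inv ≫ tensorMap s (𝟙 N') ≫ ε.hom

theorem genLocus_le_isoLocus_dualSec : CohB1.genLocus N s ≤ isoLocus (dualSec N N' ε s) := by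
  unfold dualSec
  rw [isoLocus_comp_of_isIso_left, isoLocus_comp_of_isIso_right]
  refine le_trans ?_ (Groth.Agent.Lib.helper12.PullTensor.isoLocus_inf_le_tensorMap s (𝟙 N'))
  rw [Groth.Agent.Lib.helper12.PullTensor.isoLocus_id, inf_top_eq]
  exact le_rfl

variable [IsIntegral Z]

theorem dualSec_ne_zero (hne : ∃ x : Z, x ∈ CohB1.genLocus N s) : dualSec N N' ε s ≠ 0 := by
  intro h0
  obtain ⟨x, hx⟩ := hne
  obtain ⟨_, ⟨W, hW : IsAffineOpen W, rfl⟩, hxW, hWle⟩ :=
    Z.isBasis_affineOpens.exists_subset_of_mem_open hx (CohB1.genLocus N s).2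
  have hWiso : W ≤ isoLocus (dualSec N N' ε s) :=
    le_trans hWle (genLocus_le_isoLocus_dualSec N N' ε s)
  have hiso := isIso_app_of_le_isoLocus (dualSec N N' ε s) hWiso
  haveI : Nonempty W := ⟨⟨x, hxW⟩⟩
  rw [h0] at hiso
  -- the zero map onto `Γ(Z, W)` cannot be an isomorphism
  have h1 : Function.Surjective ((0 : N' ⟶ Coh.structureModule Z).app W).hom :=
    ((ConcreteCategory.isIso_iff_bijective _).mp hiso).2
  obtain ⟨a, ha⟩ := h1 (1 : Γ(Z, W))
  have h2 : ((0 : N' ⟶ Coh.structureModule Z).app W).hom a = 0 := rfl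
  rw [h2] at ha
  exact zero_ne_one (α := Γ(Z, W)) ha

variable (hN' : PicF.IsInvertible N')

include hN' in
theorem mono_dualSec (hne : ∃ x : Z, x ∈ CohB1.genLocus N s) : Mono (dualSec N N' ε s) :=
  Groth.Agent.Lib.Lead.CurveInv.mono_of_ne_zero hN'
    (Groth.Agent.Lib.helper11.InvMod.isInvertible_structureModule Z) _
    (dualSec_ne_zero N N' ε s hne)

variable [N'.IsQuasicoherent]

/-- the divisor of zeros of the section `s` (as an ideal sheaf) -/
noncomputable def divisor : Z.IdealSheafData :=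
  Groth.Agent.Lib.helper11.IdealOfMono.idealOfHom N' (dualSec N N' ε s)

include hN' in
theorem nonempty_idealMod_divisor_iso (hne : ∃ x : Z, x ∈ CohB1.genLocus N s) :
    Nonempty (N' ≅ ClSub.idealMod (divisor N N' ε s)) := by
  haveI := mono_dualSec N N' ε s hN' hne
  exact ⟨Groth.Agent.Lib.helper11.IdealOfMono.idealModIso N' (dualSec N N' ε s)⟩

include hN' in
theorem isEffCartier_divisor (hne : ∃ x : Z, x ∈ CohB1.genLocus N s) :
    BlowUp.IsEffCartierIdeal (divisor N N' ε s) := by
  obtain ⟨e⟩ := nonempty_idealMod_divisor_iso N N' ε s hN' hne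
  exact Groth.Agent.Lib.helper7.IdealCartier.effCartier_of_invertible _
    (Groth.Agent.Lib.helper11.InvMod.isInvertible_of_iso e hN')

omit [IsIntegral Z] in
theorem notMem_support_divisor {x : Z} (hx : x ∈ CohB1.genLocus N s) :
    x ∉ (divisor N N' ε s).support := by
  intro hmem
  obtain ⟨_, ⟨W, hW : IsAffineOpen W, rfl⟩, hxW, hWle⟩ :=
    Z.isBasis_affineOpens.exists_subset_of_mem_open hx (CohB1.genLocus N s).2
  have hWiso : W ≤ isoLocus (dualSec N N' ε s) :=
    le_trans hWle (genLocus_le_isoLocus_dualSec N N' ε s)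
  have hiso := isIso_app_of_le_isoLocus (dualSec N N' ε s) hWiso
  have h1 : Function.Surjective ((dualSec N N' ε s).app W).hom :=
    ((ConcreteCategory.isIso_iff_bijective _).mp hiso).2
  have h2 := (Scheme.IdealSheafData.mem_support_iff_of_mem (I := divisor N N' ε s)
    (U := ⟨W, hW⟩) hxW).mp hmem
  rw [Scheme.mem_zeroLocus_iff] at h2
  obtain ⟨a, ha⟩ := h1 (1 : Γ(Z, W))
  have h3 : (1 : Γ(Z, W)) ∈ (divisor N N' ε s).ideal ⟨W, hW⟩ := ⟨a, ha⟩
  apply h2 1 h3
  rw [Scheme.basicOpen_of_isUnit _ isUnit_one]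
  exact hxW

end Divisor

section PowInv

variable {Z : Scheme.{u}}

/-- `A^n ⊗ A'^n ≅ O` when `A ⊗ A' ≅ O` -/
noncomputable def tensorPowInvIso {A A' : Z.Modules}
    (ε : CohB1.tensorMod A A' ≅ Coh.structureModule Z) :
    ∀ n : ℕ, CohB1.tensorMod (CohB1.tensorPow A n) (CohB1.tensorPow A' n) ≅ Coh.structureModule Z
  | 0 => leftUnitor _
  | n + 1 => tensorTensorTensorComm _ _ _ _ ≪≫ tensorIso (tensorPowInvIso ε n) ε ≪≫ leftUnitor _

end PowInv

end Groth.Agent.Lib.helper7.SnapperPos
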