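import Mathlib
import Groth.Agent.Lib.Helper7.SnapperPos2
import Groth.Agent.Lib.Helper7.SnapperARR
import Groth.Agent.Lib.Helper7.SnapperCartier

/-!
# Positivity of mixed intersection numbers of ample modules: the integral step (helper7)

* `pos_integral_step`: on an integral proper `Z` of dimension `r+1`, positivity of `r`-fold numbers
  (for coherent modules with support of dimension `r`) implies `∫ c_1(L_1)⋯c_1(L_{r+1}) O_Z > 0`.
-/

set_option autoImplicit false
set_option linter.unusedSectionVars false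
set_option linter.style.haveILetI false
universe u

open CategoryTheory CategoryTheory.Limits AlgebraicGeometry Opposite TopologicalSpace

namespace Groth.Agent.Lib.helper7.SnapperPos

open Groth.Agent.Lib.helper7.SnapperDiff Groth.Agent.Lib.helper7.SnapperMain
open Groth.Agent.Lib.helper7.SnapperSplit Groth.Agent.Lib.helper7.SnapperNewton
open Groth.Agent.Lib.helper7.SnapperCartier2 Groth.Agent.Lib.helper7.SnapperQuot
open Groth.Agent.Lib.Lead.ModTensor

variable (k : Type u) [Field k]

/-- the `r`-fold positivity statement on a fixed scheme -/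
def PosOn (Z : Scheme.{u}) [Z.Over (Spec (CommRingCat.of k))] (d r : ℕ) : Prop :=
  ∀ (L M : Fin r → Z.Modules), (∀ i, CohB1.IsAmple (L i)) →
    (∀ i, Nonempty (CohB1.tensorMod (L i) (M i) ≅ Coh.structureModule Z)) →
    ∀ G : Z.Modules, Coh.IsCoh G →
      topologicalKrullDim (CohB1.support G) = ((r : ℕ) : WithBot ℕ∞) → 0 < FGA.intNum k Z d M G

variable (Z : Scheme.{u}) [Z.Over (Spec (CommRingCat.of k))]
  [IsProper (Z ↘ Spec (CommRingCat.of k))]

theorem pos_integral_step [IsIntegral Z] (d : ℕ) (hd : topologicalKrullDim Z ≤ d) (r : ℕ)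
    (hdim : topologicalKrullDim Z = ((r + 1 : ℕ) : WithBot ℕ∞)) (IH : PosOn k Z d r)
    (L M : Fin (r + 1) → Z.Modules) (hL : ∀ i, CohB1.IsAmple (L i))
    (hLM : ∀ i, Nonempty (CohB1.tensorMod (L i) (M i) ≅ Coh.structureModule Z)) :
    0 < FGA.intNum k Z d M (Coh.structureModule Z) := by
  haveI := Groth.Agent.Lib.Lead.CurveEuler.isNoetherian k Z
  have hO : Coh.IsCoh (Coh.structureModule Z) :=
    Groth.Agent.Lib.helper8.Dev.isCoh_structureModule Z
  have hM : ∀ i, PicF.IsInvertible (M i) := fun i =>
    Groth.Agent.Lib.helper11.AmpleAffine.isInvertible_of_isInverseOf (hL i).1 (hLM i)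
  -- the last pair
  set A := L (Fin.last r) with hA
  set A' := M (Fin.last r) with hA'
  have hAamp : CohB1.IsAmple A := hL (Fin.last r)
  have hA'inv : PicF.IsInvertible A' := hM (Fin.last r)
  obtain ⟨ε₀⟩ := hLM (Fin.last r)
  -- a section through the generic point
  obtain ⟨n, s, hηs, -⟩ := hAamp.2.2 (genericPoint Z)
  let N : Z.Modules := CohB1.tensorPow A (n + 1)
  let N' : Z.Modules := CohB1.tensorPow A' (n + 1)
  have hN' : PicF.IsInvertible N' :=
    Groth.Agent.Lib.helper12.TensorInv.isInvertible_tensorPow hA'inv (n + 1)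
  let ε : CohB1.tensorMod N N' ≅ Coh.structureModule Z := tensorPowInvIso ε₀ (n + 1)
  haveI : N'.IsQuasicoherent := (Groth.Agent.Lib.Lead.CurveInv.isCoh_of_isInvertible Z hN').1
  have hne : ∃ x : Z, x ∈ CohB1.genLocus N s := ⟨genericPoint Z, hηs⟩
  set D := divisor N N' ε s with hDdef
  obtain ⟨eD⟩ := nonempty_idealMod_divisor_iso N N' ε s hN' hne
  have hD : BlowUp.IsEffCartierIdeal D := isEffCartier_divisor N N' ε s hN' hne
  have hass : ∀ x ∈ D.support, ¬ Curv2.IsAssPoint (Coh.structureModule Z) x :=
    fun x hx => not_isAssPoint_structureModule D hD x hx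
  set G := ClSub.quotMod D with hGdef
  have hG : Coh.IsCoh G := isCoh_quotMod D
  -- dimension of the support of `O_Z`
  have hsuppO : topologicalKrullDim (CohB1.support (Coh.structureModule Z)) =
      ((r + 1 : ℕ) : WithBot ℕ∞) := by
    rw [Groth.Agent.Lib.helper7.SnapperARR.dim_support_structureModule Z, hdim]
  -- the general formula for the last slot
  have hform : ∀ (M' : Fin r → Z.Modules), (∀ i, PicF.IsInvertible (M' i)) →
      ((n + 1 : ℕ) : ℤ) * FGA.intNum k Z d (Fin.snoc M' A' : Fin (r + 1) → Z.Modules)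
        (Coh.structureModule Z) = FGA.intNum k Z d M' G := by
    intro M' hM'
    have h1 := intNum_snoc_idealMod k Z d hd M' hM' (Coh.structureModule Z) hO D hD hass
    rw [intNum_iso k Z d hd M' (leftUnitor G)] at h1
    rw [← h1, intNum_snoc_iso k Z d hd eD.symm,
      intNum_snoc_tensorPow k Z d hd M' hM' A' hA'inv (Coh.structureModule Z) hO hsuppO.le (n + 1)]
  -- dimension of the support of `G`
  have hGle : topologicalKrullDim (CohB1.support G) ≤ ((r : ℕ) : WithBot ℕ∞) := by
    have h1 := Groth.Agent.Lib.helper8.DimLt.topologicalKrullDim_le_of_subset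
      (support_quotMod_subset D)
    have h2 : topologicalKrullDim Z = ((r : ℕ) : WithBot ℕ∞) + 1 := by
      rw [hdim]; push_cast; rfl
    exact h1.trans
      (Groth.Agent.Lib.helper7.SnapperCartier.dim_support_le_of_effCartier D hD r h2)
  have hGge : ((r : ℕ) : WithBot ℕ∞) ≤ topologicalKrullDim (CohB1.support G) := by
    by_contra hlt
    rw [not_le] at hlt
    have h0 := intNum_eq_zero k Z d hd (fun _ : Fin r => A') (fun _ => hA'inv) G hG hlt
    have h1 := hform (fun _ : Fin r => A') (fun _ => hA'inv)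
    rw [snoc_const Z A', h0] at h1
    have h2 := intNum_const_pos k Z d hd A A' hAamp ⟨ε₀⟩ (r + 1) (Coh.structureModule Z) hO hsuppO
    have h3 : (0 : ℤ) < ((n + 1 : ℕ) : ℤ) := by exact_mod_cast Nat.succ_pos n
    have := mul_pos h3 h2
    rw [h1] at this
    exact lt_irrefl _ this
  have hGdim : topologicalKrullDim (CohB1.support G) = ((r : ℕ) : WithBot ℕ∞) :=
    le_antisymm hGle hGge
  -- apply the induction hypothesis
  have hpos := IH (fun i => L i.castSucc) (fun i => M i.castSucc) (fun i => hL _) (fun i => hLM _)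
    G hG hGdim
  have h1 := hform (fun i => M i.castSucc) (fun i => hM _)
  have hsn : (Fin.snoc (fun i : Fin r => M i.castSucc) A' : Fin (r + 1) → Z.Modules) = M := by
    funext i
    refine Fin.lastCases ?_ (fun j => ?_) i
    · simp [hA']
    · simp
  rw [hsn] at h1
  rw [← h1] at hpos
  have h3 : (0 : ℤ) < ((n + 1 : ℕ) : ℤ) := by exact_mod_cast Nat.succ_pos n
  exact (mul_pos_iff_of_pos_left h3).mp hpos

end Groth.Agent.Lib.helper7.SnapperPos
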