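import Mathlib
import Groth.Agent.Lib.Helper7.SnapperPos3
import Groth.Agent.Lib.Helper9.CurveVanish
import Groth.Agent.Lib.Lead.GenLocusInt

/-!
# Sections and intersection numbers on integral proper schemes (helper7)

* `intNum_snoc_divisor`: `∫ c(M_1)⋯c(M_r) c(N') O_Z = ∫ c(M_1)⋯c(M_r) O_D` for the divisor `D` of
  a nonzero section of `N`, `N ⊗ N' ≅ O`
* `intNum_cons_eq_snoc`
* `intNum_ample_pos_of_sections`: the statement of S11752
-/

set_option autoImplicit false
set_option linter.unusedSectionVars false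
set_option linter.style.haveILetI false
universe u

open CategoryTheory CategoryTheory.Limits AlgebraicGeometry Opposite TopologicalSpace

namespace Groth.Agent.Lib.helper7.SnapperPos

open Groth.Agent.Lib.helper7.SnapperDiff Groth.Agent.Lib.helper7.SnapperMain
open Groth.Agent.Lib.helper7.SnapperSplit Groth.Agent.Lib.helper7.SnapperNewton
open Groth.Agent.Lib.helper7.SnapperCartier2 Groth.Agent.Lib.helper7.SnapperQuot
open Groth.Agent.Lib.Lead.ModTensor

variable (k : Type u) [Field k] (Z : Scheme.{u}) [Z.Over (Spec (CommRingCat.of k))]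
  [IsProper (Z ↘ Spec (CommRingCat.of k))]

theorem intNum_cons_eq_snoc (d : ℕ) (hd : topologicalKrullDim Z ≤ d) {r : ℕ} (A : Z.Modules)
    (M : Fin r → Z.Modules) (F : Z.Modules) :
    FGA.intNum k Z d (Fin.cons A M : Fin (r + 1) → Z.Modules) F =
      FGA.intNum k Z d (Fin.snoc M A : Fin (r + 1) → Z.Modules) F := by
  rw [intNum_cons k Z d hd, intNum_snoc k Z d hd]

/-- the divisor of a section computes the intersection with the last slot -/
theorem intNum_snoc_divisor [IsIntegral Z] (d : ℕ) (hd : topologicalKrullDim Z ≤ d)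
    (N N' : Z.Modules) (hN' : PicF.IsInvertible N')
    (ε : CohB1.tensorMod N N' ≅ Coh.structureModule Z) (s : Coh.structureModule Z ⟶ N)
    (hne : ∃ x : Z, x ∈ CohB1.genLocus N s) [N'.IsQuasicoherent] {r : ℕ}
    (M' : Fin r → Z.Modules) (hM' : ∀ i, PicF.IsInvertible (M' i)) :
    FGA.intNum k Z d (Fin.snoc M' N' : Fin (r + 1) → Z.Modules) (Coh.structureModule Z) =
      FGA.intNum k Z d M' (ClSub.quotMod (divisor N N' ε s)) := by
  have hO : Coh.IsCoh (Coh.structureModule Z) :=
    Groth.Agent.Lib.helper8.Dev.isCoh_structureModule Z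
  obtain ⟨eD⟩ := nonempty_idealMod_divisor_iso N N' ε s hN' hne
  have hD : BlowUp.IsEffCartierIdeal (divisor N N' ε s) := isEffCartier_divisor N N' ε s hN' hne
  have hass : ∀ x ∈ (divisor N N' ε s).support, ¬ Curv2.IsAssPoint (Coh.structureModule Z) x :=
    fun x hx => not_isAssPoint_structureModule _ hD x hx
  have h1 := intNum_snoc_idealMod k Z d hd M' hM' (Coh.structureModule Z) hO _ hD hass
  rw [intNum_iso k Z d hd M' (leftUnitor (ClSub.quotMod (divisor N N' ε s)))] at h1
  rw [← h1, intNum_snoc_iso k Z d hd eD.symm]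

/-- **S11752** -/
theorem intNum_ample_pos_of_sections [IsIntegral Z] (hdim : topologicalKrullDim Z = 2)
    (N N' : Z.Modules) (hN : PicF.IsInvertible N)
    (hNN' : Nonempty (CohB1.tensorMod N N' ≅ Coh.structureModule Z))
    (hpos : 0 < FGA.intNum k Z 2 ![N', N'] (Coh.structureModule Z))
    (hsec : ∃ n : ℕ, 0 < n ∧ Nontrivial (Coh.HH Z (CohB1.tensorPow N n) 0))
    (H H' : Z.Modules) (hH : CohB1.IsAmple H)
    (hHH' : Nonempty (CohB1.tensorMod H H' ≅ Coh.structureModule Z)) :
    0 < FGA.intNum k Z 2 ![N', H'] (Coh.structureModule Z) := by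
  haveI := Groth.Agent.Lib.Lead.CurveEuler.isNoetherian k Z
  have hd : topologicalKrullDim Z ≤ ((2 : ℕ) : WithBot ℕ∞) := by rw [hdim]; rfl
  have hO : Coh.IsCoh (Coh.structureModule Z) :=
    Groth.Agent.Lib.helper8.Dev.isCoh_structureModule Z
  have hN'inv : PicF.IsInvertible N' :=
    Groth.Agent.Lib.helper11.AmpleAffine.isInvertible_of_isInverseOf hN hNN'
  have hH'inv : PicF.IsInvertible H' :=
    Groth.Agent.Lib.helper11.AmpleAffine.isInvertible_of_isInverseOf hH.1 hHH'
  obtain ⟨ε₀⟩ := hNN'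
  obtain ⟨n, hn, hnt⟩ := hsec
  -- a nonzero section of `N^n`
  obtain ⟨x, hx0⟩ := exists_ne (0 : Coh.HH Z (CohB1.tensorPow N n) 0)
  let s : Coh.structureModule Z ⟶ CohB1.tensorPow N n :=
    Groth.Agent.Lib.helper9.CurveVanish.secHom _ x
  have hs : s ≠ 0 := fun h =>
    hx0 ((Groth.Agent.Lib.helper9.CurveVanish.secHom_eq_zero_iff _ x).mp h)
  have hNn : PicF.IsInvertible (CohB1.tensorPow N n) :=
    Groth.Agent.Lib.helper12.TensorInv.isInvertible_tensorPow hN n
  have hN'n : PicF.IsInvertible (CohB1.tensorPow N' n) :=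
    Groth.Agent.Lib.helper12.TensorInv.isInvertible_tensorPow hN'inv n
  have hne : ∃ y : Z, y ∈ CohB1.genLocus (CohB1.tensorPow N n) s := by
    have h1 := Groth.Agent.Lib.Lead.GenLocusInt.isoLocus_ne_bot
      (Groth.Agent.Lib.helper11.InvMod.isInvertible_structureModule Z) hNn s hs
    by_contra hcon
    apply h1
    ext y
    simp only [Opens.coe_bot, Set.mem_empty_iff_false, iff_false]
    exact fun hy => hcon ⟨y, hy⟩
  let ε : CohB1.tensorMod (CohB1.tensorPow N n) (CohB1.tensorPow N' n) ≅ Coh.structureModule Z :=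
    tensorPowInvIso ε₀ n
  haveI : (CohB1.tensorPow N' n).IsQuasicoherent :=
    (Groth.Agent.Lib.Lead.CurveInv.isCoh_of_isInvertible Z hN'n).1
  set D := divisor (CohB1.tensorPow N n) (CohB1.tensorPow N' n) ε s with hDdef
  have hD : BlowUp.IsEffCartierIdeal D := isEffCartier_divisor _ _ ε s hN'n hne
  set G := ClSub.quotMod D with hGdef
  have hG : Coh.IsCoh G := isCoh_quotMod D
  have hsuppO : topologicalKrullDim (CohB1.support (Coh.structureModule Z)) ≤
      ((1 + 1 : ℕ) : WithBot ℕ∞) := by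
    rw [Groth.Agent.Lib.helper7.SnapperARR.dim_support_structureModule Z, hdim]; rfl
  -- the formula for one more slot
  have hform : ∀ (B : Z.Modules), PicF.IsInvertible B →
      (n : ℤ) * FGA.intNum k Z 2 ![N', B] (Coh.structureModule Z) =
        FGA.intNum k Z 2 (fun _ : Fin 1 => B) G := by
    intro B hB
    have h1 := intNum_snoc_divisor k Z 2 hd _ _ hN'n ε s hne (fun _ : Fin 1 => B) (fun _ => hB)
    have h2 := intNum_snoc_tensorPow k Z 2 hd (fun _ : Fin 1 => B) (fun _ => hB) N' hN'inv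
      (Coh.structureModule Z) hO hsuppO n
    rw [h2] at h1
    rw [← h1]
    congr 1
    have h3 : (![N', B] : Fin 2 → Z.Modules) = Fin.cons N' (fun _ : Fin 1 => B) := by
      funext i
      fin_cases i <;> rfl
    rw [h3, intNum_cons_eq_snoc k Z 2 hd]
  -- the dimension of `D`
  have hGle : topologicalKrullDim (CohB1.support G) ≤ ((1 : ℕ) : WithBot ℕ∞) := by
    have h1 := Groth.Agent.Lib.helper8.DimLt.topologicalKrullDim_le_of_subset
      (support_quotMod_subset D)
    have h2 : topologicalKrullDim Z = ((1 : ℕ) : WithBot ℕ∞) + 1 := by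
      rw [hdim]; norm_num
    exact h1.trans
      (Groth.Agent.Lib.helper7.SnapperCartier.dim_support_le_of_effCartier D hD 1 h2)
  have hGge : ((1 : ℕ) : WithBot ℕ∞) ≤ topologicalKrullDim (CohB1.support G) := by
    by_contra hlt
    rw [not_le] at hlt
    have h0 := intNum_eq_zero k Z 2 hd (fun _ : Fin 1 => N') (fun _ => hN'inv) G hG hlt
    have h1 := hform N' hN'inv
    rw [h0] at h1
    have hn' : (0 : ℤ) < (n : ℤ) := by exact_mod_cast hn
    have := mul_pos hn' hpos
    rw [h1] at this
    exact lt_irrefl _ this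
  have hGdim : topologicalKrullDim (CohB1.support G) = ((1 : ℕ) : WithBot ℕ∞) :=
    le_antisymm hGle hGge
  have hposG := intNum_const_pos k Z 2 hd H H' hH hHH' 1 G hG hGdim
  rw [← hform H' hH'inv] at hposG
  have hn' : (0 : ℤ) < (n : ℤ) := by exact_mod_cast hn
  exact (mul_pos_iff_of_pos_left hn').mp hposG

end Groth.Agent.Lib.helper7.SnapperPos
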