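import Mathlib
import Groth.Agent.Lib.Helper7.SnapperQuot
import Groth.Agent.Lib.Helper8.StalkLen
import Groth.Agent.Lib.Helper8.StalkExact
import Groth.Agent.Lib.Helper8.ClosedStalkLen
import Groth.Agent.Lib.Helper8.DevMaster
import Groth.Agent.Lib.Helper4.ClosureProper

/-!
# Multiplicities of coherent modules at maximal points of the support (helper7)

* `mult F ξ := (length_{O_ξ} F_ξ).toNat`
* `mult_add`: additivity in short exact sequences at points `ξ` with `dim cl ξ = d ≥ dim Supp`
* `finite_top_points`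
* `Gx ξ := O_X / I(cl ξ)`; `mult_Gx_self`, `mult_Gx_of_ne`
-/

set_option autoImplicit false
set_option linter.unusedSectionVars false
set_option linter.style.haveILetI false
universe u

open CategoryTheory CategoryTheory.Limits AlgebraicGeometry Opposite TopologicalSpace

namespace Groth.Agent.Lib.helper7.SnapperMult

open Groth.Agent.Lib.helper8.StalkLen Groth.Agent.Lib.helper8.DimLt Groth.Agent.Lib.helper8.Dev
open Groth.Agent.Lib.helper17.FlatOver7 Groth.Agent.Lib.helper7.SnapperQuot

variable {X : Scheme.{u}}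

/-- the multiplicity of `F` at `ξ` -/
noncomputable def mult (F : X.Modules) (ξ : X) : ℕ :=
  (Module.length (X.presheaf.stalk ξ) (F.presheaf.stalk ξ)).toNat

theorem mult_eq_zero_of_notMem {F : X.Modules} {ξ : X} (h : ξ ∉ CohB1.support F) :
    mult F ξ = 0 := by
  haveI : Subsingleton (F.presheaf.stalk ξ) := not_not.mp h
  unfold mult
  rw [Module.length_eq_zero]
  rfl

theorem mult_iso {F G : X.Modules} (e : F ≅ G) (ξ : X) : mult F ξ = mult G ξ := by
  unfold mult
  rw [(stalkLinEquiv e ξ).length_eq]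

/-- a point of the support whose closure has the dimension of the support is a maximal point -/
theorem length_ne_top [IsLocallyNoetherian X] (F : X.Modules) (hF : Coh.IsCoh F) {d : ℕ}
    (hd : topologicalKrullDim (CohB1.support F) ≤ ((d : ℕ) : WithBot ℕ∞)) (ξ : X)
    (hξ : topologicalKrullDim (closure ({ξ} : Set X)) = ((d : ℕ) : WithBot ℕ∞)) :
    Module.length (X.presheaf.stalk ξ) (F.presheaf.stalk ξ) ≠ ⊤ := by
  by_cases hne : Nontrivial (F.presheaf.stalk ξ)
  · rw [Module.length_ne_top_iff]
    refine ((minimal_iff_isFiniteLength F hF ξ).mp ⟨hne, fun y hy hyx => ?_⟩).2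
    have hyT : y ∈ CohB1.support F := by
      intro hs
      exact not_nontrivial_iff_subsingleton.mpr hs hy
    exact eq_of_specializes_of_dim (isClosed_support_of_isCoh F hF) hd hyT hξ hyx
  · haveI : Subsingleton (F.presheaf.stalk ξ) := not_nontrivial_iff_subsingleton.mp hne
    rw [Module.length_eq_zero]
    exact ENat.zero_ne_top

theorem mult_add [IsLocallyNoetherian X] (S : ShortComplex X.Modules) (hS : S.ShortExact)
    (h₂ : Coh.IsCoh S.X₂) (h₃ : Coh.IsCoh S.X₃) {d : ℕ}
    (hd : topologicalKrullDim (CohB1.support S.X₂) ≤ ((d : ℕ) : WithBot ℕ∞)) (ξ : X)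
    (hξ : topologicalKrullDim (closure ({ξ} : Set X)) = ((d : ℕ) : WithBot ℕ∞)) :
    mult S.X₂ ξ = mult S.X₁ ξ + mult S.X₃ ξ := by
  haveI : S.X₂.IsQuasicoherent := h₂.1
  haveI : S.X₃.IsQuasicoherent := h₃.1
  have hadd := length_stalk_add S hS ξ
  have hne := length_ne_top S.X₂ h₂ hd ξ hξ
  rw [hadd] at hne
  have h1 : Module.length (X.presheaf.stalk ξ) (S.X₁.presheaf.stalk ξ) ≠ ⊤ := fun h => by
    rw [h, top_add] at hne
    exact hne rfl
  have h3 : Module.length (X.presheaf.stalk ξ) (S.X₃.presheaf.stalk ξ) ≠ ⊤ := fun h => by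
    rw [h, add_top] at hne
    exact hne rfl
  unfold mult
  rw [hadd, ENat.toNat_add h1 h3]

/-- finitely many points of dimension `d` in the support -/
theorem finite_top_points [IsNoetherian X] (F : X.Modules) (hF : Coh.IsCoh F) {d : ℕ}
    (hd : topologicalKrullDim (CohB1.support F) ≤ ((d : ℕ) : WithBot ℕ∞)) :
    {ξ : X | ξ ∈ CohB1.support F ∧
      topologicalKrullDim (closure ({ξ} : Set X)) = ((d : ℕ) : WithBot ℕ∞)}.Finite :=
  finite_setOf_dim_closure_eq (isClosed_support_of_isCoh F hF) hd

/-- a module with small support has no multiplicities in dimension `d` -/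
theorem mult_eq_zero_of_dim_lt (F : X.Modules) (hF : Coh.IsCoh F) {d : ℕ}
    (hd : topologicalKrullDim (CohB1.support F) < ((d : ℕ) : WithBot ℕ∞)) (ξ : X)
    (hξ : topologicalKrullDim (closure ({ξ} : Set X)) = ((d : ℕ) : WithBot ℕ∞)) :
    mult F ξ = 0 := by
  apply mult_eq_zero_of_notMem
  intro hmem
  have hsub : closure ({ξ} : Set X) ⊆ CohB1.support F :=
    closure_minimal (Set.singleton_subset_iff.mpr hmem) (isClosed_support_of_isCoh F hF)
  have := topologicalKrullDim_le_of_subset hsub
  rw [hξ] at this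
  exact absurd (lt_of_le_of_lt this hd) (lt_irrefl _)

section Gx

/-- the structure sheaf of the reduced closed subscheme on the closure of `ξ` -/
noncomputable abbrev Jx (ξ : X) : X.IdealSheafData :=
  Scheme.IdealSheafData.vanishingIdeal (⟨closure ({ξ} : Set X), isClosed_closure⟩ : Closeds X)

noncomputable abbrev Gx (ξ : X) : X.Modules := ClSub.quotMod (Jx ξ)

theorem support_Gx_subset (ξ : X) : CohB1.support (Gx ξ) ⊆ closure ({ξ} : Set X) := by
  refine (support_quotMod_subset (Jx ξ)).trans ?_
  rw [Scheme.IdealSheafData.coe_support_vanishingIdeal]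
  rfl

theorem range_subschemeι_Jx (ξ : X) : Set.range (Jx ξ).subschemeι = closure ({ξ} : Set X) := by
  rw [Scheme.IdealSheafData.range_subschemeι, Scheme.IdealSheafData.coe_support_vanishingIdeal]
  rfl

theorem mult_Gx_of_ne {d : ℕ} (ξ₀ ξ : X)
    (h₀ : topologicalKrullDim (closure ({ξ₀} : Set X)) = ((d : ℕ) : WithBot ℕ∞))
    (hξ : topologicalKrullDim (closure ({ξ} : Set X)) = ((d : ℕ) : WithBot ℕ∞)) (hne : ξ ≠ ξ₀) :
    mult (Gx ξ₀) ξ = 0 := by
  apply mult_eq_zero_of_notMem
  intro hmem
  have hmem' : ξ ∈ closure ({ξ₀} : Set X) := support_Gx_subset ξ₀ hmem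
  have hcl : closure ({ξ} : Set X) = closure {ξ₀} :=
    closure_eq_of_dim isClosed_closure isIrreducible_singleton.closure h₀.le hmem' hξ
  have h2 : ξ ⤳ ξ₀ := specializes_iff_closure_subset.mpr hcl.ge
  have h3 : ξ₀ ⤳ ξ := specializes_iff_closure_subset.mpr hcl.le
  exact hne (h2.antisymm h3).eq

theorem length_Gx_self (ξ₀ : X) :
    Module.length (X.presheaf.stalk ξ₀) ((Gx ξ₀).presheaf.stalk ξ₀) = 1 := by
  have hmem : ξ₀ ∈ Set.range (Jx ξ₀).subschemeι := by
    rw [range_subschemeι_Jx]
    exact subset_closure rfl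
  obtain ⟨z, hz⟩ := hmem
  -- `z` is a generic point of the subscheme
  have hcl : closure ({z} : Set (Jx ξ₀).subscheme) = Set.univ := by
    rw [(Jx ξ₀).subschemeι.isClosedEmbedding.isInducing.closure_eq_preimage_closure_image,
      Set.image_singleton, hz]
    rw [← range_subschemeι_Jx]
    exact Set.preimage_range _
  haveI : IsReduced (Jx ξ₀).subscheme :=
    Groth.Agent.Lib.helper4.ClosureProper.isReduced_subscheme_vanishingIdeal _
  haveI : IrreducibleSpace (Jx ξ₀).subscheme := by
    rw [irreducibleSpace_def]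
    show IsIrreducible (Set.univ : Set (Jx ξ₀).subscheme)
    rw [← hcl]
    exact isIrreducible_singleton.closure
  haveI : IsIntegral (Jx ξ₀).subscheme := isIntegral_of_irreducibleSpace_of_isReduced _
  have hgen : z = genericPoint (Jx ξ₀).subscheme :=
    ((genericPoint_spec (Jx ξ₀).subscheme).eq (show IsGenericPoint z ⊤ from hcl)).symm
  have h1 := length_stalk_push_structure (Jx ξ₀).subschemeι z
  rw [hz] at h1
  rw [h1, hgen]
  letI : Field ((Jx ξ₀).subscheme.presheaf.stalk (genericPoint (Jx ξ₀).subscheme)) :=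
    inferInstanceAs (Field (Jx ξ₀).subscheme.functionField)
  exact Module.length_eq_one _ _

theorem mult_Gx_self (ξ₀ : X) : mult (Gx ξ₀) ξ₀ = 1 := by
  unfold mult
  rw [length_Gx_self]
  rfl

end Gx

end Groth.Agent.Lib.helper7.SnapperMult
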