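import Mathlib
import Groth.Agent.Lib.Helper7.SnapperMult
import Groth.Agent.S0046
import Groth.Agent.Lib.Lead.DimOneVanish

/-!
# The refined Snapper theorem (helper7)

`χ(F ⊗ L^n) − Σ_ξ length(F_ξ) χ(O_{Z_ξ} ⊗ L^n)` (sum over the points `ξ` with `dim cl ξ = d`)
has vanishing `d`-fold differences when `dim Supp F ≤ d`.

* `psi k X d F r L n`
* `psi_add`, `psi_iso`, `psi_eq_zero_of_dim_lt`, `psi_Gx`
* `snapper_refined`
-/

set_option autoImplicit false
set_option linter.unusedSectionVars false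
set_option linter.style.haveILetI false
universe u

open CategoryTheory CategoryTheory.Limits AlgebraicGeometry Opposite TopologicalSpace

namespace Groth.Agent.Lib.helper7.SnapperRefined

open Groth.Agent.Lib.helper8.StalkLen Groth.Agent.Lib.helper8.DimLt Groth.Agent.Lib.helper8.Dev
open Groth.Agent.Lib.helper7.SnapperQuot Groth.Agent.Lib.helper7.SnapperMult
open Groth.Agent.Lib.helper7.SnapperMain Groth.Agent.Lib.helper7.SnapperDiff
open Scheme.Modules

variable (k : Type u) [Field k] (X : Scheme.{u}) [X.Over (Spec (CommRingCat.of k))]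

/-- the summand of `psi` -/
noncomputable def psiTerm (d : ℕ) (F : X.Modules) (r : ℕ) (L : Fin r → X.Modules)
    (n : Fin r → ℕ) (ξ : X) : ℤ :=
  if topologicalKrullDim (closure ({ξ} : Set X)) = ((d : ℕ) : WithBot ℕ∞) then
    (mult F ξ : ℤ) * chi k X (Gx ξ) r L n else 0

/-- `Σ_ξ length(F_ξ) χ(O_{Z_ξ} ⊗ L^n)` over the points `ξ` with `dim cl ξ = d` -/
noncomputable def psi (d : ℕ) (F : X.Modules) (r : ℕ) (L : Fin r → X.Modules)
    (n : Fin r → ℕ) : ℤ :=
  ∑ᶠ ξ : X, psiTerm k X d F r L n ξ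

variable {X}

theorem support_psiTerm_subset (d : ℕ) (F : X.Modules) (r : ℕ) (L : Fin r → X.Modules)
    (n : Fin r → ℕ) :
    Function.support (psiTerm k X d F r L n) ⊆ {ξ : X | ξ ∈ CohB1.support F ∧
      topologicalKrullDim (closure ({ξ} : Set X)) = ((d : ℕ) : WithBot ℕ∞)} := by
  intro ξ hξ
  rw [Function.mem_support] at hξ
  unfold psiTerm at hξ
  by_cases hd : topologicalKrullDim (closure ({ξ} : Set X)) = ((d : ℕ) : WithBot ℕ∞)
  · rw [if_pos hd] at hξ
    refine ⟨?_, hd⟩
    by_contra hmem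
    rw [mult_eq_zero_of_notMem hmem] at hξ
    simp at hξ
  · rw [if_neg hd] at hξ
    exact absurd rfl hξ

theorem hasFiniteSupport_psiTerm [IsNoetherian X] (d : ℕ) (F : X.Modules) (hF : Coh.IsCoh F)
    (hd : topologicalKrullDim (CohB1.support F) ≤ ((d : ℕ) : WithBot ℕ∞))
    (r : ℕ) (L : Fin r → X.Modules) (n : Fin r → ℕ) :
    Function.HasFiniteSupport (psiTerm k X d F r L n) :=
  (finite_top_points F hF hd).subset (support_psiTerm_subset k d F r L n)

theorem psi_iso {F G : X.Modules} (e : F ≅ G) (d r : ℕ) (L : Fin r → X.Modules)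
    (n : Fin r → ℕ) : psi k X d F r L n = psi k X d G r L n := by
  unfold psi psiTerm
  congr 1
  funext ξ
  rw [mult_iso e ξ]

theorem psi_add [IsNoetherian X] (S : ShortComplex X.Modules) (hS : S.ShortExact)
    (h₁ : Coh.IsCoh S.X₁) (h₂ : Coh.IsCoh S.X₂) (h₃ : Coh.IsCoh S.X₃) (d : ℕ)
    (hd : topologicalKrullDim (CohB1.support S.X₂) ≤ ((d : ℕ) : WithBot ℕ∞))
    (r : ℕ) (L : Fin r → X.Modules) (n : Fin r → ℕ) :
    psi k X d S.X₂ r L n = psi k X d S.X₁ r L n + psi k X d S.X₃ r L n := by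
  haveI := hS.mono_f
  haveI := hS.epi_g
  have hd1 : topologicalKrullDim (CohB1.support S.X₁) ≤ ((d : ℕ) : WithBot ℕ∞) :=
    (topologicalKrullDim_le_of_subset (support_subset_of_mono S.f h₁ h₂)).trans hd
  have hd3 : topologicalKrullDim (CohB1.support S.X₃) ≤ ((d : ℕ) : WithBot ℕ∞) :=
    (topologicalKrullDim_le_of_subset (support_subset_of_epi S.g h₂ h₃)).trans hd
  unfold psi
  rw [← finsum_add_distrib (hasFiniteSupport_psiTerm k d S.X₁ h₁ hd1 r L n)
    (hasFiniteSupport_psiTerm k d S.X₃ h₃ hd3 r L n)]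
  congr 1
  funext ξ
  unfold psiTerm
  by_cases hξ : topologicalKrullDim (closure ({ξ} : Set X)) = ((d : ℕ) : WithBot ℕ∞)
  · rw [if_pos hξ, if_pos hξ, if_pos hξ, mult_add S hS h₂ h₃ hd ξ hξ]
    push_cast
    ring
  · rw [if_neg hξ, if_neg hξ, if_neg hξ, add_zero]

theorem psi_eq_zero_of_dim_lt (F : X.Modules) (hF : Coh.IsCoh F) (d : ℕ)
    (hd : topologicalKrullDim (CohB1.support F) < ((d : ℕ) : WithBot ℕ∞))
    (r : ℕ) (L : Fin r → X.Modules) (n : Fin r → ℕ) : psi k X d F r L n = 0 := by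
  unfold psi
  have : psiTerm k X d F r L n = fun _ => 0 := by
    funext ξ
    unfold psiTerm
    split_ifs with hξ
    · rw [mult_eq_zero_of_dim_lt F hF hd ξ hξ]
      simp
    · rfl
  rw [this, finsum_zero]

theorem subsingleton_stalk_of_isZero {N : X.Modules} (hN : IsZero N) (x : X) :
    Subsingleton (N.presheaf.stalk x) := by
  refine ⟨fun a b => ?_⟩
  obtain ⟨U, hxU, s, rfl⟩ := N.presheaf.exists_germ_eq a
  obtain ⟨V, hxV, t, rfl⟩ := N.presheaf.exists_germ_eq b
  haveI := Groth.Agent.Lib.Lead.DimOneVanish.subsingleton_sections_of_isZero hN U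
  haveI := Groth.Agent.Lib.Lead.DimOneVanish.subsingleton_sections_of_isZero hN V
  rw [Subsingleton.elim s 0, Subsingleton.elim t 0, map_zero, map_zero]

theorem psi_eq_zero_of_isZero {N : X.Modules} (hN : IsZero N) (d : ℕ)
    (r : ℕ) (L : Fin r → X.Modules) (n : Fin r → ℕ) : psi k X d N r L n = 0 := by
  unfold psi
  have : psiTerm k X d N r L n = fun _ => 0 := by
    funext ξ
    unfold psiTerm
    split_ifs with hξ
    · rw [mult_eq_zero_of_notMem (F := N) (ξ := ξ)
        (fun h => h (subsingleton_stalk_of_isZero hN ξ))]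
      simp
    · rfl
  rw [this, finsum_zero]

theorem psi_Gx (ξ₀ : X) (d : ℕ)
    (h₀ : topologicalKrullDim (closure ({ξ₀} : Set X)) = ((d : ℕ) : WithBot ℕ∞))
    (r : ℕ) (L : Fin r → X.Modules) (n : Fin r → ℕ) :
    psi k X d (Gx ξ₀) r L n = chi k X (Gx ξ₀) r L n := by
  unfold psi
  rw [finsum_eq_single _ ξ₀]
  · unfold psiTerm
    rw [if_pos h₀, mult_Gx_self]
    simp
  · intro ξ hne
    unfold psiTerm
    split_ifs with hξ
    · rw [mult_Gx_of_ne ξ₀ ξ h₀ hξ hne]
      simp
    · rfl

/-- the stalk of `Gx ξ₀` at `ξ₀` is the residue field -/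
theorem nonempty_stalk_Gx_equiv (ξ₀ : X) :
    Nonempty (↑((Gx ξ₀).presheaf.stalk ξ₀) ≃ₗ[X.presheaf.stalk ξ₀]
      IsLocalRing.ResidueField (X.presheaf.stalk ξ₀)) := by
  have h1 := length_Gx_self ξ₀
  rw [Module.length_eq_one_iff, isSimpleModule_iff_quot_maximal] at h1
  obtain ⟨I, hI, ⟨e⟩⟩ := h1
  have hI' : I = IsLocalRing.maximalIdeal (X.presheaf.stalk ξ₀) := IsLocalRing.eq_maximalIdeal hI
  subst hI'
  exact ⟨e⟩

variable [IsProper (X ↘ Spec (CommRingCat.of k))]

/-- **refined Snapper theorem** -/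
theorem snapper_refined (F : X.Modules) (hF : Coh.IsCoh F) (d : ℕ)
    (hd : topologicalKrullDim (CohB1.support F) ≤ ((d : ℕ) : WithBot ℕ∞))
    (r : ℕ) (L : Fin r → X.Modules) (hL : ∀ i, PicF.IsInvertible (L i)) :
    DegLT d (fun n => chi k X F r L n - psi k X d F r L n) := by
  haveI := Groth.Agent.Lib.Lead.CurveEuler.isNoetherian k X
  let P : X.Modules → Prop := fun G => DegLT d (fun n => chi k X G r L n - psi k X d G r L n)
  have hPiso : ∀ M N : X.Modules, Nonempty (M ≅ N) → P M → P N := by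
    rintro M N ⟨e⟩ hM
    exact hM.congr (fun n => by rw [chi_iso k X e r L n, psi_iso k e d r L n])
  refine devissage_master P hPiso (CohB1.support F) ?_ ?_ ?_ F hF subset_rfl
  · intro N hN
    show DegLT d _
    refine (degLT_zero_fun d).congr (fun n => ?_)
    rw [chi_zero k X hN r L n, psi_eq_zero_of_isZero k hN d r L n, sub_zero]
  · intro S hS h1 h2 h3 hT
    have hd2 : topologicalKrullDim (CohB1.support S.X₂) ≤ ((d : ℕ) : WithBot ℕ∞) :=
      (topologicalKrullDim_le_of_subset hT).trans hd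
    have hchi := chi_additive k X S hS h1 h3 r L hL
    have hpsi := psi_add k S hS h1 h2 h3 d hd2 r L
    refine ⟨fun a b => ?_, fun a b => ?_, fun a b => ?_⟩
    · exact (b.sub a).congr (fun n => by rw [hchi n, hpsi n]; ring)
    · exact (a.add b).congr (fun n => by rw [hchi n, hpsi n]; ring)
    · exact (a.sub b).congr (fun n => by rw [hchi n, hpsi n]; ring)
  · intro Z i _ _ hT
    have hdimZ : topologicalKrullDim Z ≤ ((d : ℕ) : WithBot ℕ∞) := by
      refine le_trans ?_ hd
      have hind : Topology.IsInducing (Set.codRestrict i.base (CohB1.support F)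
          (fun z => hT ⟨z, rfl⟩)) :=
        (Topology.IsInducing.codRestrict i.isClosedEmbedding.isInducing _)
      exact hind.topologicalKrullDim_le
    have hdimR : topologicalKrullDim (Set.range i) = topologicalKrullDim Z :=
      (i.isClosedEmbedding.isEmbedding.toHomeomorph.isHomeomorph.topologicalKrullDim_eq).symm
    rcases lt_or_eq_of_le hdimZ with hlt | heq
    · left
      intro I ι hι hIq
      haveI : IsLocallyNoetherian Z := LocallyOfFiniteType.isLocallyNoetherian i
      have hIc : Coh.IsCoh I := Groth.Agent.S0046.result Z (Coh.structureModule Z) I ι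
        (isCoh_structureModule Z) hIq
      have hG : Coh.IsCoh ((Coh.push i).obj I) := isCoh_push_of_isCoh i I hIc
      have hs : CohB1.support ((Coh.push i).obj I) ⊆ Set.range i :=
        Groth.Agent.Lib.helper8.SchemeSupport.support_subset_range_of_iso _ i I (Iso.refl _)
      have hdimG : topologicalKrullDim (CohB1.support ((Coh.push i).obj I)) <
          ((d : ℕ) : WithBot ℕ∞) :=
        lt_of_le_of_lt (topologicalKrullDim_le_of_subset hs) (hdimR ▸ hlt)
      have h1 := snapper k d X _ hG hdimG r L hL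
      exact h1.congr (fun n => by rw [psi_eq_zero_of_dim_lt k _ hG d hdimG r L n, sub_zero])
    · right
      have hcl : closure ({i (genericPoint Z)} : Set X) = Set.range i := by
        have h1 : closure {genericPoint Z} = (Set.univ : Set Z) := genericPoint_spec Z
        rw [← Set.image_singleton, i.isClosedEmbedding.closure_image_eq, h1, Set.image_univ]
      have hdimξ : topologicalKrullDim (closure ({i (genericPoint Z)} : Set X)) =
          ((d : ℕ) : WithBot ℕ∞) := by
        rw [hcl, hdimR, heq]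
      refine ⟨Gx (i (genericPoint Z)), isCoh_quotMod _, ?_, nonempty_stalk_Gx_equiv _, ?_⟩
      · rw [← hcl]
        exact support_Gx_subset _
      · show DegLT d _
        refine (degLT_zero_fun d).congr (fun n => ?_)
        rw [psi_Gx k _ d hdimξ r L n, sub_self]

end Groth.Agent.Lib.helper7.SnapperRefined
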