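import Mathlib
import Groth.Agent.Lib.Helper7.SnapperPos4
import Groth.Agent.Lib.Helper7.SnapperRefined
import Groth.Agent.Lib.Lead.GrothVanish
import Groth.Agent.Lib.Lead.ProperFin2

/-!
# Positivity of mixed intersection numbers of ample modules (helper7)

* `intNum_eq_sum_mult`: `∫ c(M) F = Σ_ξ mult_ξ(F) ∫ c(M) O_{\bar ξ}` over the top-dimensional points
* `mult_pos`, `exists_top_point`
* `intNum_Gx_eq`: `∫_X c(M) O_{\bar ξ} = ∫_{\bar ξ} c(M|_{\bar ξ}) O`
* `euler_structure_pos`: `χ(O_Z) > 0` for `Z` integral proper of dimension `0`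
* `intNum_pos`: the statement of S3233
-/

set_option autoImplicit false
set_option linter.unusedSectionVars false
set_option linter.style.haveILetI false
universe u

open CategoryTheory CategoryTheory.Limits AlgebraicGeometry Opposite TopologicalSpace

namespace Groth.Agent.Lib.helper7.SnapperPos

open Groth.Agent.Lib.helper7.SnapperDiff Groth.Agent.Lib.helper7.SnapperMain
open Groth.Agent.Lib.helper7.SnapperSplit Groth.Agent.Lib.helper7.SnapperNewton
open Groth.Agent.Lib.helper7.SnapperCartier2 Groth.Agent.Lib.helper7.SnapperQuot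
open Groth.Agent.Lib.helper7.SnapperRefined Groth.Agent.Lib.helper7.SnapperMult
open Groth.Agent.Lib.Lead.ModTensor

variable (k : Type u) [Field k]

section Reduction

variable (X : Scheme.{u}) [X.Over (Spec (CommRingCat.of k))]
  [IsProper (X ↘ Spec (CommRingCat.of k))]

/-- the intersection number is the sum over the top-dimensional points of the support -/
theorem intNum_eq_sum_mult (d : ℕ) (hd : topologicalKrullDim X ≤ d) {r : ℕ}
    (M : Fin r → X.Modules) (hM : ∀ i, PicF.IsInvertible (M i)) (F : X.Modules) (hF : Coh.IsCoh F)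
    (hsupp : topologicalKrullDim (CohB1.support F) ≤ ((r : ℕ) : WithBot ℕ∞))
    (s : Finset X) (hs : ∀ ξ : X, ξ ∈ s ↔ ξ ∈ CohB1.support F ∧
      topologicalKrullDim (closure ({ξ} : Set X)) = ((r : ℕ) : WithBot ℕ∞)) :
    FGA.intNum k X d M F = ∑ ξ ∈ s, (mult F ξ : ℤ) * FGA.intNum k X d M (Gx ξ) := by
  classical
  haveI := Groth.Agent.Lib.Lead.CurveEuler.isNoetherian k X
  have hsn := snapper_refined k F hF r hsupp r M hM
  have hcard : (Finset.univ : Finset (Fin r)).card = r := Finset.card_fin r
  have hsn' : DegLT (Finset.univ : Finset (Fin r)).card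
      (fun n => chi k X F r M n - psi k X r F r M n) := by
    rw [hcard]; exact hsn
  have h0 := sum_powerset_eq_zero (Finset.univ : Finset (Fin r)) _ hsn' 0
  rw [Finset.powerset_univ] at h0
  have hpsi : ∀ n, psi k X r F r M n =
      ∑ ξ ∈ s, (mult F ξ : ℤ) * chi k X (Gx ξ) r M n := by
    intro n
    unfold psi
    rw [finsum_eq_sum_of_support_subset (s := s)]
    · apply Finset.sum_congr rfl
      intro ξ hξ
      unfold psiTerm
      rw [if_pos ((hs ξ).mp hξ).2]
    · intro ξ hξ
      have := support_psiTerm_subset k r F r M n hξ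
      exact Finset.mem_coe.mpr ((hs ξ).mpr this)
  rw [intNum_eq k X d hd]
  have h1 : ∑ I : Finset (Fin r), (-1 : ℤ) ^ I.card * chi k X F r M (ind I) =
      ∑ I : Finset (Fin r), (-1 : ℤ) ^ I.card * psi k X r F r M (ind I) := by
    rw [← sub_eq_zero, ← Finset.sum_sub_distrib, ← h0]
    apply Finset.sum_congr rfl
    intro I _
    rw [zero_add]
    ring
  rw [h1]
  simp_rw [hpsi, Finset.mul_sum]
  rw [Finset.sum_comm]
  apply Finset.sum_congr rfl
  intro ξ _
  rw [intNum_eq k X d hd, Finset.mul_sum]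
  apply Finset.sum_congr rfl
  intro I _
  ring

end Reduction

section Points

variable {X : Scheme.{u}}

theorem mult_pos [IsLocallyNoetherian X] (F : X.Modules) (hF : Coh.IsCoh F) {r : ℕ}
    (hsupp : topologicalKrullDim (CohB1.support F) ≤ ((r : ℕ) : WithBot ℕ∞)) (ξ : X)
    (hξ : ξ ∈ CohB1.support F)
    (hdim : topologicalKrullDim (closure ({ξ} : Set X)) = ((r : ℕ) : WithBot ℕ∞)) :
    0 < mult F ξ := by
  unfold mult
  have h1 := length_ne_top F hF hsupp ξ hdim
  have h2 : Module.length (X.presheaf.stalk ξ) (F.presheaf.stalk ξ) ≠ 0 := by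
    intro h0
    rw [Module.length_eq_zero_iff] at h0
    exact hξ h0
  exact ENat.toNat_pos h2 h1

theorem exists_top_point (F : X.Modules) (hcl : IsClosed (CohB1.support F)) {r : ℕ}
    (hsupp : topologicalKrullDim (CohB1.support F) = ((r : ℕ) : WithBot ℕ∞)) :
    ∃ ξ : X, ξ ∈ CohB1.support F ∧
      topologicalKrullDim (closure ({ξ} : Set X)) = ((r : ℕ) : WithBot ℕ∞) := by
  obtain ⟨l, hl, hlT⟩ :=
    Groth.Agent.Lib.Lead.HilbPos.exists_chain_subset_of_le_dim hcl hsupp.ge
  have hirr : IsIrreducible (l.last : Set X) := l.last.2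
  have hclosed : IsClosed (l.last : Set X) := l.last.3
  have hgen := hirr.isGenericPoint_genericPoint hclosed
  refine ⟨hirr.genericPoint, hlT ?_, ?_⟩
  · have : hirr.genericPoint ∈ closure ({hirr.genericPoint} : Set X) := subset_closure rfl
    rw [hgen.def] at this
    exact this
  · rw [hgen.def]
    apply le_antisymm
    · rw [← hsupp]
      exact Groth.Agent.Lib.helper8.DimLt.topologicalKrullDim_le_of_subset hlT
    · have := Groth.Agent.Lib.Lead.HilbPos.le_dim_of_chain
        (f := (Subtype.val : ↥(l.last : Set X) → X)) Topology.IsEmbedding.subtypeVal l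
        (by rw [Subtype.range_coe])
      rwa [hl] at this

theorem isIntegral_subscheme_Jx (ξ₀ : X) : IsIntegral (Jx ξ₀).subscheme := by
  have hmem : ξ₀ ∈ Set.range (Jx ξ₀).subschemeι := by
    rw [range_subschemeι_Jx]
    exact subset_closure rfl
  obtain ⟨z, hz⟩ := hmem
  have hcl : closure ({z} : Set (Jx ξ₀).subscheme) = Set.univ := by
    rw [(Jx ξ₀).subschemeι.isClosedEmbedding.isInducing.closure_eq_preimage_closure_image,
      Set.image_singleton, hz]
    rw [← range_subschemeι_Jx]
    exact Set.preimage_range _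
  haveI : IsReduced (Jx ξ₀).subscheme :=
    Groth.Agent.Lib.helper4.ClosureProper.isReduced_subscheme_vanishingIdeal _
  haveI : IrreducibleSpace (Jx ξ₀).subscheme := by
    rw [irreducibleSpace_def]
    show IsIrreducible (Set.univ : Set (Jx ξ₀).subscheme)
    rw [← hcl]
    exact isIrreducible_singleton.closure
  exact isIntegral_of_irreducibleSpace_of_isReduced _

theorem dim_subscheme_Jx (ξ₀ : X) :
    topologicalKrullDim (Jx ξ₀).subscheme = topologicalKrullDim (closure ({ξ₀} : Set X)) := by
  rw [← range_subschemeι_Jx]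
  exact (Jx ξ₀).subschemeι.isClosedEmbedding.isEmbedding.toHomeomorph.isHomeomorph.topologicalKrullDim_eq

end Points

section Push

variable (X : Scheme.{u}) [X.Over (Spec (CommRingCat.of k))]
  [IsProper (X ↘ Spec (CommRingCat.of k))]

/-- the projection formula for intersection numbers along a closed immersion -/
theorem intNum_push {Z : Scheme.{u}} (i : Z ⟶ X) [IsClosedImmersion i] (d : ℕ)
    (hd : topologicalKrullDim X ≤ d) {r : ℕ} (M : Fin r → X.Modules)
    (hM : ∀ j, PicF.IsInvertible (M j)) (G : Z.Modules) [G.IsQuasicoherent] :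
    letI : Z.Over (Spec (CommRingCat.of k)) := ⟨i ≫ (X ↘ Spec (CommRingCat.of k))⟩
    FGA.intNum k X d M ((Scheme.Modules.pushforward i).obj G) =
      FGA.intNum k Z d (fun j => (Scheme.Modules.pullback i).obj (M j)) G := by
  letI : Z.Over (Spec (CommRingCat.of k)) := ⟨i ≫ (X ↘ Spec (CommRingCat.of k))⟩
  haveI : IsProper (Z ↘ Spec (CommRingCat.of k)) := by
    show IsProper (i ≫ (X ↘ Spec (CommRingCat.of k)))
    infer_instance
  have hdZ : topologicalKrullDim Z ≤ d :=
    le_trans i.isClosedEmbedding.isInducing.topologicalKrullDim_le hd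
  rw [intNum_eq k X d hd, intNum_eq k Z d hdZ]
  apply Finset.sum_congr rfl
  intro I _
  rw [chi_push k X i G r M hM (ind I)]

end Push

section Base

variable (Z : Scheme.{u}) [Z.Over (Spec (CommRingCat.of k))]
  [IsProper (Z ↘ Spec (CommRingCat.of k))]

theorem euler_structure_pos [Nonempty Z] (hdim : topologicalKrullDim Z ≤ ((0 : ℕ) : WithBot ℕ∞)) :
    0 < Curv2.euler k Z (Coh.structureModule Z) := by
  haveI := Groth.Agent.Lib.Lead.CurveEuler.isNoetherian k Z
  haveI := Groth.Agent.Lib.Lead.ProperEuler.quasiSeparatedSpace k Z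
  have hO : Coh.IsCoh (Coh.structureModule Z) :=
    Groth.Agent.Lib.helper8.Dev.isCoh_structureModule Z
  rw [Groth.Agent.Lib.Helper18.HH.euler_eq_sum k (Coh.structureModule Z) 0
    (fun i hi => Groth.Agent.Lib.Lead.GrothVanish.subsingleton_HH_of_dim_le Z 0 hdim _ i hi)]
  simp only [zero_add, Finset.range_one, Finset.sum_singleton, pow_zero, one_mul]
  haveI : Module.Finite k (Coh.HH Z (Coh.structureModule Z) 0) :=
    Groth.Agent.Lib.Lead.ProperFin.finite_HH_of_isProper k Z _ hO 0
  haveI : Nontrivial (Coh.HH Z (Coh.structureModule Z) 0) := by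
    apply Groth.Agent.Lib.Lead.HilbPos.nontrivial_HH_zero_of_hom_ne_zero (𝟙 (Coh.structureModule Z))
    intro h
    apply Groth.Agent.Lib.helper8.Dev.not_isZero_structureModule Z
    rw [IsZero.iff_id_eq_zero]
    exact h
  exact_mod_cast Module.finrank_pos (R := k) (M := Coh.HH Z (Coh.structureModule Z) 0)

end Base

section Main

/-- the positivity statement for all proper schemes -/
def PosStatement (r : ℕ) : Prop :=
  ∀ (X : Scheme.{u}) [X.Over (Spec (CommRingCat.of k))] [IsProper (X ↘ Spec (CommRingCat.of k))]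
    (d : ℕ), topologicalKrullDim X ≤ d → PosOn k X d r

/-- positivity for the structure sheaf of integral proper schemes of dimension `r` -/
def PosInt (r : ℕ) : Prop :=
  ∀ (Z : Scheme.{u}) [Z.Over (Spec (CommRingCat.of k))] [IsProper (Z ↘ Spec (CommRingCat.of k))]
    [IsIntegral Z] (d : ℕ), topologicalKrullDim Z ≤ d →
    topologicalKrullDim Z = ((r : ℕ) : WithBot ℕ∞) →
    ∀ (L M : Fin r → Z.Modules), (∀ i, CohB1.IsAmple (L i)) →
      (∀ i, Nonempty (CohB1.tensorMod (L i) (M i) ≅ Coh.structureModule Z)) →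
      0 < FGA.intNum k Z d M (Coh.structureModule Z)

theorem posStatement_of_posInt (r : ℕ) (h : PosInt.{u} k r) : PosStatement.{u} k r := by
  intro X _ _ d hd L M hL hLM G hG hsupp
  classical
  haveI := Groth.Agent.Lib.Lead.CurveEuler.isNoetherian k X
  have hM : ∀ i, PicF.IsInvertible (M i) := fun i =>
    Groth.Agent.Lib.helper11.AmpleAffine.isInvertible_of_isInverseOf (hL i).1 (hLM i)
  have hfin := finite_top_points G hG hsupp.le
  have hs : ∀ ξ : X, ξ ∈ hfin.toFinset ↔ ξ ∈ CohB1.support G ∧
      topologicalKrullDim (closure ({ξ} : Set X)) = ((r : ℕ) : WithBot ℕ∞) := by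
    intro ξ
    rw [Set.Finite.mem_toFinset]
    rfl
  rw [intNum_eq_sum_mult k X d hd M hM G hG hsupp.le hfin.toFinset hs]
  obtain ⟨ξ₀, hξ₀1, hξ₀2⟩ := exists_top_point G
    (Groth.Agent.Lib.helper8.Dev.isClosed_support_of_isCoh G hG) hsupp
  apply Finset.sum_pos
  · intro ξ hξ
    obtain ⟨hξ1, hξ2⟩ := (hs ξ).mp hξ
    have hm : (0 : ℤ) < (mult G ξ : ℤ) := by exact_mod_cast mult_pos G hG hsupp.le ξ hξ1 hξ2
    refine mul_pos hm ?_
    -- restrict to the integral closed subscheme
    let i := (Jx ξ).subschemeι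
    letI : (Jx ξ).subscheme.Over (Spec (CommRingCat.of k)) :=
      ⟨i ≫ (X ↘ Spec (CommRingCat.of k))⟩
    haveI : IsProper ((Jx ξ).subscheme ↘ Spec (CommRingCat.of k)) := by
      show IsProper (i ≫ (X ↘ Spec (CommRingCat.of k)))
      infer_instance
    haveI : IsIntegral (Jx ξ).subscheme := isIntegral_subscheme_Jx ξ
    haveI : (Coh.structureModule (Jx ξ).subscheme).IsQuasicoherent :=
      (Groth.Agent.Lib.helper8.Dev.isCoh_structureModule _).1
    have hpush := intNum_push k X i d hd M hM (Coh.structureModule (Jx ξ).subscheme)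
    show 0 < FGA.intNum k X d M
      ((Scheme.Modules.pushforward i).obj (Coh.structureModule (Jx ξ).subscheme))
    rw [hpush]
    have hdZ : topologicalKrullDim (Jx ξ).subscheme ≤ d :=
      le_trans i.isClosedEmbedding.isInducing.topologicalKrullDim_le hd
    have hdimZ : topologicalKrullDim (Jx ξ).subscheme = ((r : ℕ) : WithBot ℕ∞) := by
      rw [dim_subscheme_Jx, hξ2]
    refine h (Jx ξ).subscheme d hdZ hdimZ (fun j => (Scheme.Modules.pullback i).obj (L j))
      (fun j => (Scheme.Modules.pullback i).obj (M j)) (fun j => ?_) (fun j => ?_)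
    · exact Groth.Agent.Lib.helper12.PullAmple.isAmple_pullback_of_isAffineHom i (hL j)
    · obtain ⟨e⟩ := hLM j
      exact ⟨(Groth.Agent.Lib.helper12.PullTensor.pullTensorIso i _ _ (hM j)).symm ≪≫
        (Scheme.Modules.pullback i).mapIso e ≪≫
        Groth.Agent.Lib.helper11.InvMod.pullbackUnitIso i⟩
  · exact ⟨ξ₀, (hs ξ₀).mpr ⟨hξ₀1, hξ₀2⟩⟩

theorem posInt_zero : PosInt.{u} k 0 := by
  intro Z _ _ _ d hd hdim L M _ _
  have hM : M = fun _ : Fin 0 => Coh.structureModule Z := Subsingleton.elim _ _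
  rw [hM]
  have h := D_zero k Z d hd (Coh.structureModule Z) (Coh.structureModule Z)
  unfold D at h
  rw [h]
  exact euler_structure_pos k Z hdim.le

theorem posInt_succ (r : ℕ) (h : PosStatement.{u} k r) : PosInt.{u} k (r + 1) := by
  intro Z _ _ _ d hd hdim L M hL hLM
  exact pos_integral_step k Z d hd r hdim (h Z d hd) L M hL hLM

theorem posStatement : ∀ r : ℕ, PosStatement.{u} k r
  | 0 => posStatement_of_posInt k 0 (posInt_zero k)
  | r + 1 => posStatement_of_posInt k (r + 1) (posInt_succ k r (posStatement r))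

/-- **S3233**: positivity of mixed intersection numbers of ample modules -/
theorem intNum_pos (X : Scheme.{u}) [X.Over (Spec (CommRingCat.of k))]
    [IsProper (X ↘ Spec (CommRingCat.of k))] (d : ℕ) (hd : topologicalKrullDim X ≤ d) {r : ℕ}
    (L M : Fin r → X.Modules) (hL : ∀ i, CohB1.IsAmple (L i))
    (hLM : ∀ i, Nonempty (CohB1.tensorMod (L i) (M i) ≅ Coh.structureModule X))
    (F : X.Modules) (hF : Coh.IsCoh F)
    (hr : topologicalKrullDim (CohB1.support F) = ((r : ℕ) : WithBot ℕ∞)) :
    0 < FGA.intNum k X d M F :=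
  posStatement k r X d hd L M hL hLM F hF hr

end Main

end Groth.Agent.Lib.helper7.SnapperPos
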