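import Mathlib
import Groth.Agent.Lib.Helper7.CMAss
import Groth.Agent.Lib.Helper7.SnapperPos5
import Groth.Agent.Lib.Helper3.ProperIsolDim

/-!
# Intersection numbers of effective Cartier divisors on Cohen–Macaulay surfaces (helper7)

* `isClosed_singleton_of_mem_finite_closed`
* `euler_quotMod_eq_finrank_H0`: `χ(O/K) = h⁰(O/K)` when `K.support` is finite
* `intNum_effCartier_eq_finrank_H0`: `(C·D) = dim_k H⁰(O_X/(I_C + I_D))` on a proper
  Cohen–Macaulay scheme, equidimensional of dimension two
-/

set_option autoImplicit false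
set_option linter.unusedSectionVars false
set_option linter.style.haveILetI false
universe u

open CategoryTheory CategoryTheory.Limits AlgebraicGeometry Opposite TopologicalSpace

namespace Groth.Agent.Lib.helper7.SurfInt

open Groth.Agent.Lib.helper7.SnapperDiff Groth.Agent.Lib.helper7.SnapperMain
open Groth.Agent.Lib.helper7.SnapperSplit Groth.Agent.Lib.helper7.SnapperNewton
open Groth.Agent.Lib.helper7.SnapperCartier2 Groth.Agent.Lib.helper7.SnapperQuot
open Groth.Agent.Lib.helper7.SnapperPos Groth.Agent.Lib.helper7.QuotTensor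
open Groth.Agent.Lib.helper7.CMAss
open Groth.Agent.Lib.Lead.ModTensor

theorem isClosed_singleton_of_mem_finite_closed {T : Type*} [TopologicalSpace T] [JacobsonSpace T]
    (Z : Set T) (hfin : Z.Finite) (hcl : IsClosed Z) (x : T) (hx : x ∈ Z) :
    IsClosed ({x} : Set T) := by
  have h1 := JacobsonSpace.closure_inter_closedPoints hcl
  have hfin' : (Z ∩ closedPoints T).Finite := hfin.subset Set.inter_subset_left
  have h2 : IsClosed (Z ∩ closedPoints T) := by
    have h3 : Z ∩ closedPoints T = ⋃ y ∈ Z ∩ closedPoints T, ({y} : Set T) :=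
      (Set.biUnion_of_singleton _).symm
    rw [h3]
    exact hfin'.isClosed_biUnion (fun y hy => hy.2)
  rw [h2.closure_eq] at h1
  have h4 : x ∈ Z ∩ closedPoints T := by rw [h1]; exact hx
  exact h4.2


open Groth.Agent.Lib.helper16.QCohAss in
/-- on a locally Noetherian scheme, no associated point of `O_X` lies on an effective Cartier
divisor -/
theorem not_isAssPoint_structureModule' {X : Scheme.{u}} [IsLocallyNoetherian X]
    (D : X.IdealSheafData) (hD : BlowUp.IsEffCartierIdeal D)
    (x : X) (hx : x ∈ D.support) : ¬ Curv2.IsAssPoint (Coh.structureModule X) x := by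
  intro h
  haveI : (Coh.structureModule X).IsQuasicoherent :=
    (Groth.Agent.Lib.helper8.Dev.isCoh_structureModule X).1
  rw [isAssPoint_iff_isWeakAssPoint] at h
  obtain ⟨V, hxV, t, ht, hI⟩ := hD x
  haveI : IsNoetherianRing Γ(X, V.1) := IsLocallyNoetherian.component_noetherian V
  rw [isWeakAssPoint_iff (Coh.structureModule X) V.2 x hxV] at h
  obtain ⟨m, hm⟩ := h
  have htp : t ∈ (V.2.primeIdealOf ⟨x, hxV⟩).asIdeal := by
    by_contra hcon
    have h1 := (Groth.Agent.Lib.helper7.TensorReg.mem_basicOpen_iff V.2 x hxV t).mpr hcon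
    have h2 := (Scheme.IdealSheafData.mem_support_iff_of_mem (I := D) (U := V) hxV).mp hx
    rw [Scheme.mem_zeroLocus_iff] at h2
    exact h2 t (by rw [hI]; exact Ideal.subset_span rfl) h1
  have hann : ann Γ(X, V.1) m = Submodule.colon (⊥ : Submodule Γ(X, V.1) Γ(X, V.1))
      {(show Γ(X, V.1) from m)} := by
    ext a
    rw [mem_ann, Submodule.mem_colon_singleton, Submodule.mem_bot]
    rfl
  rw [hann] at hm
  obtain ⟨m', hm'⟩ := Submodule.exists_eq_colon_of_mem_minimalPrimes hm
  have h1 : t ∈ Submodule.colon (⊥ : Submodule Γ(X, V.1) Γ(X, V.1)) {m'} := by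
    rw [← hm']; exact htp
  rw [Submodule.mem_colon_singleton, Submodule.mem_bot, smul_eq_mul] at h1
  have hm0 : m' = 0 := (mem_nonZeroDivisors_iff_left.mp ht) m' h1
  have htop : (V.2.primeIdealOf ⟨x, hxV⟩).asIdeal = ⊤ := by
    rw [hm', hm0]
    ext a
    simp [Submodule.mem_colon_singleton]
  exact hm.1.1.ne_top htop

section Euler

variable (k : Type u) [Field k] (X : Scheme.{u}) [X.Over (Spec (CommRingCat.of k))]
  [IsProper (X ↘ Spec (CommRingCat.of k))]

include k in
theorem subsingleton_HH_quotMod (K : X.IdealSheafData) (hfin : (K.support : Set X).Finite)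
    (i : ℕ) (hi : 0 < i) : Subsingleton (Coh.HH X (ClSub.quotMod K) i) := by
  haveI : JacobsonSpace X := LocallyOfFiniteType.jacobsonSpace (X ↘ Spec (CommRingCat.of k))
  haveI := Groth.Agent.Lib.Lead.CurveEuler.isNoetherian k X
  set Y := K.subscheme with hY
  set ι := K.subschemeι with hι
  have hemb := Scheme.Hom.isClosedEmbedding ι
  have hrange : Set.range ι = (K.support : Set X) := Scheme.IdealSheafData.range_subschemeι K
  haveI : Finite ↥(K.support : Set X) := hfin.to_subtype
  haveI : Finite Y := by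
    refine Finite.of_injective (fun y : Y => (⟨ι y, by rw [← hrange]; exact ⟨y, rfl⟩⟩ :
      ↥(K.support : Set X))) ?_
    intro a b hab
    exact hemb.injective (congrArg Subtype.val hab)
  haveI : T1Space Y := by
    refine ⟨fun y => ?_⟩
    have hc : IsClosed ({ι y} : Set X) :=
      isClosed_singleton_of_mem_finite_closed _ hfin K.support.isClosed (ι y)
        (by rw [← hrange]; exact ⟨y, rfl⟩)
    have h1 : ({y} : Set Y) = ι ⁻¹' {ι y} := by
      ext z
      simp only [Set.mem_singleton_iff, Set.mem_preimage]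
      exact ⟨fun h => by rw [h], fun h => hemb.injective h⟩
    rw [h1]
    exact hc.preimage ι.continuous
  haveI : DiscreteTopology Y := inferInstance
  have hdimY : topologicalKrullDim Y ≤ ((0 : ℕ) : WithBot ℕ∞) := by
    rw [Nat.cast_zero]
    exact topologicalKrullDim_zero_of_discreteTopology Y
  haveI : CompactSpace Y := inferInstance
  haveI : QuasiSeparatedSpace Y := inferInstance
  have hv := Groth.Agent.Lib.Lead.GrothVanish.subsingleton_HH_of_dim_le Y 0 hdimY
    (Coh.structureModule Y) i hi
  exact (Groth.Agent.Lib.Helper18.HH.subsingleton_iff_push ι (Coh.structureModule Y) i).mp hv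

theorem euler_quotMod_eq_finrank_H0 (K : X.IdealSheafData) (hfin : (K.support : Set X).Finite) :
    Curv2.euler k X (ClSub.quotMod K) =
      (Module.finrank k (Coh.HH X (ClSub.quotMod K) 0) : ℤ) := by
  rw [Groth.Agent.Lib.Helper18.HH.euler_eq_sum k (ClSub.quotMod K) 0
    (fun i hi => subsingleton_HH_quotMod k X K hfin i hi)]
  simp only [zero_add, Finset.range_one, Finset.sum_singleton, pow_zero, one_mul]

end Euler

section Main

variable (k : Type u) [Field k] (X : Scheme.{u}) [X.Over (Spec (CommRingCat.of k))]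
  [IsProper (X ↘ Spec (CommRingCat.of k))]

/-- **S7871** -/
theorem intNum_effCartier_eq_finrank_H0
    (hdim : ∀ Z ∈ irreducibleComponents (X : Type u), topologicalKrullDim Z = 2)
    (hCM : ∀ x : X, LocCoh.IsCohenMacaulayLocalRing (X.presheaf.stalk x))
    (IC ID : X.IdealSheafData) (hC : BlowUp.IsEffCartierIdeal IC)
    (hD : BlowUp.IsEffCartierIdeal ID)
    (hfin : ((IC ⊔ ID).support : Set X).Finite) :
    FGA.intNum k X 2 ![ClSub.idealMod IC, ClSub.idealMod ID] (Coh.structureModule X) =
      (Module.finrank k (Coh.HH X (ClSub.quotMod (IC ⊔ ID)) 0) : ℤ) := by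
  haveI := Groth.Agent.Lib.Lead.CurveEuler.isNoetherian k X
  have hd : topologicalKrullDim X ≤ ((2 : ℕ) : WithBot ℕ∞) :=
    Groth.Agent.Lib.helper3.ProperIsolDim.dim_le_of_irreducibleComponents _
      (fun Z hZ => (hdim Z hZ).le)
  have hO : Coh.IsCoh (Coh.structureModule X) :=
    Groth.Agent.Lib.helper8.Dev.isCoh_structureModule X
  have hIC : PicF.IsInvertible (ClSub.idealMod IC) :=
    Groth.Agent.Lib.helper7.IdealCartier.invertible_of_effCartier IC hC
  have hID : PicF.IsInvertible (ClSub.idealMod ID) :=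
    Groth.Agent.Lib.helper7.IdealCartier.invertible_of_effCartier ID hD
  have h3 : (![ClSub.idealMod IC, ClSub.idealMod ID] : Fin 2 → X.Modules) =
      Fin.cons (ClSub.idealMod IC) (fun _ : Fin 1 => ClSub.idealMod ID) := by
    funext i
    fin_cases i <;> rfl
  rw [h3, intNum_cons_eq_snoc k X 2 hd]
  -- first divisor
  have hassO : ∀ x ∈ IC.support, ¬ Curv2.IsAssPoint (Coh.structureModule X) x :=
    fun x hx => not_isAssPoint_structureModule' IC hC x hx
  rw [intNum_snoc_idealMod k X 2 hd (fun _ : Fin 1 => ClSub.idealMod ID) (fun _ => hID)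
    (Coh.structureModule X) hO IC hC hassO,
    intNum_iso k X 2 hd _ (leftUnitor (ClSub.quotMod IC))]
  -- second divisor
  let M0 : Fin 0 → X.Modules := fun i => i.elim0
  have h4 : (fun _ : Fin 1 => ClSub.idealMod ID) = Fin.snoc M0 (ClSub.idealMod ID) := by
    funext i
    fin_cases i
    rfl
  have hdim' : ∀ Z ∈ irreducibleComponents (X : Type u),
      topologicalKrullDim Z = ((2 : ℕ) : WithBot ℕ∞) := fun Z hZ => hdim Z hZ
  have hass' : ∀ x ∈ ID.support, ¬ Curv2.IsAssPoint (ClSub.quotMod IC) x :=
    fun x hx => not_isAssPoint_quotMod k X 2 le_rfl hdim' hCM IC ID hC hfin x hx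
  rw [h4, intNum_snoc_idealMod k X 2 hd M0 (fun i => i.elim0) (ClSub.quotMod IC)
    (isCoh_quotMod IC) ID hD hass',
    intNum_iso k X 2 hd M0 (quotTensorIso IC ID)]
  have hM0 : M0 = fun _ : Fin 0 => Coh.structureModule X := Subsingleton.elim _ _
  rw [hM0]
  have h5 := D_zero k X 2 hd (Coh.structureModule X) (ClSub.quotMod (IC ⊔ ID))
  unfold D at h5
  rw [h5]
  exact euler_quotMod_eq_finrank_H0 k X (IC ⊔ ID) hfin

end Main

end Groth.Agent.Lib.helper7.SurfInt
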