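import Mathlib
import Groth.Agent.Lib.Helper7.KerTensor
import Groth.Agent.Lib.Helper7.SurfInt
import Groth.Agent.Lib.Helper27.AffStratVan7
import Groth.Agent.Lib.Helper2.TensorSupp
import Groth.Agent.Lib.Helper8.DevSupp
import Groth.Agent.Lib.Lead.VBCurve1

/-!
# Intersection numbers of effective Cartier divisors meeting a module properly (helper7)

* `HReg r I F x`: the local equations of `I 0, …, I (r-1)` form an `F`-regular sequence at `x`
* `intNum_eq_finrank_of_hreg`: `(D_1 ⋯ D_r · F) = h⁰(F ⊗ O_Z)`, `Z = D_1 ∩ ⋯ ∩ D_r`, if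
  `Z ∩ Supp F` is finite and the local equations are `F`-regular at its points
-/

set_option autoImplicit false
set_option linter.unusedSectionVars false
set_option linter.style.haveILetI false
universe u

open CategoryTheory CategoryTheory.Limits AlgebraicGeometry Opposite TopologicalSpace

namespace Groth.Agent.Lib.helper7.RegInt

open Groth.Agent.Lib.helper7.SnapperDiff Groth.Agent.Lib.helper7.SnapperMain
open Groth.Agent.Lib.helper7.SnapperSplit Groth.Agent.Lib.helper7.SnapperNewton
open Groth.Agent.Lib.helper7.SnapperCartier2 Groth.Agent.Lib.helper7.SnapperQuot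
open Groth.Agent.Lib.helper7.QuotTensor Groth.Agent.Lib.helper7.KerTensor
open Groth.Agent.Lib.helper7.TensorReg Groth.Agent.Lib.helper7.SurfInt
open Groth.Agent.Lib.Lead.ModTensor

section Top

theorem dim_le_zero_of_finite_closed {T : Type*} [TopologicalSpace T] [JacobsonSpace T]
    (S : Set T) (hfin : S.Finite) (hcl : IsClosed S) :
    topologicalKrullDim ↥S ≤ 0 := by
  haveI : Finite ↥S := hfin.to_subtype
  haveI : T1Space ↥S := by
    refine ⟨fun y => ?_⟩
    have hc : IsClosed ({(y : T)} : Set T) :=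
      isClosed_singleton_of_mem_finite_closed S hfin hcl y y.2
    have h1 : ({y} : Set ↥S) = Subtype.val ⁻¹' {(y : T)} := by
      ext z
      simp only [Set.mem_singleton_iff, Set.mem_preimage]
      exact ⟨fun h => by rw [h], fun h => Subtype.ext h⟩
    rw [h1]
    exact hc.preimage continuous_subtype_val
  haveI : DiscreteTopology ↥S := inferInstance
  exact topologicalKrullDim_zero_of_discreteTopology ↥S

end Top

section Vanish

variable (k : Type u) [Field k] (X : Scheme.{u}) [X.Over (Spec (CommRingCat.of k))]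
  [IsProper (X ↘ Spec (CommRingCat.of k))]

include k in
theorem subsingleton_HH_of_finite_support (F : X.Modules) (hF : Coh.IsCoh F)
    (hfin : (CohB1.support F).Finite) (i : ℕ) (hi : 0 < i) :
    Subsingleton (Coh.HH X F i) := by
  haveI : JacobsonSpace X := LocallyOfFiniteType.jacobsonSpace (X ↘ Spec (CommRingCat.of k))
  haveI := Groth.Agent.Lib.Lead.CurveEuler.isNoetherian k X
  have hcl : IsClosed (CohB1.support F) :=
    Groth.Agent.Lib.helper8.Dev.isClosed_support_of_isCoh F hF
  let U₀ : X.Opens := ⟨(CohB1.support F)ᶜ, hcl.isOpen_compl⟩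
  have hU₀c : IsCompact (U₀ : Set X) := NoetherianSpace.isCompact _
  have hd : topologicalKrullDim ↥((U₀ : Set X)ᶜ) ≤ ((0 : ℕ) : WithBot ℕ∞) := by
    have e : ((U₀ : Set X)ᶜ) = CohB1.support F := compl_compl _
    rw [e, Nat.cast_zero]
    exact dim_le_zero_of_finite_closed _ hfin hcl
  have hvan : Groth.Agent.Lib.helper27.AffStratVan.VanOn U₀ F := fun W hW =>
    Groth.Agent.Lib.Lead.VBCurve.subsingleton_sections_of_stalks F W (fun x hx => by
      have hx' : x ∈ (CohB1.support F)ᶜ := hW hx
      simpa [CohB1.support] using hx')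
  exact Groth.Agent.Lib.helper27.AffStratVan.subsingleton_HH_of_vanOn_of_dim_le U₀ hU₀c 0 hd F
    hF.1 hvan i hi

theorem euler_eq_finrank_H0_of_finite_support (F : X.Modules) (hF : Coh.IsCoh F)
    (hfin : (CohB1.support F).Finite) :
    Curv2.euler k X F = (Module.finrank k (Coh.HH X F 0) : ℤ) := by
  rw [Groth.Agent.Lib.Helper18.HH.euler_eq_sum k F 0
    (fun i hi => subsingleton_HH_of_finite_support k X F hF hfin i hi)]
  simp only [zero_add, Finset.range_one, Finset.sum_singleton, pow_zero, one_mul]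

end Vanish

section Reg

variable {X : Scheme.{u}}

/-- the local equations of `I 0, …, I (r-1)` at `x` form an `F`-regular sequence (in the form: the
equation of `I 0` is a nonzerodivisor on `F` near `x`, and so on for `F ⊗ O/I_0`) -/
def HReg : (r : ℕ) → (Fin r → X.IdealSheafData) → X.Modules → X → Prop
  | 0, _, _, _ => True
  | r + 1, I, F, x =>
    (∃ (W : X.Opens) (hW : IsAffineOpen W) (hx : x ∈ W) (a : Γ(X, W)),
      (I 0).ideal ⟨W, hW⟩ = Ideal.span {a} ∧
      ∀ m : Γ(F, W), a • m = 0 →
        ∃ g : Γ(X, W), g ∉ (hW.primeIdealOf ⟨x, hx⟩).asIdeal ∧ g • m = 0) ∧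
    HReg r (Fin.tail I) (CohB1.tensorMod F (ClSub.quotMod (I 0))) x

theorem iSup_fin_succ' {α : Type*} [CompleteLattice α] {r : ℕ} (I : Fin (r + 1) → α) :
    (⨆ j, I j) = I 0 ⊔ ⨆ j : Fin r, Fin.tail I j := by
  apply le_antisymm
  · apply iSup_le
    intro j
    refine Fin.cases ?_ (fun i => ?_) j
    · exact le_sup_left
    · exact le_trans (le_iSup (fun i => Fin.tail I i) i) le_sup_right
  · apply sup_le (le_iSup I 0)
    apply iSup_le
    intro j
    exact le_iSup I j.succ

instance isIso_toSubscheme_bot : IsIso (ClSub.toSubscheme (⊥ : X.IdealSheafData)) := by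
  haveI : (Coh.structureModule X).IsQuasicoherent :=
    (Groth.Agent.Lib.helper8.Dev.isCoh_structureModule X).1
  haveI : (ClSub.quotMod (⊥ : X.IdealSheafData)).IsQuasicoherent := (isCoh_quotMod _).1
  refine KerSections.isIso_of_bijective_affine _ (fun W hW => ⟨?_, ?_⟩)
  · rw [injective_iff_map_eq_zero]
    intro a ha
    have h1 : a ∈ (LinearMap.ker (proj (⊥ : X.IdealSheafData) W) :
        Submodule Γ(X, W) Γ(X, W)) := ha
    rw [ker_proj (⊥ : X.IdealSheafData) hW, Scheme.IdealSheafData.ideal_bot] at h1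
    exact h1
  · exact proj_surjective (⊥ : X.IdealSheafData) hW

/-- `O/0 ≅ O` -/
noncomputable def quotBotIso : ClSub.quotMod (⊥ : X.IdealSheafData) ≅ Coh.structureModule X :=
  (asIso (ClSub.toSubscheme (⊥ : X.IdealSheafData))).symm

/-- the local equation of an effective Cartier divisor is a unit away from the divisor -/
theorem exists_local_equation_of_notMem (F : X.Modules) (D : X.IdealSheafData)
    (hD : BlowUp.IsEffCartierIdeal D) (x : X) (hx : x ∉ D.support) :
    ∃ (W : X.Opens) (hW : IsAffineOpen W) (hxW : x ∈ W) (a : Γ(X, W)),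
      D.ideal ⟨W, hW⟩ = Ideal.span {a} ∧
      ∀ m : Γ(F, W), a • m = 0 →
        ∃ g : Γ(X, W), g ∉ (hW.primeIdealOf ⟨x, hxW⟩).asIdeal ∧ g • m = 0 := by
  obtain ⟨V, hxV, t, ht, hI⟩ := hD x
  refine ⟨V.1, V.2, hxV, t, hI, fun m hm => ⟨t, ?_, hm⟩⟩
  intro htp
  apply hx
  rw [Scheme.IdealSheafData.mem_support_iff_of_mem (I := D) (U := V) hxV,
    Scheme.mem_zeroLocus_iff]
  intro f hf
  rw [mem_basicOpen_iff V.2 x hxV, not_not]
  rw [hI] at hf
  obtain ⟨r, rfl⟩ := Ideal.mem_span_singleton'.mp hf
  exact Ideal.mul_mem_left _ r htp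

end Reg

section Main

variable (k : Type u) [Field k] (X : Scheme.{u}) [X.Over (Spec (CommRingCat.of k))]
  [IsProper (X ↘ Spec (CommRingCat.of k))]

theorem intNum_eq_finrank_of_hreg (d : ℕ) (hd : topologicalKrullDim X ≤ d) :
    ∀ (r : ℕ) (I : Fin r → X.IdealSheafData) (_ : ∀ j, BlowUp.IsEffCartierIdeal (I j))
      (F : X.Modules) (_ : Coh.IsCoh F)
      (_ : (((⨆ j, I j).support : Set X) ∩ CohB1.support F).Finite)
      (_ : ∀ x ∈ ((⨆ j, I j).support : Set X) ∩ CohB1.support F, HReg r I F x),
      FGA.intNum k X d (fun j => ClSub.idealMod (I j)) F =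
        (Module.finrank k (Coh.HH X (CohB1.tensorMod F (ClSub.quotMod (⨆ j, I j))) 0) : ℤ)
  | 0, I, _, F, hF, hfin, _ => by
    haveI := Groth.Agent.Lib.Lead.CurveEuler.isNoetherian k X
    have hbot : (⨆ j, I j) = (⊥ : X.IdealSheafData) := iSup_of_empty I
    rw [hbot] at hfin ⊢
    have hsupp : ((⊥ : X.IdealSheafData).support : Set X) = Set.univ := by
      rw [Scheme.IdealSheafData.support_bot]; rfl
    rw [hsupp, Set.univ_inter] at hfin
    have hM0 : (fun j : Fin 0 => ClSub.idealMod (I j)) = fun _ : Fin 0 => Coh.structureModule X :=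
      Subsingleton.elim _ _
    rw [hM0]
    have h5 := D_zero k X d hd (Coh.structureModule X) F
    unfold D at h5
    rw [h5, euler_eq_finrank_H0_of_finite_support k X F hF hfin]
    have e : CohB1.tensorMod F (ClSub.quotMod (⊥ : X.IdealSheafData)) ≅ F :=
      tensorIso (Iso.refl F) quotBotIso ≪≫ rightUnitor F
    rw [(Groth.Agent.Lib.Helper18.HH.isoEquivOver k e 0).finrank_eq]
  | r + 1, I, hI, F, hF, hfin, hreg => by
    haveI := Groth.Agent.Lib.Lead.CurveEuler.isNoetherian k X
    have hQ0 : Coh.IsCoh (ClSub.quotMod (I 0)) := isCoh_quotMod (I 0)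
    have hF' : Coh.IsCoh (CohB1.tensorMod F (ClSub.quotMod (I 0))) :=
      Groth.Agent.Lib.Helper18.DegCalc.isCoh_tensorMod hF hQ0
    have hK : Coh.IsCoh (torK F (I 0)) := isCoh_torK F (I 0) hF
    have hIdeal0 : Coh.IsCoh (ClSub.idealMod (I 0)) := isCoh_idealMod (I 0)
    haveI : F.IsQuasicoherent := hF.1
    haveI : (ClSub.idealMod (I 0)).IsQuasicoherent := hIdeal0.1
    set J : X.IdealSheafData := ⨆ j : Fin r, Fin.tail I j with hJ
    have hsup : (⨆ j, I j) = I 0 ⊔ J := iSup_fin_succ' I
    have hsuppZ : ((⨆ j, I j).support : Set X) = ((I 0).support : Set X) ∩ (J.support : Set X) := by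
      rw [hsup, Scheme.IdealSheafData.support_sup]; rfl
    have hM : ∀ j : Fin r, PicF.IsInvertible (ClSub.idealMod (Fin.tail I j)) := fun j =>
      Groth.Agent.Lib.helper7.IdealCartier.invertible_of_effCartier _ (hI j.succ)
    -- peel off the first divisor
    have hcons : (fun j => ClSub.idealMod (I j)) =
        (Fin.cons (ClSub.idealMod (I 0)) (fun j : Fin r => ClSub.idealMod (Fin.tail I j)) :
          Fin (r + 1) → X.Modules) := by
      funext j
      refine Fin.cases ?_ (fun i => ?_) j
      · rfl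
      · rfl
    rw [hcons, intNum_cons k X d hd,
      intNum_sub_intNum_tensor_idealMod k X d hd _ hM F hF (I 0)]
    -- the `Tor` term vanishes
    have hsuppF' : CohB1.support (CohB1.tensorMod F (ClSub.quotMod (I 0))) =
        CohB1.support F ∩ ((I 0).support : Set X) := by
      haveI : (ClSub.quotMod (I 0)).IsQuasicoherent := hQ0.1
      rw [Groth.Agent.Lib.helper2.TensorSupp.support_tensorMod F _ hF.2 hQ0.2,
        Groth.Agent.Lib.helper7.DivisorDim.support_quotMod_eq]
    have hsuppK : CohB1.support (torK F (I 0)) ⊆ CohB1.support F := by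
      haveI : Mono (kernel.ι (mulHom F (I 0))) := inferInstance
      refine (Groth.Agent.Lib.helper8.Dev.support_subset_of_mono (kernel.ι (mulHom F (I 0))) hK
        (Groth.Agent.Lib.Helper18.DegCalc.isCoh_tensorMod hF hIdeal0)).trans ?_
      exact Groth.Agent.Lib.helper7.SnapperNewton.support_tensorMod_subset hF hIdeal0
    have hKempty : (J.support : Set X) ∩ CohB1.support (torK F (I 0)) = ∅ := by
      rw [Set.eq_empty_iff_forall_notMem]
      rintro x ⟨hxJ, hxK⟩
      by_cases hx0 : x ∈ (I 0).support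
      · have hxS : x ∈ ((⨆ j, I j).support : Set X) ∩ CohB1.support F := by
          rw [hsuppZ]
          exact ⟨⟨hx0, hxJ⟩, hsuppK hxK⟩
        obtain ⟨⟨W, hW, hxW, a, ha, hareg⟩, -⟩ := hreg x hxS
        exact notMem_support_torK F (I 0) hW x hxW a ha hareg hxK
      · obtain ⟨W, hW, hxW, a, ha, hareg⟩ :=
          exists_local_equation_of_notMem F (I 0) (hI 0) x hx0
        exact notMem_support_torK F (I 0) hW x hxW a ha hareg hxK
    have hIHK := intNum_eq_finrank_of_hreg d hd r (Fin.tail I) (fun j => hI j.succ)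
      (torK F (I 0)) hK (by rw [← hJ, hKempty]; exact Set.finite_empty)
      (by
        intro x hx
        rw [← hJ, hKempty] at hx
        exact absurd hx (Set.notMem_empty x))
    have hzero : IsZero (CohB1.tensorMod (torK F (I 0)) (ClSub.quotMod J)) := by
      apply isZero_of_support_eq_empty
      haveI : (torK F (I 0)).IsQuasicoherent := hK.1
      haveI : (ClSub.quotMod J).IsQuasicoherent := (isCoh_quotMod J).1
      rw [Groth.Agent.Lib.helper2.TensorSupp.support_tensorMod _ _ hK.2 (isCoh_quotMod J).2,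
        Groth.Agent.Lib.helper7.DivisorDim.support_quotMod_eq, Set.inter_comm]
      exact hKempty
    have hzero' : Module.finrank k (Coh.HH X (CohB1.tensorMod (torK F (I 0)) (ClSub.quotMod J)) 0)
        = 0 := by
      haveI := Groth.Agent.Lib.helper8.Dev.subsingleton_HH_of_isZero hzero 0
      exact Module.finrank_zero_of_subsingleton
    rw [hIHK, hzero', Nat.cast_zero, sub_zero]
    -- induction hypothesis for `F ⊗ O/I_0`
    have hS' : ((J.support : Set X) ∩ CohB1.support (CohB1.tensorMod F (ClSub.quotMod (I 0)))) =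
        ((⨆ j, I j).support : Set X) ∩ CohB1.support F := by
      rw [hsuppF', hsuppZ]
      ext x
      simp only [Set.mem_inter_iff]
      tauto
    have hIH := intNum_eq_finrank_of_hreg d hd r (Fin.tail I) (fun j => hI j.succ)
      (CohB1.tensorMod F (ClSub.quotMod (I 0))) hF' (by rw [← hJ, hS']; exact hfin)
      (by
        intro x hx
        rw [← hJ, hS'] at hx
        exact (hreg x hx).2)
    rw [hIH, ← hJ]
    have e : CohB1.tensorMod (CohB1.tensorMod F (ClSub.quotMod (I 0))) (ClSub.quotMod J) ≅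
        CohB1.tensorMod F (ClSub.quotMod (⨆ j, I j)) := by
      rw [hsup]
      exact assoc _ _ _ ≪≫ tensorIso (Iso.refl F) (quotTensorIso (I 0) J)
    rw [(Groth.Agent.Lib.Helper18.HH.isoEquivOver k e 0).finrank_eq]

end Main

end Groth.Agent.Lib.helper7.RegInt
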