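import Groth.Agent.Lib.Helper7.IdealMod
import Groth.Agent.Lib.Helper7.QCohProd

/-!
# Two ideals with zero intersection (helper7)

* `biprod_sections_ext`: sections of a biproduct of `O_X`-modules are determined by projections.
* `shortExact_pair`: for `I₁ ⊓ I₂ = ⊥`, `0 → O_X → O/I₁ ⊕ O/I₂ → O/(I₁+I₂) → 0` is exact.
-/

set_option autoImplicit false
set_option linter.style.haveILetI false
universe u
open CategoryTheory CategoryTheory.Limits AlgebraicGeometry TopologicalSpace Opposite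
open Scheme.Modules Groth.Agent.Lib.helper7

namespace Groth.Agent.Lib.helper7.IdealPair

variable {X : Scheme.{u}}

/-- sections of a biproduct are determined by their two projections -/
theorem biprod_sections_ext (A B : X.Modules) (U : X.Opens) (y y' : Γ(A ⊞ B, U))
    (h1 : ((biprod.fst : A ⊞ B ⟶ A).app U).hom y = ((biprod.fst : A ⊞ B ⟶ A).app U).hom y')
    (h2 : ((biprod.snd : A ⊞ B ⟶ B).app U).hom y = ((biprod.snd : A ⊞ B ⟶ B).app U).hom y') :
    y = y' := by
  have key : ∀ z : Γ(A ⊞ B, U), z =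
      ((biprod.inl : A ⟶ A ⊞ B).app U).hom (((biprod.fst : A ⊞ B ⟶ A).app U).hom z) +
      ((biprod.inr : B ⟶ A ⊞ B).app U).hom (((biprod.snd : A ⊞ B ⟶ B).app U).hom z) := by
    intro z
    have := congrArg (fun φ : A ⊞ B ⟶ A ⊞ B => (Scheme.Modules.Hom.app φ U).hom z)
      (biprod.total (X := A) (Y := B))
    simp only [Scheme.Modules.Hom.add_app, Scheme.Modules.Hom.comp_app,
      Scheme.Modules.Hom.id_app] at this
    exact this.symm
  rw [key y, key y', h1, h2]

theorem shortExact_pair (I₁ I₂ : X.IdealSheafData)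
    (h : I₁ ⊓ I₂ = ⊥)
    (q₁ : ClSub.quotMod I₁ ⟶ ClSub.quotMod (I₁ ⊔ I₂)) (q₂ : ClSub.quotMod I₂ ⟶ ClSub.quotMod (I₁ ⊔ I₂))
    (hq₁ : ClSub.toSubscheme I₁ ≫ q₁ = ClSub.toSubscheme (I₁ ⊔ I₂))
    (hq₂ : ClSub.toSubscheme I₂ ≫ q₂ = ClSub.toSubscheme (I₁ ⊔ I₂)) :
    Epi (biprod.desc q₁ (-q₂)) ∧
      ∃ w : biprod.lift (ClSub.toSubscheme I₁) (ClSub.toSubscheme I₂) ≫ biprod.desc q₁ (-q₂) = 0,
        Nonempty (IsLimit (KernelFork.ofι (biprod.lift (ClSub.toSubscheme I₁) (ClSub.toSubscheme I₂)) w)) := by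
  have hepi : Epi (ClSub.toSubscheme (I₁ ⊔ I₂)) := IdealMod.epi_toSubscheme _
  have hq₁e : Epi q₁ := by
    have : Epi (ClSub.toSubscheme I₁ ≫ q₁) := hq₁ ▸ hepi
    exact epi_of_epi (ClSub.toSubscheme I₁) q₁
  have hd : biprod.inl ≫ biprod.desc q₁ (-q₂) = q₁ := biprod.inl_desc _ _
  have hdesc : Epi (biprod.desc q₁ (-q₂)) := by
    have : Epi (biprod.inl ≫ biprod.desc q₁ (-q₂)) := hd.symm ▸ hq₁e
    exact epi_of_epi biprod.inl _
  have w : biprod.lift (ClSub.toSubscheme I₁) (ClSub.toSubscheme I₂) ≫ biprod.desc q₁ (-q₂) = 0 := by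
    rw [biprod.lift_desc, Preadditive.comp_neg, hq₁, hq₂, add_neg_cancel]
  refine ⟨hdesc, w, ?_⟩
  set φ := biprod.lift (ClSub.toSubscheme I₁) (ClSub.toSubscheme I₂) with hφ
  set ψ := biprod.desc q₁ (-q₂) with hψ
  haveI hB : (ClSub.quotMod I₁ ⊞ ClSub.quotMod I₂).IsQuasicoherent :=
    QCohProd.isQuasicoherent_biprod _ _ (IdealMod.quotMod_qcoh I₁) (IdealMod.quotMod_qcoh I₂)
  haveI hQ : (ClSub.quotMod (I₁ ⊔ I₂)).IsQuasicoherent := IdealMod.quotMod_qcoh _
  haveI hK : (kernel ψ).IsQuasicoherent := CohKer.isQuasicoherent_kernel ψ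
  haveI hO : (Coh.structureModule X).IsQuasicoherent := IdealMod.structureModule_qcoh
  let k : Coh.structureModule X ⟶ kernel ψ := kernel.lift ψ φ w
  have hk : k ≫ kernel.ι ψ = φ := kernel.lift_ι _ _ _
  have hφ1 : φ ≫ biprod.fst = ClSub.toSubscheme I₁ := biprod.lift_fst _ _
  have hφ2 : φ ≫ biprod.snd = ClSub.toSubscheme I₂ := biprod.lift_snd _ _
  have hψ' : ψ = biprod.fst ≫ q₁ - biprod.snd ≫ q₂ := by
    rw [hψ, biprod.desc_eq, Preadditive.comp_neg, sub_eq_add_neg]
  have hiso : IsIso k := by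
    refine KerSections.isIso_of_bijective_affine k (fun U hU => ⟨?_, ?_⟩)
    · rw [injective_iff_map_eq_zero]
      intro s hs
      have h0 : (φ.app U).hom s = 0 := by
        have := congrArg ((kernel.ι ψ).app U).hom hs
        rw [map_zero] at this
        rw [← hk]
        exact this
      have h1 : ((ClSub.toSubscheme I₁).app U).hom s = 0 := by
        rw [← hφ1]
        change ((biprod.fst : ClSub.quotMod I₁ ⊞ ClSub.quotMod I₂ ⟶ _).app U).hom ((φ.app U).hom s) = 0
        rw [h0, map_zero]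
      have h2 : ((ClSub.toSubscheme I₂).app U).hom s = 0 := by
        rw [← hφ2]
        change ((biprod.snd : ClSub.quotMod I₁ ⊞ ClSub.quotMod I₂ ⟶ _).app U).hom ((φ.app U).hom s) = 0
        rw [h0, map_zero]
      have m1 : (show Γ(X, U) from s) ∈ I₁.ideal ⟨U, hU⟩ := by
        rw [← I₁.ker_subschemeι_app ⟨U, hU⟩]; exact RingHom.mem_ker.mpr h1
      have m2 : (show Γ(X, U) from s) ∈ I₂.ideal ⟨U, hU⟩ := by
        rw [← I₂.ker_subschemeι_app ⟨U, hU⟩]; exact RingHom.mem_ker.mpr h2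
      have m3 : (show Γ(X, U) from s) ∈ (I₁ ⊓ I₂).ideal ⟨U, hU⟩ := ⟨m1, m2⟩
      rw [h] at m3
      exact m3
    · intro z
      let AU : X.affineOpens := ⟨U, hU⟩
      let y := ((kernel.ι ψ).app U).hom z
      have hy : (ψ.app U).hom y = 0 := by
        have := congrArg (fun f : kernel ψ ⟶ ClSub.quotMod (I₁ ⊔ I₂) =>
          (Scheme.Modules.Hom.app f U).hom z) (kernel.condition ψ)
        exact this
      let a := ((biprod.fst : ClSub.quotMod I₁ ⊞ ClSub.quotMod I₂ ⟶ _).app U).hom y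
      let b := ((biprod.snd : ClSub.quotMod I₁ ⊞ ClSub.quotMod I₂ ⟶ _).app U).hom y
      have hab : (q₁.app U).hom a = (q₂.app U).hom b := by
        have := hy
        rw [hψ'] at this
        simp only [Scheme.Modules.Hom.sub_app, Scheme.Modules.Hom.comp_app] at this
        exact sub_eq_zero.mp this
      obtain ⟨s, hs⟩ := I₁.subschemeι_app_surjective AU a
      obtain ⟨t, ht⟩ := I₂.subschemeι_app_surjective AU b
      have hs' : ((ClSub.toSubscheme I₁).app U).hom s = a := hs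
      have ht' : ((ClSub.toSubscheme I₂).app U).hom t = b := ht
      have hps : ((ClSub.toSubscheme (I₁ ⊔ I₂)).app U).hom s = (q₁.app U).hom a := by
        rw [← hq₁, ← hs']; rfl
      have hpt : ((ClSub.toSubscheme (I₁ ⊔ I₂)).app U).hom t = (q₂.app U).hom b := by
        rw [← hq₂, ← ht']; rfl
      have hst : ((I₁ ⊔ I₂).subschemeι.app U).hom (s - t) = 0 := by
        rw [map_sub]
        have e1 : ((I₁ ⊔ I₂).subschemeι.app U).hom s = (q₁.app U).hom a := hps
        have e2 : ((I₁ ⊔ I₂).subschemeι.app U).hom t = (q₂.app U).hom b := hpt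
        rw [e1, e2, hab, sub_self]
      have hmem : s - t ∈ (I₁ ⊔ I₂).ideal AU := by
        rw [← (I₁ ⊔ I₂).ker_subschemeι_app AU]; exact RingHom.mem_ker.mpr hst
      have hmem' : s - t ∈ I₁.ideal AU ⊔ I₂.ideal AU := hmem
      obtain ⟨i₁, hi₁, i₂, hi₂, hsum⟩ := Submodule.mem_sup.mp hmem'
      have hi₁0 : (I₁.subschemeι.app U).hom i₁ = 0 := by
        have := hi₁; rw [← I₁.ker_subschemeι_app AU] at this; exact RingHom.mem_ker.mp this
      have hi₂0 : (I₂.subschemeι.app U).hom i₂ = 0 := by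
        have := hi₂; rw [← I₂.ker_subschemeι_app AU] at this; exact RingHom.mem_ker.mp this
      let r : Γ(X, U) := s - i₁
      have hr2 : r = t + i₂ := by
        change s - i₁ = t + i₂
        have : s = t + (i₁ + i₂) := by rw [hsum]; ring
        rw [this]; ring
      have hr_a : ((ClSub.toSubscheme I₁).app U).hom r = a := by
        change (I₁.subschemeι.app U).hom (s - i₁) = a
        rw [map_sub, hi₁0, sub_zero]; exact hs
      have hr_b : ((ClSub.toSubscheme I₂).app U).hom r = b := by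
        change (I₂.subschemeι.app U).hom r = b
        rw [hr2, map_add, hi₂0, add_zero]; exact ht
      have hφr : (φ.app U).hom r = y := by
        apply biprod_sections_ext
        · change (((φ ≫ biprod.fst).app U).hom r) = a
          rw [hφ1]; exact hr_a
        · change (((φ ≫ biprod.snd).app U).hom r) = b
          rw [hφ2]; exact hr_b
      refine ⟨r, ?_⟩
      apply KerSections.kernel_ι_app_injective ψ U
      change ((k ≫ kernel.ι ψ).app U).hom r = y
      rw [hk]; exact hφr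
  exact ⟨IsLimit.ofIsoLimit (kernelIsKernel ψ) (Fork.ext (asIso k).symm (by
    change inv k ≫ φ = kernel.ι ψ
    rw [IsIso.inv_comp_eq, hk]))⟩

end Groth.Agent.Lib.helper7.IdealPair
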