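import Mathlib
import Groth.Agent.Lib.Helper16.FLF9
import Groth.Agent.Lib.Helper28.QCohSupport

/-!
# Generic freeness of coherent modules on an integral scheme (helper7)

* `exists_open_free`: a coherent module `F` on an integral locally Noetherian scheme whose stalk at the generic
  point has dimension `r` over the function field is free of rank `r` on a nonempty open subset.
-/

set_option autoImplicit false
set_option linter.unusedSectionVars false
set_option linter.style.haveILetI false
universe u

open CategoryTheory CategoryTheory.Limits AlgebraicGeometry Opposite TopologicalSpace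

namespace Groth.Agent.Lib.helper7.GenFree

open Scheme.Modules Groth.Agent.Lib.helper16.QCohPullback Groth.Agent.Lib.helper16.CohFinite
  Groth.Agent.Lib.helper16.CohFP Groth.Agent.Lib.helper16.CohStalk Groth.Agent.Lib.helper7
  Groth.Agent.Lib.helper16.QCohAss Groth.Agent.Lib.helper16.FLF

variable {X : Scheme.{u}}

theorem exists_open_free [IsIntegral X] [IsLocallyNoetherian X] {F : X.Modules} (hF : Coh.IsCoh F)
    (r : ℕ)
    (hr : Module.finrank (X.presheaf.stalk (genericPoint X)) (F.presheaf.stalk (genericPoint X)) = r) :
    ∃ U : X.Opens, genericPoint X ∈ U ∧ Nonempty (F.restrict U.ι ≅ FlatMod.freeMod (↑U) r) := by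
  haveI : F.IsQuasicoherent := hF.1
  set η := genericPoint X with hη
  obtain ⟨V, hV, hηV, -⟩ := Opens.isBasis_iff_nbhd.mp X.isBasis_affineOpens
    (Opens.mem_top η)
  haveI : IsNoetherianRing Γ(X, V) := IsLocallyNoetherian.component_noetherian ⟨V, hV⟩
  haveI : Module.Finite Γ(X, V) Γ(F, V) := finite_sections_of_isCoh F hF hV
  haveI : Module.FinitePresentation Γ(X, V) Γ(F, V) := Module.finitePresentation_of_finite _ _
  letI := TopCat.Presheaf.algebra_section_stalk X.presheaf (⟨η, hηV⟩ : V)
  letI := modStalk F η hηV
  haveI := isScalarTower_stalk F η hηV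
  haveI : IsLocalization.AtPrime (X.presheaf.stalk η) (hV.primeIdealOf ⟨η, hηV⟩).asIdeal :=
    hV.isLocalization_stalk ⟨η, hηV⟩
  haveI := isLocalizedModule_stalk F hV η hηV
  letI : Field (X.presheaf.stalk η) := inferInstanceAs (Field X.functionField)
  haveI : Module.Free (X.presheaf.stalk η) (F.presheaf.stalk η) := Module.Free.of_divisionRing _ _
  obtain ⟨s, hs, hfree, hrank⟩ := Module.FinitePresentation.exists_free_localizedModule_powers
    (hV.primeIdealOf ⟨η, hηV⟩).asIdeal.primeCompl (germLin F η hηV) (X.presheaf.stalk η)
  haveI := hfree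
  haveI : Module.Finite (Localization (Submonoid.powers s))
      (LocalizedModule (Submonoid.powers s) Γ(F, V)) :=
    Module.Finite.of_isLocalizedModule (Submonoid.powers s)
      (LocalizedModule.mkLinearMap (Submonoid.powers s) Γ(F, V))
  have hηs : η ∈ X.basicOpen s := by
    rw [Groth.Agent.Lib.helper28.mem_basicOpen_iff hV η hηV s]
    exact hs
  haveI : Nontrivial (Localization (Submonoid.powers s)) := by
    rw [← not_subsingleton_iff_nontrivial,
      IsLocalization.subsingleton_iff (M := Submonoid.powers s)]
    rintro ⟨k, hk⟩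
    have hk' : s ^ k = 0 := hk
    exact hs ((hV.primeIdealOf ⟨η, hηV⟩).2.mem_of_pow_mem k (hk' ▸ Ideal.zero_mem _))
  have b : Module.Basis (Fin r) (Localization (Submonoid.powers s))
      (LocalizedModule (Submonoid.powers s) Γ(F, V)) :=
    Module.finBasisOfFinrankEq _ _ (hrank.trans hr)
  refine ⟨X.basicOpen s, hηs, ?_⟩
  have h : X.basicOpen s ≤ V := X.basicOpen_le s
  letI := algOfLE (X := X) h
  letI := modOfLE F h
  haveI := isScalarTower_ofLE F h
  haveI : IsLocalization.Away s Γ(X, X.basicOpen s) := hV.isLocalization_basicOpen s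
  haveI := isLocalizedModule_of_eq_basicOpen F hV s h rfl
  obtain ⟨e⟩ := nonempty_equivFun_of_basis_localizedModule (Submonoid.powers s)
    Γ(X, X.basicOpen s) (resLin F h) b
  exact restrict_iso_freeMod_of_sections F (hV.basicOpen s) r e

end Groth.Agent.Lib.helper7.GenFree
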