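import Mathlib
import Groth.Agent.Lib.Helper7.Growth5
import Groth.Agent.Lib.Helper7.GenFree
import Groth.Agent.Lib.Helper9.CurveDegAdd
import Groth.Agent.Lib.Helper18.HHLoc1
import Groth.Agent.Lib.Helper18.Punctual
import Groth.Agent.Lib.Lead.HilbPos12

/-!
# Asymptotic cohomological functions of coherent modules: `ĥ^i(F, L) = rank(F) · ĥ^i(L)` (helper7)

* `support_kernel_subset`, `dim_support_kernel_lt`, `mono_restrict`, `le_isoLocus_of_comp_mono`
* `exists_comparison`: for `F` coherent, free of rank `r` on an open `U`, a zigzag `F ⟶ N ⟵ O^r` through a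
  coherent `N`, both maps isomorphisms on `U`
* `hhatF_eq_of_map`: a morphism of coherent modules on an integral proper `X` which is an isomorphism on a
  nonempty open does not change `ĥ^i(-, L)`
* `limsup_const_mul_real`, `hh_freeMod`, `hhatF_freeMod`
* `hhatF_eq_rank_mul`: `ĥ^i(F, L) = r · ĥ^i(L)` for `F` of generic rank `r` (S17627)
-/

set_option autoImplicit false
set_option linter.unusedSectionVars false
set_option linter.style.haveILetI false
universe u

open CategoryTheory CategoryTheory.Limits AlgebraicGeometry Opposite TopologicalSpace Module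

namespace Groth.Agent.Lib.helper7.Growth

open Groth.Agent.Lib.Lead.ModTensor Groth.Agent.Lib.Helper18 Groth.Agent.Lib.helper11.IsoLocus
open Scheme.Modules Groth.Agent.Lib.helper7.SnapperMain Groth.Agent.Lib.helper7

section Ker

variable {Z : Scheme.{u}}

theorem subsingleton_kernel_sections {A B : Z.Modules} (f : A ⟶ B) {V : Z.Opens}
    (hV : V ≤ isoLocus f) : Subsingleton Γ(kernel f, V) := by
  refine ⟨fun s t => ?_⟩
  apply KerSections.kernel_ι_app_injective f V
  haveI : IsIso (f.app V) := isIso_app_of_le_isoLocus f hV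
  have hinj : Function.Injective (f.app V) := by
    have : Mono (f.app V) := inferInstance
    exact (AddCommGrpCat.mono_iff_injective _).mp this
  apply hinj
  have h0 : kernel.ι f ≫ f = 0 := kernel.condition f
  have e1 : ∀ x : Γ(kernel f, V), (f.app V) (((kernel.ι f).app V) x) = 0 := fun x =>
    congrArg (fun ψ : kernel f ⟶ B => (ψ.app V).hom x) h0
  rw [e1 s, e1 t]

theorem support_kernel_subset {A B : Z.Modules} (φ : A ⟶ B) :
    CohB1.support (kernel φ) ⊆ ((isoLocus φ : Z.Opens) : Set Z)ᶜ := by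
  intro x hx hxW
  apply hx
  have key : ∀ a : ((kernel φ).presheaf.stalk x), a = 0 := by
    intro a
    obtain ⟨U, hxU, s, rfl⟩ := TopCat.Presheaf.exists_germ_eq _ a
    haveI := subsingleton_kernel_sections φ (inf_le_right : U ⊓ isoLocus φ ≤ isoLocus φ)
    have h0 : (kernel φ).presheaf.map (homOfLE (inf_le_left : U ⊓ isoLocus φ ≤ U)).op s = 0 :=
      Subsingleton.elim _ _
    rw [← TopCat.Presheaf.germ_res_apply _ (homOfLE (inf_le_left : U ⊓ isoLocus φ ≤ U)) x
      ⟨hxU, hxW⟩ s, h0, map_zero]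
  exact ⟨fun a b => (key a).trans (key b).symm⟩

/-- restriction to an open preserves monomorphisms -/
theorem mono_restrict {A B : Z.Modules} (f : A ⟶ B) [Mono f] (W : Z.Opens) :
    Mono ((restrictFunctor W.ι).map f) := by
  haveI := Groth.Agent.Lib.Helper18.HHLoc.preservesLimits_restrictFunctor W.ι
  haveI : PreservesFiniteLimits (Scheme.Modules.restrictFunctor W.ι) :=
    (PreservesLimitsOfSize.preservesFiniteLimits.{u, u} (Scheme.Modules.restrictFunctor W.ι) :)
  infer_instance

/-- if `g ≫ ι` is an isomorphism on `W` and `ι` is a monomorphism, then `g` and `ι` are isomorphisms on `W` -/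
theorem le_isoLocus_of_comp_mono {A B C : Z.Modules} (g : A ⟶ B) (ι : B ⟶ C) [Mono ι] (W : Z.Opens)
    (hW : W ≤ isoLocus (g ≫ ι)) : W ≤ isoLocus g ∧ W ≤ isoLocus ι := by
  rw [le_isoLocus_iff] at hW
  rw [Functor.map_comp] at hW
  haveI := mono_restrict ι W
  set R := restrictFunctor W.ι
  haveI : IsSplitEpi (R.map ι) := ⟨⟨inv (R.map g ≫ R.map ι) ≫ R.map g, by
    rw [Category.assoc, IsIso.inv_hom_id]⟩⟩
  haveI hι : IsIso (R.map ι) := isIso_of_mono_of_isSplitEpi _
  have hg : IsIso (R.map g) := by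
    have : R.map g = (R.map g ≫ R.map ι) ≫ inv (R.map ι) := by
      rw [Category.assoc, IsIso.hom_inv_id, Category.comp_id]
    rw [this]
    infer_instance
  exact ⟨(le_isoLocus_iff _ _).mpr hg, (le_isoLocus_iff _ _).mpr hι⟩

variable [IsIntegral Z]

theorem dim_support_kernel_lt {e : ℕ}
    (hdim : topologicalKrullDim Z < ((e + 1 : ℕ) : WithBot ℕ∞)) {A B : Z.Modules} (φ : A ⟶ B)
    (W : Z.Opens) (hW : W ≤ isoLocus φ) (hWne : (W : Set Z).Nonempty) :
    topologicalKrullDim ↥(CohB1.support (kernel φ)) < ((e : ℕ) : WithBot ℕ∞) := by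
  have hC : IsClosed (((W : Z.Opens) : Set Z)ᶜ) := W.isOpen.isClosed_compl
  have hCne : ((W : Z.Opens) : Set Z)ᶜ ≠ Set.univ := by
    intro h
    obtain ⟨x, hx⟩ := hWne
    have : x ∈ ((W : Z.Opens) : Set Z)ᶜ := by rw [h]; trivial
    exact this hx
  have hdimC : topologicalKrullDim ↥(((W : Z.Opens) : Set Z)ᶜ) < ((e : ℕ) : WithBot ℕ∞) := by
    have h1 := Groth.Agent.Lib.helper8.DimLt.topologicalKrullDim_add_one_le
      (Set.subset_univ _) hC (IrreducibleSpace.isIrreducible_univ Z) hCne
    have h2 : topologicalKrullDim ↥(Set.univ : Set Z) = topologicalKrullDim Z :=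
      (Homeomorph.Set.univ Z).isHomeomorph.topologicalKrullDim_eq
    rw [h2] at h1
    exact dim_lt_of_add_one_le h1 hdim
  refine lt_of_le_of_lt (Groth.Agent.Lib.helper8.DimLt.topologicalKrullDim_le_of_subset ?_) hdimC
  intro x hx hxW
  exact support_kernel_subset φ hx (hW hxW)

end Ker

section Compare

variable {X : Scheme.{u}} [IsNoetherian X]

open Groth.Agent.Lib.helper12.PullTensor in
/-- the zigzag `F ⟶ N ⟵ O^r` through a coherent `N`, both maps isomorphisms on `U`, for `F` free of rank `r`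
on `U` -/
theorem exists_comparison {F : X.Modules} (hF : Coh.IsCoh F) (U : X.Opens) (r : ℕ)
    (e : F.restrict U.ι ≅ FlatMod.freeMod (↑U) r) :
    ∃ (N : X.Modules) (a : F ⟶ N) (b : FlatMod.freeMod X r ⟶ N),
      Coh.IsCoh N ∧ U ≤ isoLocus a ∧ U ≤ isoLocus b := by
  haveI : F.IsQuasicoherent := hF.1
  have hO : Coh.IsCoh (FlatMod.freeMod X r) :=
    Groth.Agent.Lib.Lead.RankAdd.isCoh_of_isFinLocFreeOfRank
      (Groth.Agent.Lib.helper16.FLF.isFinLocFreeOfRank_freeMod X r)
  haveI : (FlatMod.freeMod X r).IsQuasicoherent := hO.1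
  let Nt : X.Modules := (Scheme.Modules.pushforward U.ι).obj ((restrictFunctor U.ι).obj F)
  let a₀ : F ⟶ Nt := (restrictAdjunction U.ι).unit.app F
  let c₀ : (restrictFunctor U.ι).obj (FlatMod.freeMod X r) ≅ FlatMod.freeMod (↑U) r :=
    (restrictFunctor U.ι).mapIso (Groth.Agent.Lib.helper16.FLF.freeModIso X r) ≪≫
      Groth.Agent.Lib.helper16.FLF.restrictFreeIso U.ι _ ≪≫
      (Groth.Agent.Lib.helper16.FLF.freeModIso (↑U) r).symm
  let c : (restrictFunctor U.ι).obj (FlatMod.freeMod X r) ⟶ (restrictFunctor U.ι).obj F :=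
    c₀.hom ≫ e.inv
  let b₀ : FlatMod.freeMod X r ⟶ Nt :=
    (restrictAdjunction U.ι).unit.app (FlatMod.freeMod X r) ≫
      (Scheme.Modules.pushforward U.ι).map c
  have ha : U ≤ isoLocus a₀ := le_isoLocus_restrictAdjunction_unit F U
  have hb : U ≤ isoLocus b₀ := by
    rw [le_isoLocus_iff]
    have h1 : IsIso ((restrictFunctor U.ι).map
        ((restrictAdjunction U.ι).unit.app (FlatMod.freeMod X r))) :=
      (le_isoLocus_iff _ _).mp (le_isoLocus_restrictAdjunction_unit (FlatMod.freeMod X r) U)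
    change IsIso ((restrictFunctor U.ι).map (_ ≫ _))
    rw [Functor.map_comp]
    infer_instance
  -- the sum map
  let f : F ⊞ FlatMod.freeMod X r ⟶ Nt := biprod.desc a₀ b₀
  have hsplit := (ShortComplex.Splitting.ofHasBinaryBiproduct F (FlatMod.freeMod X r)).shortExact
  have hBc : Coh.IsCoh (F ⊞ FlatMod.freeMod X r) :=
    Groth.Agent.Lib.Lead.HilbPos.isCoh_of_extension _ hsplit hF hO
  haveI : (F ⊞ FlatMod.freeMod X r).IsQuasicoherent := hBc.1
  haveI : Nt.IsQuasicoherent :=
    Groth.Agent.Lib.helper7.QCohPushQC.isQuasicoherent_pushforward U.ι _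
  have hKq : (kernel f).IsQuasicoherent := CohKer.isQuasicoherent_kernel f
  have hKc : Coh.IsCoh (kernel f) :=
    Groth.Agent.S0046.result X _ (kernel f) (kernel.ι f) hBc hKq
  have hNc : Coh.IsCoh (Abelian.coimage f) := CohKer.isCoh_cokernel hKc hBc (kernel.ι f)
  have hfac : Abelian.coimage.π f ≫ Abelian.factorThruCoimage f = f := Abelian.coimage.fac f
  refine ⟨Abelian.coimage f, biprod.inl ≫ Abelian.coimage.π f, biprod.inr ≫ Abelian.coimage.π f,
    hNc, ?_, ?_⟩
  · refine (le_isoLocus_of_comp_mono _ (Abelian.factorThruCoimage f) U ?_).1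
    rw [Category.assoc, hfac, biprod.inl_desc]
    exact ha
  · refine (le_isoLocus_of_comp_mono _ (Abelian.factorThruCoimage f) U ?_).1
    rw [Category.assoc, hfac, biprod.inr_desc]
    exact hb

end Compare

section Map

variable (k : Type u) [Field k] (X : Scheme.{u}) [X.Over (Spec (CommRingCat.of k))]
  [IsProper (X ↘ Spec (CommRingCat.of k))] [IsIntegral X]

/-- a morphism of coherent modules which is an isomorphism on a nonempty open does not change `ĥ^i` -/
theorem hhatF_eq_of_map (n : ℕ) (hn : topologicalKrullDim X ≤ (n : WithBot ℕ∞)) {A B : X.Modules}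
    (hA : Coh.IsCoh A) (hB : Coh.IsCoh B) (f : A ⟶ B) (W : X.Opens) (hW : W ≤ isoLocus f)
    (hWne : (W : Set X).Nonempty) {L : X.Modules} (hL : PicF.IsInvertible L) (i : ℕ) :
    W4c5asymptcohfn.hhatF k X n i A L = W4c5asymptcohfn.hhatF k X n i B L := by
  haveI := Groth.Agent.Lib.Lead.CurveEuler.isNoetherian k X
  have hdim : topologicalKrullDim X < ((n + 1 : ℕ) : WithBot ℕ∞) :=
    lt_of_le_of_lt hn (by exact_mod_cast Nat.lt_succ_self n)
  have hK : Coh.IsCoh (kernel f) := CohKer.isCoh_kernel hA hB f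
  have hI : Coh.IsCoh (Abelian.coimage f) := CohKer.isCoh_cokernel hK hA (kernel.ι f)
  have hS1 := Groth.Agent.Lib.helper8.Dev.shortExact_cokernel (kernel.ι f)
  have hfac : Abelian.coimage.π f ≫ Abelian.factorThruCoimage f = f := Abelian.coimage.fac f
  obtain ⟨-, hWι⟩ := le_isoLocus_of_comp_mono (Abelian.coimage.π f) (Abelian.factorThruCoimage f) W
    (by rw [hfac]; exact hW)
  have hS2 := Groth.Agent.Lib.helper8.Dev.shortExact_cokernel (Abelian.factorThruCoimage f)
  have hQ : Coh.IsCoh (cokernel (Abelian.factorThruCoimage f)) := CohKer.isCoh_cokernel hI hB _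
  have e1 := hhatF_mid_eq_right k X _ hS1 hK hA hI hL n hn
    (dim_support_kernel_lt hdim f W hW hWne) i
  have e2 := hhatF_left_eq_mid k X _ hS2 hI hB hQ hL n hn
    (dim_support_cokernel_lt hdim _ W hWι hWne) i
  exact e1.trans e2

end Map

section Real

open Filter Topology

theorem limsup_const_mul_real {u : ℕ → ℝ} (hu0 : ∀ m, 0 ≤ u m)
    (hub : ∃ B, ∀ᶠ m in atTop, u m ≤ B) (c : ℝ) (hc : 0 ≤ c) :
    limsup (fun m => c * u m) atTop = c * limsup u atTop := by
  rcases hc.eq_or_lt with rfl | hc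
  · simp
  · obtain ⟨B, hB⟩ := hub
    have hubd : IsBoundedUnder (· ≤ ·) atTop u := ⟨B, by simpa using hB⟩
    have huco : IsCoboundedUnder (· ≤ ·) atTop u :=
      (isBoundedUnder_of ⟨0, fun m => hu0 m⟩ : IsBoundedUnder (· ≥ ·) atTop u).isCoboundedUnder_flip
    have hgbd : IsBoundedUnder (· ≤ ·) atTop (fun m => c * u m) := by
      refine ⟨c * B, ?_⟩
      simp only [eventually_map]
      filter_upwards [hB] with m hm
      exact mul_le_mul_of_nonneg_left hm hc.le
    have hgco : IsCoboundedUnder (· ≤ ·) atTop (fun m => c * u m) :=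
      (isBoundedUnder_of ⟨0, fun m => mul_nonneg hc.le (hu0 m)⟩ :
        IsBoundedUnder (· ≥ ·) atTop (fun m => c * u m)).isCoboundedUnder_flip
    exact ((OrderIso.mulLeft₀ c hc).limsup_apply hubd huco hgbd hgco).symm

end Real

section Free

variable (k : Type u) [Field k] (X : Scheme.{u}) [X.Over (Spec (CommRingCat.of k))]
  [IsProper (X ↘ Spec (CommRingCat.of k))]

theorem hh_freeMod (r : ℕ) {L : X.Modules} (hL : PicF.IsInvertible L) (i m : ℕ) :
    hh k X (FlatMod.freeMod X r) L i m =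
      r * Module.finrank k (Coh.HH X (CohB1.tensorPow L m) i) := by
  have hc : Coh.IsCoh (CohB1.tensorPow L m) :=
    Groth.Agent.Lib.Lead.CurveInv.isCoh_of_isInvertible X
      (Groth.Agent.Lib.helper12.TensorInv.isInvertible_tensorPow hL m)
  haveI : Module.Finite k (Coh.HH X (CohB1.tensorPow L m) i) :=
    Groth.Agent.Lib.Lead.ProperEuler.finite_HH k X _ hc i
  unfold hh
  rw [(HH.isoEquivOver k (Groth.Agent.Lib.Helper18.Punctual.freeTensorIso
    (CohB1.tensorPow L m) r) i).finrank_eq,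
    (HH.sigmaEquivOver k (fun _ : Fin r => CohB1.tensorPow L m) i).finrank_eq,
    Module.finrank_pi_fintype]
  simp

open Filter in
theorem hhatF_freeMod (n : ℕ) (hn : topologicalKrullDim X ≤ (n : WithBot ℕ∞)) (r : ℕ)
    {L : X.Modules} (hL : PicF.IsInvertible L) (i : ℕ) :
    W4c5asymptcohfn.hhatF k X n i (FlatMod.freeMod X r) L =
      (r : ℝ) * W4c5asymptcohfn.hhat k X n i L := by
  unfold W4c5asymptcohfn.hhatF W4c5asymptcohfn.hhat
  have hO := Groth.Agent.Lib.helper8.Dev.isCoh_structureModule X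
  have hseq : ∀ m, W4c5asymptcohfn.cohSeq k X n i (Coh.structureModule X) L m =
      (Module.finrank k (Coh.HH X (CohB1.tensorPow L m) i) : ℝ) * (n.factorial : ℝ) / (m : ℝ) ^ n := by
    intro m
    rw [cohSeq_eq]
    have : hh k X (Coh.structureModule X) L i m =
        Module.finrank k (Coh.HH X (CohB1.tensorPow L m) i) :=
      (HH.isoEquivOver k (leftUnitor (CohB1.tensorPow L m)) i).finrank_eq
    rw [this]
  have hbd := cohSeq_bdd k X n hn i hO hL
  simp only [hseq] at hbd
  rw [← limsup_const_mul_real (fun m => by positivity) hbd (r : ℝ) (Nat.cast_nonneg r)]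
  congr 1
  funext m
  rw [cohSeq_eq, hh_freeMod k X r hL i m]
  push_cast
  ring

end Free

section Rank

variable (k : Type u) [Field k] (X : Scheme.{u}) [X.Over (Spec (CommRingCat.of k))]
  [IsProper (X ↘ Spec (CommRingCat.of k))] [IsIntegral X]

/-- **`ĥ^i(F, L) = rank(F) · ĥ^i(L)`** for a coherent module `F` of generic rank `r` on an integral proper
`k`-scheme of dimension `≤ n` -/
theorem hhatF_eq_rank_mul (n : ℕ) (hn : topologicalKrullDim X ≤ (n : WithBot ℕ∞)) {F : X.Modules}
    (hF : Coh.IsCoh F) (r : ℕ)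
    (hr : Module.finrank (X.presheaf.stalk (genericPoint X)) (F.presheaf.stalk (genericPoint X)) = r)
    {L : X.Modules} (hL : PicF.IsInvertible L) (i : ℕ) :
    W4c5asymptcohfn.hhatF k X n i F L = (r : ℝ) * W4c5asymptcohfn.hhat k X n i L := by
  haveI := Groth.Agent.Lib.Lead.CurveEuler.isNoetherian k X
  obtain ⟨U, hηU, ⟨e⟩⟩ := Groth.Agent.Lib.helper7.GenFree.exists_open_free hF r hr
  obtain ⟨N, a, b, hN, ha, hb⟩ := exists_comparison hF U r e
  have hO : Coh.IsCoh (FlatMod.freeMod X r) :=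
    Groth.Agent.Lib.Lead.RankAdd.isCoh_of_isFinLocFreeOfRank
      (Groth.Agent.Lib.helper16.FLF.isFinLocFreeOfRank_freeMod X r)
  rw [hhatF_eq_of_map k X n hn hF hN a U ha ⟨_, hηU⟩ hL i,
    ← hhatF_eq_of_map k X n hn hO hN b U hb ⟨_, hηU⟩ hL i]
  exact hhatF_freeMod k X n hn r hL i

end Rank

end Groth.Agent.Lib.helper7.Growth
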