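import Mathlib
import Groth.Agent.Lib.Helper7.Growth6

/-!
# Asymptotic cohomological functions: homogeneity `ĥ^i(L^{⊗ a}) = a^n · ĥ^i(L)` (helper7)

* `limsup_eq_of_forall_residue`: a nonnegative eventually bounded real sequence all of whose subsequences along
  the residue classes mod `a` have `limsup = ℓ` has `limsup = ℓ`
* `tendsto_ratio`, `limsup_progression_scale`
* `hhat_tensorPow` (S17621)
-/

set_option autoImplicit false
set_option linter.unusedSectionVars false
set_option linter.style.haveILetI false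
universe u

open CategoryTheory CategoryTheory.Limits AlgebraicGeometry Opposite TopologicalSpace Module

namespace Groth.Agent.Lib.helper7.Growth

open Groth.Agent.Lib.Lead.ModTensor Groth.Agent.Lib.Helper18 Groth.Agent.Lib.helper11.IsoLocus
open Scheme.Modules Groth.Agent.Lib.helper7.SnapperMain Groth.Agent.Lib.helper7

section Real

open Filter Topology

/-- a nonneg eventually bounded sequence all of whose subsequences along the residue classes mod `a` have
`limsup = ℓ` has `limsup = ℓ` -/
theorem limsup_eq_of_forall_residue {u : ℕ → ℝ} (a : ℕ) (ha : 1 ≤ a) (ℓ : ℝ) (hu0 : ∀ M, 0 ≤ u M)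
    (hub : ∃ B, ∀ᶠ M in atTop, u M ≤ B)
    (h : ∀ j < a, limsup (fun m => u (j + a * m)) atTop = ℓ) : limsup u atTop = ℓ := by
  obtain ⟨B, hB⟩ := hub
  have hubd : IsBoundedUnder (· ≤ ·) atTop u := ⟨B, by simpa using hB⟩
  have huco : IsCoboundedUnder (· ≤ ·) atTop u :=
    (isBoundedUnder_of ⟨0, fun m => hu0 m⟩ : IsBoundedUnder (· ≥ ·) atTop u).isCoboundedUnder_flip
  have htend : ∀ j, Tendsto (fun m : ℕ => j + a * m) atTop atTop := by
    intro j
    apply tendsto_atTop_mono (f := fun m : ℕ => m)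
    · intro m
      have : m ≤ a * m := Nat.le_mul_of_pos_left m ha
      change m ≤ j + a * m
      omega
    · exact tendsto_id
  have hsubbd : ∀ j, IsBoundedUnder (· ≤ ·) atTop (fun m => u (j + a * m)) := by
    intro j
    refine ⟨B, ?_⟩
    simp only [eventually_map]
    exact (htend j).eventually hB
  apply le_antisymm
  · apply le_of_forall_pos_le_add
    intro ε hε
    apply limsup_le_of_le huco
    have hj' : ∀ j : ℕ, j < a → ∀ᶠ m in atTop, u (j + a * m) < ℓ + ε := by
      intro j hj
      have h1 : limsup (fun m => u (j + a * m)) atTop < ℓ + ε := by rw [h j hj]; linarith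
      exact eventually_lt_of_limsup_lt h1 (hsubbd j)
    have hall : ∀ᶠ m in atTop, ∀ j ∈ Finset.range a, u (j + a * m) < ℓ + ε := by
      rw [Filter.eventually_all_finset]
      intro j hj
      exact hj' j (Finset.mem_range.mp hj)
    obtain ⟨N, hN⟩ := eventually_atTop.mp hall
    rw [eventually_atTop]
    refine ⟨a * N, fun M hM => ?_⟩
    have hdiv : N ≤ M / a := by
      rw [Nat.le_div_iff_mul_le (by omega)]
      rw [mul_comm]; exact hM
    have := hN (M / a) hdiv (M % a) (Finset.mem_range.mpr (Nat.mod_lt M (by omega)))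
    rw [Nat.mod_add_div] at this
    exact this.le
  · have h0 := h 0 (by omega)
    rw [← h0]
    have hco : (map (fun m : ℕ => 0 + a * m) atTop).IsCoboundedUnder (· ≤ ·) u := by
      have : IsBoundedUnder (· ≥ ·) (map (fun m : ℕ => 0 + a * m) atTop) u :=
        isBoundedUnder_of ⟨0, fun m => hu0 m⟩
      exact this.isCoboundedUnder_flip
    exact (htend 0).limsup_comp_le_limsup hco hubd

theorem tendsto_ratio (a j : ℕ) (ha : 1 ≤ a) :
    Tendsto (fun m : ℕ => (m : ℝ) / ((j + a * m : ℕ) : ℝ)) atTop (𝓝 (1 / (a : ℝ))) := by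
  have ha0 : (a : ℝ) ≠ 0 := by
    have : (0 : ℝ) < a := by exact_mod_cast ha
    exact this.ne'
  have h1 : Tendsto (fun m : ℕ => ((j : ℝ) / (m : ℝ) + (a : ℝ))⁻¹) atTop (𝓝 ((0 + (a : ℝ))⁻¹)) := by
    apply Tendsto.inv₀
    · exact (tendsto_const_div_atTop_nhds_zero_nat (j : ℝ)).add_const _
    · rw [zero_add]; exact ha0
  rw [zero_add, ← one_div] at h1
  refine h1.congr' ?_
  filter_upwards [eventually_ge_atTop 1] with m hm
  have hm0 : (m : ℝ) ≠ 0 := by
    have : (0 : ℝ) < m := by exact_mod_cast hm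
    exact this.ne'
  push_cast
  field_simp

theorem limsup_progression_scale {w : ℕ → ℝ} (n a j : ℕ) (ha : 1 ≤ a) (hw0 : ∀ M, 0 ≤ w M)
    (hub : ∃ B, ∀ᶠ M in atTop, w M / (M : ℝ) ^ n ≤ B)
    (hvb : ∃ B, ∀ᶠ m in atTop, w (j + a * m) / (m : ℝ) ^ n ≤ B) :
    limsup (fun m : ℕ => w (j + a * m) / ((j + a * m : ℕ) : ℝ) ^ n) atTop =
      (1 / (a : ℝ) ^ n) * limsup (fun m : ℕ => w (j + a * m) / (m : ℝ) ^ n) atTop := by
  have ha0 : (a : ℝ) ≠ 0 := by
    have : (0 : ℝ) < a := by exact_mod_cast ha
    exact this.ne'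
  have htend : Tendsto (fun m : ℕ => j + a * m) atTop atTop := by
    apply tendsto_atTop_mono (f := fun m : ℕ => m)
    · intro m
      have : m ≤ a * m := Nat.le_mul_of_pos_left m ha
      change m ≤ j + a * m
      omega
    · exact tendsto_id
  have hV0 : ∀ m : ℕ, 0 ≤ w (j + a * m) / (m : ℝ) ^ n := fun m =>
    div_nonneg (hw0 _) (by positivity)
  rw [← limsup_const_mul_real hV0 hvb _ (by positivity)]
  refine limsup_eq_of_sub_tendsto_zero (fun m => div_nonneg (hw0 _) (by positivity))
    (fun m => mul_nonneg (by positivity) (hV0 m)) ?_ ?_ ?_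
  · obtain ⟨B, hB⟩ := hub
    exact ⟨B, htend.eventually hB⟩
  · obtain ⟨B, hB⟩ := hvb
    refine ⟨1 / (a : ℝ) ^ n * B, ?_⟩
    filter_upwards [hB] with m hm
    exact mul_le_mul_of_nonneg_left hm (by positivity)
  · -- the difference is `V m * ((m / M)^n - (1/a)^n)`
    have hg : Tendsto (fun m : ℕ => ((m : ℝ) / ((j + a * m : ℕ) : ℝ)) ^ n - (1 / (a : ℝ)) ^ n)
        atTop (𝓝 0) := by
      have := ((tendsto_ratio a j ha).pow n).sub_const ((1 / (a : ℝ)) ^ n)
      rwa [sub_self] at this
    obtain ⟨B, hB⟩ := hvb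
    have hprod := bdd_le_mul_tendsto_zero (Eventually.of_forall hV0) hB hg
    refine hprod.congr' ?_
    filter_upwards [eventually_ge_atTop 1] with m hm
    have hm0 : (m : ℝ) ≠ 0 := by
      have : (0 : ℝ) < m := by exact_mod_cast hm
      exact this.ne'
    have hM0 : ((j + a * m : ℕ) : ℝ) ≠ 0 := by
      have h1 : 0 < j + a * m := by
        have : 0 < a * m := Nat.mul_pos (by omega) (by omega)
        omega
      have : (0 : ℝ) < ((j + a * m : ℕ) : ℝ) := by exact_mod_cast h1
      exact this.ne'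
    rw [div_pow, div_pow, one_pow]
    field_simp

end Real

section TensorPow

open Filter Topology

variable (k : Type u) [Field k] (X : Scheme.{u}) [X.Over (Spec (CommRingCat.of k))]
  [IsProper (X ↘ Spec (CommRingCat.of k))] [IsIntegral X]

/-- **`ĥ^i(L^{⊗ a}) = a^n · ĥ^i(L)`** -/
theorem hhat_tensorPow (n : ℕ) (hn : topologicalKrullDim X ≤ (n : WithBot ℕ∞))
    {L : X.Modules} (hL : PicF.IsInvertible L) (a : ℕ) (ha : 1 ≤ a) (i : ℕ) :
    W4c5asymptcohfn.hhat k X n i (CohB1.tensorPow L a) =
      (a : ℝ) ^ n * W4c5asymptcohfn.hhat k X n i L := by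
  have ha0 : (a : ℝ) ^ n ≠ 0 := by
    have : (0 : ℝ) < a := by exact_mod_cast ha
    positivity
  have hLa : PicF.IsInvertible (CohB1.tensorPow L a) :=
    Groth.Agent.Lib.helper12.TensorInv.isInvertible_tensorPow hL a
  set w : ℕ → ℝ := fun M =>
    (Module.finrank k (Coh.HH X (CohB1.tensorPow L M) i) : ℝ) * (n.factorial : ℝ) with hw
  have hw0 : ∀ M, 0 ≤ w M := fun M => by positivity
  have hO := Groth.Agent.Lib.helper8.Dev.isCoh_structureModule X
  -- boundedness of the main sequence
  have hub : ∃ B, ∀ᶠ M in atTop, w M / (M : ℝ) ^ n ≤ B := by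
    have hseq : ∀ m, W4c5asymptcohfn.cohSeq k X n i (Coh.structureModule X) L m =
        w m / (m : ℝ) ^ n := by
      intro m
      rw [cohSeq_eq]
      have : hh k X (Coh.structureModule X) L i m =
          Module.finrank k (Coh.HH X (CohB1.tensorPow L m) i) :=
        (HH.isoEquivOver k (leftUnitor (CohB1.tensorPow L m)) i).finrank_eq
      rw [this]
    have hbd := cohSeq_bdd k X n hn i hO hL
    simp only [hseq] at hbd
    exact hbd
  -- the twisted sequences
  have hLj : ∀ j, Coh.IsCoh (CohB1.tensorPow L j) := fun j =>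
    Groth.Agent.Lib.Lead.CurveInv.isCoh_of_isInvertible X
      (Groth.Agent.Lib.helper12.TensorInv.isInvertible_tensorPow hL j)
  have hseqj : ∀ j m, W4c5asymptcohfn.cohSeq k X n i (CohB1.tensorPow L j) (CohB1.tensorPow L a) m =
      w (j + a * m) / (m : ℝ) ^ n := by
    intro j m
    rw [cohSeq_eq]
    have : hh k X (CohB1.tensorPow L j) (CohB1.tensorPow L a) i m =
        Module.finrank k (Coh.HH X (CohB1.tensorPow L (j + a * m)) i) :=
      (HH.isoEquivOver k (tensorIso (Iso.refl _) (tensorPowMul L a m) ≪≫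
        tensorPowAdd L j (a * m)) i).finrank_eq
    rw [this]
  have hvb : ∀ j, ∃ B, ∀ᶠ m in atTop, w (j + a * m) / (m : ℝ) ^ n ≤ B := by
    intro j
    have hbd := cohSeq_bdd k X n hn i (hLj j) hLa
    simp only [hseqj] at hbd
    exact hbd
  have hlim : ∀ j, limsup (fun m : ℕ => w (j + a * m) / (m : ℝ) ^ n) atTop =
      W4c5asymptcohfn.hhat k X n i (CohB1.tensorPow L a) := by
    intro j
    have hr : Module.finrank (X.presheaf.stalk (genericPoint X))
        ((CohB1.tensorPow L j).presheaf.stalk (genericPoint X)) = 1 :=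
      Groth.Agent.Lib.helper16.FLF.finrank_stalk_of_isFinLocFreeOfRank _
        (isFLF_tensorPow X hL j) _
    have := hhatF_eq_rank_mul k X n hn (hLj j) 1 hr hLa i
    rw [Nat.cast_one, one_mul] at this
    rw [← this]
    unfold W4c5asymptcohfn.hhatF
    congr 1
    funext m
    exact (hseqj j m).symm
  have hmain : W4c5asymptcohfn.hhat k X n i L =
      (1 / (a : ℝ) ^ n) * W4c5asymptcohfn.hhat k X n i (CohB1.tensorPow L a) := by
    change limsup (fun M : ℕ => w M / (M : ℝ) ^ n) atTop = _
    refine limsup_eq_of_forall_residue a ha _ (fun M => div_nonneg (hw0 M) (by positivity)) hub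
      (fun j _ => ?_)
    rw [limsup_progression_scale n a j ha hw0 hub (hvb j), hlim j]
  rw [hmain]
  field_simp

end TensorPow

end Groth.Agent.Lib.helper7.Growth
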