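import Mathlib
import Groth.Agent.Lib.Helper7.Growth7

/-!
# Volumes in `ℝ≥0∞` (helper7)

* `ennreal_limsup_eq`: the `ℝ≥0∞`-valued `limsup` of `h m / m^d` equals `ofReal` of the real one (bounded case)
* `bdd_pow_seq`, `hhat_eq_factorial_mul`
* `vol_tensorPow`: `limsup h^i((L^a)^m)/m^d = a^d · limsup h^i(L^m)/m^d` in `ℝ≥0∞` (S19805 for `i = 0`)
-/

set_option autoImplicit false
set_option linter.unusedSectionVars false
set_option linter.style.haveILetI false
universe u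

open Filter Topology
open scoped ENNReal
open CategoryTheory CategoryTheory.Limits AlgebraicGeometry Opposite TopologicalSpace Module

namespace Groth.Agent.Lib.helper7.Growth

open Groth.Agent.Lib.Lead.ModTensor Groth.Agent.Lib.Helper18 Groth.Agent.Lib.helper11.IsoLocus
open Scheme.Modules Groth.Agent.Lib.helper7.SnapperMain Groth.Agent.Lib.helper7

section Real

theorem ennreal_div_eq (h m d : ℕ) (hm : 1 ≤ m) :
    (h : ℝ≥0∞) / (m : ℝ≥0∞) ^ d = ENNReal.ofReal ((h : ℝ) / (m : ℝ) ^ d) := by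
  have hm0 : (0 : ℝ) < (m : ℝ) ^ d := by
    have : (0 : ℝ) < m := by exact_mod_cast hm
    positivity
  rw [ENNReal.ofReal_div_of_pos hm0, ENNReal.ofReal_natCast, ENNReal.ofReal_pow (Nat.cast_nonneg m),
    ENNReal.ofReal_natCast]

/-- the `ℝ≥0∞`-valued `limsup` of `h m / m^d` is the real one, for a bounded sequence -/
theorem ennreal_limsup_eq (h : ℕ → ℕ) (d : ℕ)
    (hb : ∃ B : ℝ, ∀ᶠ m : ℕ in atTop, (h m : ℝ) / (m : ℝ) ^ d ≤ B) :
    limsup (fun m : ℕ => (h m : ℝ≥0∞) / (m : ℝ≥0∞) ^ d) atTop =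
      ENNReal.ofReal (limsup (fun m : ℕ => (h m : ℝ) / (m : ℝ) ^ d) atTop) := by
  obtain ⟨B, hB⟩ := hb
  have hle : ∀ᶠ m : ℕ in atTop, (h m : ℝ≥0∞) / (m : ℝ≥0∞) ^ d ≤ ENNReal.ofReal B := by
    filter_upwards [hB, eventually_ge_atTop 1] with m hm h1
    rw [ennreal_div_eq _ _ _ h1]
    exact ENNReal.ofReal_le_ofReal hm
  have h1 := ENNReal.limsup_toReal_eq (f := atTop) ENNReal.ofReal_ne_top hle
  have hne : limsup (fun m : ℕ => (h m : ℝ≥0∞) / (m : ℝ≥0∞) ^ d) atTop ≠ ⊤ := by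
    have : limsup (fun m : ℕ => (h m : ℝ≥0∞) / (m : ℝ≥0∞) ^ d) atTop ≤ ENNReal.ofReal B :=
      limsup_le_of_le ⟨0, by simp⟩ hle
    exact ne_top_of_le_ne_top ENNReal.ofReal_ne_top this
  rw [← ENNReal.ofReal_toReal hne, ← h1]
  congr 1
  apply limsup_congr
  filter_upwards [eventually_ge_atTop 1] with m hm
  rw [ennreal_div_eq _ _ _ hm, ENNReal.toReal_ofReal (by positivity)]

end Real

section Vol

variable (k : Type u) [Field k] (X : Scheme.{u}) [X.Over (Spec (CommRingCat.of k))]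
  [IsProper (X ↘ Spec (CommRingCat.of k))]

/-- the sequence `h^i(L^m) / m^n` is eventually bounded -/
theorem bdd_pow_seq (n : ℕ) (hn : topologicalKrullDim X ≤ (n : WithBot ℕ∞)) (i : ℕ)
    {L : X.Modules} (hL : PicF.IsInvertible L) :
    ∃ B : ℝ, ∀ᶠ m : ℕ in atTop,
      (Module.finrank k (Coh.HH X (CohB1.tensorPow L m) i) : ℝ) / (m : ℝ) ^ n ≤ B := by
  have hO := Groth.Agent.Lib.helper8.Dev.isCoh_structureModule X
  obtain ⟨B, hB⟩ := cohSeq_bdd k X n hn i hO hL
  refine ⟨B, ?_⟩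
  filter_upwards [hB] with m hm
  refine le_trans ?_ hm
  rw [cohSeq_eq]
  have : hh k X (Coh.structureModule X) L i m =
      Module.finrank k (Coh.HH X (CohB1.tensorPow L m) i) :=
    (HH.isoEquivOver k (leftUnitor (CohB1.tensorPow L m)) i).finrank_eq
  rw [this]
  apply div_le_div_of_nonneg_right _ (by positivity)
  have h1 : (1 : ℝ) ≤ (n.factorial : ℝ) := by exact_mod_cast Nat.one_le_iff_ne_zero.mpr (Nat.factorial_ne_zero n)
  exact le_mul_of_one_le_right (by positivity) h1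

/-- `ĥ^i(L) = n! · limsup h^i(L^m)/m^n` -/
theorem hhat_eq_factorial_mul (n : ℕ) (hn : topologicalKrullDim X ≤ (n : WithBot ℕ∞)) (i : ℕ)
    {L : X.Modules} (hL : PicF.IsInvertible L) :
    W4c5asymptcohfn.hhat k X n i L = (n.factorial : ℝ) *
      limsup (fun m : ℕ => (Module.finrank k (Coh.HH X (CohB1.tensorPow L m) i) : ℝ) / (m : ℝ) ^ n)
        atTop := by
  rw [← limsup_const_mul_real (fun m => by positivity) (bdd_pow_seq k X n hn i hL) _ (by positivity)]
  unfold W4c5asymptcohfn.hhat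
  congr 1
  funext m
  ring

variable [IsIntegral X]

/-- homogeneity of the volume, `ℝ≥0∞`-valued version (S19805) -/
theorem vol_tensorPow (d : ℕ) (hd : topologicalKrullDim X ≤ (d : WithBot ℕ∞))
    {L : X.Modules} (hL : PicF.IsInvertible L) (a : ℕ) (ha : 1 ≤ a) (i : ℕ) :
    limsup (fun m : ℕ =>
        (Module.finrank k (Coh.HH X (CohB1.tensorPow (CohB1.tensorPow L a) m) i) : ℝ≥0∞) /
          (m : ℝ≥0∞) ^ d) atTop =
      (a : ℝ≥0∞) ^ d * limsup (fun m : ℕ =>
        (Module.finrank k (Coh.HH X (CohB1.tensorPow L m) i) : ℝ≥0∞) / (m : ℝ≥0∞) ^ d) atTop := by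
  have hLa : PicF.IsInvertible (CohB1.tensorPow L a) :=
    Groth.Agent.Lib.helper12.TensorInv.isInvertible_tensorPow hL a
  rw [ennreal_limsup_eq _ d (bdd_pow_seq k X d hd i hLa),
    ennreal_limsup_eq _ d (bdd_pow_seq k X d hd i hL)]
  have h1 := hhat_tensorPow k X d hd hL a ha i
  rw [hhat_eq_factorial_mul k X d hd i hLa, hhat_eq_factorial_mul k X d hd i hL] at h1
  have hfac : (d.factorial : ℝ) ≠ 0 := by exact_mod_cast Nat.factorial_ne_zero d
  have h2 : limsup (fun m : ℕ =>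
      (Module.finrank k (Coh.HH X (CohB1.tensorPow (CohB1.tensorPow L a) m) i) : ℝ) / (m : ℝ) ^ d) atTop =
      (a : ℝ) ^ d * limsup (fun m : ℕ =>
        (Module.finrank k (Coh.HH X (CohB1.tensorPow L m) i) : ℝ) / (m : ℝ) ^ d) atTop := by
    apply mul_left_cancel₀ hfac
    rw [h1]
    ring
  rw [h2, ENNReal.ofReal_mul (by positivity), ENNReal.ofReal_pow (Nat.cast_nonneg a),
    ENNReal.ofReal_natCast]

end Vol

end Groth.Agent.Lib.helper7.Growth
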