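import Mathlib
import Groth.Agent.Lib.Helper7.Growth3
import Groth.Agent.Lib.Helper20.Horrocks
import Groth.Agent.Lib.Helper11.CounitEpi
import Groth.Agent.Lib.Lead.VBCurve7
import Groth.Agent.Lib.Lead.GrothVanish

/-!
# Growth of `h^p(X, F ⊗ L^n)` for globally generated `L` (helper7)

`growth_gg`: for `X` proper over a field, `L` invertible and globally generated, `F` coherent with
`dim Supp F < e`: `h^p(X, F ⊗ L^n) ≤ C β₂ e p n` where `β₂ (e+1) 0 n = (n+1)^e`, `β₂ 1 (p+1) n = 0`,
`β₂ (e+2) (p+1) n = (n+1)^e`.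
-/

set_option autoImplicit false
set_option linter.unusedSectionVars false
set_option linter.style.haveILetI false
universe u

open CategoryTheory CategoryTheory.Limits AlgebraicGeometry Opposite TopologicalSpace Module

namespace Groth.Agent.Lib.helper7.Growth

open Groth.Agent.Lib.Lead.ModTensor Groth.Agent.Lib.Helper18 Groth.Agent.Lib.helper11.IsoLocus
open Scheme.Modules Groth.Agent.Lib.helper7.SnapperMain

section GG

/-- global generation pulls back -/
theorem gg_pullback {X Z : Scheme.{u}} (i : Z ⟶ X) (L : X.Modules)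
    (h : Curv2.IsGloballyGenerated L) :
    Curv2.IsGloballyGenerated ((Scheme.Modules.pullback i).obj L) := by
  obtain ⟨ι, p, hp⟩ := h
  have h1 : Epi ((Scheme.Modules.pullback i).map p) :=
    @Groth.Agent.Lib.helper11.CounitEpi.epi_pullback_map _ _ i _ _ p hp
  let e := Groth.Agent.Lib.helper11.CounitEpi.pullbackFreeIso i ι
  have h2 : IsIso e.inv := ⟨⟨e.hom, e.inv_hom_id, e.hom_inv_id⟩⟩
  have h3 : Epi e.inv := @IsIso.epi_of_iso _ _ _ _ e.inv h2
  exact ⟨ι, e.inv ≫ (Scheme.Modules.pullback i).map p, @epi_comp _ _ _ _ _ e.inv h3 _ h1⟩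

/-- a globally generated invertible module on a nonempty scheme has a nonzero section -/
theorem exists_section_ne_zero_of_gg {Z : Scheme.{u}} [Nonempty Z] {L : Z.Modules}
    (hL : PicF.IsInvertible L) (hgg : Curv2.IsGloballyGenerated L) :
    ∃ s : Coh.structureModule Z ⟶ L, s ≠ 0 := by
  by_contra h
  push Not at h
  have hsub : Subsingleton (L.val.obj (op ⊤)) := by
    refine ⟨fun a b => ?_⟩
    have ha := Groth.Agent.Lib.Helper20.SplitH1.homOfGlobal_top L a
    have hb := Groth.Agent.Lib.Helper20.SplitH1.homOfGlobal_top L b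
    rw [h (Groth.Agent.Lib.Helper20.SplitH1.homOfGlobal L a)] at ha
    rw [h (Groth.Agent.Lib.Helper20.SplitH1.homOfGlobal L b)] at hb
    exact ha.symm.trans hb
  have h0 : Subsingleton (Coh.HH Z L 0) := (HH.equiv₀ L).toEquiv.subsingleton
  exact Groth.Agent.Lib.Lead.VBCurve.not_isZero_of_rank_pos one_pos
    ((Groth.Agent.Lib.helper16.FLF.isInvertible_iff_isFinLocFreeOfRank_one _).mp hL)
    (Groth.Agent.Lib.helper20.Horrocks.isZero_of_gg_of_subsingleton hgg h0)

end GG

section Main

variable (k : Type u) [Field k]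

/-- the bound function in the globally generated case -/
def β₂ : ℕ → ℕ → ℕ → ℕ
  | 0, _, _ => 0
  | e + 1, 0, n => (n + 1) ^ e
  | 1, _ + 1, _ => 0
  | e + 2, _ + 1, n => (n + 1) ^ e

theorem β₂_le (e p n : ℕ) : β₂ e p n ≤ β₂ (e + 1) (p + 1) n := by
  match e, p with
  | 0, _ => exact Nat.zero_le _
  | 1, 0 => simp [β₂]
  | 1, _ + 1 => exact Nat.zero_le _
  | e + 2, 0 => exact le_refl _
  | e + 2, _ + 1 => exact Nat.pow_le_pow_right (Nat.succ_pos n) (Nat.le_succ e)

theorem β₂_sum (e p n : ℕ) : ∑ m ∈ Finset.range n, β₂ e p m ≤ β₂ (e + 1) p n := by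
  match e, p with
  | 0, _ => simp [β₂]
  | 1, 0 => exact sum_pow_le 0 n
  | 1, _ + 1 => simp [β₂]
  | e + 2, 0 => exact sum_pow_le (e + 1) n
  | e + 2, _ + 1 => exact sum_pow_le e n

theorem integral_gg (e : ℕ) (ih : Statement.{u} k (fun _ L => Curv2.IsGloballyGenerated L) β₂ e)
    (Z : Scheme.{u}) [Z.Over (Spec (CommRingCat.of k))] [IsProper (Z ↘ Spec (CommRingCat.of k))]
    [IsIntegral Z] (hdim : topologicalKrullDim Z < ((e + 1 : ℕ) : WithBot ℕ∞))
    (L : Z.Modules) (hL : PicF.IsInvertible L) (hgg : Curv2.IsGloballyGenerated L) :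
    Bd k Z (β₂ (e + 1)) (Coh.structureModule Z) L := by
  haveI : Nonempty Z := inferInstance
  obtain ⟨s, hs⟩ := exists_section_ne_zero_of_gg hL hgg
  have hO := Groth.Agent.Lib.helper11.InvMod.isInvertible_structureModule Z
  have hLc := Groth.Agent.Lib.Lead.CurveInv.isCoh_of_isInvertible Z hL
  have hOc := Groth.Agent.Lib.helper8.Dev.isCoh_structureModule Z
  have hS := Groth.Agent.Lib.Lead.CurveInv.shortExact_cokernel Z hO hL s hs
  haveI := hS.mono_f
  have hQ : Coh.IsCoh (cokernel s) := Groth.Agent.Lib.helper7.CohKer.isCoh_cokernel hOc hLc s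
  have hWne := Groth.Agent.Lib.Lead.CurveInv.isoLocus_nonempty Z hO hL s hs
  have hD := ih Z L hL hgg (cokernel s) hQ (dim_support_cokernel_lt hdim s _ le_rfl hWne)
  intro j
  obtain ⟨K, hK⟩ := hD j
  have hrec : ∀ n, hh k Z (Coh.structureModule Z) L j (n + 1) ≤
      hh k Z (Coh.structureModule Z) L j n + K * β₂ e j n := by
    intro n
    rw [hh_structure_shift]
    have a1 := hh_mid_le k Z _ hS hOc hLc hQ hL j n
    have a3 := hK n
    simp only at a1
    omega
  have h1 := fun n => le_of_recurrence (fun n => hh k Z (Coh.structureModule Z) L j n)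
    (fun n => β₂ e j n) (fun n => β₂ (e + 1) j n) K hrec (fun n => β₂_sum e j n) n
  by_cases hpos : ∀ n, 1 ≤ β₂ (e + 1) j n
  · refine ⟨hh k Z (Coh.structureModule Z) L j 0 + K, fun n => ?_⟩
    calc hh k Z (Coh.structureModule Z) L j n
        ≤ hh k Z (Coh.structureModule Z) L j 0 + K * β₂ (e + 1) j n := h1 n
      _ ≤ hh k Z (Coh.structureModule Z) L j 0 * β₂ (e + 1) j n + K * β₂ (e + 1) j n :=
          Nat.add_le_add_right (Nat.le_mul_of_pos_right _ (hpos n)) _
      _ = (hh k Z (Coh.structureModule Z) L j 0 + K) * β₂ (e + 1) j n := (add_mul _ _ _).symm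
  · -- `e = 0` and `j ≥ 1`: Grothendieck vanishing
    have hej : e = 0 ∧ 1 ≤ j := by
      by_contra hcon
      apply hpos
      intro n
      match e, j with
      | 0, 0 => simp [β₂]
      | 0, j + 1 => exact absurd ⟨rfl, Nat.succ_pos j⟩ hcon
      | e + 1, 0 => exact Nat.one_le_pow _ _ (Nat.succ_pos n)
      | e + 1, j + 1 => exact Nat.one_le_pow _ _ (Nat.succ_pos n)
    obtain ⟨rfl, hj⟩ := hej
    haveI := Groth.Agent.Lib.Lead.CurveEuler.isNoetherian k Z
    have hdim0 : topologicalKrullDim Z ≤ ((0 : ℕ) : WithBot ℕ∞) := by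
      generalize topologicalKrullDim Z = x at hdim
      induction x using WithBot.recBotCoe with
      | bot => exact bot_le
      | coe y =>
        have h2 : y < ((0 + 1 : ℕ) : ℕ∞) := by exact_mod_cast hdim
        have h3 : y ≤ ((0 : ℕ) : ℕ∞) := by
          rw [Nat.cast_zero]
          rw [zero_add, Nat.cast_one] at h2
          exact Order.le_of_lt_add_one (by simpa using h2)
        exact_mod_cast h3
    have hvan : hh k Z (Coh.structureModule Z) L j 0 = 0 := by
      haveI := Groth.Agent.Lib.Lead.GrothVanish.subsingleton_HH_of_dim_le Z 0 hdim0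
        (CohB1.tensorMod (Coh.structureModule Z) (CohB1.tensorPow L 0)) j hj
      exact Module.finrank_zero_of_subsingleton
    refine ⟨K, fun n => ?_⟩
    have h4 : hh k Z (Coh.structureModule Z) L j n ≤
        hh k Z (Coh.structureModule Z) L j 0 + K * β₂ (0 + 1) j n := h1 n
    omega

/-- the growth bound for globally generated invertible modules -/
theorem growth_gg (e : ℕ) : Statement.{u} k (fun _ L => Curv2.IsGloballyGenerated L) β₂ e := by
  induction e with
  | zero => exact statement_zero k _ _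
  | succ e ih =>
    exact statement_succ k _ β₂ (fun i L h => gg_pullback i L h) β₂_le e ih
      (fun Z _ _ _ hdim L hL hgg => integral_gg k e ih Z hdim L hL hgg)

end Main

end Groth.Agent.Lib.helper7.Growth
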