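import Mathlib
import Groth.Agent.Lib.Helper7.Growth10
import Groth.Agent.Lib.Helper7.Growth6
import Groth.Agent.Lib.Helper7.SnapperARR
import Groth.Agent.Lib.Helper11.SerreGG
import Groth.Agent.Lib.Helper12.InvDual2
import Groth.Agent.Lib.Helper12.GGTensor
import Groth.Agent.Lib.Helper7.Growth4

/-!
# Kodaira's lemma: big invertible modules (helper7)

On an integral scheme `X` proper over a field `k`, of dimension `d`:
* `exists_pos_le_eval`, `ample_big`: an ample module `A` has `h⁰(A^m) ≥ c m^d` for `m ≫ 0`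
* `exists_gg_twist`, `exists_mono_section_twist`: Serre's theorem, `F ⊗ A^n` is globally generated (has a nonzero
  section, `F` invertible) for `n ≫ 0`
* `tpMap`, `mono_tpMap`, `h0_le_tensor_of_section`, `h0_pow_le`
* `big_of_mono`: a monomorphism `A ⟶ L^m` from an ample `A`, `m > 0`, gives `h⁰(L^M) ≥ C M^d` for all `M ≫ 0`
* `exists_pos_h0_of_freq_big`, `exists_mono_of_freq_big`: if `h⁰(L^n) > c n^d` frequently, every ample `A` embeds
  into some `L^m`, `m > 0`
-/

set_option autoImplicit false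
set_option linter.unusedSectionVars false
set_option linter.style.haveILetI false
universe u

open Filter Topology
open CategoryTheory CategoryTheory.Limits AlgebraicGeometry Opposite TopologicalSpace Module

namespace Groth.Agent.Lib.helper7.Kodaira

open Groth.Agent.Lib.Lead.ModTensor Groth.Agent.Lib.Helper18 Groth.Agent.Lib.helper11.IsoLocus
open Scheme.Modules Groth.Agent.Lib.helper7.SnapperMain Groth.Agent.Lib.helper7
open Groth.Agent.Lib.helper7.Growth

section Poly

open Polynomial in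
/-- a rational polynomial of degree `≤ d` with positive coefficient of degree `d` is eventually `≥ c x^d` -/
theorem exists_pos_le_eval (Q : ℚ[X]) (d : ℕ) (hQ : Q.natDegree ≤ d) (hpos : 0 < Q.coeff d) :
    ∃ c : ℝ, 0 < c ∧ ∀ᶠ m : ℕ in atTop, c * (m : ℝ) ^ d ≤ ((Q.eval (m : ℚ) : ℚ) : ℝ) := by
  set Qr : ℝ[X] := Q.map (algebraMap ℚ ℝ) with hQr
  have hnd : Q.natDegree = d := le_antisymm hQ (le_natDegree_of_ne_zero hpos.ne')
  have hnd' : Qr.natDegree = d := by
    rw [hQr, natDegree_map_eq_of_injective (algebraMap ℚ ℝ).injective, hnd]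
  have hlc : Qr.leadingCoeff = ((Q.coeff d : ℚ) : ℝ) := by
    rw [leadingCoeff, hnd', hQr, coeff_map]
    rfl
  have hQr0 : Qr ≠ 0 := by
    intro h
    rw [h, leadingCoeff_zero] at hlc
    have : (0 : ℝ) < ((Q.coeff d : ℚ) : ℝ) := by exact_mod_cast hpos
    linarith
  have hdeg : Qr.degree = (X ^ d : ℝ[X]).degree := by
    rw [degree_X_pow, degree_eq_natDegree hQr0, hnd']
  have ht := div_tendsto_atTop_leadingCoeff_div_of_degree_eq Qr (X ^ d : ℝ[X]) hdeg
  rw [hlc] at ht
  simp only [leadingCoeff_X_pow, div_one, eval_pow, eval_X] at ht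
  have hc : (0 : ℝ) < ((Q.coeff d : ℚ) : ℝ) / 2 := by
    have : (0 : ℝ) < ((Q.coeff d : ℚ) : ℝ) := by exact_mod_cast hpos
    linarith
  refine ⟨((Q.coeff d : ℚ) : ℝ) / 2, hc, ?_⟩
  have hev : ∀ᶠ x : ℝ in atTop, ((Q.coeff d : ℚ) : ℝ) / 2 < eval x Qr / x ^ d :=
    (tendsto_order.mp ht).1 _ (by linarith)
  have hev' := tendsto_natCast_atTop_atTop.eventually (hev.and (eventually_gt_atTop (0 : ℝ)))
  filter_upwards [hev'] with m hm
  obtain ⟨h1, h2⟩ := hm
  have hpw : (0 : ℝ) < (m : ℝ) ^ d := by positivity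
  rw [lt_div_iff₀ hpw] at h1
  have : eval (m : ℝ) Qr = ((Q.eval (m : ℚ) : ℚ) : ℝ) := by
    rw [hQr, eval_natCast_map]
    rfl
  rw [← this]
  exact h1.le

end Poly

section Ample

variable (k : Type u) [Field k] (X : Scheme.{u}) [X.Over (Spec (CommRingCat.of k))]
  [IsProper (X ↘ Spec (CommRingCat.of k))]

open Groth.Agent.Lib.Lead.HilbPos Groth.Agent.Lib.helper7.SnapperARR in
/-- an ample invertible module is big -/
theorem ample_big (d : ℕ) (hX : topologicalKrullDim X = d) {A : X.Modules} (hA : CohB1.IsAmple A) :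
    ∃ c : ℝ, 0 < c ∧ ∀ᶠ m : ℕ in atTop,
      c * (m : ℝ) ^ d ≤ (Module.finrank k (Coh.HH X (CohB1.tensorPow A m) 0) : ℝ) := by
  haveI := Groth.Agent.Lib.Lead.CurveEuler.isNoetherian k X
  have hO : Coh.IsCoh (Coh.structureModule X) :=
    Groth.Agent.Lib.helper8.Dev.isCoh_structureModule X
  have hsupp : topologicalKrullDim (CohB1.support (Coh.structureModule X)) =
      ((d : ℕ) : WithBot ℕ∞) := by
    rw [dim_support_structureModule X, hX]
  obtain ⟨Q, hQ, hQd⟩ := exists_isHilbPoly k X hA.1 hO d hsupp.le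
  have hpos : 0 < Q.coeff d := coeff_pos k X hA hO d hsupp hQ
  obtain ⟨N, hN⟩ := exists_hilb_eq_finrank k X hA hO
  have hfin : ∀ m : ℕ, N ≤ m →
      (Module.finrank k (Coh.HH X (CohB1.tensorPow A m) 0) : ℚ) = Q.eval (m : ℚ) := by
    intro m hm
    rw [← hQ m]
    have h1 := hN m hm
    have h2 : Module.finrank k (Coh.HH X (ShStab.twist X A (Coh.structureModule X) m) 0) =
        Module.finrank k (Coh.HH X (CohB1.tensorPow A m) 0) :=
      (Groth.Agent.Lib.Helper18.HH.isoEquivOver k (leftUnitor (CohB1.tensorPow A m)) 0).finrank_eq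
    rw [h2] at h1
    show _ = ((hilb k X A (Coh.structureModule X) m : ℤ) : ℚ)
    rw [h1]
    simp
  obtain ⟨c, hc, hev⟩ := exists_pos_le_eval Q d hQd hpos
  refine ⟨c, hc, ?_⟩
  filter_upwards [hev, eventually_ge_atTop N] with m hm hmN
  refine hm.trans (le_of_eq ?_)
  rw [← hfin m hmN]
  norm_cast

include k in
/-- Serre: `F ⊗ A^n` is globally generated for `n ≫ 0` -/
theorem exists_gg_twist {A : X.Modules} (hA : CohB1.IsAmple A) {F : X.Modules} (hF : Coh.IsCoh F) :
    ∃ n₀ : ℕ, ∀ n, n₀ ≤ n →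
      Curv2.IsGloballyGenerated (CohB1.tensorMod F (CohB1.tensorPow A n)) := by
  haveI := Groth.Agent.Lib.Lead.CurveEuler.isNoetherian k X
  obtain ⟨n₀, h⟩ := Groth.Agent.Lib.helper11.SerreGG.exists_finite_genAtBy_twist hA F hF
  refine ⟨n₀, fun n hn => ?_⟩
  obtain ⟨ι, _, T, hT⟩ := h n hn
  exact ⟨ι, _, Groth.Agent.Lib.helper11.SerreGG.epi_of_genAtBy _ T hT⟩

variable [IsIntegral X]

include k in
/-- for `F` invertible and `A` ample, `F ⊗ A^n` has a nonzero section for `n ≫ 0` -/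
theorem exists_mono_section_twist {A : X.Modules} (hA : CohB1.IsAmple A) {F : X.Modules}
    (hF : PicF.IsInvertible F) :
    ∃ n₀ : ℕ, ∀ n, n₀ ≤ n →
      ∃ s : Coh.structureModule X ⟶ CohB1.tensorMod F (CohB1.tensorPow A n), Mono s := by
  obtain ⟨n₀, h⟩ := exists_gg_twist k X hA
    (Groth.Agent.Lib.Lead.CurveInv.isCoh_of_isInvertible X hF)
  refine ⟨n₀, fun n hn => ?_⟩
  have hinv : PicF.IsInvertible (CohB1.tensorMod F (CohB1.tensorPow A n)) :=
    Groth.Agent.Lib.helper12.TensorInv.isInvertible_tensorMod hF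
      (Groth.Agent.Lib.helper12.TensorInv.isInvertible_tensorPow hA.1 n)
  obtain ⟨s, hs⟩ := exists_section_ne_zero_of_gg hinv (h n hn)
  exact ⟨s, Groth.Agent.Lib.Lead.CurveInv.mono_of_ne_zero
    (Groth.Agent.Lib.helper11.InvMod.isInvertible_structureModule X) hinv s hs⟩

end Ample

section TpMap

variable {X : Scheme.{u}}

/-- `A^p ⟶ B^p` induced by `j : A ⟶ B` -/
noncomputable def tpMap {A B : X.Modules} (j : A ⟶ B) :
    ∀ p : ℕ, CohB1.tensorPow A p ⟶ CohB1.tensorPow B p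
  | 0 => 𝟙 _
  | p + 1 => tensorMap (tpMap j p) j

theorem mono_tpMap {A B : X.Modules} (hA : PicF.IsInvertible A) (hB : PicF.IsInvertible B)
    (j : A ⟶ B) [Mono j] : ∀ p, Mono (tpMap j p)
  | 0 => by
    unfold tpMap
    exact (inferInstance : Mono (𝟙 (Coh.structureModule X)))
  | p + 1 => by
    haveI := mono_tpMap hA hB j p
    exact mono_tensorMap_of_mono (tpMap j p) j
      (Groth.Agent.Lib.helper16.FLF.isFinLocFree_of_isInvertible hA)
      (Groth.Agent.Lib.helper16.FLF.isFinLocFree_of_isInvertible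
        (Groth.Agent.Lib.helper12.TensorInv.isInvertible_tensorPow hB p))

end TpMap

section CoreA

variable (k : Type u) [Field k] (X : Scheme.{u}) [X.Over (Spec (CommRingCat.of k))]
  [IsProper (X ↘ Spec (CommRingCat.of k))]

theorem h0_le_tensor_of_section {N M : X.Modules} (hN : PicF.IsInvertible N)
    (hM : PicF.IsInvertible M) (s : Coh.structureModule X ⟶ M) [Mono s] :
    Module.finrank k (Coh.HH X N 0) ≤ Module.finrank k (Coh.HH X (CohB1.tensorMod N M) 0) := by
  haveI := mono_twistMap hN s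
  exact finrank_H0_le_of_mono k X (twistMap N s)
    (Groth.Agent.Lib.Lead.CurveInv.isCoh_of_isInvertible X
      (Groth.Agent.Lib.helper12.TensorInv.isInvertible_tensorMod hN hM))

theorem h0_eq_of_iso {M N : X.Modules} (e : M ≅ N) :
    Module.finrank k (Coh.HH X M 0) = Module.finrank k (Coh.HH X N 0) :=
  (HH.isoEquivOver k e 0).finrank_eq

/-- the key chain of inclusions: `h⁰(A^p) ≤ h⁰(L^{m(p+q)+r})` -/
theorem h0_pow_le {A L : X.Modules} (hA : PicF.IsInvertible A) (hL : PicF.IsInvertible L)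
    (m : ℕ) (φ : A ⟶ CohB1.tensorPow L m) [Mono φ] (q r : ℕ)
    (t : Coh.structureModule X ⟶ CohB1.tensorMod (CohB1.tensorPow L r) (CohB1.tensorPow A q))
    [Mono t] (p : ℕ) :
    Module.finrank k (Coh.HH X (CohB1.tensorPow A p) 0) ≤
      Module.finrank k (Coh.HH X (CohB1.tensorPow L (m * (p + q) + r)) 0) := by
  have hAp := Groth.Agent.Lib.helper12.TensorInv.isInvertible_tensorPow hA p
  have hAq := Groth.Agent.Lib.helper12.TensorInv.isInvertible_tensorPow hA q
  have hLr := Groth.Agent.Lib.helper12.TensorInv.isInvertible_tensorPow hL r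
  have hLm := Groth.Agent.Lib.helper12.TensorInv.isInvertible_tensorPow hL m
  have hLmpq := Groth.Agent.Lib.helper12.TensorInv.isInvertible_tensorPow hLm (p + q)
  have hM := Groth.Agent.Lib.helper12.TensorInv.isInvertible_tensorMod hLr hAq
  -- step 1
  have s1 := h0_le_tensor_of_section k X hAp hM t
  -- step 2
  let e2 : CohB1.tensorMod (CohB1.tensorPow A p)
      (CohB1.tensorMod (CohB1.tensorPow L r) (CohB1.tensorPow A q)) ≅
      CohB1.tensorMod (CohB1.tensorPow A (p + q)) (CohB1.tensorPow L r) :=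
    tensorIso (Iso.refl _) (braid _ _) ≪≫ (assoc _ _ _).symm ≪≫
      tensorIso (tensorPowAdd A p q) (Iso.refl _)
  have s2 := h0_eq_of_iso k X e2
  -- step 3
  haveI := mono_tpMap hA hLm φ (p + q)
  haveI := Groth.Agent.Lib.helper9.CurveHopf.mono_tensorMap_of_isFinLocFree (tpMap φ (p + q))
    (Groth.Agent.Lib.helper16.FLF.isFinLocFree_of_isInvertible hLr)
  have s3 := finrank_H0_le_of_mono k X
    (tensorMap (tpMap φ (p + q)) (𝟙 (CohB1.tensorPow L r)))
    (Groth.Agent.Lib.Lead.CurveInv.isCoh_of_isInvertible X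
      (Groth.Agent.Lib.helper12.TensorInv.isInvertible_tensorMod hLmpq hLr))
  -- step 4
  let e4 : CohB1.tensorMod (CohB1.tensorPow (CohB1.tensorPow L m) (p + q)) (CohB1.tensorPow L r) ≅
      CohB1.tensorPow L (m * (p + q) + r) :=
    tensorIso (tensorPowMul L m (p + q)) (Iso.refl _) ≪≫ tensorPowAdd L (m * (p + q)) r
  have s4 := h0_eq_of_iso k X e4
  omega

variable [IsIntegral X]

/-- **Kodaira's lemma, easy direction**: if an ample `A` embeds into `L^m`, `m > 0`, then `h⁰(L^M) ≥ C M^d`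
for all large `M` -/
theorem big_of_mono (d : ℕ) (hX : topologicalKrullDim X = d) {A L : X.Modules}
    (hA : CohB1.IsAmple A) (hL : PicF.IsInvertible L) (m : ℕ) (hm : 0 < m)
    (φ : A ⟶ CohB1.tensorPow L m) [Mono φ] :
    ∃ C : ℝ, 0 < C ∧ ∃ m₁ : ℕ, ∀ M : ℕ, m₁ ≤ M →
      C * (M : ℝ) ^ d ≤ (Module.finrank k (Coh.HH X (CohB1.tensorPow L M) 0) : ℝ) := by
  obtain ⟨c₀, hc₀, hev⟩ := ample_big k X d hX hA
  obtain ⟨N₀, hN₀⟩ := eventually_atTop.mp hev
  have hsec := fun r : ℕ => exists_mono_section_twist k X hA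
    (Groth.Agent.Lib.helper12.TensorInv.isInvertible_tensorPow hL r)
  choose n₀ hn₀ using hsec
  set q := (Finset.range m).sup n₀ with hq
  have hqr : ∀ r, r < m → n₀ r ≤ q := fun r hr =>
    Finset.le_sup (f := n₀) (Finset.mem_range.mpr hr)
  have hm0 : (0 : ℝ) < (m : ℝ) := by exact_mod_cast hm
  refine ⟨c₀ / (2 * (m : ℝ)) ^ d, by positivity, 2 * (m * q + m) + 2 * (m * N₀), fun M hM => ?_⟩
  set p := M / m with hp
  set r := M % m with hr
  have hrm : r < m := Nat.mod_lt M hm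
  have hdm : m * p + r = M := Nat.div_add_mod M m
  obtain ⟨t, ht⟩ := hn₀ r q (hqr r hrm)
  haveI := ht
  have hpq : q ≤ p := by
    by_contra hlt
    push Not at hlt
    have : m * p + m ≤ m * q := by
      have := Nat.mul_le_mul_left m (Nat.succ_le_of_lt hlt)
      rw [Nat.mul_succ] at this
      exact this
    omega
  have hmul : m * (p - q) = m * p - m * q := Nat.mul_sub m p q
  have hle : m * q ≤ m * p := Nat.mul_le_mul_left m hpq
  have hMeq : m * ((p - q) + q) + r = M := by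
    rw [Nat.sub_add_cancel hpq]
    exact hdm
  have h1 := h0_pow_le k X hA.1 hL m φ q r t (p - q)
  rw [hMeq] at h1
  -- lower bound for `p - q`
  have h2 : M ≤ 2 * (m * (p - q)) := by
    rw [hmul]
    omega
  have h3 : N₀ ≤ p - q := by
    by_contra hlt
    push Not at hlt
    have : m * (p - q) + m ≤ m * N₀ := by
      have := Nat.mul_le_mul_left m (Nat.succ_le_of_lt hlt)
      rw [Nat.mul_succ] at this
      exact this
    omega
  have h4 := hN₀ (p - q) h3
  have h5 : (M : ℝ) / (2 * (m : ℝ)) ≤ ((p - q : ℕ) : ℝ) := by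
    rw [div_le_iff₀ (by positivity)]
    have : ((M : ℕ) : ℝ) ≤ ((2 * (m * (p - q)) : ℕ) : ℝ) := by exact_mod_cast h2
    push_cast at this
    linarith
  have h6 : ((M : ℝ) / (2 * (m : ℝ))) ^ d ≤ ((p - q : ℕ) : ℝ) ^ d :=
    pow_le_pow_left₀ (by positivity) h5 d
  calc c₀ / (2 * (m : ℝ)) ^ d * (M : ℝ) ^ d = c₀ * ((M : ℝ) / (2 * (m : ℝ))) ^ d := by
        rw [div_pow]; ring
    _ ≤ c₀ * ((p - q : ℕ) : ℝ) ^ d := mul_le_mul_of_nonneg_left h6 hc₀.le
    _ ≤ (Module.finrank k (Coh.HH X (CohB1.tensorPow A (p - q)) 0) : ℝ) := h4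
    _ ≤ (Module.finrank k (Coh.HH X (CohB1.tensorPow L M) 0) : ℝ) := by exact_mod_cast h1

end CoreA

section CoreB

variable (k : Type u) [Field k] (X : Scheme.{u}) [X.Over (Spec (CommRingCat.of k))]
  [IsProper (X ↘ Spec (CommRingCat.of k))]

/-- a module with nonzero `H⁰` has a nonzero global section -/
theorem exists_section_ne_zero_of_finrank_pos {M : X.Modules}
    (h : 0 < Module.finrank k (Coh.HH X M 0)) : ∃ s : Coh.structureModule X ⟶ M, s ≠ 0 := by
  by_contra hne
  push Not at hne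
  have hsub : Subsingleton (M.val.obj (op ⊤)) := by
    refine ⟨fun a b => ?_⟩
    have ha := Groth.Agent.Lib.Helper20.SplitH1.homOfGlobal_top M a
    have hb := Groth.Agent.Lib.Helper20.SplitH1.homOfGlobal_top M b
    rw [hne (Groth.Agent.Lib.Helper20.SplitH1.homOfGlobal M a)] at ha
    rw [hne (Groth.Agent.Lib.Helper20.SplitH1.homOfGlobal M b)] at hb
    exact ha.symm.trans hb
  have h0 : Subsingleton (Coh.HH X M 0) := (HH.equiv₀ M).toEquiv.subsingleton
  rw [Module.finrank_zero_of_subsingleton] at h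
  exact lt_irrefl 0 h

variable [IsIntegral X]

/-- if `h⁰(L^n) > c n^d` frequently and `σ : B ⟶ O` is a monomorphism from an invertible module, then some
`B ⊗ L^m`, `m > 0`, has a nonzero section -/
theorem exists_pos_h0_of_freq_big (d : ℕ) (hX : topologicalKrullDim X = d) {L : X.Modules}
    (hL : PicF.IsInvertible L)
    (hbig : ∃ c : ℝ, 0 < c ∧ ∃ᶠ n : ℕ in atTop,
      c * (n : ℝ) ^ d < (Module.finrank k (Coh.HH X (CohB1.tensorPow L n) 0) : ℝ))
    {B : X.Modules} (hB : PicF.IsInvertible B) (σ : B ⟶ Coh.structureModule X) [Mono σ] :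
    ∃ m : ℕ, 0 < m ∧
      0 < Module.finrank k (Coh.HH X (CohB1.tensorMod B (CohB1.tensorPow L m)) 0) := by
  haveI := Groth.Agent.Lib.Lead.CurveEuler.isNoetherian k X
  obtain ⟨c, hc, hfreq⟩ := hbig
  have hBc := Groth.Agent.Lib.Lead.CurveInv.isCoh_of_isInvertible X hB
  have hO := Groth.Agent.Lib.helper8.Dev.isCoh_structureModule X
  have hQ : Coh.IsCoh (cokernel σ) := CohKer.isCoh_cokernel hBc hO σ
  have hS := Groth.Agent.Lib.helper8.Dev.shortExact_cokernel σ
  have hσ0 : σ ≠ 0 := by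
    intro h0
    have hz : IsZero B := by
      rw [IsZero.iff_id_eq_zero, ← cancel_mono σ, h0, comp_zero, comp_zero]
    exact Groth.Agent.Lib.Lead.VBCurve.not_isZero_of_rank_pos one_pos
      ((Groth.Agent.Lib.helper16.FLF.isInvertible_iff_isFinLocFreeOfRank_one _).mp hB) hz
  have hW : isoLocus σ ≠ ⊥ := Groth.Agent.Lib.Lead.GenLocusInt.isoLocus_ne_bot hB
    (Groth.Agent.Lib.helper11.InvMod.isInvertible_structureModule X) σ hσ0
  have hWne : ((isoLocus σ : X.Opens) : Set X).Nonempty := by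
    by_contra h
    apply hW
    ext x
    simp only [Opens.coe_bot, Set.mem_empty_iff_false, iff_false]
    exact fun hx => h ⟨x, hx⟩
  have hdimX : topologicalKrullDim X < ((d + 1 : ℕ) : WithBot ℕ∞) := by
    rw [hX]
    exact_mod_cast Nat.lt_succ_self d
  have hdimQ := dim_support_cokernel_lt hdimX σ (isoLocus σ) le_rfl hWne
  obtain ⟨C, hC⟩ := growth_general k d X L hL trivial (cokernel σ) hQ hdimQ 0
  have h0 := tendsto_seq_zero (fun m => hh k X (cokernel σ) L 0 m) d 0 C hC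
  have hsmall : ∀ᶠ m : ℕ in atTop,
      (hh k X (cokernel σ) L 0 m : ℝ) * (d.factorial : ℝ) / (m : ℝ) ^ d < c :=
    (tendsto_order.mp h0).2 c hc
  obtain ⟨m, hm1, hm2, hm3⟩ := (hfreq.and_eventually (hsmall.and (eventually_ge_atTop 1))).exists
  refine ⟨m, hm3, ?_⟩
  have hmid := hh_mid_le k X _ hS hBc hO hQ hL 0 m
  have hmid' : hh k X (Coh.structureModule X) L 0 m ≤
      hh k X B L 0 m + hh k X (cokernel σ) L 0 m := hmid
  have hOeq : hh k X (Coh.structureModule X) L 0 m =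
      Module.finrank k (Coh.HH X (CohB1.tensorPow L m) 0) :=
    (HH.isoEquivOver k (leftUnitor (CohB1.tensorPow L m)) 0).finrank_eq
  have hm0 : (0 : ℝ) < (m : ℝ) ^ d := by
    have : (0 : ℝ) < m := by exact_mod_cast hm3
    positivity
  have hq : (hh k X (cokernel σ) L 0 m : ℝ) < c * (m : ℝ) ^ d := by
    rw [div_lt_iff₀ hm0] at hm2
    refine lt_of_le_of_lt ?_ hm2
    have h1 : (1 : ℝ) ≤ (d.factorial : ℝ) := by
      exact_mod_cast Nat.one_le_iff_ne_zero.mpr (Nat.factorial_ne_zero d)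
    exact le_mul_of_one_le_right (by positivity) h1
  have hlt : hh k X (cokernel σ) L 0 m < hh k X (Coh.structureModule X) L 0 m := by
    rw [hOeq]
    exact_mod_cast hq.trans hm1
  change 0 < hh k X B L 0 m
  omega

/-- **Kodaira's lemma**: if `h⁰(L^n) > c n^d` frequently, every ample `A` embeds into some `L^m`, `m > 0` -/
theorem exists_mono_of_freq_big (d : ℕ) (hX : topologicalKrullDim X = d) {L : X.Modules}
    (hL : PicF.IsInvertible L)
    (hbig : ∃ c : ℝ, 0 < c ∧ ∃ᶠ n : ℕ in atTop,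
      c * (n : ℝ) ^ d < (Module.finrank k (Coh.HH X (CohB1.tensorPow L n) 0) : ℝ))
    {A : X.Modules} (hA : CohB1.IsAmple A) :
    ∃ (m : ℕ) (φ : A ⟶ CohB1.tensorPow L m), 0 < m ∧ Mono φ := by
  have hOinv := Groth.Agent.Lib.helper11.InvMod.isInvertible_structureModule X
  obtain ⟨n, hn⟩ := exists_mono_section_twist k X hA hOinv
  obtain ⟨s₀, hs₀⟩ := hn n le_rfl
  obtain ⟨s₁, hs₁⟩ := hn (n + 1) (Nat.le_succ n)
  haveI := hs₀
  haveI := hs₁
  let v : Coh.structureModule X ⟶ CohB1.tensorPow A n := s₀ ≫ (leftUnitor _).hom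
  let s : Coh.structureModule X ⟶ CohB1.tensorPow A (n + 1) := s₁ ≫ (leftUnitor _).hom
  haveI hv : Mono v := mono_comp _ _
  haveI hs : Mono s := mono_comp _ _
  have hAn := Groth.Agent.Lib.helper12.TensorInv.isInvertible_tensorPow hA.1 n
  have hAN := Groth.Agent.Lib.helper12.TensorInv.isInvertible_tensorPow hA.1 (n + 1)
  obtain ⟨B, hB, ⟨e⟩, -⟩ := Groth.Agent.Lib.helper12.InvDual.exists_inverse hAN
  have flfB := Groth.Agent.Lib.helper16.FLF.isFinLocFree_of_isInvertible hB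
  have flfAN := Groth.Agent.Lib.helper16.FLF.isFinLocFree_of_isInvertible hAN
  have flfA := Groth.Agent.Lib.helper16.FLF.isFinLocFree_of_isInvertible hA.1
  haveI := Groth.Agent.Lib.helper9.CurveHopf.mono_tensorMap_of_isFinLocFree s flfB
  let σ : B ⟶ Coh.structureModule X := (leftUnitor B).inv ≫ tensorMap s (𝟙 B) ≫ e.hom
  haveI hσ : Mono σ := by
    haveI : Mono (tensorMap s (𝟙 B) ≫ e.hom) := mono_comp _ _
    exact mono_comp _ _
  obtain ⟨m, hm, hpos⟩ := exists_pos_h0_of_freq_big k X d hX hL hbig hB σ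
  obtain ⟨u, hu⟩ := exists_section_ne_zero_of_finrank_pos k X hpos
  have hLm := Groth.Agent.Lib.helper12.TensorInv.isInvertible_tensorPow hL m
  haveI hum : Mono u := Groth.Agent.Lib.Lead.CurveInv.mono_of_ne_zero hOinv
    (Groth.Agent.Lib.helper12.TensorInv.isInvertible_tensorMod hB hLm) u hu
  haveI := Groth.Agent.Lib.helper9.CurveHopf.mono_tensorMap_right_of_isFinLocFree u flfAN
  let ψ : CohB1.tensorPow A (n + 1) ⟶ CohB1.tensorPow L m :=
    (rightUnitor _).inv ≫ tensorMap (𝟙 (CohB1.tensorPow A (n + 1))) u ≫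
      (assoc _ _ _).inv ≫ tensorMap e.hom (𝟙 (CohB1.tensorPow L m)) ≫ (leftUnitor _).hom
  haveI : IsIso (tensorMap e.hom (𝟙 (CohB1.tensorPow L m))) :=
    (tensorIso e (Iso.refl (CohB1.tensorPow L m))).isIso_hom
  haveI hψ : Mono ψ := by
    haveI h1 : Mono (tensorMap e.hom (𝟙 (CohB1.tensorPow L m)) ≫ (leftUnitor _).hom) :=
      mono_comp _ _
    haveI h2 : Mono ((assoc (CohB1.tensorPow A (n + 1)) B (CohB1.tensorPow L m)).inv ≫
        tensorMap e.hom (𝟙 (CohB1.tensorPow L m)) ≫ (leftUnitor _).hom) := mono_comp _ _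
    haveI h3 : Mono (tensorMap (𝟙 (CohB1.tensorPow A (n + 1))) u ≫
        (assoc (CohB1.tensorPow A (n + 1)) B (CohB1.tensorPow L m)).inv ≫
        tensorMap e.hom (𝟙 (CohB1.tensorPow L m)) ≫ (leftUnitor _).hom) := mono_comp _ _
    exact mono_comp _ _
  haveI := Groth.Agent.Lib.helper9.CurveHopf.mono_tensorMap_of_isFinLocFree v flfA
  let ι : A ⟶ CohB1.tensorMod (CohB1.tensorPow A n) A := (leftUnitor A).inv ≫ tensorMap v (𝟙 A)
  have hι : Mono ι := mono_comp _ _
  exact ⟨m, ι ≫ ψ, hm, @mono_comp _ _ _ _ _ ι hι ψ hψ⟩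

end CoreB

end Groth.Agent.Lib.helper7.Kodaira
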