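import Mathlib
import Groth.Agent.Lib.Helper7.Kodaira
import Groth.Agent.Lib.Helper7.Growth8
import Groth.Agent.Lib.Helper3.IrredDim
import Groth.Agent.Lib.Helper11.AmpleAffine

/-!
# Kodaira's lemma: characterisations of big invertible modules (helper7)

* `exists_mono_of_section_inverse`, `exists_section_of_mono_inverse`, `nontrivial_H0_of_mono_section`
* `kodaira_iff` (S17586), `exists_forall_nontrivial` (S17587), `big_iff_forall_ample` (S17278),
  `liminf_pos_iff_limsup_pos` (S19806)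
-/

set_option autoImplicit false
set_option linter.unusedSectionVars false
set_option linter.style.haveILetI false
universe u

open Filter Topology
open scoped ENNReal
open CategoryTheory CategoryTheory.Limits AlgebraicGeometry Opposite TopologicalSpace Module

namespace Groth.Agent.Lib.helper7.Kodaira

open Groth.Agent.Lib.Lead.ModTensor Groth.Agent.Lib.Helper18 Groth.Agent.Lib.helper11.IsoLocus
open Scheme.Modules Groth.Agent.Lib.helper7.SnapperMain Groth.Agent.Lib.helper7
open Groth.Agent.Lib.helper7.Growth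

section Inv

variable {X : Scheme.{u}}

/-- from a section of `B ⊗ M`, `B` an inverse of `A`, a monomorphism `A ⟶ M` -/
theorem exists_mono_of_section_inverse {A B M : X.Modules} (hA : FlatMod.IsFinLocFree A)
    (e : CohB1.tensorMod A B ≅ Coh.structureModule X)
    (u : Coh.structureModule X ⟶ CohB1.tensorMod B M) [Mono u] : ∃ ψ : A ⟶ M, Mono ψ := by
  haveI := Groth.Agent.Lib.helper9.CurveHopf.mono_tensorMap_right_of_isFinLocFree u hA
  haveI : IsIso (tensorMap e.hom (𝟙 M)) := (tensorIso e (Iso.refl M)).isIso_hom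
  refine ⟨(rightUnitor _).inv ≫ tensorMap (𝟙 A) u ≫ (assoc _ _ _).inv ≫
    tensorMap e.hom (𝟙 M) ≫ (leftUnitor _).hom, ?_⟩
  haveI h1 : Mono (tensorMap e.hom (𝟙 M) ≫ (leftUnitor M).hom) := mono_comp _ _
  haveI h2 : Mono ((assoc A B M).inv ≫ tensorMap e.hom (𝟙 M) ≫ (leftUnitor M).hom) :=
    mono_comp _ _
  haveI h3 : Mono (tensorMap (𝟙 A) u ≫ (assoc A B M).inv ≫ tensorMap e.hom (𝟙 M) ≫
      (leftUnitor M).hom) := mono_comp _ _
  exact mono_comp _ _

/-- from a monomorphism `A ⟶ M`, a section of `B ⊗ M` for `B` an inverse of `A` -/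
theorem exists_section_of_mono_inverse {A B M : X.Modules} (hB : FlatMod.IsFinLocFree B)
    (e : CohB1.tensorMod B A ≅ Coh.structureModule X) (φ : A ⟶ M) [Mono φ] :
    ∃ u : Coh.structureModule X ⟶ CohB1.tensorMod B M, Mono u := by
  haveI := Groth.Agent.Lib.helper9.CurveHopf.mono_tensorMap_right_of_isFinLocFree φ hB
  exact ⟨e.inv ≫ tensorMap (𝟙 B) φ, mono_comp _ _⟩

end Inv

section Main

variable (k : Type u) [Field k] (X : Scheme.{u}) [X.Over (Spec (CommRingCat.of k))]
  [IsProper (X ↘ Spec (CommRingCat.of k))] [IsIntegral X]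

include k in
/-- a coherent module with a monomorphism from `O_X` has nonzero `H⁰` -/
theorem nontrivial_H0_of_mono_section {M : X.Modules} (hM : Coh.IsCoh M)
    (u : Coh.structureModule X ⟶ M) [Mono u] : Nontrivial (Coh.HH X M 0) := by
  have h1 := finrank_H0_le_of_mono k X u hM
  haveI : Nontrivial (Coh.HH X (Coh.structureModule X) 0) := by
    haveI : Nontrivial ((Coh.structureModule X).val.obj (op ⊤)) :=
      (inferInstance : Nontrivial Γ(X, ⊤))
    exact (HH.equiv₀ (Coh.structureModule X)).toEquiv.nontrivial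
  haveI := Groth.Agent.Lib.Lead.ProperEuler.finite_HH k X _
    (Groth.Agent.Lib.helper8.Dev.isCoh_structureModule X) 0
  have h2 : 0 < Module.finrank k (Coh.HH X (Coh.structureModule X) 0) := Module.finrank_pos
  exact Module.nontrivial_of_finrank_pos (R := k) (lt_of_lt_of_le h2 h1)

/-- **S17586**: Kodaira's lemma, equivalence of the two characterisations of bigness -/
theorem kodaira_iff (n : ℕ) (hn : topologicalKrullDim X = n) {H : X.Modules} (hH : CohB1.IsAmple H)
    {L : X.Modules} (hL : PicF.IsInvertible L) :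
    (∀ A : X.Modules, CohB1.IsAmple A → ∃ (m : ℕ) (φ : A ⟶ CohB1.tensorPow L m), 0 < m ∧ Mono φ) ↔
      ∃ C : ℝ, 0 < C ∧ ∃ m₁ : ℕ, ∀ m : ℕ, m₁ ≤ m →
        C * (m : ℝ) ^ n ≤ (Module.finrank k (Coh.HH X (CohB1.tensorPow L m) 0) : ℝ) := by
  constructor
  · intro h
    obtain ⟨m, φ, hm, hφ⟩ := h H hH
    haveI := hφ
    exact big_of_mono k X n hn hH hL m hm φ
  · rintro ⟨C, hC, m₁, h⟩ A hA
    refine exists_mono_of_freq_big k X n hn hL ⟨C / 2, by positivity, ?_⟩ hA
    apply Eventually.frequently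
    filter_upwards [eventually_ge_atTop m₁, eventually_ge_atTop 1] with m hm hm1
    refine lt_of_lt_of_le ?_ (h m hm)
    have : (0 : ℝ) < (m : ℝ) ^ n := by
      have : (0 : ℝ) < m := by exact_mod_cast hm1
      positivity
    nlinarith

include k in
/-- **S17587**: a big invertible module has exponent one -/
theorem exists_forall_nontrivial {H : X.Modules} (hH : CohB1.IsAmple H)
    {L : X.Modules} (hL : PicF.IsInvertible L)
    (hbig : ∀ A : X.Modules, CohB1.IsAmple A →
      ∃ (m : ℕ) (φ : A ⟶ CohB1.tensorPow L m), 0 < m ∧ Mono φ) :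
    ∃ m₁ : ℕ, ∀ m : ℕ, m₁ ≤ m → Nontrivial (Coh.HH X (CohB1.tensorPow L m) 0) := by
  haveI : LocallyOfFiniteType (X ↘ Spec (CommRingCat.of k)) := inferInstance
  obtain ⟨d, hd, -⟩ := Groth.Agent.Lib.helper3.IrredDim.exists_dim_eq_localDim_of_irreducible k X
  obtain ⟨C, hC, m₁, h⟩ := (kodaira_iff k X d hd hH hL).mp hbig
  refine ⟨max m₁ 1, fun m hm => ?_⟩
  have h1 := h m (le_trans (le_max_left _ _) hm)
  have hm1 : 1 ≤ m := le_trans (le_max_right _ _) hm
  have hpos : (0 : ℝ) < C * (m : ℝ) ^ d := by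
    have : (0 : ℝ) < m := by exact_mod_cast hm1
    positivity
  have h2 : (0 : ℝ) < (Module.finrank k (Coh.HH X (CohB1.tensorPow L m) 0) : ℝ) :=
    lt_of_lt_of_le hpos h1
  exact Module.nontrivial_of_finrank_pos (R := k) (by exact_mod_cast h2)

/-- **S17278**: `L` is big iff for every ample `A` with inverse `A'` some `A' ⊗ L^m`, `m > 0`, has a nonzero
section -/
theorem big_iff_forall_ample (d : ℕ) (hdim : topologicalKrullDim X = d) {A₀ : X.Modules}
    (hA₀ : CohB1.IsAmple A₀) {L : X.Modules} (hL : PicF.IsInvertible L) :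
    (∃ c : ℝ, 0 < c ∧ ∀ᶠ n : ℕ in atTop,
        c * (n : ℝ) ^ d < (Module.finrank k (Coh.HH X (CohB1.tensorPow L n) 0) : ℝ)) ↔
      ∀ (A A' : X.Modules), CohB1.IsAmple A → ClSub.IsInverseOf A' A →
        ∃ m : ℕ, 0 < m ∧ Nontrivial (Coh.HH X (CohB1.tensorMod A' (CohB1.tensorPow L m)) 0) := by
  constructor
  · rintro ⟨c, hc, hev⟩ A A' hA ⟨e⟩
    obtain ⟨m, φ, hm, hφ⟩ := exists_mono_of_freq_big k X d hdim hL ⟨c, hc, hev.frequently⟩ hA
    haveI := hφ
    have hA' : PicF.IsInvertible A' :=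
      Groth.Agent.Lib.helper11.AmpleAffine.isInvertible_of_isInverseOf hA.1
        ⟨braid A A' ≪≫ e⟩
    obtain ⟨u, hu⟩ := exists_section_of_mono_inverse
      (Groth.Agent.Lib.helper16.FLF.isFinLocFree_of_isInvertible hA') e φ
    haveI := hu
    refine ⟨m, hm, nontrivial_H0_of_mono_section k X ?_ u⟩
    exact Groth.Agent.Lib.Lead.CurveInv.isCoh_of_isInvertible X
      (Groth.Agent.Lib.helper12.TensorInv.isInvertible_tensorMod hA'
        (Groth.Agent.Lib.helper12.TensorInv.isInvertible_tensorPow hL m))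
  · intro h
    obtain ⟨A', hA', ⟨e⟩, hinv'⟩ := Groth.Agent.Lib.helper12.InvDual.exists_inverse hA₀.1
    obtain ⟨m, hm, hnt⟩ := h A₀ A' hA₀ hinv'
    have hLm := Groth.Agent.Lib.helper12.TensorInv.isInvertible_tensorPow hL m
    have hinv := Groth.Agent.Lib.helper12.TensorInv.isInvertible_tensorMod hA' hLm
    haveI := Groth.Agent.Lib.Lead.ProperEuler.finite_HH k X _
      (Groth.Agent.Lib.Lead.CurveInv.isCoh_of_isInvertible X hinv) 0
    have hpos : 0 < Module.finrank k (Coh.HH X (CohB1.tensorMod A' (CohB1.tensorPow L m)) 0) :=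
      Module.finrank_pos
    obtain ⟨u, hu⟩ := exists_section_ne_zero_of_finrank_pos k X hpos
    haveI : Mono u := Groth.Agent.Lib.Lead.CurveInv.mono_of_ne_zero
      (Groth.Agent.Lib.helper11.InvMod.isInvertible_structureModule X) hinv u hu
    obtain ⟨ψ, hψ⟩ := exists_mono_of_section_inverse
      (Groth.Agent.Lib.helper16.FLF.isFinLocFree_of_isInvertible hA₀.1) e u
    haveI := hψ
    obtain ⟨C, hC, m₁, hb⟩ := big_of_mono k X d hdim hA₀ hL m hm ψ
    refine ⟨C / 2, by positivity, ?_⟩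
    filter_upwards [eventually_ge_atTop m₁, eventually_ge_atTop 1] with M hM hM1
    refine lt_of_lt_of_le ?_ (hb M hM)
    have : (0 : ℝ) < (M : ℝ) ^ d := by
      have : (0 : ℝ) < M := by exact_mod_cast hM1
      positivity
    nlinarith

/-- **S19806**: `L` is big (positive lower limit) iff its volume is positive -/
theorem liminf_pos_iff_limsup_pos (d : ℕ) (hd : topologicalKrullDim X = d) {A₀ : X.Modules}
    (hA₀ : CohB1.IsAmple A₀) {L : X.Modules} (hL : PicF.IsInvertible L) :
    0 < liminf (fun m : ℕ => (Module.finrank k (Coh.HH X (CohB1.tensorPow L m) 0) : ℝ≥0∞) /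
        (m : ℝ≥0∞) ^ d) atTop ↔
      0 < limsup (fun m : ℕ => (Module.finrank k (Coh.HH X (CohB1.tensorPow L m) 0) : ℝ≥0∞) /
        (m : ℝ≥0∞) ^ d) atTop := by
  constructor
  · intro h
    exact lt_of_lt_of_le h (liminf_le_limsup)
  · intro h
    obtain ⟨b, hb0, hb⟩ := exists_between h
    have hbtop : b ≠ ⊤ := ne_top_of_lt hb
    have hfreq := frequently_lt_of_lt_limsup (by isBoundedDefault) hb
    have hc : 0 < b.toReal := ENNReal.toReal_pos hb0.ne' hbtop
    have hbig : ∃ c : ℝ, 0 < c ∧ ∃ᶠ n : ℕ in atTop,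
        c * (n : ℝ) ^ d < (Module.finrank k (Coh.HH X (CohB1.tensorPow L n) 0) : ℝ) := by
      refine ⟨b.toReal, hc, ?_⟩
      refine (hfreq.and_eventually (eventually_ge_atTop 1)).mono ?_
      rintro n ⟨hn, hn1⟩
      rw [ennreal_div_eq _ _ _ hn1, ← ENNReal.ofReal_toReal hbtop,
        ENNReal.ofReal_lt_ofReal_iff_of_nonneg hc.le] at hn
      have hpw : (0 : ℝ) < (n : ℝ) ^ d := by
        have : (0 : ℝ) < n := by exact_mod_cast hn1
        positivity
      rwa [lt_div_iff₀ hpw] at hn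
    obtain ⟨m, φ, hm, hφ⟩ := exists_mono_of_freq_big k X d hd hL hbig hA₀
    haveI := hφ
    obtain ⟨C, hC, m₁, hbd⟩ := big_of_mono k X d hd hA₀ hL m hm φ
    have hle : ENNReal.ofReal C ≤ liminf (fun m : ℕ =>
        (Module.finrank k (Coh.HH X (CohB1.tensorPow L m) 0) : ℝ≥0∞) / (m : ℝ≥0∞) ^ d) atTop := by
      apply le_liminf_of_le (by isBoundedDefault)
      filter_upwards [eventually_ge_atTop m₁, eventually_ge_atTop 1] with M hM hM1
      rw [ennreal_div_eq _ _ _ hM1]
      apply ENNReal.ofReal_le_ofReal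
      have hpw : (0 : ℝ) < (M : ℝ) ^ d := by
        have : (0 : ℝ) < M := by exact_mod_cast hM1
        positivity
      rw [le_div_iff₀ hpw]
      exact hbd M hM
    exact lt_of_lt_of_le (ENNReal.ofReal_pos.mpr hC) hle

end Main

end Groth.Agent.Lib.helper7.Kodaira
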