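import Mathlib
import Groth.Agent.Lib.Helper7.Kodaira2
import Groth.Agent.Lib.Helper12.InvDual2
import Groth.Prelude.Def_NumR
import Groth.Agent.Lib.Helper8.DevInd

/-!
# The big cone is the ample cone plus the effective cone (helper7)

* `cls_tensor`, `cls_pow`, `clR_tensor`, `clR_pow`, `clR_of_iso`: classes in `N¹(X)_ℝ` of tensor products
* `isBig_of_ample`, `isBig_tensor_of_section`, `exists_decomp_of_isBig`
* `mem_bigCone_iff` (S19739)
-/

set_option autoImplicit false
set_option linter.unusedSectionVars false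
set_option linter.style.haveILetI false
universe u

open Filter Topology
open CategoryTheory CategoryTheory.Limits AlgebraicGeometry Opposite TopologicalSpace Module

namespace Groth.Agent.Lib.helper7.BigCone

open Groth.Agent.Lib.Lead.ModTensor Groth.Agent.Lib.helper7.Kodaira Groth.Agent.Lib.helper7.Growth

/-- the bigness predicate of S19739 -/
def IsBig {X : Scheme.{u}} (L : X.Modules) : Prop :=
  ∀ A : X.Modules, CohB1.IsAmple A → ∃ (m : ℕ) (φ : A ⟶ CohB1.tensorPow L m), 0 < m ∧ Mono φ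

section Cls

variable {X : Scheme.{u}} [PicGrp.Law X]

theorem cls_tensor {L M : X.Modules} (hL : PicF.IsInvertible L) (hM : PicF.IsInvertible M)
    (hLM : PicF.IsInvertible (CohB1.tensorMod L M)) :
    PicGrp.cls (CohB1.tensorMod L M) hLM = PicGrp.cls L hL * PicGrp.cls M hM :=
  Subtype.ext (PicGrp.cls_mul_cls_val hL hM).symm

theorem cls_pow {L : X.Modules} (hL : PicF.IsInvertible L) (n : ℕ)
    (hLn : PicF.IsInvertible (CohB1.tensorPow L n)) :
    PicGrp.cls (CohB1.tensorPow L n) hLn = PicGrp.cls L hL ^ n :=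
  Subtype.ext (PicGrp.cls_pow_val hL n).symm

variable (k : Type u) [Field k] [X.Over (Spec (CommRingCat.of k))]

theorem clR_tensor {L M : X.Modules} (hL : PicF.IsInvertible L) (hM : PicF.IsInvertible M)
    (hLM : PicF.IsInvertible (CohB1.tensorMod L M)) :
    NumR.clR k X (CohB1.tensorMod L M) hLM = NumR.clR k X L hL + NumR.clR k X M hM := by
  unfold NumR.clR NumR.cl
  rw [cls_tensor hL hM hLM, ofMul_mul, map_add, map_add]

theorem clR_pow {L : X.Modules} (hL : PicF.IsInvertible L) (n : ℕ)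
    (hLn : PicF.IsInvertible (CohB1.tensorPow L n)) :
    NumR.clR k X (CohB1.tensorPow L n) hLn = n • NumR.clR k X L hL := by
  unfold NumR.clR NumR.cl
  rw [cls_pow hL n hLn, ofMul_pow, map_nsmul, map_nsmul]

theorem clR_of_iso {L M : X.Modules} (hL : PicF.IsInvertible L) (hM : PicF.IsInvertible M)
    (e : L ≅ M) : NumR.clR k X L hL = NumR.clR k X M hM := by
  have h : PicGrp.cls L hL = PicGrp.cls M hM := (PicGrp.cls_eq_cls_iff hL hM).mpr ⟨e⟩
  unfold NumR.clR NumR.cl
  rw [h]

/-- if `H' ⊗ H ≅ O` then `[H] + [H' ⊗ M] = [M]` -/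
theorem clR_add_inverse_tensor {H H' M : X.Modules} (hH : PicF.IsInvertible H)
    (hH' : PicF.IsInvertible H') (hM : PicF.IsInvertible M)
    (hHM : PicF.IsInvertible (CohB1.tensorMod H' M))
    (e : CohB1.tensorMod H' H ≅ Coh.structureModule X) :
    NumR.clR k X H hH + NumR.clR k X (CohB1.tensorMod H' M) hHM = NumR.clR k X M hM := by
  have h1 : PicGrp.cls H' hH' * PicGrp.cls H hH = 1 :=
    (PicGrp.cls_mul_cls_eq_one_iff hH' hH).mpr ⟨e⟩
  have h2 : PicGrp.cls H hH * PicGrp.cls (CohB1.tensorMod H' M) hHM = PicGrp.cls M hM := by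
    rw [cls_tensor hH' hM hHM, ← mul_assoc, mul_comm (PicGrp.cls H hH), h1, one_mul]
  unfold NumR.clR NumR.cl
  rw [← map_add, ← map_add, ← ofMul_mul, h2]

end Cls

section Geom

/-- tensoring a big invertible module with an effective invertible module gives a big module -/
theorem isBig_tensor_of_section {X : Scheme.{u}} [IsIntegral X] {L E : X.Modules}
    (hL : PicF.IsInvertible L) (hE : PicF.IsInvertible E) (hbig : IsBig L)
    (s : Coh.structureModule X ⟶ E) (hs : s ≠ 0) : IsBig (CohB1.tensorMod L E) := by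
  intro A hA
  obtain ⟨m, φ, hm, hφ⟩ := hbig A hA
  haveI := hφ
  haveI : Mono s := Groth.Agent.Lib.Lead.CurveInv.mono_of_ne_zero
    (PicLoc.isInvertible_structureModule X) hE s hs
  haveI := mono_powMap hL hE s m
  exact ⟨m, φ ≫ powMap L s m, hm, mono_comp _ _⟩

variable (k : Type u) [Field k] (X : Scheme.{u}) [X.Over (Spec (CommRingCat.of k))]
  [IsProper (X ↘ Spec (CommRingCat.of k))] [IsIntegral X]

include k in
/-- an ample invertible module is big -/
theorem isBig_of_ample {A₀ : X.Modules} (hA₀ : CohB1.IsAmple A₀) : IsBig A₀ := by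
  haveI : LocallyOfFiniteType (X ↘ Spec (CommRingCat.of k)) := inferInstance
  obtain ⟨d, hd, -⟩ := Groth.Agent.Lib.helper3.IrredDim.exists_dim_eq_localDim_of_irreducible k X
  obtain ⟨c, hc, hev⟩ := ample_big k X d hd hA₀
  obtain ⟨m₁, hm₁⟩ := eventually_atTop.mp hev
  exact (kodaira_iff k X d hd hA₀ hA₀.1).mpr ⟨c, hc, m₁, hm₁⟩

/-- a big invertible module `L` has `m [L] = [H] + [E]` with `E` effective -/
theorem exists_decomp_of_isBig [PicGrp.Law X] {H : X.Modules} (hH : CohB1.IsAmple H)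
    {L : X.Modules} (hL : PicF.IsInvertible L) (hbig : IsBig L) :
    ∃ (m : ℕ) (E : X.Modules) (hE : PicF.IsInvertible E), 0 < m ∧ NumR.HasSection E ∧
      NumR.clR k X H hH.1 + NumR.clR k X E hE = m • NumR.clR k X L hL := by
  obtain ⟨m, φ, hm, hφ⟩ := hbig H hH
  haveI := hφ
  obtain ⟨H', hH', -, ⟨e⟩⟩ := Groth.Agent.Lib.helper12.InvDual.exists_inverse hH.1
  obtain ⟨u, hu⟩ := exists_section_of_mono_inverse
    (Groth.Agent.Lib.helper16.FLF.isFinLocFree_of_isInvertible hH') e φ
  have hLm := Groth.Agent.Lib.helper12.TensorInv.isInvertible_tensorPow hL m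
  have hE := Groth.Agent.Lib.helper12.TensorInv.isInvertible_tensorMod hH' hLm
  refine ⟨m, _, hE, hm, ⟨u, ?_⟩, ?_⟩
  · intro h0
    apply Groth.Agent.Lib.helper8.Dev.not_isZero_structureModule X
    have h2 : 𝟙 (Coh.structureModule X) = 0 := by
      rw [← cancel_mono u, h0, comp_zero, comp_zero]
    exact (IsZero.iff_id_eq_zero _).mpr h2
  · rw [clR_add_inverse_tensor k hH.1 hH' hLm hE e, clR_pow k hL m hLm]

end Geom

section Cone

variable (k : Type u) [Field k] (X : Scheme.{u}) [X.Over (Spec (CommRingCat.of k))]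
  [IsProper (X ↘ Spec (CommRingCat.of k))] [IsIntegral X] [PicGrp.Law X]

theorem ampleCone_le_bigCone : NumR.ampleCone k X ≤ NumR.coneOf k X IsBig := by
  apply ConvexCone.hull_min
  rintro _ ⟨L, hL, hA, rfl⟩
  exact ConvexCone.subset_hull ⟨L, hL, isBig_of_ample k X hA, rfl⟩

/-- for `L` big and `E` effective, `[L] + n[E]` is big -/
theorem clR_add_nsmul_mem {E : X.Modules} (hE : PicF.IsInvertible E)
    (s : Coh.structureModule X ⟶ E) (hs : s ≠ 0) :
    ∀ (n : ℕ) {L : X.Modules} (hL : PicF.IsInvertible L) (_ : IsBig L),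
      NumR.clR k X L hL + n • NumR.clR k X E hE ∈ NumR.coneOf k X IsBig
  | 0, L, hL, hbig => by
    rw [zero_smul, add_zero]
    exact ConvexCone.subset_hull ⟨L, hL, hbig, rfl⟩
  | n + 1, L, hL, hbig => by
    have hLE := Groth.Agent.Lib.helper12.TensorInv.isInvertible_tensorMod hL hE
    have h := clR_add_nsmul_mem hE s hs n hLE (isBig_tensor_of_section hL hE hbig s hs)
    rw [clR_tensor k hL hE hLE] at h
    convert h using 1
    rw [succ_nsmul]
    abel

theorem clR_add_smul_mem {E : X.Modules} (hE : PicF.IsInvertible E)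
    (s : Coh.structureModule X ⟶ E) (hs : s ≠ 0) {L : X.Modules} (hL : PicF.IsInvertible L)
    (hbig : IsBig L) (t : ℝ) (ht : 0 < t) :
    NumR.clR k X L hL + t • NumR.clR k X E hE ∈ NumR.coneOf k X IsBig := by
  obtain ⟨n, hn⟩ := exists_nat_gt t
  have h1 := clR_add_nsmul_mem k X hE s hs n hL hbig
  have h0 : NumR.clR k X L hL ∈ NumR.coneOf k X IsBig :=
    ConvexCone.subset_hull ⟨L, hL, hbig, rfl⟩
  have hn0 : (0 : ℝ) < n := ht.trans hn
  have heq : NumR.clR k X L hL + t • NumR.clR k X E hE =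
      (1 - t / n) • NumR.clR k X L hL +
        (t / n) • (NumR.clR k X L hL + n • NumR.clR k X E hE) := by
    rw [smul_add, ← add_assoc, ← add_smul, sub_add_cancel, one_smul, ← Nat.cast_smul_eq_nsmul ℝ,
      smul_smul, div_mul_cancel₀ _ hn0.ne']
  rw [heq]
  refine (NumR.coneOf k X IsBig).add_mem ((NumR.coneOf k X IsBig).smul_mem ?_ h0)
    ((NumR.coneOf k X IsBig).smul_mem (div_pos ht hn0) h1)
  rw [sub_pos, div_lt_one hn0]
  exact hn

theorem add_smul_mem_bigCone {E : X.Modules} (hE : PicF.IsInvertible E) (hsec : NumR.HasSection E)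
    {b : NumR.N1R k X} (hb : b ∈ NumR.coneOf k X IsBig) :
    ∀ t : ℝ, 0 < t → b + t • NumR.clR k X E hE ∈ NumR.coneOf k X IsBig := by
  obtain ⟨s, hs⟩ := hsec
  let V : ConvexCone ℝ (NumR.N1R k X) :=
    { carrier := {b | b ∈ NumR.coneOf k X IsBig ∧
        ∀ t : ℝ, 0 < t → b + t • NumR.clR k X E hE ∈ NumR.coneOf k X IsBig}
      smul_mem' := by
        rintro c hc b ⟨hb, h⟩
        refine ⟨(NumR.coneOf k X IsBig).smul_mem hc hb, fun t ht => ?_⟩
        have h1 := (NumR.coneOf k X IsBig).smul_mem hc (h (t / c) (div_pos ht hc))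
        rwa [smul_add, smul_smul, mul_div_cancel₀ _ hc.ne'] at h1
      add_mem' := by
        rintro b1 ⟨hb1, h1⟩ b2 ⟨hb2, h2⟩
        refine ⟨(NumR.coneOf k X IsBig).add_mem hb1 hb2, fun t ht => ?_⟩
        have h3 := (NumR.coneOf k X IsBig).add_mem (h1 t ht) hb2
        convert h3 using 1
        abel }
  have hV : NumR.coneOf k X IsBig ≤ V := by
    apply ConvexCone.hull_min
    rintro _ ⟨L, hL, hbig, rfl⟩
    exact ⟨ConvexCone.subset_hull ⟨L, hL, hbig, rfl⟩,
      fun t ht => clR_add_smul_mem k X hE s hs hL hbig t ht⟩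
  exact (hV hb).2

theorem add_mem_bigCone_of_mem_effCone {b e : NumR.N1R k X} (hb : b ∈ NumR.coneOf k X IsBig)
    (he : e ∈ NumR.effCone k X) : b + e ∈ NumR.coneOf k X IsBig := by
  let U : ConvexCone ℝ (NumR.N1R k X) :=
    { carrier := {e | ∀ b ∈ NumR.coneOf k X IsBig, b + e ∈ NumR.coneOf k X IsBig}
      smul_mem' := by
        rintro c hc e he b hb
        have h1 := (NumR.coneOf k X IsBig).smul_mem hc
          (he (c⁻¹ • b) ((NumR.coneOf k X IsBig).smul_mem (inv_pos.mpr hc) hb))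
        rwa [smul_add, smul_smul, mul_inv_cancel₀ hc.ne', one_smul] at h1
      add_mem' := by
        rintro e1 h1 e2 h2 b hb
        have h3 := h2 _ (h1 b hb)
        rwa [add_assoc] at h3 }
  have hU : NumR.effCone k X ≤ U := by
    apply ConvexCone.hull_min
    rintro _ ⟨E, hE, hsec, rfl⟩ b hb
    have h1 := add_smul_mem_bigCone k X hE hsec hb 1 one_pos
    rwa [one_smul] at h1
  exact hU he b hb

/-- **S19739**: the big cone is the sum of the ample cone and the effective cone -/
theorem mem_bigCone_iff {H : X.Modules} (hH : CohB1.IsAmple H) (x : NumR.N1R k X) :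
    x ∈ (NumR.coneOf k X IsBig : Set (NumR.N1R k X)) ↔
      ∃ a ∈ (NumR.ampleCone k X : Set (NumR.N1R k X)),
        x - a ∈ (NumR.effCone k X : Set (NumR.N1R k X)) := by
  constructor
  · intro hx
    let S : ConvexCone ℝ (NumR.N1R k X) :=
      { carrier := {x | ∃ a ∈ NumR.ampleCone k X, x - a ∈ NumR.effCone k X}
        smul_mem' := by
          rintro c hc x ⟨a, ha, hxa⟩
          refine ⟨c • a, (NumR.ampleCone k X).smul_mem hc ha, ?_⟩
          rw [← smul_sub]
          exact (NumR.effCone k X).smul_mem hc hxa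
        add_mem' := by
          rintro x ⟨a, ha, hxa⟩ y ⟨b, hb, hyb⟩
          refine ⟨a + b, (NumR.ampleCone k X).add_mem ha hb, ?_⟩
          have h : x + y - (a + b) = (x - a) + (y - b) := by abel
          rw [h]
          exact (NumR.effCone k X).add_mem hxa hyb }
    have hS : NumR.coneOf k X IsBig ≤ S := by
      apply ConvexCone.hull_min
      rintro _ ⟨L, hL, hbig, rfl⟩
      obtain ⟨m, E, hE, hm, hsec, heq⟩ := exists_decomp_of_isBig k X hH hL hbig
      have hm0 : (0 : ℝ) < m := by exact_mod_cast hm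
      refine ⟨(m : ℝ)⁻¹ • NumR.clR k X H hH.1,
        (NumR.ampleCone k X).smul_mem (inv_pos.mpr hm0)
          (ConvexCone.subset_hull ⟨H, hH.1, hH, rfl⟩), ?_⟩
      have h2 : NumR.clR k X L hL =
          (m : ℝ)⁻¹ • (NumR.clR k X H hH.1 + NumR.clR k X E hE) := by
        rw [heq, ← Nat.cast_smul_eq_nsmul ℝ, smul_smul, inv_mul_cancel₀ hm0.ne', one_smul]
      have h3 : NumR.clR k X L hL - (m : ℝ)⁻¹ • NumR.clR k X H hH.1 =
          (m : ℝ)⁻¹ • NumR.clR k X E hE := by
        rw [h2, smul_add, add_sub_cancel_left]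
      rw [h3]
      exact (NumR.effCone k X).smul_mem (inv_pos.mpr hm0)
        (ConvexCone.subset_hull ⟨E, hE, hsec, rfl⟩)
    exact hS hx
  · rintro ⟨a, ha, hxa⟩
    have h := add_mem_bigCone_of_mem_effCone k X (ampleCone_le_bigCone k X ha) hxa
    rwa [add_sub_cancel] at h

end Cone

end Groth.Agent.Lib.helper7.BigCone
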