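import Mathlib

/-!
# A convex cone all of whose generators are core points is open (helper7)

In a finite-dimensional real vector space with its module topology, a convex cone `C = hull G` such that every
generator `g ∈ G` can be moved a little inside `C` in each direction of a symmetric spanning set `S`, is open.

* `core_of_generators`, `segment_mem`, `isOpen_of_core`
-/

set_option autoImplicit false
set_option linter.unusedSectionVars false
set_option linter.style.haveILetI false

open Filter Topology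

namespace Groth.Agent.Lib.helper7.ConeOpen

variable {V : Type*} [AddCommGroup V] [Module ℝ V]

/-- the core property propagates from generators to the whole cone -/
theorem core_of_generators (G S : Set V)
    (hcore : ∀ g ∈ G, ∀ s ∈ S, ∃ ε : ℝ, 0 < ε ∧ g + ε • s ∈ ConvexCone.hull ℝ G) :
    ∀ c ∈ ConvexCone.hull ℝ G, ∀ s ∈ S, ∃ ε : ℝ, 0 < ε ∧ c + ε • s ∈ ConvexCone.hull ℝ G := by
  set C := ConvexCone.hull ℝ G with hC
  let K : ConvexCone ℝ V :=
    { carrier := {c | c ∈ C ∧ ∀ s ∈ S, ∃ ε : ℝ, 0 < ε ∧ c + ε • s ∈ C}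
      smul_mem' := by
        rintro t ht c ⟨hc, h⟩
        refine ⟨C.smul_mem ht hc, fun s hs => ?_⟩
        obtain ⟨ε, hε, h1⟩ := h s hs
        refine ⟨t * ε, mul_pos ht hε, ?_⟩
        have h2 := C.smul_mem ht h1
        rwa [smul_add, smul_smul] at h2
      add_mem' := by
        rintro c1 ⟨hc1, h1⟩ c2 ⟨hc2, -⟩
        refine ⟨C.add_mem hc1 hc2, fun s hs => ?_⟩
        obtain ⟨ε, hε, h2⟩ := h1 s hs
        refine ⟨ε, hε, ?_⟩
        have h3 := C.add_mem h2 hc2
        convert h3 using 1
        abel }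
  have hK : C ≤ K := by
    apply ConvexCone.hull_min
    intro g hg
    exact ⟨ConvexCone.subset_hull hg, hcore g hg⟩
  intro c hc
  exact (hK hc).2

/-- if `c` and `c + ε s` lie in a convex cone then so does `c + t s` for `0 ≤ t < ε` -/
theorem segment_mem (C : ConvexCone ℝ V) {c s : V} {ε t : ℝ} (hc : c ∈ C) (hε : c + ε • s ∈ C)
    (ht0 : 0 ≤ t) (ht : t < ε) : c + t • s ∈ C := by
  rcases ht0.eq_or_lt with h0 | h0
  · rw [← h0, zero_smul, add_zero]; exact hc
  · have hεpos : 0 < ε := h0.trans ht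
    have heq : c + t • s = (1 - t / ε) • c + (t / ε) • (c + ε • s) := by
      rw [smul_add, ← add_assoc, ← add_smul, sub_add_cancel, one_smul, smul_smul,
        div_mul_cancel₀ _ hεpos.ne']
    rw [heq]
    refine C.add_mem (C.smul_mem ?_ hc) (C.smul_mem (div_pos h0 hεpos) hε)
    rw [sub_pos, div_lt_one hεpos]
    exact ht

/-- two-sided version of the core property -/
theorem core_two_sided (G S : Set V) (hneg : ∀ s ∈ S, -s ∈ S)
    (hcore : ∀ g ∈ G, ∀ s ∈ S, ∃ ε : ℝ, 0 < ε ∧ g + ε • s ∈ ConvexCone.hull ℝ G) :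
    ∀ c ∈ ConvexCone.hull ℝ G, ∀ s ∈ S, ∃ ε : ℝ, 0 < ε ∧
      ∀ t : ℝ, |t| < ε → c + t • s ∈ ConvexCone.hull ℝ G := by
  intro c hc s hs
  obtain ⟨ε₁, hε₁, h1⟩ := core_of_generators G S hcore c hc s hs
  obtain ⟨ε₂, hε₂, h2⟩ := core_of_generators G S hcore c hc (-s) (hneg s hs)
  refine ⟨min ε₁ ε₂, lt_min hε₁ hε₂, fun t ht => ?_⟩
  rcases le_total 0 t with h0 | h0
  · rw [abs_of_nonneg h0] at ht
    exact segment_mem _ hc h1 h0 (lt_of_lt_of_le ht (min_le_left _ _))
  · rw [abs_of_nonpos h0] at ht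
    have h3 := segment_mem _ hc h2 (neg_nonneg.mpr h0) (lt_of_lt_of_le ht (min_le_right _ _))
    rwa [smul_neg, neg_smul, neg_neg] at h3

variable [TopologicalSpace V] [IsModuleTopology ℝ V] [Module.Finite ℝ V]

/-- a convex cone whose generators are core points (with respect to a symmetric spanning set) is open -/
theorem isOpen_of_core (G S : Set V) (hS : Submodule.span ℝ S = ⊤) (hneg : ∀ s ∈ S, -s ∈ S)
    (hcore : ∀ g ∈ G, ∀ s ∈ S, ∃ ε : ℝ, 0 < ε ∧ g + ε • s ∈ ConvexCone.hull ℝ G) :
    IsOpen (ConvexCone.hull ℝ G : Set V) := by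
  classical
  set C := ConvexCone.hull ℝ G with hC
  haveI : IsTopologicalAddGroup V := IsModuleTopology.topologicalAddGroup ℝ V
  have h2 := core_two_sided G S hneg hcore
  let b := Module.Basis.ofSpan (K := ℝ) (s := S) hS.ge
  haveI : Fintype ((linearIndepOn_empty ℝ id).extend (Set.empty_subset S)) :=
    FiniteDimensional.fintypeBasisIndex b
  have hbS : ∀ i, b i ∈ S := fun i => Module.Basis.ofSpan_subset hS.ge ⟨i, rfl⟩
  -- induction over finite sets of basis vectors
  have hP : ∀ T : Finset ((linearIndepOn_empty ℝ id).extend (Set.empty_subset S)),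
      ∀ c ∈ C, ∃ δ : ℝ, 0 < δ ∧ ∀ x : ((linearIndepOn_empty ℝ id).extend (Set.empty_subset S)) → ℝ,
        (∀ i ∈ T, |x i| < δ) → c + ∑ i ∈ T, x i • b i ∈ C := by
    intro T
    induction T using Finset.induction_on with
    | empty =>
      intro c hc
      exact ⟨1, one_pos, fun x _ => by rw [Finset.sum_empty, add_zero]; exact hc⟩
    | insert j T hj ih =>
      intro c hc
      have hc2 : (2 : ℝ)⁻¹ • c ∈ C := C.smul_mem (by norm_num) hc
      obtain ⟨δ₁, hδ₁, h1⟩ := ih _ hc2
      obtain ⟨ε, hε, h3⟩ := h2 _ hc2 (b j) (hbS j)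
      refine ⟨min δ₁ ε, lt_min hδ₁ hε, fun x hx => ?_⟩
      rw [Finset.sum_insert hj]
      have h4 := h1 x (fun i hi => lt_of_lt_of_le (hx i (Finset.mem_insert_of_mem hi)) (min_le_left _ _))
      have h5 := h3 (x j) (lt_of_lt_of_le (hx j (Finset.mem_insert_self j T)) (min_le_right _ _))
      have h6 := C.add_mem h5 h4
      convert h6 using 1
      have : c = (2 : ℝ)⁻¹ • c + (2 : ℝ)⁻¹ • c := by
        rw [← add_smul]; norm_num
      nth_rewrite 1 [this]
      abel
  rw [isOpen_iff_forall_mem_open]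
  intro c hc
  obtain ⟨δ, hδ, h⟩ := hP Finset.univ c hc
  let f : V → (((linearIndepOn_empty ℝ id).extend (Set.empty_subset S)) → ℝ) :=
    fun v => b.equivFun (v - c)
  have hf : Continuous f :=
    (IsModuleTopology.continuous_of_linearMap b.equivFun.toLinearMap).comp
      (continuous_id.sub continuous_const)
  refine ⟨f ⁻¹' (Set.pi Set.univ (fun _ => Metric.ball (0 : ℝ) δ)), ?_, ?_, ?_⟩
  · intro v hv
    have hv' : ∀ i, |b.equivFun (v - c) i| < δ := by
      intro i
      have := hv i (Set.mem_univ i)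
      rwa [Metric.mem_ball, Real.dist_eq, sub_zero] at this
    have h7 := h (fun i => b.equivFun (v - c) i) (fun i _ => hv' i)
    have h8 : ∑ i, b.equivFun (v - c) i • b i = v - c := b.sum_equivFun (v - c)
    rw [h8] at h7
    simpa using h7
  · exact hf.isOpen_preimage _ (isOpen_set_pi Set.finite_univ (fun _ _ => Metric.isOpen_ball))
  · intro i _
    change f c i ∈ Metric.ball (0 : ℝ) δ
    simp only [f, sub_self, map_zero, Pi.zero_apply]
    exact Metric.mem_ball_self hδ

end Groth.Agent.Lib.helper7.ConeOpen
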