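import Mathlib
import Groth.Agent.Lib.Helper7.BigCone
import Groth.Agent.Lib.Helper7.ConeOpen
import Groth.Agent.Lib.Helper12.AmpleQAff
import Groth.Agent.Lib.Helper12.GlobGen

/-!
# Openness of the ample cone; the big cone is the interior of the pseudo-effective cone (helper7)

* `exists_isAmple_twist`: `A ⊗ (M ⊗ A^n)` is ample for some `n`
* `exists_clR_neg`, `exists_nsmul_add_mem_ampleCone`, `isOpen_ampleCone`
* `bigCone_le_effCone`, `isOpen_bigCone`, `bigCone_eq_interior_psefCone` (S19740)
-/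

set_option autoImplicit false
set_option linter.unusedSectionVars false
set_option linter.style.haveILetI false
universe u

open Filter Topology
open CategoryTheory CategoryTheory.Limits AlgebraicGeometry Opposite TopologicalSpace Module

namespace Groth.Agent.Lib.helper7.BigCone

open Groth.Agent.Lib.Lead.ModTensor Groth.Agent.Lib.helper7.Kodaira Groth.Agent.Lib.helper7.Growth
open Groth.Agent.Lib.helper12.TensorInv

section Neg

variable {X : Scheme.{u}} [PicGrp.Law X] (k : Type u) [Field k] [X.Over (Spec (CommRingCat.of k))]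

theorem exists_clR_neg {M : X.Modules} (hM : PicF.IsInvertible M) :
    ∃ (M' : X.Modules) (hM' : PicF.IsInvertible M'),
      NumR.clR k X M' hM' = - NumR.clR k X M hM := by
  obtain ⟨M', hM', ⟨e⟩, -⟩ := Groth.Agent.Lib.helper12.InvDual.exists_inverse hM
  refine ⟨M', hM', ?_⟩
  have h1 : PicGrp.cls M hM * PicGrp.cls M' hM' = 1 :=
    (PicGrp.cls_mul_cls_eq_one_iff hM hM').mpr ⟨e⟩
  have h2 : NumR.clR k X M hM + NumR.clR k X M' hM' = 0 := by
    unfold NumR.clR NumR.cl
    rw [← map_add, ← map_add, ← ofMul_mul, h1, ofMul_one, map_zero, map_zero]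
  exact eq_neg_of_add_eq_zero_right h2

end Neg

section Twist

variable (k : Type u) [Field k] (X : Scheme.{u}) [X.Over (Spec (CommRingCat.of k))]
  [IsProper (X ↘ Spec (CommRingCat.of k))]

include k in
/-- for `A` ample and `M` invertible, `A ⊗ (M ⊗ A^n)` is ample for some `n` -/
theorem exists_isAmple_twist {A M : X.Modules} (hA : CohB1.IsAmple A) (hM : PicF.IsInvertible M) :
    ∃ n : ℕ, CohB1.IsAmple (CohB1.tensorMod A (CohB1.tensorMod M (CohB1.tensorPow A n))) := by
  obtain ⟨n₀, h⟩ := exists_gg_twist k X hA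
    (Groth.Agent.Lib.Lead.CurveInv.isCoh_of_isInvertible X hM)
  have hG := isInvertible_tensorMod hM (isInvertible_tensorPow hA.1 n₀)
  have hpg := Groth.Agent.Lib.helper12.GlobGen.pg_of_isGloballyGenerated hG (h n₀ le_rfl)
  refine ⟨n₀, Groth.Agent.Lib.helper12.AmpleQAff.isAmple_tensorMod_of_cover hA hG (fun x => ?_)⟩
  obtain ⟨t, ht⟩ := hpg x
  refine ⟨0, t ≫ (tensorPowOne _).inv, ?_⟩
  have h1 := Groth.Agent.Lib.helper11.IsoLocus.genLocus_comp_iso t (tensorPowOne _).symm
  rw [Iso.symm_hom] at h1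
  rw [h1]
  exact ht

variable [PicGrp.Law X]

theorem exists_nsmul_add_mem_ampleCone {A M : X.Modules} (hA : CohB1.IsAmple A)
    (hM : PicF.IsInvertible M) :
    ∃ n : ℕ, 0 < n ∧ n • NumR.clR k X A hA.1 + NumR.clR k X M hM ∈ NumR.ampleCone k X := by
  obtain ⟨n, h⟩ := exists_isAmple_twist k X hA hM
  refine ⟨n + 1, Nat.succ_pos n, ?_⟩
  have hAn := isInvertible_tensorPow hA.1 n
  have hG := isInvertible_tensorMod hM hAn
  have h1 : NumR.clR k X _ h.1 = (n + 1) • NumR.clR k X A hA.1 + NumR.clR k X M hM := by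
    rw [clR_tensor k hA.1 hG h.1, clR_tensor k hM hAn hG, clR_pow k hA.1 n hAn, succ_nsmul]
    abel
  rw [← h1]
  exact ConvexCone.subset_hull ⟨_, h.1, h, rfl⟩

/-- the ample cone is open in `N¹(X)_ℝ` when the latter is finite-dimensional -/
theorem isOpen_ampleCone [Module.Finite ℝ (NumR.N1R k X)] :
    IsOpen (NumR.ampleCone k X : Set (NumR.N1R k X)) := by
  unfold NumR.ampleCone NumR.coneOf
  apply Groth.Agent.Lib.helper7.ConeOpen.isOpen_of_core _
    {x : NumR.N1R k X | ∃ (L : X.Modules) (hL : PicF.IsInvertible L), x = NumR.clR k X L hL}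
    NumR.span_clR
  · rintro _ ⟨M, hM, rfl⟩
    obtain ⟨M', hM', h⟩ := exists_clR_neg k hM
    exact ⟨M', hM', h.symm⟩
  · rintro _ ⟨A, hA', hA, rfl⟩ _ ⟨M, hM, rfl⟩
    obtain ⟨n, hn, h⟩ := exists_nsmul_add_mem_ampleCone k X hA hM
    have hn0 : (0 : ℝ) < n := by exact_mod_cast hn
    refine ⟨(n : ℝ)⁻¹, inv_pos.mpr hn0, ?_⟩
    have h1 := (NumR.ampleCone k X).smul_mem (inv_pos.mpr hn0) h
    rwa [smul_add, ← Nat.cast_smul_eq_nsmul ℝ, smul_smul, inv_mul_cancel₀ hn0.ne', one_smul] at h1

end Twist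

section Main

variable (k : Type u) [Field k] (X : Scheme.{u}) [X.Over (Spec (CommRingCat.of k))]
  [IsProper (X ↘ Spec (CommRingCat.of k))] [IsIntegral X] [PicGrp.Law X]

/-- a big class is effective -/
theorem bigCone_le_effCone {H : X.Modules} (hH : CohB1.IsAmple H) :
    NumR.coneOf k X IsBig ≤ NumR.effCone k X := by
  apply ConvexCone.hull_min
  rintro _ ⟨L, hL, hbig, rfl⟩
  obtain ⟨m₁, h⟩ := exists_forall_nontrivial k X hH hL hbig
  have hLm := isInvertible_tensorPow hL (max m₁ 1)
  haveI := h (max m₁ 1) (le_max_left _ _)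
  haveI := Groth.Agent.Lib.Lead.ProperEuler.finite_HH k X _
    (Groth.Agent.Lib.Lead.CurveInv.isCoh_of_isInvertible X hLm) 0
  obtain ⟨s, hs⟩ := exists_section_ne_zero_of_finrank_pos k X
    (M := CohB1.tensorPow L (max m₁ 1)) Module.finrank_pos
  have hm0 : (0 : ℝ) < ((max m₁ 1 : ℕ) : ℝ) := by
    have : 0 < max m₁ 1 := lt_of_lt_of_le one_pos (le_max_right _ _)
    exact_mod_cast this
  have h1 : NumR.clR k X L hL =
      ((max m₁ 1 : ℕ) : ℝ)⁻¹ • NumR.clR k X (CohB1.tensorPow L (max m₁ 1)) hLm := by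
    rw [clR_pow k hL _ hLm, ← Nat.cast_smul_eq_nsmul ℝ, smul_smul, inv_mul_cancel₀ hm0.ne',
      one_smul]
  rw [h1]
  exact (NumR.effCone k X).smul_mem (inv_pos.mpr hm0)
    (ConvexCone.subset_hull ⟨_, hLm, ⟨s, hs⟩, rfl⟩)

variable [Module.Finite ℝ (NumR.N1R k X)]

theorem isOpen_bigCone {H : X.Modules} (hH : CohB1.IsAmple H) :
    IsOpen (NumR.coneOf k X IsBig : Set (NumR.N1R k X)) := by
  haveI : IsTopologicalAddGroup (NumR.N1R k X) :=
    IsModuleTopology.topologicalAddGroup ℝ (NumR.N1R k X)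
  rw [isOpen_iff_forall_mem_open]
  intro x hx
  obtain ⟨a, ha, hxa⟩ := (mem_bigCone_iff k X hH x).mp hx
  refine ⟨(fun v => v - (x - a)) ⁻¹' (NumR.ampleCone k X : Set (NumR.N1R k X)), ?_, ?_, ?_⟩
  · intro v hv
    refine (mem_bigCone_iff k X hH v).mpr ⟨v - (x - a), hv, ?_⟩
    have : v - (v - (x - a)) = x - a := by abel
    rw [this]
    exact hxa
  · exact (continuous_id.sub continuous_const).isOpen_preimage _ (isOpen_ampleCone k X)
  · change x - (x - a) ∈ (NumR.ampleCone k X : Set (NumR.N1R k X))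
    have : x - (x - a) = a := by abel
    rw [this]
    exact ha

/-- **S19740**: the big cone is the interior of the pseudo-effective cone, which is the closure of the big cone -/
theorem bigCone_eq_interior_psefCone {H : X.Modules} (hH : CohB1.IsAmple H) :
    (NumR.coneOf k X IsBig : Set (NumR.N1R k X)) = interior (NumR.psefCone k X) ∧
      NumR.psefCone k X = closure (NumR.coneOf k X IsBig : Set (NumR.N1R k X)) := by
  haveI : IsTopologicalAddGroup (NumR.N1R k X) :=
    IsModuleTopology.topologicalAddGroup ℝ (NumR.N1R k X)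
  have hBE : (NumR.coneOf k X IsBig : Set (NumR.N1R k X)) ⊆ (NumR.effCone k X : Set (NumR.N1R k X)) :=
    fun x hx => bigCone_le_effCone k X hH hx
  have hh : NumR.clR k X H hH.1 ∈ NumR.ampleCone k X :=
    ConvexCone.subset_hull ⟨H, hH.1, hH, rfl⟩
  constructor
  · apply Set.Subset.antisymm
    · exact interior_maximal (hBE.trans subset_closure) (isOpen_bigCone k X hH)
    · intro x hx
      -- move `x` a little in the direction `-h`
      have hcont : Continuous (fun t : ℝ => x - t • NumR.clR k X H hH.1) :=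
        by fun_prop
      have hopen : IsOpen ((fun t : ℝ => x - t • NumR.clR k X H hH.1) ⁻¹'
          interior (NumR.psefCone k X)) := hcont.isOpen_preimage _ isOpen_interior
      have h0 : (0 : ℝ) ∈ (fun t : ℝ => x - t • NumR.clR k X H hH.1) ⁻¹'
          interior (NumR.psefCone k X) := by
        change x - (0 : ℝ) • NumR.clR k X H hH.1 ∈ interior (NumR.psefCone k X)
        rw [zero_smul, sub_zero]
        exact hx
      obtain ⟨ε, hε, hball⟩ := Metric.isOpen_iff.mp hopen 0 h0
      have ht : (ε / 2) ∈ Metric.ball (0 : ℝ) ε := by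
        rw [Metric.mem_ball, Real.dist_eq, sub_zero, abs_of_pos (half_pos hε)]
        exact half_lt_self hε
      have hp : x - (ε / 2) • NumR.clR k X H hH.1 ∈ NumR.psefCone k X :=
        interior_subset (hball ht)
      have ha : (ε / 2) • NumR.clR k X H hH.1 ∈ NumR.ampleCone k X :=
        (NumR.ampleCone k X).smul_mem (half_pos hε) hh
      -- the open set `x - Amp` meets the effective cone
      have hW : IsOpen ((fun v => x - v) ⁻¹' (NumR.ampleCone k X : Set (NumR.N1R k X))) :=
        (continuous_const.sub continuous_id).isOpen_preimage _ (isOpen_ampleCone k X)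
      have hpW : x - (ε / 2) • NumR.clR k X H hH.1 ∈
          (fun v => x - v) ⁻¹' (NumR.ampleCone k X : Set (NumR.N1R k X)) := by
        change x - (x - (ε / 2) • NumR.clR k X H hH.1) ∈ (NumR.ampleCone k X : Set (NumR.N1R k X))
        have : x - (x - (ε / 2) • NumR.clR k X H hH.1) = (ε / 2) • NumR.clR k X H hH.1 := by abel
        rw [this]
        exact ha
      obtain ⟨e, heW, heE⟩ := mem_closure_iff.mp hp _ hW hpW
      refine (mem_bigCone_iff k X hH x).mpr ⟨x - e, heW, ?_⟩
      have : x - (x - e) = e := by abel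
      rw [this]
      exact heE
  · apply Set.Subset.antisymm
    · apply closure_minimal _ isClosed_closure
      intro e he
      have hcont : Continuous (fun t : ℝ => e + t • NumR.clR k X H hH.1) :=
        by fun_prop
      have htend : Tendsto (fun t : ℝ => e + t • NumR.clR k X H hH.1) (𝓝[>] (0 : ℝ)) (𝓝 e) := by
        have h1 := (hcont.tendsto 0).mono_left (nhdsWithin_le_nhds (s := Set.Ioi (0 : ℝ)))
        simpa using h1
      refine mem_closure_of_tendsto htend ?_
      filter_upwards [self_mem_nhdsWithin] with t ht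
      refine (mem_bigCone_iff k X hH _).mpr ⟨t • NumR.clR k X H hH.1,
        (NumR.ampleCone k X).smul_mem ht hh, ?_⟩
      rw [add_sub_cancel_right]
      exact he
    · exact closure_mono hBE

end Main

end Groth.Agent.Lib.helper7.BigCone
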