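import Mathlib
import Groth.Agent.Lib.Helper7.SnapperPos5
import Groth.Agent.Lib.Helper5.KrullComp2
import Groth.Agent.Lib.Helper3.FTFieldClosureDim
import Groth.Agent.Lib.Helper18.EffCartierCurve

/-!
# List-based intersection numbers (helper7)

`E k X l G = ∫ c(l_1) ⋯ c(l_r) G` defined by the recursion
`E [] G = χ(G)`, `E (A :: l) G = E l G − E l (G ⊗ A)`  (the slots hold the INVERSES of the
invertible modules whose Chern classes are meant).

* `exists_dim_le`: a proper `k`-scheme has finite dimension
* `E_iso`, `E_congr_head`, `E_swap`, `E_perm`, `E_additive`, `E_unit`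
* `E_ofFn`, `E_eq_intNum`: the bridge to `FGA.intNum`
* `E_eq_zero`, `E_tensor`, `E_inv`, `E_tensorPow`
-/

set_option autoImplicit false
set_option linter.unusedSectionVars false
set_option linter.style.haveILetI false
universe u

open CategoryTheory CategoryTheory.Limits AlgebraicGeometry Opposite TopologicalSpace

namespace Groth.Agent.Lib.helper7.IntList

open Groth.Agent.Lib.helper7.SnapperSplit Groth.Agent.Lib.helper7.SnapperNewton
open Groth.Agent.Lib.helper7.SnapperCartier2 Groth.Agent.Lib.helper7.SnapperPos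
open Groth.Agent.Lib.Lead.ModTensor

variable (k : Type u) [Field k] (X : Scheme.{u}) [X.Over (Spec (CommRingCat.of k))]
  [IsProper (X ↘ Spec (CommRingCat.of k))]

include k in
/-- a proper `k`-scheme has finite dimension -/
theorem exists_dim_le : ∃ d : ℕ, topologicalKrullDim X ≤ d := by
  classical
  haveI := Groth.Agent.Lib.Lead.CurveEuler.isNoetherian k X
  have hfin : (irreducibleComponents X).Finite :=
    TopologicalSpace.NoetherianSpace.finite_irreducibleComponents
  have h : ∀ Q ∈ irreducibleComponents X, ∃ n : ℕ, topologicalKrullDim ↥Q = (n : WithBot ℕ∞) := by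
    intro Q hQ
    have hirr : IsIrreducible Q := hQ.1
    have hcl : IsClosed Q := isClosed_of_mem_irreducibleComponents Q hQ
    have hgen := hirr.isGenericPoint_genericPoint hcl
    obtain ⟨n, hn⟩ := Groth.Agent.Lib.helper3.FTField.exists_nat_trdeg_residueField k X
      hirr.genericPoint
    refine ⟨n, ?_⟩
    have := Groth.Agent.Lib.helper3.FTField.dim_closure_eq_trdeg k X hirr.genericPoint n hn
    rwa [hgen.def] at this
  choose! f hf using h
  refine ⟨hfin.toFinset.sup f,
    Groth.Agent.Lib.helper5.KrullComp2.dim_le_of_forall_irreducibleComponents _ (fun Q hQ => ?_)⟩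
  rw [hf Q hQ]
  exact_mod_cast Finset.le_sup (f := f) (hfin.mem_toFinset.mpr hQ)

/-- the list-based intersection symbol -/
noncomputable def E : List X.Modules → X.Modules → ℤ
  | [], G => Curv2.euler k X G
  | A :: l, G => E l G - E l (CohB1.tensorMod G A)

@[simp] theorem E_nil (G : X.Modules) : E k X [] G = Curv2.euler k X G := rfl

theorem E_cons (A : X.Modules) (l : List X.Modules) (G : X.Modules) :
    E k X (A :: l) G = E k X l G - E k X l (CohB1.tensorMod G A) := rfl

theorem E_iso : ∀ (l : List X.Modules) {G G' : X.Modules} (_ : G ≅ G'), E k X l G = E k X l G'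
  | [], _, _, e => Groth.Agent.Lib.Lead.CurveEuler.euler_eq_of_iso k X e
  | A :: l, _, _, e => by
    rw [E_cons, E_cons, E_iso l e, E_iso l (tensorIso e (Iso.refl A))]

theorem E_congr_head {A A' : X.Modules} (e : A ≅ A') (l : List X.Modules) (G : X.Modules) :
    E k X (A :: l) G = E k X (A' :: l) G := by
  rw [E_cons, E_cons, E_iso k X l (tensorIso (Iso.refl G) e)]

theorem E_swap (A B : X.Modules) (l : List X.Modules) (G : X.Modules) :
    E k X (A :: B :: l) G = E k X (B :: A :: l) G := by
  simp only [E_cons]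
  rw [E_iso k X l (assoc G A B ≪≫ tensorIso (Iso.refl G) (braid A B) ≪≫ (assoc G B A).symm)]
  ring

theorem E_perm {l l' : List X.Modules} (h : l.Perm l') : ∀ G : X.Modules, E k X l G = E k X l' G := by
  induction h with
  | nil => intro G; rfl
  | cons a _ ih => intro G; rw [E_cons, E_cons, ih, ih]
  | swap a b l => intro G; exact E_swap k X b a l G
  | trans _ _ ih1 ih2 => intro G; rw [ih1, ih2]

theorem E_unit (l : List X.Modules) (G : X.Modules) :
    E k X (Coh.structureModule X :: l) G = 0 := by
  rw [E_cons, E_iso k X l (rightUnitor G), sub_self]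

/-- additivity on short exact sequences -/
theorem E_additive : ∀ (l : List X.Modules) (_ : ∀ A ∈ l, PicF.IsInvertible A)
    (S : ShortComplex X.Modules) (_ : S.ShortExact) (_ : Coh.IsCoh S.X₁) (_ : Coh.IsCoh S.X₃),
    E k X l S.X₂ = E k X l S.X₁ + E k X l S.X₃
  | [], _, S, hS, h₁, h₃ => Groth.Agent.Lib.Lead.ProperEuler.euler_additive k hS h₁ h₃
  | A :: l, hl, S, hS, h₁, h₃ => by
    have hA : PicF.IsInvertible A := hl A (List.mem_cons_self)
    have hl' : ∀ B ∈ l, PicF.IsInvertible B := fun B hB => hl B (List.mem_cons_of_mem _ hB)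
    have hAc : Coh.IsCoh A := Groth.Agent.Lib.Lead.CurveInv.isCoh_of_isInvertible X hA
    obtain ⟨w, hw⟩ := Groth.Agent.Lib.Helper18.DegCalc.shortExact_tensor S hS
      (Groth.Agent.Lib.Helper18.EffCartierCurve.isFinLocFreeOfRank_one_of_isInvertible hA)
    have h1 := E_additive l hl' S hS h₁ h₃
    have h2 := E_additive l hl' _ hw
      (Groth.Agent.Lib.Helper18.DegCalc.isCoh_tensorMod h₁ hAc)
      (Groth.Agent.Lib.Helper18.DegCalc.isCoh_tensorMod h₃ hAc)
    simp only [E_cons]
    change E k X l (CohB1.tensorMod S.X₂ A) =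
      E k X l (CohB1.tensorMod S.X₁ A) + E k X l (CohB1.tensorMod S.X₃ A) at h2
    rw [h1, h2]
    ring

/-! ### the bridge to `FGA.intNum` -/

theorem E_ofFn (d : ℕ) (hd : topologicalKrullDim X ≤ d) :
    ∀ {r : ℕ} (M : Fin r → X.Modules) (G : X.Modules),
      E k X (List.ofFn M) G = FGA.intNum k X d M G
  | 0, M, G => by
    have hM : M = fun _ : Fin 0 => Coh.structureModule X := Subsingleton.elim _ _
    rw [hM]
    have h := D_zero k X d hd (Coh.structureModule X) G
    unfold D at h
    rw [h]
    simp
  | r + 1, M, G => by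
    rw [List.ofFn_succ, E_cons, E_ofFn d hd, E_ofFn d hd]
    have h := intNum_cons k X d hd (M 0) (fun i => M i.succ) G
    have hc : (Fin.cons (M 0) (fun i => M i.succ) : Fin (r + 1) → X.Modules) = M := by
      funext j
      refine Fin.cases rfl (fun _ => rfl) j
    rw [hc] at h
    exact h.symm

theorem E_eq_intNum (d : ℕ) (hd : topologicalKrullDim X ≤ d) (l : List X.Modules) (G : X.Modules) :
    E k X l G = FGA.intNum k X d (fun i : Fin l.length => l.get i) G := by
  rw [← E_ofFn k X d hd, List.ofFn_get]

theorem E_replicate (d : ℕ) (hd : topologicalKrullDim X ≤ d) (M : X.Modules) (r : ℕ)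
    (G : X.Modules) : E k X (List.replicate r M) G = D k X d M r G := by
  unfold D
  rw [← E_ofFn k X d hd, List.ofFn_const]

/-- vanishing for small support -/
theorem E_eq_zero (l : List X.Modules) (hl : ∀ A ∈ l, PicF.IsInvertible A) (G : X.Modules)
    (hG : Coh.IsCoh G) (hr : topologicalKrullDim (CohB1.support G) < (l.length : WithBot ℕ∞)) :
    E k X l G = 0 := by
  obtain ⟨d, hd⟩ := exists_dim_le k X
  rw [E_eq_intNum k X d hd]
  exact intNum_eq_zero k X d hd _ (fun i => hl _ (List.get_mem l i)) G hG hr

/-- additivity in the first slot -/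
theorem E_tensor (A B : X.Modules) (hA : PicF.IsInvertible A) (hB : PicF.IsInvertible B)
    (l : List X.Modules) (hl : ∀ A ∈ l, PicF.IsInvertible A) (G : X.Modules) (hG : Coh.IsCoh G)
    (hr : topologicalKrullDim (CohB1.support G) ≤ ((l.length + 1 : ℕ) : WithBot ℕ∞)) :
    E k X (CohB1.tensorMod A B :: l) G = E k X (A :: l) G + E k X (B :: l) G := by
  have h0 : E k X (B :: A :: l) G = 0 := by
    apply E_eq_zero k X _ _ G hG
    · refine lt_of_le_of_lt hr ?_
      simp only [List.length_cons]
      exact_mod_cast Nat.lt_succ_self (l.length + 1)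
    · intro C hC
      rcases List.mem_cons.mp hC with rfl | hC
      · exact hB
      rcases List.mem_cons.mp hC with rfl | hC
      · exact hA
      · exact hl C hC
  simp only [E_cons] at h0 ⊢
  rw [E_iso k X l (assoc G B A ≪≫ tensorIso (Iso.refl G) (braid B A))] at h0
  linarith

/-- inverses in the first slot -/
theorem E_inv (A A' : X.Modules) (hA : PicF.IsInvertible A) (hA' : PicF.IsInvertible A')
    (e : CohB1.tensorMod A A' ≅ Coh.structureModule X)
    (l : List X.Modules) (hl : ∀ A ∈ l, PicF.IsInvertible A) (G : X.Modules) (hG : Coh.IsCoh G)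
    (hr : topologicalKrullDim (CohB1.support G) ≤ ((l.length + 1 : ℕ) : WithBot ℕ∞)) :
    E k X (A' :: l) G = - E k X (A :: l) G := by
  have h := E_tensor k X A A' hA hA' l hl G hG hr
  rw [E_congr_head k X e, E_unit] at h
  linarith

/-- homogeneity in the first slot -/
theorem E_tensorPow (A : X.Modules) (hA : PicF.IsInvertible A)
    (l : List X.Modules) (hl : ∀ A ∈ l, PicF.IsInvertible A) (G : X.Modules) (hG : Coh.IsCoh G)
    (hr : topologicalKrullDim (CohB1.support G) ≤ ((l.length + 1 : ℕ) : WithBot ℕ∞)) (m : ℕ) :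
    E k X (CohB1.tensorPow A m :: l) G = (m : ℤ) * E k X (A :: l) G := by
  induction m with
  | zero =>
    rw [Nat.cast_zero, zero_mul]
    exact E_unit k X l G
  | succ m ih =>
    have h := E_tensor k X (CohB1.tensorPow A m) A
      (Groth.Agent.Lib.helper12.TensorInv.isInvertible_tensorPow hA m) hA l hl G hG hr
    show E k X (CohB1.tensorMod (CohB1.tensorPow A m) A :: l) G = _
    rw [h, ih]
    push_cast
    ring

end Groth.Agent.Lib.helper7.IntList
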