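import Mathlib
import Groth.Agent.Lib.Helper7.IntList1
import Groth.Agent.Lib.Helper7.SnapperPos3

/-!
# List-based intersection numbers II: push, multiplicities, cutting, reduction to integral (helper7)

* `E_push`, `E_sum_mult`
* `exists_divisor_of_ample`, `cut_ample`
* `GoodPred`, `red`: reduction of a sign statement to integral schemes
-/

set_option autoImplicit false
set_option linter.unusedSectionVars false
set_option linter.style.haveILetI false
universe u

open CategoryTheory CategoryTheory.Limits AlgebraicGeometry Opposite TopologicalSpace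

namespace Groth.Agent.Lib.helper7.IntList

open Groth.Agent.Lib.helper7.SnapperSplit Groth.Agent.Lib.helper7.SnapperNewton
open Groth.Agent.Lib.helper7.SnapperCartier2 Groth.Agent.Lib.helper7.SnapperPos
open Groth.Agent.Lib.helper7.SnapperQuot Groth.Agent.Lib.helper7.SnapperMult
open Groth.Agent.Lib.Lead.ModTensor

variable (k : Type u) [Field k]

section Push

variable (X : Scheme.{u}) [X.Over (Spec (CommRingCat.of k))]
  [IsProper (X ↘ Spec (CommRingCat.of k))]

/-- the projection formula along a closed immersion -/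
theorem E_push {Z : Scheme.{u}} (i : Z ⟶ X) [IsClosedImmersion i] (l : List X.Modules)
    (hl : ∀ A ∈ l, PicF.IsInvertible A) (G : Z.Modules) [G.IsQuasicoherent] :
    letI : Z.Over (Spec (CommRingCat.of k)) := ⟨i ≫ (X ↘ Spec (CommRingCat.of k))⟩
    E k X l ((Scheme.Modules.pushforward i).obj G) =
      E k Z (l.map (Scheme.Modules.pullback i).obj) G := by
  letI : Z.Over (Spec (CommRingCat.of k)) := ⟨i ≫ (X ↘ Spec (CommRingCat.of k))⟩
  haveI : IsProper (Z ↘ Spec (CommRingCat.of k)) := by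
    show IsProper (i ≫ (X ↘ Spec (CommRingCat.of k)))
    infer_instance
  obtain ⟨d, hd⟩ := exists_dim_le k X
  have hdZ : topologicalKrullDim Z ≤ d :=
    le_trans i.isClosedEmbedding.isInducing.topologicalKrullDim_le hd
  have h := intNum_push k X i d hd (fun j : Fin l.length => l.get j)
    (fun j => hl _ (List.get_mem l j)) G
  rw [E_eq_intNum k X d hd, h, ← E_ofFn k Z d hdZ]
  congr 1
  conv_rhs => rw [← List.ofFn_get l]
  rw [List.map_ofFn]
  rfl

/-- the sum over the top-dimensional points of the support -/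
theorem E_sum_mult (l : List X.Modules) (hl : ∀ A ∈ l, PicF.IsInvertible A) (F : X.Modules)
    (hF : Coh.IsCoh F)
    (hsupp : topologicalKrullDim (CohB1.support F) ≤ ((l.length : ℕ) : WithBot ℕ∞))
    (s : Finset X) (hs : ∀ ξ : X, ξ ∈ s ↔ ξ ∈ CohB1.support F ∧
      topologicalKrullDim (closure ({ξ} : Set X)) = ((l.length : ℕ) : WithBot ℕ∞)) :
    E k X l F = ∑ ξ ∈ s, (mult F ξ : ℤ) * E k X l (Gx ξ) := by
  obtain ⟨d, hd⟩ := exists_dim_le k X
  rw [E_eq_intNum k X d hd,
    intNum_eq_sum_mult k X d hd _ (fun j => hl _ (List.get_mem l j)) F hF hsupp s hs]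
  apply Finset.sum_congr rfl
  intro ξ _
  rw [E_eq_intNum k X d hd]

end Push

section Cut

variable (Z : Scheme.{u}) [Z.Over (Spec (CommRingCat.of k))]
  [IsProper (Z ↘ Spec (CommRingCat.of k))]

include k in
/-- an ample module on an integral scheme has a power with a regular section -/
theorem exists_divisor_of_ample [IsIntegral Z] {T T' : Z.Modules} (hT : CohB1.IsAmple T)
    (ε₀ : CohB1.tensorMod T T' ≅ Coh.structureModule Z) :
    ∃ (m : ℕ) (D : Z.IdealSheafData), 0 < m ∧ BlowUp.IsEffCartierIdeal D ∧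
      Nonempty (ClSub.idealMod D ≅ CohB1.tensorPow T' m) := by
  haveI := Groth.Agent.Lib.Lead.CurveEuler.isNoetherian k Z
  have hT' : PicF.IsInvertible T' :=
    Groth.Agent.Lib.helper11.AmpleAffine.isInvertible_of_isInverseOf hT.1 ⟨ε₀⟩
  obtain ⟨n, s, hηs, -⟩ := hT.2.2 (genericPoint Z)
  let N : Z.Modules := CohB1.tensorPow T (n + 1)
  let N' : Z.Modules := CohB1.tensorPow T' (n + 1)
  have hN' : PicF.IsInvertible N' :=
    Groth.Agent.Lib.helper12.TensorInv.isInvertible_tensorPow hT' (n + 1)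
  let ε : CohB1.tensorMod N N' ≅ Coh.structureModule Z := tensorPowInvIso ε₀ (n + 1)
  haveI : N'.IsQuasicoherent := (Groth.Agent.Lib.Lead.CurveInv.isCoh_of_isInvertible Z hN').1
  have hne : ∃ x : Z, x ∈ CohB1.genLocus N s := ⟨genericPoint Z, hηs⟩
  obtain ⟨eD⟩ := nonempty_idealMod_divisor_iso N N' ε s hN' hne
  exact ⟨n + 1, divisor N N' ε s, Nat.succ_pos n, isEffCartier_divisor N N' ε s hN' hne,
    ⟨eD.symm⟩⟩

/-- cutting by an ideal sheaf isomorphic to the first slot -/
theorem E_cut_ideal (D : Z.IdealSheafData) {P' : Z.Modules} (eD : ClSub.idealMod D ≅ P')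
    (l : List Z.Modules) (hl : ∀ A ∈ l, PicF.IsInvertible A) :
    E k Z (P' :: l) (Coh.structureModule Z) = E k Z l (ClSub.quotMod D) := by
  haveI := Groth.Agent.Lib.Lead.CurveEuler.isNoetherian k Z
  have hO : Coh.IsCoh (Coh.structureModule Z) :=
    Groth.Agent.Lib.helper8.Dev.isCoh_structureModule Z
  have hQ : Coh.IsCoh (ClSub.quotMod D) := isCoh_quotMod D
  have hI : Coh.IsCoh (ClSub.idealMod D) :=
    Groth.Agent.Lib.helper7.CohKer.isCoh_kernel hO hQ (ClSub.toSubscheme D)
  have hadd := E_additive k Z l hl (Groth.Agent.Lib.helper7.IdealMod.idealSeq D)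
    (Groth.Agent.Lib.helper7.IdealMod.idealSeq_shortExact D) hI hQ
  change E k Z l (Coh.structureModule Z) = E k Z l (ClSub.idealMod D) + E k Z l (ClSub.quotMod D)
    at hadd
  rw [← E_congr_head k Z eD, E_cons, E_iso k Z l (leftUnitor (ClSub.idealMod D)), hadd]
  ring

/-- cutting an integral scheme by a section of a power of an ample module -/
theorem cut_ample [IsIntegral Z] (r : ℕ)
    (hdim : topologicalKrullDim Z = ((r + 1 : ℕ) : WithBot ℕ∞))
    {T T' : Z.Modules} (hT : CohB1.IsAmple T)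
    (ε₀ : CohB1.tensorMod T T' ≅ Coh.structureModule Z)
    (l : List Z.Modules) (hl : ∀ A ∈ l, PicF.IsInvertible A) (hlen : l.length = r) :
    ∃ (m : ℕ) (G : Z.Modules), 0 < m ∧ Coh.IsCoh G ∧
      topologicalKrullDim (CohB1.support G) ≤ ((r : ℕ) : WithBot ℕ∞) ∧
      (m : ℤ) * E k Z (T' :: l) (Coh.structureModule Z) = E k Z l G := by
  haveI := Groth.Agent.Lib.Lead.CurveEuler.isNoetherian k Z
  have hO : Coh.IsCoh (Coh.structureModule Z) :=
    Groth.Agent.Lib.helper8.Dev.isCoh_structureModule Z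
  have hT' : PicF.IsInvertible T' :=
    Groth.Agent.Lib.helper11.AmpleAffine.isInvertible_of_isInverseOf hT.1 ⟨ε₀⟩
  obtain ⟨m, D, hm, hD, ⟨eD⟩⟩ := exists_divisor_of_ample k Z hT ε₀
  refine ⟨m, ClSub.quotMod D, hm, isCoh_quotMod D, ?_, ?_⟩
  · have h1 := Groth.Agent.Lib.helper8.DimLt.topologicalKrullDim_le_of_subset
      (support_quotMod_subset D)
    have h2 : topologicalKrullDim Z = ((r : ℕ) : WithBot ℕ∞) + 1 := by
      rw [hdim]; push_cast; rfl
    exact h1.trans
      (Groth.Agent.Lib.helper7.SnapperCartier.dim_support_le_of_effCartier D hD r h2)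
  · have hsuppO : topologicalKrullDim (CohB1.support (Coh.structureModule Z)) ≤
        ((l.length + 1 : ℕ) : WithBot ℕ∞) := by
      rw [Groth.Agent.Lib.helper7.SnapperARR.dim_support_structureModule Z, hdim, hlen]
    rw [← E_tensorPow k Z T' hT' l hl _ hO hsuppO m]
    exact E_cut_ideal k Z D eD l hl

end Cut

/-- predicates on integers compatible with the reductions -/
structure GoodPred (φ : ℤ → Prop) : Prop where
  zero : φ 0
  add : ∀ a b, φ a → φ b → φ (a + b)
  nsmul : ∀ (m : ℕ) a, φ a → φ ((m : ℤ) * a)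
  div : ∀ (m : ℕ) a, 0 < m → φ ((m : ℤ) * a) → φ a

theorem goodPred_nonneg : GoodPred (fun a : ℤ => 0 ≤ a) where
  zero := le_rfl
  add := fun _ _ ha hb => add_nonneg ha hb
  nsmul := fun m _ ha => mul_nonneg (Int.natCast_nonneg m) ha
  div := fun m a hm h => by
    have hm' : (0 : ℤ) < (m : ℤ) := by exact_mod_cast hm
    exact nonneg_of_mul_nonneg_right h hm'

theorem goodPred_eq_zero : GoodPred (fun a : ℤ => a = 0) where
  zero := rfl
  add := fun _ _ ha hb => by rw [ha, hb, add_zero]
  nsmul := fun m _ ha => by rw [ha, mul_zero]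
  div := fun m a hm h => by
    have hm' : (m : ℤ) ≠ 0 := by exact_mod_cast hm.ne'
    rcases mul_eq_zero.mp h with h | h
    · exact absurd h hm'
    · exact h

theorem GoodPred.sum {φ : ℤ → Prop} (hφ : GoodPred φ) {ι : Type*} (s : Finset ι) (f : ι → ℤ)
    (h : ∀ i ∈ s, φ (f i)) : φ (∑ i ∈ s, f i) := by
  classical
  induction s using Finset.induction_on with
  | empty => simpa using hφ.zero
  | insert a s ha ih =>
    rw [Finset.sum_insert ha]
    exact hφ.add _ _ (h a (Finset.mem_insert_self a s))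
      (ih (fun i hi => h i (Finset.mem_insert_of_mem hi)))

section Red

/-- reduction of a sign statement to integral schemes -/
theorem red {φ : ℤ → Prop} (hφ : GoodPred φ)
    (𝒞 : ∀ (Y : Scheme.{u}) [Y.Over (Spec (CommRingCat.of k))], List Y.Modules → Prop)
    (hinv : ∀ (Y : Scheme.{u}) [Y.Over (Spec (CommRingCat.of k))] (l : List Y.Modules),
      𝒞 Y l → ∀ A ∈ l, PicF.IsInvertible A)
    (hpull : ∀ (Y : Scheme.{u}) [Y.Over (Spec (CommRingCat.of k))]
      [IsProper (Y ↘ Spec (CommRingCat.of k))] (Z : Scheme.{u}) (i : Z ⟶ Y) [IsClosedImmersion i]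
      (l : List Y.Modules), 𝒞 Y l →
        @𝒞 Z ⟨i ≫ (Y ↘ Spec (CommRingCat.of k))⟩ (l.map (Scheme.Modules.pullback i).obj))
    (r : ℕ)
    (hint : ∀ (Z : Scheme.{u}) [Z.Over (Spec (CommRingCat.of k))]
      [IsProper (Z ↘ Spec (CommRingCat.of k))] [IsIntegral Z],
      topologicalKrullDim Z = ((r : ℕ) : WithBot ℕ∞) → ∀ l : List Z.Modules, l.length = r →
        𝒞 Z l → φ (E k Z l (Coh.structureModule Z)))
    (X : Scheme.{u}) [X.Over (Spec (CommRingCat.of k))] [IsProper (X ↘ Spec (CommRingCat.of k))]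
    (l : List X.Modules) (hlen : l.length = r) (hl : 𝒞 X l) (G : X.Modules) (hG : Coh.IsCoh G)
    (hsupp : topologicalKrullDim (CohB1.support G) ≤ ((r : ℕ) : WithBot ℕ∞)) :
    φ (E k X l G) := by
  classical
  haveI := Groth.Agent.Lib.Lead.CurveEuler.isNoetherian k X
  have hli := hinv X l hl
  have hsupp' : topologicalKrullDim (CohB1.support G) ≤ ((l.length : ℕ) : WithBot ℕ∞) := by
    rw [hlen]; exact hsupp
  have hfin := finite_top_points G hG hsupp'
  have hs : ∀ ξ : X, ξ ∈ hfin.toFinset ↔ ξ ∈ CohB1.support G ∧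
      topologicalKrullDim (closure ({ξ} : Set X)) = ((l.length : ℕ) : WithBot ℕ∞) := by
    intro ξ
    rw [Set.Finite.mem_toFinset]
    rfl
  rw [E_sum_mult k X l hli G hG hsupp' hfin.toFinset hs]
  refine hφ.sum _ _ (fun ξ hξ => hφ.nsmul _ _ ?_)
  obtain ⟨-, hξ2⟩ := (hs ξ).mp hξ
  let i := (Jx ξ).subschemeι
  letI : (Jx ξ).subscheme.Over (Spec (CommRingCat.of k)) :=
    ⟨i ≫ (X ↘ Spec (CommRingCat.of k))⟩
  haveI : IsProper ((Jx ξ).subscheme ↘ Spec (CommRingCat.of k)) := by
    show IsProper (i ≫ (X ↘ Spec (CommRingCat.of k)))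
    infer_instance
  haveI : IsIntegral (Jx ξ).subscheme := isIntegral_subscheme_Jx ξ
  haveI : (Coh.structureModule (Jx ξ).subscheme).IsQuasicoherent :=
    (Groth.Agent.Lib.helper8.Dev.isCoh_structureModule _).1
  have hpush := E_push k X i l hli (Coh.structureModule (Jx ξ).subscheme)
  show φ (E k X l ((Scheme.Modules.pushforward i).obj (Coh.structureModule (Jx ξ).subscheme)))
  rw [hpush]
  have hdimZ : topologicalKrullDim (Jx ξ).subscheme = ((r : ℕ) : WithBot ℕ∞) := by
    rw [dim_subscheme_Jx, hξ2, hlen]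
  exact hint (Jx ξ).subscheme hdimZ _ (by rw [List.length_map, hlen]) (hpull X _ i l hl)

end Red

end Groth.Agent.Lib.helper7.IntList
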