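import Mathlib
import Groth.Agent.Lib.Helper18.CurveLift

/-!
# Topological lemmas for "strictly nef and semiample implies ample" (helper7)

* `dim_eq_one_of_closed_points_set`
* `exists_irreducible_closed_dim_one`: an irreducible closed subset with more than one point of a Noetherian sober
  `T0` space contains an irreducible closed subset of dimension one
* `exists_open_inter_eq_singleton`: a point of a closed subset `F` of a Noetherian space, such that every
  irreducible closed subset of `F` through it is the point itself, is isolated in `F`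
-/

set_option autoImplicit false
set_option linter.unusedSectionVars false
set_option linter.style.haveILetI false

open TopologicalSpace

namespace Groth.Agent.Lib.helper7.NefAmple

open Groth.Agent.Lib.Helper18.CurveLift

/-- set version of `dim_eq_one_of_closed_points` -/
theorem dim_eq_one_of_closed_points_set {X : Type*} [TopologicalSpace X] [QuasiSober X] [T0Space X]
    (D : Set X) (hDc : IsClosed D) (x : X) (hx : IsGenericPoint x D)
    (hD : ∀ p ∈ D, p ≠ x → IsClosed ({p} : Set X)) (hD2 : ∃ p ∈ D, p ≠ x) :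
    topologicalKrullDim ↥D = 1 := by
  have hirr : IsIrreducible D := by
    rw [← hx.def]; exact isIrreducible_singleton.closure
  haveI : QuasiSober ↥D := hDc.isClosedEmbedding_subtypeVal.quasiSober
  haveI : IrreducibleSpace ↥D := Subtype.irreducibleSpace hirr
  have hg : (genericPoint ↥D).1 = x := by
    have h1 : IsGenericPoint (genericPoint ↥D).1 D := by
      change closure {(genericPoint ↥D).1} = D
      rw [← Set.image_singleton (f := Subtype.val),
        hDc.isClosedEmbedding_subtypeVal.closure_image_eq,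
        (genericPoint_spec ↥D).def, Set.image_univ, Subtype.range_coe]
    exact h1.eq hx
  apply dim_eq_one_of_closed_points
  · intro z hz
    have hz1 : z.1 ≠ x := by
      intro h
      apply hz
      apply Subtype.ext
      rw [h, hg]
    have h2 := hD z.1 z.2 hz1
    have h3 : ({z} : Set ↥D) = Subtype.val ⁻¹' {z.1} := by
      ext w
      simp only [Set.mem_singleton_iff, Set.mem_preimage]
      exact ⟨fun h => by rw [h], fun h => Subtype.ext h⟩
    rw [h3]
    exact h2.preimage continuous_subtype_val
  · obtain ⟨p, hpD, hpx⟩ := hD2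
    refine ⟨⟨p, hpD⟩, fun h => hpx ?_⟩
    rw [← hg, ← h]

theorem exists_irreducible_closed_dim_one {X : Type*} [TopologicalSpace X] [NoetherianSpace X]
    [QuasiSober X] [T0Space X] (Z : Set X) (hZc : IsClosed Z) (hZi : IsIrreducible Z)
    (hZ : ¬ Z.Subsingleton) :
    ∃ D : Set X, IsClosed D ∧ IsIrreducible D ∧ D ⊆ Z ∧ topologicalKrullDim ↥D = 1 := by
  let 𝒮 : Set (Closeds X) :=
    {T | IsIrreducible (T : Set X) ∧ (T : Set X) ⊆ Z ∧ ¬ (T : Set X).Subsingleton}
  have hne : 𝒮.Nonempty := ⟨⟨Z, hZc⟩, hZi, subset_rfl, hZ⟩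
  obtain ⟨T, hT, hmin⟩ := wellFounded_lt.has_min 𝒮 hne
  obtain ⟨hTi, hTZ, hTs⟩ := hT
  obtain ⟨ξ, hξ⟩ := QuasiSober.sober hTi T.2
  refine ⟨T, T.2, hTi, hTZ, ?_⟩
  apply dim_eq_one_of_closed_points_set (T : Set X) T.2 ξ hξ
  · intro p hp hpξ
    let T' : Closeds X := ⟨closure {p}, isClosed_closure⟩
    have hT'le : (T' : Set X) ⊆ T := closure_minimal (Set.singleton_subset_iff.mpr hp) T.2
    have hT'ne : T' ≠ T := by
      intro h
      apply hpξ
      have h1 : IsGenericPoint p (T : Set X) := by
        rw [← h]
        rfl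
      exact h1.eq hξ
    have hlt : T' < T := lt_of_le_of_ne hT'le hT'ne
    have hnot : T' ∉ 𝒮 := fun h => hmin T' h hlt
    have hsub : (T' : Set X).Subsingleton := by
      by_contra hns
      exact hnot ⟨isIrreducible_singleton.closure, hT'le.trans hTZ, hns⟩
    have h2 : closure ({p} : Set X) = {p} :=
      Set.Subsingleton.eq_singleton_of_mem hsub (subset_closure rfl)
    rw [← h2]
    exact isClosed_closure
  · by_contra hcon
    push Not at hcon
    apply hTs
    intro a ha b hb
    rw [hcon a ha, hcon b hb]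

theorem exists_open_inter_eq_singleton {X : Type*} [TopologicalSpace X] [NoetherianSpace X]
    (F : Set X) (hF : IsClosed F) (x : X) (hx : x ∈ F)
    (h : ∀ Z : Set X, IsClosed Z → IsIrreducible Z → Z ⊆ F → x ∈ Z → Z = {x}) :
    ∃ U : Set X, IsOpen U ∧ U ∩ F = {x} := by
  obtain ⟨S, hSfin, hSc, hSi, hSU⟩ := NoetherianSpace.exists_finite_set_isClosed_irreducible hF
  let W : Set X := ⋃ t ∈ {t ∈ S | x ∉ t}, t
  have hWc : IsClosed W := by
    apply Set.Finite.isClosed_biUnion (hSfin.subset (fun t ht => ht.1))
    intro t ht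
    exact hSc t ht.1
  refine ⟨Wᶜ, hWc.isOpen_compl, ?_⟩
  ext y
  simp only [Set.mem_inter_iff, Set.mem_compl_iff, Set.mem_singleton_iff]
  constructor
  · rintro ⟨hyW, hyF⟩
    rw [hSU] at hyF
    obtain ⟨t, htS, hyt⟩ := hyF
    by_cases hxt : x ∈ t
    · have htF : t ⊆ F := by
        rw [hSU]
        exact Set.subset_sUnion_of_mem htS
      have := h t (hSc t htS) (hSi t htS) htF hxt
      rw [this] at hyt
      exact hyt
    · exfalso
      apply hyW
      exact Set.mem_biUnion (show t ∈ {t ∈ S | x ∉ t} from ⟨htS, hxt⟩) hyt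
  · rintro rfl
    refine ⟨?_, hx⟩
    intro hyW
    obtain ⟨t, ht, hyt⟩ := Set.mem_iUnion₂.mp hyW
    exact ht.2 hyt

end Groth.Agent.Lib.helper7.NefAmple
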