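import Mathlib
import Groth.Agent.Lib.Helper7.NefAmpleTop
import Groth.Agent.Lib.Helper7.Kodaira
import Groth.Agent.Lib.Helper18.NefPull
import Groth.Agent.Lib.Helper9.CurveAmple
import Groth.Agent.Lib.Helper12.PullAmple
import Groth.Agent.Lib.Helper12.GGTensor
import Groth.Agent.Lib.Helper11.AmpleInv
import Groth.Agent.Lib.Helper19.ProjSpaceProper
import Groth.Agent.Lib.Helper12.AmplePow

/-!
# Ample iff strictly nef and semiample (helper7)

* `nefq_pos_of_isAmple`, `exists_gg_of_isAmple`: the easy direction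
-/

set_option autoImplicit false
set_option linter.unusedSectionVars false
set_option linter.style.haveILetI false
universe u

open CategoryTheory CategoryTheory.Limits AlgebraicGeometry Opposite TopologicalSpace

namespace Groth.Agent.Lib.helper7.NefAmple

open Groth.Agent.Lib.Lead.ModTensor Groth.Agent.Lib.Helper18.NefPull
open Groth.Agent.Lib.helper12.TensorInv

section Easy

variable (k : Type u) [Field k] (X : Scheme.{u}) [X.Over (Spec (CommRingCat.of k))]
  [IsProper (X ↘ Spec (CommRingCat.of k))]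

theorem dim_subscheme_eq (C : X.IdealSheafData)
    (hC : topologicalKrullDim (C.support : Set X) = 1) : topologicalKrullDim C.subscheme = 1 := by
  have e : C.subscheme ≃ₜ ↥(Set.range C.subschemeι) :=
    C.subschemeι.isClosedEmbedding.isEmbedding.toHomeomorph
  rw [IsHomeomorph.topologicalKrullDim_eq e e.isHomeomorph, C.range_subschemeι]
  exact hC

/-- an ample invertible module has positive degree on every integral curve -/
theorem nefq_pos_of_isAmple {L : X.Modules} (hA : CohB1.IsAmple L) (C : X.IdealSheafData)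
    (hCi : IsIntegral C.subscheme) (hC : topologicalKrullDim (C.support : Set X) = 1) :
    0 < nefq k X C L := by
  rw [nefq_eq_deg k X C L (Groth.Agent.Lib.helper16.FLF.isFinLocFree_of_isInvertible hA.1)]
  letI : C.subscheme.Over (Spec (CommRingCat.of k)) :=
    ⟨C.subschemeι ≫ (X ↘ Spec (CommRingCat.of k))⟩
  haveI : IsProper (C.subscheme ↘ Spec (CommRingCat.of k)) :=
    inferInstanceAs (IsProper (C.subschemeι ≫ (X ↘ Spec (CommRingCat.of k))))
  exact Groth.Agent.Lib.helper9.CurveAmple.deg_pos_of_isAmple k C.subscheme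
    (dim_subscheme_eq X C hC)
    (Groth.Agent.Lib.helper12.PullAmple.isAmple_pullback_of_isAffineHom C.subschemeι hA)

include k in
/-- an ample invertible module is semiample -/
theorem exists_gg_of_isAmple {L : X.Modules} (hA : CohB1.IsAmple L) :
    ∃ m : ℕ, Curv2.IsGloballyGenerated (CohB1.tensorPow L (m + 1)) := by
  obtain ⟨n₀, h⟩ := Groth.Agent.Lib.helper7.Kodaira.exists_gg_twist k X hA
    (Groth.Agent.Lib.helper8.Dev.isCoh_structureModule X)
  exact ⟨n₀, Groth.Agent.Lib.helper12.GGTensor.gg_of_iso (leftUnitor _) (h (n₀ + 1) (Nat.le_succ _))⟩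

end Easy

section Triv

open Groth.Agent.Lib.helper11.InvMod Groth.Agent.Lib.Helper18.CurveLift

/-- an invertible module on a scheme with at most one point is trivial -/
theorem nonempty_iso_structureModule_of_subsingleton {Y : Scheme.{u}} [Subsingleton Y] [Nonempty Y]
    {N : Y.Modules} (hN : PicF.IsInvertible N) : Nonempty (N ≅ Coh.structureModule Y) := by
  obtain ⟨y⟩ := ‹Nonempty Y›
  obtain ⟨U, hyU, hU⟩ := hN y
  have hUtop : U = ⊤ := by
    ext z
    simp only [Opens.coe_top, Set.mem_univ, iff_true]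
    rw [Subsingleton.elim z y]
    exact hyU
  rw [hUtop] at hU
  exact isTrivOn_top_iff.mp hU

variable (k : Type u) [Field k] (X : Scheme.{u}) [X.Over (Spec (CommRingCat.of k))]
  [IsProper (X ↘ Spec (CommRingCat.of k))]

/-- a module pulled back from `Y` has degree zero on an integral closed subscheme contracted to a closed point -/
theorem nefq_eq_zero_of_contracted {Y : Scheme.{u}} (r : X ⟶ Y) {N : Y.Modules}
    (hN : PicF.IsInvertible N) {M : X.Modules} (τ : (Scheme.Modules.pullback r).obj N ≅ M)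
    (C : X.IdealSheafData) [IsIntegral C.subscheme] (y₀ : Y) (hy₀ : IsClosed ({y₀} : Set Y))
    (hC : ∀ c ∈ (C.support : Set X), r c = y₀) : nefq k X C M = 0 := by
  have hM : PicF.IsInvertible M := isInvertible_of_iso τ (isInvertible_pullback r hN)
  rw [nefq_eq_deg k X C M (Groth.Agent.Lib.helper16.FLF.isFinLocFree_of_isInvertible hM)]
  letI : C.subscheme.Over (Spec (CommRingCat.of k)) :=
    ⟨C.subschemeι ≫ (X ↘ Spec (CommRingCat.of k))⟩
  set ι := C.subschemeι with hι
  let T₀ : Closeds Y := ⟨{y₀}, hy₀⟩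
  have hrg : Set.range (ι ≫ r) ⊆ ((redI T₀).support : Set Y) := by
    rw [coe_support_redI]
    rintro _ ⟨z, rfl⟩
    change r (ι z) ∈ ({y₀} : Set Y)
    rw [Set.mem_singleton_iff]
    apply hC
    rw [← C.range_subschemeι]
    exact ⟨z, rfl⟩
  obtain ⟨l, hl⟩ := exists_lift_of_isReduced (ι ≫ r) (redI T₀) hrg
  set ι₀ := (redI T₀).subschemeι with hι₀
  -- the one-point scheme
  have hsub : Subsingleton (redI T₀).subscheme := by
    refine ⟨fun a b => ?_⟩
    apply ι₀.isClosedEmbedding.injective
    have ha : ι₀ a ∈ ({y₀} : Set Y) := by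
      have : ι₀ a ∈ Set.range ι₀ := ⟨a, rfl⟩
      rw [range_redI] at this
      exact this
    have hb : ι₀ b ∈ ({y₀} : Set Y) := by
      have : ι₀ b ∈ Set.range ι₀ := ⟨b, rfl⟩
      rw [range_redI] at this
      exact this
    rw [Set.mem_singleton_iff.mp ha, Set.mem_singleton_iff.mp hb]
  have hne : Nonempty (redI T₀).subscheme := by
    have : y₀ ∈ Set.range ι₀ := by
      rw [range_redI]
      exact Set.mem_singleton y₀
    obtain ⟨a, -⟩ := this
    exact ⟨a⟩
  obtain ⟨e₀⟩ := nonempty_iso_structureModule_of_subsingleton (isInvertible_pullback ι₀ hN)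
  let e : (Scheme.Modules.pullback ι).obj M ≅ Coh.structureModule C.subscheme :=
    (Scheme.Modules.pullback ι).mapIso τ.symm ≪≫
      (Scheme.Modules.pullbackComp ι r).app N ≪≫
      (Scheme.Modules.pullbackCongr hl.symm).app N ≪≫
      ((Scheme.Modules.pullbackComp l ι₀).app N).symm ≪≫
      (Scheme.Modules.pullback l).mapIso e₀ ≪≫ pullbackUnitIso l
  unfold Curv2.deg
  rw [Groth.Agent.Lib.Lead.CurveEuler.euler_eq_of_iso k C.subscheme e]
  simp

end Triv

section Pow

open Groth.Agent.Lib.helper11.InvMod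

variable (k : Type u) [Field k] (X : Scheme.{u}) [X.Over (Spec (CommRingCat.of k))]
  [IsProper (X ↘ Spec (CommRingCat.of k))]

/-- the degree on an integral curve is additive in tensor powers -/
theorem nefq_tensorPow {L : X.Modules} (hL : PicF.IsInvertible L) (C : X.IdealSheafData)
    [IsIntegral C.subscheme] (hC : topologicalKrullDim (C.support : Set X) = 1) (j : ℕ) :
    nefq k X C (CohB1.tensorPow L j) = j * nefq k X C L := by
  rw [nefq_eq_deg k X C _ (Groth.Agent.Lib.helper16.FLF.isFinLocFree_of_isInvertible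
      (isInvertible_tensorPow hL j)),
    nefq_eq_deg k X C L (Groth.Agent.Lib.helper16.FLF.isFinLocFree_of_isInvertible hL)]
  letI : C.subscheme.Over (Spec (CommRingCat.of k)) :=
    ⟨C.subschemeι ≫ (X ↘ Spec (CommRingCat.of k))⟩
  haveI : IsProper (C.subscheme ↘ Spec (CommRingCat.of k)) :=
    inferInstanceAs (IsProper (C.subschemeι ≫ (X ↘ Spec (CommRingCat.of k))))
  have hdim : topologicalKrullDim C.subscheme ≤ 1 := le_of_eq (dim_subscheme_eq X C hC)
  rw [← Groth.Agent.Lib.helper9.CurveDegAdd.deg_tensorPow k C.subscheme hdim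
    (isInvertible_pullback C.subschemeι hL) j]
  unfold Curv2.deg
  rw [Groth.Agent.Lib.Lead.CurveEuler.euler_eq_of_iso k C.subscheme
    (Groth.Agent.Lib.helper12.PullAmple.pullTensorPowIso C.subschemeι hL j)]

end Pow

section QF

open Groth.Agent.Lib.helper11.InvMod Groth.Agent.Lib.Helper18.CurveLift

variable (k : Type u) [Field k] (X : Scheme.{u}) [X.Over (Spec (CommRingCat.of k))]
  [IsProper (X ↘ Spec (CommRingCat.of k))]

/-- a proper morphism along which a module, nonzero on every integral curve, is pulled back, is quasi-finite -/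
theorem locallyQuasiFinite_of_nefq_ne_zero {Y : Scheme.{u}} (r : X ⟶ Y) [IsProper r]
    {N : Y.Modules} (hN : PicF.IsInvertible N) {M : X.Modules}
    (τ : (Scheme.Modules.pullback r).obj N ≅ M)
    (hpos : ∀ C : X.IdealSheafData, IsIntegral C.subscheme →
      topologicalKrullDim (C.support : Set X) = 1 → nefq k X C M ≠ 0) :
    LocallyQuasiFinite r := by
  haveI := Groth.Agent.Lib.Lead.CurveEuler.isNoetherian k X
  rw [← Scheme.Hom.quasiFiniteLocus_eq_top_iff]
  by_contra hne
  have hK : IsClosed ((r.quasiFiniteLocus : Set X)ᶜ) := r.quasiFiniteLocus.isOpen.isClosed_compl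
  have hKne : ((r.quasiFiniteLocus : Set X)ᶜ).Nonempty := by
    rw [Set.nonempty_compl]
    intro h
    apply hne
    ext x
    simp only [Opens.coe_top, Set.mem_univ, iff_true]
    have : x ∈ (r.quasiFiniteLocus : Set X) := by rw [h]; trivial
    exact this
  obtain ⟨x₀, hx₀K, hx₀c⟩ := hK.exists_closed_singleton hKne
  apply hx₀K
  change r.QuasiFiniteAt x₀
  rw [Scheme.Hom.quasiFiniteAt_iff_isOpen_singleton_asFiber]
  rw [← (r.fiberHomeo (r x₀)).isOpen_image]
  simp only [Set.image_singleton, Scheme.Hom.asFiber, Homeomorph.apply_symm_apply]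
  -- the fibre through `x₀`
  have hy₀ : IsClosed ({r x₀} : Set Y) := by
    have := r.isClosedMap _ hx₀c
    rwa [Set.image_singleton] at this
  have hF : IsClosed (r ⁻¹' {r x₀}) := hy₀.preimage r.continuous
  obtain ⟨U, hU, hUF⟩ := exists_open_inter_eq_singleton (r ⁻¹' {r x₀}) hF x₀ rfl (by
    intro Z hZc hZi hZF hxZ
    by_contra hZne
    have hZns : ¬ Z.Subsingleton := by
      intro hs
      exact hZne (Set.Subsingleton.eq_singleton_of_mem hs hxZ)
    obtain ⟨D, hDc, hDi, hDZ, hDdim⟩ := exists_irreducible_closed_dim_one Z hZc hZi hZns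
    let T : Closeds X := ⟨D, hDc⟩
    haveI : IsIntegral (redI T).subscheme := isIntegral_redI T hDi
    have hsupp : ((redI T).support : Set X) = D := coe_support_redI T
    refine hpos (redI T) inferInstance (by rw [hsupp]; exact hDdim) ?_
    apply nefq_eq_zero_of_contracted k X r hN τ (redI T) (r x₀) hy₀
    intro c hc
    rw [hsupp] at hc
    exact hZF (hDZ hc))
  have h3 : ({⟨x₀, rfl⟩} : Set ↥(r ⁻¹' {r x₀})) = Subtype.val ⁻¹' U := by
    ext w
    simp only [Set.mem_singleton_iff, Set.mem_preimage]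
    constructor
    · intro h
      rw [h]
      have : x₀ ∈ U ∩ (r ⁻¹' {r x₀}) := by rw [hUF]; rfl
      exact this.1
    · intro h
      apply Subtype.ext
      have : w.1 ∈ U ∩ (r ⁻¹' {r x₀}) := ⟨h, w.2⟩
      rw [hUF] at this
      exact this
  rw [h3]
  exact hU.preimage continuous_subtype_val

end QF

section Hard

open Groth.Agent.Lib.helper11.InvMod

/-- finitely many of a pointwise generating family of sections suffice on a quasi-compact scheme -/
theorem exists_sections_cover_of_pg {X : Scheme.{u}} [CompactSpace X] {M : X.Modules}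
    (h : ∀ x : X, ∃ t : Coh.structureModule X ⟶ M, x ∈ CohB1.genLocus M t) :
    ∃ (n : ℕ) (σ : Fin (n + 1) → (Coh.structureModule X ⟶ M)),
      ⨆ i, CohB1.genLocus M (σ i) = ⊤ := by
  classical
  choose t ht using h
  obtain ⟨s, hs⟩ := isCompact_univ.elim_finite_subcover
    (fun x : X => ((CohB1.genLocus M (t x) : X.Opens) : Set X))
    (fun x => (CohB1.genLocus M (t x)).2) (fun y _ => Set.mem_iUnion.mpr ⟨y, ht y⟩)
  let e := s.equivFin
  let σ : Fin (s.card + 1) → (Coh.structureModule X ⟶ M) := fun j =>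
    if hj : (j : ℕ) < s.card then t (e.symm ⟨j, hj⟩).1 else 0
  refine ⟨s.card, σ, ?_⟩
  rw [eq_top_iff]
  intro y _
  obtain ⟨x, hxs, hyx⟩ := Set.mem_iUnion₂.mp (hs (Set.mem_univ y))
  refine Opens.mem_iSup.mpr ⟨Fin.castSucc (e ⟨x, hxs⟩), ?_⟩
  have hσ : σ (Fin.castSucc (e ⟨x, hxs⟩)) = t x := by
    have hlt : ((Fin.castSucc (e ⟨x, hxs⟩) : Fin (s.card + 1)) : ℕ) < s.card := (e ⟨x, hxs⟩).2
    simp only [σ, hlt, dif_pos]
    have h1 : (⟨((Fin.castSucc (e ⟨x, hxs⟩) : Fin (s.card + 1)) : ℕ), hlt⟩ : Fin s.card) =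
        e ⟨x, hxs⟩ := Fin.ext rfl
    rw [h1, Equiv.symm_apply_apply]
  rw [hσ]
  exact hyx

variable (k : Type u) [Field k] (X : Scheme.{u}) [X.Over (Spec (CommRingCat.of k))]
  [IsProper (X ↘ Spec (CommRingCat.of k))]

/-- **strictly nef and semiample implies ample** -/
theorem isAmple_of_strictlyNef_of_gg {L : X.Modules} (hL : PicF.IsInvertible L)
    (hnef : ∀ C : X.IdealSheafData, IsIntegral C.subscheme →
      topologicalKrullDim (C.support : Set X) = 1 → 0 < nefq k X C L)
    (m : ℕ) (hgg : Curv2.IsGloballyGenerated (CohB1.tensorPow L (m + 1))) : CohB1.IsAmple L := by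
  have hM : PicF.IsInvertible (CohB1.tensorPow L (m + 1)) := isInvertible_tensorPow hL (m + 1)
  rw [Groth.Agent.Lib.helper12.AmplePow.isAmple_tensorPow_iff hL (m + 1) (Nat.succ_pos m)]
  haveI := Groth.Agent.Lib.Lead.CurveEuler.isNoetherian k X
  haveI : CompactSpace X := inferInstance
  obtain ⟨n, σ, hcov⟩ := exists_sections_cover_of_pg
    (Groth.Agent.Lib.helper12.GlobGen.pg_of_isGloballyGenerated hM hgg)
  let q : X ⟶ Spec (CommRingCat.of k) := X ↘ Spec (CommRingCat.of k)
  obtain ⟨r, hr⟩ := Groth.Agent.Lib.helper12.ProjUP3.exists_toProj q σ hcov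
  obtain ⟨τ, -⟩ := Groth.Agent.Lib.helper12.ProjUP6.exists_iso_nu q σ r hr hcov
  let r' : X ⟶ CohB1.ProjSpace n k := r
  have hrq : r' ≫ CohB1.ProjSpace.toSpec n k = q :=
    Groth.Agent.Lib.helper12.ProjUP3.toProj_toSpec q σ hcov r hr
  haveI : IsProper r' := by
    haveI : IsProper (r' ≫ CohB1.ProjSpace.toSpec n k) := by
      rw [hrq]
      infer_instance
    exact IsProper.of_comp r' (CohB1.ProjSpace.toSpec n k)
  have hN := Groth.Agent.Lib.helper28.TwistPn.isInvertible n k ((1 : ℕ) : ℤ)
  let τ' : (Scheme.Modules.pullback r').obj (Twist.twistProjSpace n k ((1 : ℕ) : ℤ)) ≅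
    CohB1.tensorPow L (m + 1) := τ
  haveI : LocallyQuasiFinite r' := by
    apply locallyQuasiFinite_of_nefq_ne_zero k X r' hN τ'
    intro C hCi hC
    haveI := hCi
    rw [nefq_tensorPow k X hL C hC (m + 1)]
    have h1 := hnef C hCi hC
    have h2 : (0 : ℤ) < ((m + 1 : ℕ) : ℤ) := by exact_mod_cast Nat.succ_pos m
    exact (mul_pos h2 h1).ne'
  haveI : IsFinite r' := IsFinite.of_isProper_of_locallyQuasiFinite r'
  have hample := Groth.Agent.Lib.helper12.PullAmple.isAmple_pullback_of_isAffineHom r'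
    (Groth.Agent.Lib.helper28.TwistPn.isAmple (n := n) (R := k) 1 one_pos)
  exact Groth.Agent.Lib.helper12.AmplePow.isAmple_of_iso τ' hample

/-- **S16710**: ample iff strictly nef and semiample -/
theorem isAmple_iff_strictlyNef_and_semiample {L : X.Modules} (hL : PicF.IsInvertible L) :
    CohB1.IsAmple L ↔
      ((∀ C : X.IdealSheafData, IsIntegral C.subscheme →
          topologicalKrullDim (C.support : Set X) = 1 →
            0 < Curv2.euler k X (CohB1.tensorMod (ClSub.quotMod C) L) -
              Curv2.euler k X (ClSub.quotMod C)) ∧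
        ∃ m : ℕ, Curv2.IsGloballyGenerated (CohB1.tensorPow L (m + 1))) := by
  constructor
  · intro hA
    exact ⟨fun C hCi hC => nefq_pos_of_isAmple k X hA C hCi hC, exists_gg_of_isAmple k X hA⟩
  · rintro ⟨hnef, m, hgg⟩
    exact isAmple_of_strictlyNef_of_gg k X hL hnef m hgg

end Hard

end Groth.Agent.Lib.helper7.NefAmple
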