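import Mathlib
import Groth.Agent.Lib.Helper7.NefAmple
import Groth.Agent.Lib.Helper7.SnapperSplit
import Groth.Agent.Lib.Helper18.NefPull
import Groth.Agent.Lib.Helper18.PullEuler
import Groth.Agent.Lib.Helper18.CurveLift
import Groth.Agent.Lib.Helper18.CurveMapFinite
import Groth.Agent.Lib.Helper11.PullUnit
import Groth.Prelude.Def_Pic13

/-!
# Numerical equivalence, part 1 (helper7)

* `quotModKerIso`: `O_X / ker ι ≅ ι_* O_Y` for a closed immersion `ι`
* `curveDeg_eq_nefq`: `Pic13.curveDeg` along a closed immersion of a curve is `nefq` of the kernel ideal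
* `nefq_pullback_unif`: `(f^*L · C') = r (L · C)` with `r > 0` independent of `L`
* `dim_image_eq_one`
-/

set_option autoImplicit false
set_option linter.unusedSectionVars false
set_option linter.style.haveILetI false
universe u

open CategoryTheory CategoryTheory.Limits AlgebraicGeometry Opposite TopologicalSpace Module

namespace Groth.Agent.Lib.helper7.NumEq

open Groth.Agent.Lib.Lead.ModTensor Groth.Agent.Lib.Helper18 Groth.Agent.Lib.Helper18.NefPull
open Scheme.Modules Groth.Agent.Lib.Helper18.CurveLift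

section Ker

variable {X Y : Scheme.{u}} (ι : Y ⟶ X) [IsClosedImmersion ι]

/-- `O_X / ker ι ≅ ι_* O_Y` -/
noncomputable def quotModKerIso :
    ClSub.quotMod ι.ker ≅ (Scheme.Modules.pushforward ι).obj (Coh.structureModule Y) := by
  let φ : Y ⟶ ι.ker.subscheme := ι.toImage
  haveI : IsIso φ := inferInstanceAs (IsIso ι.toImage)
  have hφ : φ ≫ ι.ker.subschemeι = ι := ι.toImage_imageι
  haveI := Groth.Agent.Lib.helper11.PullUnit.isIso_unitToPush φ (fun U => by
    haveI : IsIso (φ.app U) := inferInstance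
    exact (ConcreteCategory.isIso_iff_bijective (φ.app U)).mp inferInstance)
  exact (Scheme.Modules.pushforward ι.ker.subschemeι).mapIso
      (asIso (Groth.Agent.Lib.helper11.InvPullback.unitToPush φ)) ≪≫
    (Scheme.Modules.pushforwardComp φ ι.ker.subschemeι).app (Coh.structureModule Y) ≪≫
    (Scheme.Modules.pushforwardCongr hφ).app (Coh.structureModule Y)

end Ker

section Bridge

variable (k : Type u) [Field k] (X : Scheme.{u}) [X.Over (Spec (CommRingCat.of k))]
  [IsProper (X ↘ Spec (CommRingCat.of k))]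

/-- `(L · C)` for `C = ker ι` computed on the source of the closed immersion `ι` -/
theorem nefq_ker_eq {Y : Scheme.{u}} (ι : Y ⟶ X) [IsClosedImmersion ι] {L : X.Modules}
    (hL : PicF.IsInvertible L) :
    nefq k X ι.ker L =
      @Curv2.euler k _ Y ⟨ι ≫ (X ↘ Spec (CommRingCat.of k))⟩ ((Scheme.Modules.pullback ι).obj L) -
      @Curv2.euler k _ Y ⟨ι ≫ (X ↘ Spec (CommRingCat.of k))⟩ (Coh.structureModule Y) := by
  letI : Y.Over (Spec (CommRingCat.of k)) := ⟨ι ≫ (X ↘ Spec (CommRingCat.of k))⟩
  have hLf : FlatMod.IsFinLocFree L := Groth.Agent.Lib.helper16.FLF.isFinLocFree_of_isInvertible hL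
  haveI : (Coh.structureModule Y).IsQuasicoherent := inferInstance
  unfold nefq
  rw [Groth.Agent.Lib.Lead.CurveEuler.euler_eq_of_iso k X
      (tensorIso (quotModKerIso ι) (Iso.refl L)),
    Groth.Agent.Lib.Lead.CurveEuler.euler_eq_of_iso k X (quotModKerIso ι),
    ← Groth.Agent.Lib.Helper18.PullEuler.euler_pullback k ι rfl L hLf,
    Groth.Agent.Lib.Helper18.PullEuler.euler_push k ι rfl (Coh.structureModule Y)]

/-- `Pic13.curveDeg` along a closed immersion of a curve is `nefq` of the kernel ideal -/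
theorem curveDeg_eq_nefq {Y : Scheme.{u}} (ι : Y ⟶ X) [IsClosedImmersion ι]
    (hdim : topologicalKrullDim Y ≤ 1) {L : X.Modules} (hL : PicF.IsInvertible L) :
    Pic13.curveDeg k (ι ≫ (X ↘ Spec (CommRingCat.of k))) ((Scheme.Modules.pullback ι).obj L) =
      nefq k X ι.ker L := by
  letI : Y.Over (Spec (CommRingCat.of k)) := ⟨ι ≫ (X ↘ Spec (CommRingCat.of k))⟩
  haveI : IsProper (Y ↘ Spec (CommRingCat.of k)) :=
    inferInstanceAs (IsProper (ι ≫ (X ↘ Spec (CommRingCat.of k))))
  rw [nefq_ker_eq k X ι hL]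
  unfold Pic13.curveDeg
  rw [Groth.Agent.Lib.helper7.SnapperSplit.eulerCharLE_eq k Y 1 (by exact_mod_cast hdim),
    Groth.Agent.Lib.helper7.SnapperSplit.eulerCharLE_eq k Y 1 (by exact_mod_cast hdim)]

/-- `nefq` of an ideal sheaf as a `Pic13.curveDeg` -/
theorem nefq_eq_curveDeg (C : X.IdealSheafData)
    (hdim : topologicalKrullDim C.subscheme ≤ 1) {L : X.Modules} (hL : PicF.IsInvertible L) :
    nefq k X C L = Pic13.curveDeg k (C.subschemeι ≫ (X ↘ Spec (CommRingCat.of k)))
      ((Scheme.Modules.pullback C.subschemeι).obj L) := by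
  rw [curveDeg_eq_nefq k X C.subschemeι hdim hL, Scheme.IdealSheafData.ker_subschemeι]

end Bridge

end Groth.Agent.Lib.helper7.NumEq
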