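import Mathlib
import Groth.Agent.Lib.Helper7.NumEq1
import Groth.Agent.S7640

/-!
# Numerical equivalence, part 2: pullbacks (helper7)

* `nefq_pullback_unif`: `(f^*L · C') = r (L · C)` with `r > 0` independent of `L`
* `dim_image_eq_one`: the image of an integral curve under a closed map is a point or has dimension one
* `nefq_pullback_eq_of_forall_nefq_eq`: pullback preserves numerical equivalence
-/

set_option autoImplicit false
set_option linter.unusedSectionVars false
set_option linter.style.haveILetI false
universe u

open CategoryTheory CategoryTheory.Limits AlgebraicGeometry Opposite TopologicalSpace Module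

namespace Groth.Agent.Lib.helper7.NumEq

open Groth.Agent.Lib.Lead.ModTensor Groth.Agent.Lib.Helper18 Groth.Agent.Lib.Helper18.NefPull
open Scheme.Modules Groth.Agent.Lib.Helper18.CurveLift

section Pull

variable (k : Type u) [Field k] (X X' : Scheme.{u}) [X.Over (Spec (CommRingCat.of k))]
  [IsProper (X ↘ Spec (CommRingCat.of k))] [X'.Over (Spec (CommRingCat.of k))]
  [IsProper (X' ↘ Spec (CommRingCat.of k))]

/-- `(f^*L · C') = r (L · C)` with `r > 0` independent of `L`, when `f(C') = C` for integral curves -/
theorem nefq_pullback_unif (f : X' ⟶ X)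
    (hf : f ≫ (X ↘ Spec (CommRingCat.of k)) = X' ↘ Spec (CommRingCat.of k))
    (C : X.IdealSheafData) [IsIntegral C.subscheme]
    (hC : topologicalKrullDim (C.support : Set X) = 1)
    (C' : X'.IdealSheafData) [IsIntegral C'.subscheme]
    (hC' : topologicalKrullDim (C'.support : Set X') = 1)
    (himg : f '' (C'.support : Set X') = (C.support : Set X)) :
    ∃ r : ℕ, 0 < r ∧ ∀ L : X.Modules, PicF.IsInvertible L →
      nefq k X' C' ((Scheme.Modules.pullback f).obj L) = r * nefq k X C L := by
  haveI : IsProper f := by
    haveI : IsProper (f ≫ (X ↘ (Spec (CommRingCat.of k)))) := by rw [hf]; infer_instance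
    exact IsProper.of_comp f (X ↘ (Spec (CommRingCat.of k)))
  set ι := C.subschemeι with hι
  set ι' := C'.subschemeι with hι'
  letI : C.subscheme.Over (Spec (CommRingCat.of k)) := ⟨ι ≫ (X ↘ Spec (CommRingCat.of k))⟩
  letI : C'.subscheme.Over (Spec (CommRingCat.of k)) := ⟨ι' ≫ (X' ↘ Spec (CommRingCat.of k))⟩
  haveI : IsProper (C.subscheme ↘ Spec (CommRingCat.of k)) :=
    inferInstanceAs (IsProper (ι ≫ (X ↘ Spec (CommRingCat.of k))))
  haveI : IsProper (C'.subscheme ↘ Spec (CommRingCat.of k)) :=
    inferInstanceAs (IsProper (ι' ≫ (X' ↘ Spec (CommRingCat.of k))))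
  have hrange : Set.range ι = (C.support : Set X) := C.range_subschemeι
  have hrange' : Set.range ι' = (C'.support : Set X') := C'.range_subschemeι
  have hdimZ : topologicalKrullDim C.subscheme = 1 := by
    have e : C.subscheme ≃ₜ ↥(Set.range ι) := ι.isClosedEmbedding.isEmbedding.toHomeomorph
    rw [IsHomeomorph.topologicalKrullDim_eq e e.isHomeomorph, hrange]
    exact hC
  have hdimZ' : topologicalKrullDim C'.subscheme = 1 := by
    have e : C'.subscheme ≃ₜ ↥(Set.range ι') := ι'.isClosedEmbedding.isEmbedding.toHomeomorph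
    rw [IsHomeomorph.topologicalKrullDim_eq e e.isHomeomorph, hrange']
    exact hC'
  have hrg : Set.range (ι' ≫ f) ⊆ (C.support : Set X) := by
    rintro _ ⟨z, rfl⟩
    rw [← himg]
    refine ⟨ι' z, ?_, rfl⟩
    rw [← hrange']
    exact ⟨z, rfl⟩
  obtain ⟨h, hfac⟩ := exists_lift_of_isReduced (ι' ≫ f) C hrg
  have hh : h ≫ (C.subscheme ↘ Spec (CommRingCat.of k)) =
      C'.subscheme ↘ Spec (CommRingCat.of k) := by
    change h ≫ ι ≫ (X ↘ Spec (CommRingCat.of k)) = ι' ≫ (X' ↘ Spec (CommRingCat.of k))
    rw [← Category.assoc, hfac, Category.assoc, hf]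
  have hgen' : IsGenericPoint (ι' (genericPoint C'.subscheme)) (C'.support : Set X') := by
    change closure {ι' (genericPoint C'.subscheme)} = _
    rw [← Set.image_singleton, ι'.isClosedEmbedding.closure_image_eq,
      (genericPoint_spec C'.subscheme).def, Set.image_univ, hrange']
  have hgen : IsGenericPoint (ι (genericPoint C.subscheme)) (C.support : Set X) := by
    change closure {ι (genericPoint C.subscheme)} = _
    rw [← Set.image_singleton, ι.isClosedEmbedding.closure_image_eq,
      (genericPoint_spec C.subscheme).def, Set.image_univ, hrange]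
  have hξ : h.base (genericPoint C'.subscheme) = genericPoint C.subscheme := by
    apply ι.isClosedEmbedding.injective
    have h1 : ι (h (genericPoint C'.subscheme)) = f (ι' (genericPoint C'.subscheme)) := by
      change (h ≫ ι) _ = (ι' ≫ f) _
      rw [hfac]
    have h2 : IsGenericPoint (f (ι' (genericPoint C'.subscheme))) (C.support : Set X) := by
      change closure {f (ι' (genericPoint C'.subscheme))} = _
      rw [← Set.image_singleton, f.isClosedMap.closure_image_eq_of_continuous f.continuous,
        hgen'.def, himg]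
    exact h1.trans (h2.eq hgen)
  haveI : IsProper h := by
    haveI : IsProper (h ≫ (C.subscheme ↘ (Spec (CommRingCat.of k)))) := by
      rw [hh]; infer_instance
    exact IsProper.of_comp h (C.subscheme ↘ (Spec (CommRingCat.of k)))
  haveI : IsNoetherian C'.subscheme := Groth.Agent.Lib.Lead.CurveEuler.isNoetherian k C'.subscheme
  haveI : IsNoetherian C.subscheme := Groth.Agent.Lib.Lead.CurveEuler.isNoetherian k C.subscheme
  haveI hfin : IsFinite h :=
    Groth.Agent.Lib.Helper18.CurveMapFinite.isFinite_of_map_genericPoint h hdimZ' hdimZ hξ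
  have hfib := Groth.Agent.Lib.Helper18.CurveMapFinite.eq_genericPoint_of_map_eq h hdimZ' hdimZ hξ
    h.isClosedMap
  have hpos := residueDegree_pos h hfib hξ
  refine ⟨h.residueDegree (genericPoint C'.subscheme), hpos, fun L hL => ?_⟩
  have hL1 : FlatMod.IsFinLocFreeOfRank 1 L :=
    Groth.Agent.Lib.Helper18.EffCartierCurve.isFinLocFreeOfRank_one_of_isInvertible hL
  have hE : FlatMod.IsFinLocFreeOfRank 1 ((Scheme.Modules.pullback ι).obj L) :=
    Groth.Agent.Lib.helper16.FLF.isFinLocFreeOfRank_pullback ι hL1
  have hdeg := Groth.Agent.S7640.result k C'.subscheme C.subscheme hdimZ' hdimZ h hh hξ 1 _ hE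
  have hLf : FlatMod.IsFinLocFree L :=
    Groth.Agent.Lib.helper16.FLF.isFinLocFree_of_isFinLocFreeOfRank hL1
  rw [nefq_eq_deg k X C L hLf, nefq_eq_deg k X' C' _
    (Groth.Agent.Lib.helper16.FLF.isFinLocFree_pullback f hLf)]
  rw [← hdeg]
  have e1 : (Scheme.Modules.pullback h).obj ((Scheme.Modules.pullback ι).obj L) ≅
      (Scheme.Modules.pullback (h ≫ ι)).obj L := (Scheme.Modules.pullbackComp h ι).app L
  have e2 : (Scheme.Modules.pullback ι').obj ((Scheme.Modules.pullback f).obj L) ≅
      (Scheme.Modules.pullback (ι' ≫ f)).obj L := (Scheme.Modules.pullbackComp ι' f).app L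
  unfold Curv2.deg
  have h3 : Curv2.euler k C'.subscheme
      ((Scheme.Modules.pullback ι').obj ((Scheme.Modules.pullback f).obj L)) =
      Curv2.euler k C'.subscheme
        ((Scheme.Modules.pullback h).obj ((Scheme.Modules.pullback ι).obj L)) := by
    rw [Groth.Agent.Lib.Lead.CurveEuler.euler_eq_of_iso k C'.subscheme e2,
      Groth.Agent.Lib.Lead.CurveEuler.euler_eq_of_iso k C'.subscheme e1, hfac]
  rw [h3]

end Pull

/-- the image of an integral curve under a closed map is a point or has dimension one -/
theorem dim_image_eq_one {X X' : Scheme.{u}} (f : X' ⟶ X) (hcl : IsClosedMap f)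
    (C' : X'.IdealSheafData) [IsIntegral C'.subscheme]
    (hC' : topologicalKrullDim (C'.support : Set X') = 1)
    (hns : ¬ ∃ y : X, f '' (C'.support : Set X') = {y}) :
    topologicalKrullDim ↥(f '' (C'.support : Set X')) = 1 := by
  set ι' := C'.subschemeι with hι'
  have hrange' : Set.range ι' = (C'.support : Set X') := C'.range_subschemeι
  have hdimZ' : topologicalKrullDim C'.subscheme = 1 := by
    have e : C'.subscheme ≃ₜ ↥(Set.range ι') := ι'.isClosedEmbedding.isEmbedding.toHomeomorph
    rw [IsHomeomorph.topologicalKrullDim_eq e e.isHomeomorph, hrange']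
    exact hC'
  set T : Set X := f '' (C'.support : Set X') with hT
  have hTcl : IsClosed T := hcl _ C'.support.isClosed
  have hirr' : IsIrreducible (C'.support : Set X') := by
    rw [← hrange', ← Set.image_univ]
    exact (IrreducibleSpace.isIrreducible_univ C'.subscheme).image _ ι'.continuous.continuousOn
  have hTirr : IsIrreducible T := hirr'.image _ f.continuous.continuousOn
  haveI : QuasiSober ↥T := hTcl.isClosedEmbedding_subtypeVal.quasiSober
  haveI : IrreducibleSpace ↥T := Subtype.irreducibleSpace hTirr
  set η' := genericPoint C'.subscheme with hη'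
  have hgen' : IsGenericPoint (ι' η') (C'.support : Set X') := by
    change closure {ι' η'} = _
    rw [← Set.image_singleton, ι'.isClosedEmbedding.closure_image_eq,
      (genericPoint_spec C'.subscheme).def, Set.image_univ, hrange']
  have hgenT : IsGenericPoint (f (ι' η')) T := by
    change closure {f (ι' η')} = _
    rw [← Set.image_singleton, hcl.closure_image_eq_of_continuous f.continuous, hgen'.def]
  have hmemT : f (ι' η') ∈ T := ⟨ι' η', hgen'.mem, rfl⟩
  have hgenS : genericPoint ↥T = ⟨f (ι' η'), hmemT⟩ := by
    symm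
    apply IsGenericPoint.eq _ (genericPoint_spec ↥T)
    change closure {(⟨f (ι' η'), hmemT⟩ : ↥T)} = Set.univ
    rw [Topology.IsInducing.subtypeVal.closure_eq_preimage_closure_image, Set.image_singleton,
      hgenT.def]
    ext z
    simp only [Set.mem_preimage, Set.mem_univ, iff_true]
    exact z.2
  apply dim_eq_one_of_closed_points
  · rintro ⟨t, ht⟩ hz
    have ht' := ht
    obtain ⟨c, hc, rfl⟩ := ht'
    rw [← hrange'] at hc
    obtain ⟨a, rfl⟩ := hc
    have ha : a ≠ η' := by
      rintro rfl
      exact hz hgenS.symm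
    have h1 : IsClosed ({a} : Set C'.subscheme) :=
      Groth.Agent.Lib.Helper18.CurveMapFinite.isClosed_singleton_of_ne_genericPoint _ hdimZ'.le a ha
    have h2 : IsClosed ({ι' a} : Set X') := by
      have := ι'.isClosedEmbedding.isClosedMap _ h1
      rwa [Set.image_singleton] at this
    have h3 : IsClosed ({f (ι' a)} : Set X) := by
      have := hcl _ h2
      rwa [Set.image_singleton] at this
    have h4 : ({⟨f (ι' a), ht⟩} : Set ↥T) = Subtype.val ⁻¹' {f (ι' a)} := by
      ext z
      simp only [Set.mem_singleton_iff, Set.mem_preimage]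
      exact Subtype.ext_iff
    rw [h4]
    exact h3.preimage continuous_subtype_val
  · by_contra hcon
    push Not at hcon
    apply hns
    refine ⟨f (ι' η'), Set.eq_singleton_iff_unique_mem.mpr ⟨hmemT, fun t ht => ?_⟩⟩
    have := hcon ⟨t, ht⟩
    rw [hgenS] at this
    exact congrArg Subtype.val this

section PullEq

variable (k : Type u) [Field k] (X X' : Scheme.{u}) [X.Over (Spec (CommRingCat.of k))]
  [IsProper (X ↘ Spec (CommRingCat.of k))] [X'.Over (Spec (CommRingCat.of k))]
  [IsProper (X' ↘ Spec (CommRingCat.of k))]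

/-- **pullback preserves numerical equivalence** -/
theorem nefq_pullback_eq_of_forall_nefq_eq (g : X' ⟶ X)
    (hg : g ≫ (X ↘ Spec (CommRingCat.of k)) = X' ↘ Spec (CommRingCat.of k))
    {L N : X.Modules} (hL : PicF.IsInvertible L) (hN : PicF.IsInvertible N)
    (hnum : ∀ C : X.IdealSheafData, IsIntegral C.subscheme →
      topologicalKrullDim (C.support : Set X) = 1 → nefq k X C L = nefq k X C N)
    (C' : X'.IdealSheafData) [IsIntegral C'.subscheme]
    (hC' : topologicalKrullDim (C'.support : Set X') = 1) :
    nefq k X' C' ((Scheme.Modules.pullback g).obj L) =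
      nefq k X' C' ((Scheme.Modules.pullback g).obj N) := by
  haveI : IsProper g := by
    haveI : IsProper (g ≫ (X ↘ (Spec (CommRingCat.of k)))) := by rw [hg]; infer_instance
    exact IsProper.of_comp g (X ↘ (Spec (CommRingCat.of k)))
  have hcl : IsClosed (g '' (C'.support : Set X')) := g.isClosedMap _ C'.support.isClosed
  by_cases hT : ∃ y : X, g '' (C'.support : Set X') = {y}
  · obtain ⟨y, hy⟩ := hT
    have hyc : IsClosed ({y} : Set X) := hy ▸ hcl
    have hmap : ∀ c ∈ (C'.support : Set X'), g c = y := by
      intro c hc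
      have : g c ∈ g '' (C'.support : Set X') := ⟨c, hc, rfl⟩
      rw [hy] at this
      exact this
    rw [Groth.Agent.Lib.helper7.NefAmple.nefq_eq_zero_of_contracted k X' g hL (Iso.refl _) C' y hyc
        hmap,
      Groth.Agent.Lib.helper7.NefAmple.nefq_eq_zero_of_contracted k X' g hN (Iso.refl _) C' y hyc
        hmap]
  · let T : Closeds X := ⟨g '' (C'.support : Set X'), hcl⟩
    have hirr' : IsIrreducible (C'.support : Set X') := by
      rw [← C'.range_subschemeι, ← Set.image_univ]
      exact (IrreducibleSpace.isIrreducible_univ C'.subscheme).image _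
        C'.subschemeι.continuous.continuousOn
    have hirr : IsIrreducible (T : Set X) := hirr'.image _ g.continuous.continuousOn
    haveI : IsIntegral (redI T).subscheme := isIntegral_redI T hirr
    have hsupp : ((redI T).support : Set X) = g '' (C'.support : Set X') := coe_support_redI T
    have hdim : topologicalKrullDim ((redI T).support : Set X) = 1 := by
      rw [hsupp]
      exact dim_image_eq_one g g.isClosedMap C' hC' hT
    obtain ⟨r, -, hr⟩ := nefq_pullback_unif k X X' g hg (redI T) hdim C' hC' hsupp.symm
    rw [hr L hL, hr N hN, hnum (redI T) inferInstance hdim]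

end PullEq

end Groth.Agent.Lib.helper7.NumEq
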