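import Mathlib
import Groth.Agent.Lib.Helper7.NumEq2

/-!
# Numerical equivalence, part 5: the two cases for the pullback of a degree (helper7)

* `nefq_pullback_cases`: for a `k`-morphism `g : X' ⟶ X` of proper schemes and an integral curve `C' ⊆ X'`,
  either `(g^*L · C') = 0` for all invertible `L`, or there are an integral curve `C ⊆ X` and `r > 0` with
  `(g^*L · C') = r (L · C)` for all invertible `L`.
-/

set_option autoImplicit false
set_option linter.unusedSectionVars false
set_option linter.style.haveILetI false
universe u

open CategoryTheory CategoryTheory.Limits AlgebraicGeometry Opposite TopologicalSpace Module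

namespace Groth.Agent.Lib.helper7.NumEq

open Groth.Agent.Lib.Lead.ModTensor Groth.Agent.Lib.Helper18 Groth.Agent.Lib.Helper18.NefPull
open Scheme.Modules Groth.Agent.Lib.Helper18.CurveLift

variable (k : Type u) [Field k] (X X' : Scheme.{u}) [X.Over (Spec (CommRingCat.of k))]
  [IsProper (X ↘ Spec (CommRingCat.of k))] [X'.Over (Spec (CommRingCat.of k))]
  [IsProper (X' ↘ Spec (CommRingCat.of k))]

theorem nefq_pullback_cases (g : X' ⟶ X)
    (hg : g ≫ (X ↘ Spec (CommRingCat.of k)) = X' ↘ Spec (CommRingCat.of k))
    (C' : X'.IdealSheafData) [IsIntegral C'.subscheme]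
    (hC' : topologicalKrullDim (C'.support : Set X') = 1) :
    (∀ L : X.Modules, PicF.IsInvertible L →
      nefq k X' C' ((Scheme.Modules.pullback g).obj L) = 0) ∨
    ∃ (C : X.IdealSheafData) (_ : IsIntegral C.subscheme)
      (_ : topologicalKrullDim (C.support : Set X) = 1) (r : ℕ), 0 < r ∧
      ∀ L : X.Modules, PicF.IsInvertible L →
        nefq k X' C' ((Scheme.Modules.pullback g).obj L) = r * nefq k X C L := by
  haveI : IsProper g := by
    haveI : IsProper (g ≫ (X ↘ (Spec (CommRingCat.of k)))) := by rw [hg]; infer_instance
    exact IsProper.of_comp g (X ↘ (Spec (CommRingCat.of k)))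
  have hcl : IsClosed (g '' (C'.support : Set X')) := g.isClosedMap _ C'.support.isClosed
  by_cases hT : ∃ y : X, g '' (C'.support : Set X') = {y}
  · left
    intro L hL
    obtain ⟨y, hy⟩ := hT
    have hyc : IsClosed ({y} : Set X) := hy ▸ hcl
    have hmap : ∀ c ∈ (C'.support : Set X'), g c = y := by
      intro c hc
      have : g c ∈ g '' (C'.support : Set X') := ⟨c, hc, rfl⟩
      rw [hy] at this
      exact this
    exact Groth.Agent.Lib.helper7.NefAmple.nefq_eq_zero_of_contracted k X' g hL (Iso.refl _) C' y
      hyc hmap
  · right
    let T : Closeds X := ⟨g '' (C'.support : Set X'), hcl⟩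
    have hirr' : IsIrreducible (C'.support : Set X') := by
      rw [← C'.range_subschemeι, ← Set.image_univ]
      exact (IrreducibleSpace.isIrreducible_univ C'.subscheme).image _
        C'.subschemeι.continuous.continuousOn
    have hirr : IsIrreducible (T : Set X) := hirr'.image _ g.continuous.continuousOn
    haveI hint : IsIntegral (redI T).subscheme := isIntegral_redI T hirr
    have hsupp : ((redI T).support : Set X) = g '' (C'.support : Set X') := coe_support_redI T
    have hdim : topologicalKrullDim ((redI T).support : Set X) = 1 := by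
      rw [hsupp]
      exact dim_image_eq_one g g.isClosedMap C' hC' hT
    obtain ⟨r, hr0, hr⟩ := nefq_pullback_unif k X X' g hg (redI T) hdim C' hC' hsupp.symm
    exact ⟨redI T, hint, hdim, r, hr0, hr⟩

end Groth.Agent.Lib.helper7.NumEq
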