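import Mathlib
import Groth.Agent.Lib.Helper7.IntList2
import Groth.Agent.Lib.Helper7.NumEq5
import Groth.Agent.Lib.Helper7.RegInt

/-!
# List-based intersection numbers III: one special slot against ample slots (helper7)

* `SlotCond φ Y N'`: `N'` is invertible and `φ (-(N' · C))` for all integral curves `C ⊆ Y`
* `IsAmpleInv Y T'`: `T'` is inverse to an ample module
* `gen`: if `N'` satisfies `SlotCond φ` and the other `r` slots are inverses of ample modules, then
  `φ (∫ c(N') c(T'_1) ⋯ c(T'_r) G)` for `dim Supp G ≤ r + 1`.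
-/

set_option autoImplicit false
set_option linter.unusedSectionVars false
set_option linter.style.haveILetI false
universe u

open CategoryTheory CategoryTheory.Limits AlgebraicGeometry Opposite TopologicalSpace

namespace Groth.Agent.Lib.helper7.IntList

open Groth.Agent.Lib.Lead.ModTensor Groth.Agent.Lib.Helper18.NefPull
open Groth.Agent.Lib.helper7.NumEq

variable (k : Type u) [Field k]

/-- the condition on a special slot -/
def SlotCond (φ : ℤ → Prop) (Y : Scheme.{u}) [Y.Over (Spec (CommRingCat.of k))]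
    (N' : Y.Modules) : Prop :=
  PicF.IsInvertible N' ∧ ∀ C : Y.IdealSheafData, IsIntegral C.subscheme →
    topologicalKrullDim (C.support : Set Y) = 1 → φ (- nefq k Y C N')

/-- inverse of an ample module -/
def IsAmpleInv (Y : Scheme.{u}) (T' : Y.Modules) : Prop :=
  ∃ T : Y.Modules, CohB1.IsAmple T ∧ Nonempty (CohB1.tensorMod T T' ≅ Coh.structureModule Y)

theorem IsAmpleInv.isInvertible {Y : Scheme.{u}} {T' : Y.Modules} (h : IsAmpleInv Y T') :
    PicF.IsInvertible T' := by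
  obtain ⟨T, hT, hε⟩ := h
  exact Groth.Agent.Lib.helper11.AmpleAffine.isInvertible_of_isInverseOf hT.1 hε

theorem IsAmpleInv.pullback {Y Z : Scheme.{u}} (i : Z ⟶ Y) [IsClosedImmersion i] {T' : Y.Modules}
    (h : IsAmpleInv Y T') : IsAmpleInv Z ((Scheme.Modules.pullback i).obj T') := by
  have hT' := h.isInvertible
  obtain ⟨T, hT, ⟨e⟩⟩ := h
  refine ⟨(Scheme.Modules.pullback i).obj T,
    Groth.Agent.Lib.helper12.PullAmple.isAmple_pullback_of_isAffineHom i hT, ?_⟩
  exact ⟨(Groth.Agent.Lib.helper12.PullTensor.pullTensorIso i _ _ hT').symm ≪≫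
    (Scheme.Modules.pullback i).mapIso e ≪≫
    Groth.Agent.Lib.helper11.InvMod.pullbackUnitIso i⟩

theorem SlotCond.pullback {φ : ℤ → Prop} (hφ : GoodPred φ) (Y : Scheme.{u})
    [Y.Over (Spec (CommRingCat.of k))] [IsProper (Y ↘ Spec (CommRingCat.of k))]
    (Z : Scheme.{u}) [Z.Over (Spec (CommRingCat.of k))] [IsProper (Z ↘ Spec (CommRingCat.of k))]
    (g : Z ⟶ Y) (hg : g ≫ (Y ↘ Spec (CommRingCat.of k)) = Z ↘ Spec (CommRingCat.of k))
    {N' : Y.Modules} (h : SlotCond k φ Y N') :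
    SlotCond k φ Z ((Scheme.Modules.pullback g).obj N') := by
  refine ⟨Groth.Agent.Lib.helper11.InvMod.isInvertible_pullback g h.1, fun C' hC'i hC' => ?_⟩
  haveI := hC'i
  rcases nefq_pullback_cases k Y Z g hg C' hC' with h0 | ⟨C, hCi, hC, r, -, hr⟩
  · rw [h0 N' h.1, neg_zero]
    exact hφ.zero
  · rw [hr N' h.1, ← mul_neg]
    exact hφ.nsmul r _ (h.2 C hCi hC)

/-- the class of lists for `gen` -/
def GenClass (φ : ℤ → Prop) (Y : Scheme.{u}) [Y.Over (Spec (CommRingCat.of k))]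
    (l : List Y.Modules) : Prop :=
  ∃ (N' : Y.Modules) (l' : List Y.Modules), l = N' :: l' ∧ SlotCond k φ Y N' ∧
    ∀ T' ∈ l', IsAmpleInv Y T'

theorem GenClass.isInvertible {φ : ℤ → Prop} {Y : Scheme.{u}} [Y.Over (Spec (CommRingCat.of k))]
    {l : List Y.Modules} (h : GenClass k φ Y l) : ∀ A ∈ l, PicF.IsInvertible A := by
  obtain ⟨N', l', rfl, hN', hl'⟩ := h
  intro A hA
  rcases List.mem_cons.mp hA with rfl | hA
  · exact hN'.1
  · exact (hl' A hA).isInvertible

theorem GenClass.pullback {φ : ℤ → Prop} (hφ : GoodPred φ) (Y : Scheme.{u})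
    [Y.Over (Spec (CommRingCat.of k))] [IsProper (Y ↘ Spec (CommRingCat.of k))]
    (Z : Scheme.{u}) (i : Z ⟶ Y) [IsClosedImmersion i] (l : List Y.Modules)
    (h : GenClass k φ Y l) :
    @GenClass k _ φ Z ⟨i ≫ (Y ↘ Spec (CommRingCat.of k))⟩
      (l.map (Scheme.Modules.pullback i).obj) := by
  letI : Z.Over (Spec (CommRingCat.of k)) := ⟨i ≫ (Y ↘ Spec (CommRingCat.of k))⟩
  haveI : IsProper (Z ↘ Spec (CommRingCat.of k)) := by
    show IsProper (i ≫ (Y ↘ Spec (CommRingCat.of k)))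
    infer_instance
  obtain ⟨N', l', rfl, hN', hl'⟩ := h
  refine ⟨(Scheme.Modules.pullback i).obj N', l'.map (Scheme.Modules.pullback i).obj,
    List.map_cons, SlotCond.pullback k hφ Y Z i rfl hN', fun T' hT' => ?_⟩
  obtain ⟨T₀, hT₀, rfl⟩ := List.mem_map.mp hT'
  exact (hl' T₀ hT₀).pullback i

/-- **one special slot against ample slots** -/
theorem gen {φ : ℤ → Prop} (hφ : GoodPred φ) : ∀ (r : ℕ) (X : Scheme.{u})
    [X.Over (Spec (CommRingCat.of k))] [IsProper (X ↘ Spec (CommRingCat.of k))]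
    (N' : X.Modules) (l' : List X.Modules), SlotCond k φ X N' → (∀ T' ∈ l', IsAmpleInv X T') →
    l'.length = r → ∀ G : X.Modules, Coh.IsCoh G →
    topologicalKrullDim (CohB1.support G) ≤ ((r + 1 : ℕ) : WithBot ℕ∞) →
    φ (E k X (N' :: l') G) := by
  intro r
  induction r with
  | zero =>
    intro X _ _ N' l' hN' hl' hlen G hG hsupp
    refine red k hφ (fun Y _ l => GenClass k φ Y l) (fun Y _ l h => h.isInvertible)
      (fun Y _ _ Z i _ l h => GenClass.pullback k hφ Y Z i l h) (0 + 1) ?_ X (N' :: l')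
      (by rw [List.length_cons, hlen]) ⟨N', l', rfl, hN', hl'⟩ G hG hsupp
    intro Z _ _ _ hdim l hlen' hcl
    obtain ⟨N₁, l₁, rfl, hN₁, hl₁⟩ := hcl
    have hl₁nil : l₁ = [] := by
      apply List.eq_nil_of_length_eq_zero
      simpa using hlen'
    subst hl₁nil
    haveI : Nonempty (⊥ : Z.IdealSheafData).subscheme :=
      ⟨(inv (⊥ : Z.IdealSheafData).subschemeι) (Nonempty.some inferInstance)⟩
    haveI : IsIntegral (⊥ : Z.IdealSheafData).subscheme :=
      isIntegral_of_isOpenImmersion (⊥ : Z.IdealSheafData).subschemeι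
    have h1 := hN₁.2 ⊥ inferInstance (by
      rw [Scheme.IdealSheafData.support_bot]
      have : ((⊤ : Closeds Z) : Set Z) = Set.univ := rfl
      rw [this, Groth.Agent.Lib.helper3.IrredDim.dim_univ_eq, hdim]
      rfl)
    have h2 : - nefq k Z ⊥ N₁ = E k Z [N₁] (Coh.structureModule Z) := by
      rw [E_cons, E_nil, E_nil]
      unfold nefq
      rw [Groth.Agent.Lib.Lead.CurveEuler.euler_eq_of_iso k Z
          (tensorIso (Groth.Agent.Lib.helper7.RegInt.quotBotIso (X := Z)) (Iso.refl N₁)),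
        Groth.Agent.Lib.Lead.CurveEuler.euler_eq_of_iso k Z
          (Groth.Agent.Lib.helper7.RegInt.quotBotIso (X := Z))]
      ring
    rw [← h2]
    exact h1
  | succ r ih =>
    intro X _ _ N' l' hN' hl' hlen G hG hsupp
    refine red k hφ (fun Y _ l => GenClass k φ Y l) (fun Y _ l h => h.isInvertible)
      (fun Y _ _ Z i _ l h => GenClass.pullback k hφ Y Z i l h) (r + 1 + 1) ?_ X (N' :: l')
      (by rw [List.length_cons, hlen]) ⟨N', l', rfl, hN', hl'⟩ G hG hsupp
    intro Z _ _ _ hdim l hlen' hcl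
    obtain ⟨N₁, l₁, rfl, hN₁, hl₁⟩ := hcl
    have hlen₁ : l₁.length = r + 1 := by simpa using hlen'
    obtain ⟨T', l₂, rfl⟩ : ∃ T' l₂, l₁ = T' :: l₂ := by
      cases l₁ with
      | nil => simp at hlen₁
      | cons a t => exact ⟨a, t, rfl⟩
    have hlen₂ : l₂.length = r := by simpa using hlen₁
    have hl₂ : ∀ T' ∈ l₂, IsAmpleInv Z T' := fun A hA => hl₁ A (List.mem_cons_of_mem _ hA)
    obtain ⟨T, hT, ⟨ε₀⟩⟩ := hl₁ T' List.mem_cons_self
    have hinv : ∀ A ∈ N₁ :: l₂, PicF.IsInvertible A := by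
      intro A hA
      rcases List.mem_cons.mp hA with rfl | hA
      · exact hN₁.1
      · exact (hl₂ A hA).isInvertible
    obtain ⟨m, G', hm, hG', hG'dim, hcut⟩ := cut_ample k Z (r + 1) hdim hT ε₀ (N₁ :: l₂) hinv
      (by rw [List.length_cons, hlen₂])
    rw [E_swap]
    refine hφ.div m _ hm ?_
    rw [hcut]
    exact ih Z N₁ l₂ hN₁ hl₂ hlen₂ G' hG' hG'dim

end Groth.Agent.Lib.helper7.IntList
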