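import Mathlib
import Groth.Agent.Lib.Helper7.Growth5
import Groth.Agent.Lib.Helper7.Growth3
import Groth.Agent.Lib.Helper11.AmpleVan
import Groth.Agent.Lib.Helper11.TwistH1
import Groth.Agent.Lib.Lead.HilbPos5

/-!
# Nakai–Moishezon, part 1: Serre vanishing as a property of coherent modules (helper7)

`SV k X F L`: `H^p(X, F ⊗ L^n) = 0` for all `p > 0` and `n ≫ 0`.

* `SV.iso`, `SV.zero`, `SV.ext`, `SV.push`, `SV.pow`
* `SV.of_isAmple` (Serre vanishing), `isAmple_of_forall_SV` (cohomological criterion of ampleness)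
-/

set_option autoImplicit false
set_option linter.unusedSectionVars false
set_option linter.style.haveILetI false
universe u

open CategoryTheory CategoryTheory.Limits AlgebraicGeometry Opposite TopologicalSpace Module

namespace Groth.Agent.Lib.helper7.Nakai

open Groth.Agent.Lib.Lead.ModTensor Groth.Agent.Lib.Helper18
open Scheme.Modules Groth.Agent.Lib.helper7.Growth

section Basic

variable (k : Type u) [Field k] (X : Scheme.{u}) [X.Over (Spec (CommRingCat.of k))]

/-- Serre vanishing for `F` with respect to `L` -/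
def SV (F L : X.Modules) : Prop :=
  ∃ n₀ : ℕ, ∀ n, n₀ ≤ n → ∀ p, 0 < p → hh k X F L p n = 0

variable {k X}

theorem SV.iso {F G L : X.Modules} (h : SV k X F L) (e : F ≅ G) : SV k X G L := by
  obtain ⟨n₀, h⟩ := h
  exact ⟨n₀, fun n hn p hp => by rw [← hh_iso k X e L p n]; exact h n hn p hp⟩

theorem SV.zero {N : X.Modules} (hN : IsZero N) (L : X.Modules) : SV k X N L :=
  ⟨0, fun n _ p _ => hh_zero k X hN L p n⟩

variable [IsProper (X ↘ Spec (CommRingCat.of k))]

theorem SV.ext (S : ShortComplex X.Modules) (hS : S.ShortExact)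
    (h₁ : Coh.IsCoh S.X₁) (h₂ : Coh.IsCoh S.X₂) (h₃ : Coh.IsCoh S.X₃)
    {L : X.Modules} (hL : PicF.IsInvertible L) (a : SV k X S.X₁ L) (b : SV k X S.X₃ L) :
    SV k X S.X₂ L := by
  obtain ⟨n₁, ha⟩ := a
  obtain ⟨n₃, hb⟩ := b
  refine ⟨max n₁ n₃, fun n hn p hp => ?_⟩
  have h := hh_mid_le k X S hS h₁ h₂ h₃ hL p n
  rw [ha n ((le_max_left _ _).trans hn) p hp, hb n ((le_max_right _ _).trans hn) p hp] at h
  omega

/-- vanishing for a quotient, from vanishing for the middle and the sub -/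
theorem SV.right (S : ShortComplex X.Modules) (hS : S.ShortExact)
    (h₁ : Coh.IsCoh S.X₁) (h₂ : Coh.IsCoh S.X₂) (h₃ : Coh.IsCoh S.X₃)
    {L : X.Modules} (hL : PicF.IsInvertible L) (a : SV k X S.X₁ L) (b : SV k X S.X₂ L) :
    SV k X S.X₃ L := by
  obtain ⟨n₁, ha⟩ := a
  obtain ⟨n₂, hb⟩ := b
  refine ⟨max n₁ n₂, fun n hn p hp => ?_⟩
  have h := hh_right_le k X S hS h₁ h₂ h₃ hL p n
  rw [ha n ((le_max_left _ _).trans hn) (p + 1) (Nat.succ_pos p),
    hb n ((le_max_right _ _).trans hn) p hp] at h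
  omega

theorem SV.subsingleton {F L : X.Modules} (hF : Coh.IsCoh F) (hL : PicF.IsInvertible L)
    (h : SV k X F L) : ∃ n₀ : ℕ, ∀ n, n₀ ≤ n → ∀ p, 0 < p →
      Subsingleton (Coh.HH X (CohB1.tensorMod F (CohB1.tensorPow L n)) p) := by
  obtain ⟨n₀, h⟩ := h
  refine ⟨n₀, fun n hn p hp => ?_⟩
  haveI := finite_tensor k X hF hL p n
  exact Module.finrank_zero_iff.mp (h n hn p hp)

theorem SV.of_subsingleton {F L : X.Modules}
    (h : ∃ n₀ : ℕ, ∀ n, n₀ ≤ n → ∀ p, 0 < p →
      Subsingleton (Coh.HH X (CohB1.tensorMod F (CohB1.tensorPow L n)) p)) : SV k X F L := by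
  obtain ⟨n₀, h⟩ := h
  refine ⟨n₀, fun n hn p hp => ?_⟩
  haveI := h n hn p hp
  exact Module.finrank_zero_of_subsingleton

/-- **Serre vanishing** -/
theorem SV.of_isAmple {L : X.Modules} (hL : CohB1.IsAmple L) {F : X.Modules} (hF : Coh.IsCoh F) :
    SV k X F L :=
  SV.of_subsingleton
    (Groth.Agent.Lib.helper11.AmpleVan.serre_vanishing_of_isAmple (R := k)
      (X ↘ Spec (CommRingCat.of k)) hL F hF)

/-- **the cohomological criterion of ampleness** -/
theorem isAmple_of_forall_SV {L : X.Modules} (hL : PicF.IsInvertible L)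
    (h : ∀ F : X.Modules, Coh.IsCoh F → SV k X F L) : CohB1.IsAmple L := by
  haveI := Groth.Agent.Lib.Lead.CurveEuler.isNoetherian k X
  haveI : CompactSpace X := inferInstance
  refine Groth.Agent.Lib.helper11.TwistH1.isAmple_of_H1 hL ?_
  intro I i hi hI
  haveI := hi
  have hIc : Coh.IsCoh I := Groth.Agent.Lib.Lead.HilbPos.isCoh_of_mono i hI
    (Groth.Agent.Lib.helper8.Dev.isCoh_structureModule X)
  obtain ⟨n₀, hn₀⟩ := (h I hIc).subsingleton hIc hL
  exact ⟨n₀, hn₀ (n₀ + 1) (Nat.le_succ _) 1 one_pos⟩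

/-- vanishing for `L` implies vanishing for a positive power of `L` -/
theorem SV.pow {F L : X.Modules} (h : SV k X F L) (m : ℕ) (hm : 0 < m) :
    SV k X F (CohB1.tensorPow L m) := by
  obtain ⟨n₀, h⟩ := h
  refine ⟨n₀, fun n hn p hp => ?_⟩
  have e : CohB1.tensorMod F (CohB1.tensorPow (CohB1.tensorPow L m) n) ≅
      CohB1.tensorMod F (CohB1.tensorPow L (m * n)) := tensorIso (Iso.refl F) (tensorPowMul L m n)
  have h1 : hh k X F (CohB1.tensorPow L m) p n = hh k X F L p (m * n) :=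
    (HH.isoEquivOver k e p).finrank_eq
  rw [h1]
  refine h (m * n) (hn.trans ?_) p hp
  exact Nat.le_mul_of_pos_left n hm

end Basic

section Push

variable {k : Type u} [Field k] {X : Scheme.{u}} [X.Over (Spec (CommRingCat.of k))]
  {Z : Scheme.{u}} (i : Z ⟶ X) [IsClosedImmersion i]

/-- vanishing on `Z` for `i^*L` is vanishing on `X` for the pushforward -/
theorem SV.push_iff (G : Z.Modules) [G.IsQuasicoherent] {L : X.Modules} (hL : PicF.IsInvertible L) :
    letI : Z.Over (Spec (CommRingCat.of k)) := ⟨i ≫ (X ↘ Spec (CommRingCat.of k))⟩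
    SV k X ((pushforward i).obj G) L ↔ SV k Z G ((Scheme.Modules.pullback i).obj L) := by
  letI : Z.Over (Spec (CommRingCat.of k)) := ⟨i ≫ (X ↘ Spec (CommRingCat.of k))⟩
  constructor
  · rintro ⟨n₀, h⟩
    exact ⟨n₀, fun n hn p hp => by rw [← hh_push k X i G hL p n]; exact h n hn p hp⟩
  · rintro ⟨n₀, h⟩
    exact ⟨n₀, fun n hn p hp => by rw [hh_push k X i G hL p n]; exact h n hn p hp⟩

end Push

end Groth.Agent.Lib.helper7.Nakai
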