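import Mathlib
import Groth.Agent.Lib.Helper7.Nakai1
import Groth.Agent.Lib.Helper7.Growth2
import Groth.Agent.Lib.Helper8.DevAR
import Groth.Agent.Lib.Helper12.PullAmple

/-!
# Nakai–Moishezon, part 3: reduction of ampleness to integral closed subschemes (helper7)

* `exists_ne_zero_of_ne_bot`: a nonzero ideal sheaf on a closed subscheme has a nonzero section over the
  preimage of an affine open
* `isAmple_of_core`: `L` is ample on `X` (proper over a field) as soon as, for every integral closed subscheme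
  `Z`, `L|_Z` is ample provided it is ample on every proper closed subscheme of `Z`
-/

set_option autoImplicit false
set_option linter.unusedSectionVars false
set_option linter.style.haveILetI false
universe u

open CategoryTheory CategoryTheory.Limits AlgebraicGeometry Opposite TopologicalSpace Module

namespace Groth.Agent.Lib.helper7.Nakai

open Groth.Agent.Lib.Lead.ModTensor Groth.Agent.Lib.Helper18
open Scheme.Modules Groth.Agent.Lib.helper7.Growth

section Ideal

variable {X Z : Scheme.{u}} (i : Z ⟶ X) [IsClosedImmersion i]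

/-- a nonzero ideal sheaf on `Z` has a nonzero section over the preimage of some affine open of `X` -/
theorem exists_ne_zero_of_ne_bot (J : Z.IdealSheafData) (hJ : J ≠ ⊥) :
    ∃ (U : X.affineOpens) (b : Γ(Z, i ⁻¹ᵁ U.1)), b ≠ 0 ∧ b ∈ J.ideal ⟨i ⁻¹ᵁ U.1, U.2.preimage i⟩ := by
  by_contra hcon
  push Not at hcon
  apply hJ
  refine Scheme.IdealSheafData.ext_of_iSup_eq_top
    (fun U : X.affineOpens => (⟨i ⁻¹ᵁ U.1, U.2.preimage i⟩ : Z.affineOpens)) ?_ ?_
  · have h1 : ⨆ U : X.affineOpens, (U.1 : X.Opens) = ⊤ := iSup_affineOpens_eq_top X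
    rw [eq_top_iff]
    intro z _
    have hz : i z ∈ (⊤ : X.Opens) := trivial
    rw [← h1] at hz
    obtain ⟨U, hU⟩ := Opens.mem_iSup.mp hz
    exact Opens.mem_iSup.mpr ⟨U, hU⟩
  · intro U
    rw [Scheme.IdealSheafData.ideal_bot]
    change J.ideal ⟨i ⁻¹ᵁ U.1, U.2.preimage i⟩ = ⊥
    rw [eq_bot_iff]
    intro b hb
    by_contra hne
    exact hcon U b hne hb

end Ideal

section Core

variable (k : Type u) [Field k] (X : Scheme.{u}) [X.Over (Spec (CommRingCat.of k))]
  [IsProper (X ↘ Spec (CommRingCat.of k))]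

include k in
/-- **reduction to integral closed subschemes** -/
theorem isAmple_of_core {L : X.Modules} (hL : PicF.IsInvertible L)
    (hcore : ∀ Z : X.IdealSheafData, IsIntegral Z.subscheme →
      (∀ J : Z.subscheme.IdealSheafData, J ≠ ⊥ →
        CohB1.IsAmple ((Scheme.Modules.pullback J.subschemeι).obj
          ((Scheme.Modules.pullback Z.subschemeι).obj L))) →
      CohB1.IsAmple ((Scheme.Modules.pullback Z.subschemeι).obj L)) :
    CohB1.IsAmple L := by
  haveI := Groth.Agent.Lib.Lead.CurveEuler.isNoetherian k X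
  refine isAmple_of_forall_SV (k := k) hL (fun F hF => ?_)
  let P : X.Modules → Prop := fun G => SV k X G L
  have hPiso : ∀ M N : X.Modules, Nonempty (M ≅ N) → P M → P N := by
    rintro M N ⟨e⟩ hM
    exact hM.iso e
  refine Groth.Agent.Lib.helper8.Dev.devissage_master_aux P hPiso Set.univ ?_ ?_ ?_ F hF
    (Set.subset_univ _)
  · intro N hN
    exact SV.zero hN L
  · intro S hS h1 h2 h3 _ a b
    exact SV.ext S hS h1 h2 h3 hL a b
  · intro Z' i _ _ _ hsmall I ι hι hIq hI0
    haveI := hι
    -- the image subscheme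
    let Z : X.IdealSheafData := i.ker
    let ι₀ : Z.subscheme ⟶ X := Z.subschemeι
    let φ : Z' ⟶ Z.subscheme := i.toImage
    haveI : IsIso φ := inferInstanceAs (IsIso i.toImage)
    have hφ : φ ≫ ι₀ = i := i.toImage_imageι
    haveI : Nonempty Z.subscheme := ⟨φ (Classical.arbitrary Z')⟩
    haveI : IsIntegral Z.subscheme := isIntegral_of_isOpenImmersion (inv φ)
    letI : Z.subscheme.Over (Spec (CommRingCat.of k)) := ⟨ι₀ ≫ (X ↘ Spec (CommRingCat.of k))⟩
    haveI : IsProper (Z.subscheme ↘ Spec (CommRingCat.of k)) :=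
      inferInstanceAs (IsProper (ι₀ ≫ (X ↘ Spec (CommRingCat.of k))))
    haveI := Groth.Agent.Lib.Lead.CurveEuler.isNoetherian k Z.subscheme
    have hN : PicF.IsInvertible ((Scheme.Modules.pullback ι₀).obj L) :=
      Groth.Agent.Lib.helper11.InvMod.isInvertible_pullback ι₀ hL
    have hker : ι₀.ker = i.ker := Scheme.IdealSheafData.ker_subschemeι Z
    -- ampleness on proper closed subschemes
    have hJ : ∀ J : Z.subscheme.IdealSheafData, J ≠ ⊥ →
        CohB1.IsAmple ((Scheme.Modules.pullback J.subschemeι).obj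
          ((Scheme.Modules.pullback ι₀).obj L)) := by
      intro J hJne
      letI : J.subscheme.Over (Spec (CommRingCat.of k)) :=
        ⟨J.subschemeι ≫ (Z.subscheme ↘ Spec (CommRingCat.of k))⟩
      haveI : IsProper (J.subscheme ↘ Spec (CommRingCat.of k)) :=
        inferInstanceAs (IsProper (J.subschemeι ≫ (Z.subscheme ↘ Spec (CommRingCat.of k))))
      refine isAmple_of_forall_SV (k := k)
        (Groth.Agent.Lib.helper11.InvMod.isInvertible_pullback J.subschemeι hN) (fun G' hG' => ?_)
      haveI : G'.IsQuasicoherent := hG'.1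
      have hG'' : Coh.IsCoh ((pushforward J.subschemeι).obj G') :=
        Groth.Agent.Lib.helper8.Dev.isCoh_push_of_isCoh J.subschemeι G' hG'
      haveI : ((pushforward J.subschemeι).obj G').IsQuasicoherent := hG''.1
      rw [← SV.push_iff J.subschemeι G' hN, ← SV.push_iff ι₀ _ hL]
      apply hsmall
      obtain ⟨U, b, hb0, hbJ⟩ := exists_ne_zero_of_ne_bot ι₀ J hJne
      have hsm : Groth.Agent.Lib.helper8.Dev.Small ι₀
          ((pushforward ι₀).obj ((pushforward J.subschemeι).obj G')) := by
        refine Groth.Agent.Lib.helper8.Dev.small_push U _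
          (Groth.Agent.Lib.helper8.Dev.isCoh_push_of_isCoh ι₀ _ hG'') b hb0 (fun t => ?_)
        have hk := Groth.Agent.Lib.helper8.Dev.killedByIdeal_ker_push J.subschemeι G'
        rw [Scheme.IdealSheafData.ker_subschemeι] at hk
        exact hk ⟨ι₀ ⁻¹ᵁ U.1, U.2.preimage ι₀⟩ b hbJ t
      unfold Groth.Agent.Lib.helper8.Dev.Small at hsm ⊢
      rw [hker] at hsm
      exact hsm
    have hA₀ := hcore Z inferInstance hJ
    -- transfer to `Z'`
    letI : Z'.Over (Spec (CommRingCat.of k)) := ⟨i ≫ (X ↘ Spec (CommRingCat.of k))⟩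
    haveI : IsProper (Z' ↘ Spec (CommRingCat.of k)) :=
      inferInstanceAs (IsProper (i ≫ (X ↘ Spec (CommRingCat.of k))))
    haveI := Groth.Agent.Lib.Lead.CurveEuler.isNoetherian k Z'
    have hA₁ := Groth.Agent.Lib.helper12.PullAmple.isAmple_pullback_of_isAffineHom φ hA₀
    let e : (Scheme.Modules.pullback φ).obj ((Scheme.Modules.pullback ι₀).obj L) ≅
        (Scheme.Modules.pullback i).obj L :=
      (Scheme.Modules.pullbackComp φ ι₀).app L ≪≫ (Scheme.Modules.pullbackCongr hφ).app L
    have hA : CohB1.IsAmple ((Scheme.Modules.pullback i).obj L) :=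
      Groth.Agent.Lib.helper12.AmplePow.isAmple_of_iso e hA₁
    have hIc : Coh.IsCoh I := Groth.Agent.Lib.Lead.HilbPos.isCoh_of_mono ι hIq
      (Groth.Agent.Lib.helper8.Dev.isCoh_structureModule Z')
    haveI : I.IsQuasicoherent := hIq
    exact (SV.push_iff i I hL).mpr (SV.of_isAmple hA hIc)

end Core

end Groth.Agent.Lib.helper7.Nakai
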