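import Mathlib
import Groth.Agent.Lib.Helper7.Nakai1
import Groth.Agent.Lib.Helper7.IdealMod
import Groth.Agent.Lib.Helper9.CurveGG
import Groth.Agent.Lib.Helper11.AmpleInv
import Groth.Agent.Lib.Helper11.AmpleAffine
import Groth.Agent.Lib.Helper12.TensorPowAdd
import Groth.Agent.Lib.Helper12.TensorInvLocal
import Groth.Agent.Lib.Helper12.ProjUP4
import Groth.Agent.Lib.Helper12.PullAmple
import Groth.Agent.Lib.Helper18.ProjFormulaLF
import Groth.Agent.Lib.Helper18.HHZero
import Groth.Agent.Lib.Helper18.HHLES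
import Groth.Agent.Lib.Helper20.SplitH1

/-!
# Nakai–Moishezon, part 2: `O(mD)` is globally generated when `O(D)|_D` is ample (helper7)

* `isGloballyGenerated_of_forall_mem_genLocus`
* `lam`, `theta`, `toSubscheme_theta`: the comparison `O_D ⊗ F ≅ j_* j^* F` and its compatibility with the unit
* `exists_pullback_map_eq`, `exists_lift_of_surjective_H0`, `surjective_of_exact_of_finrank_eq`
* `exists_forall_lift`: sections of `O_D ⊗ M^r` lift to `M^r` for `r ≫ 0`
* `eventually_gg` (= S17288)
-/

set_option autoImplicit false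
set_option linter.unusedSectionVars false
set_option linter.style.haveILetI false
universe u

open CategoryTheory CategoryTheory.Limits AlgebraicGeometry Opposite TopologicalSpace Module

namespace Groth.Agent.Lib.helper7.Nakai

open Groth.Agent.Lib.Lead.ModTensor Groth.Agent.Lib.Helper18
open Scheme.Modules Groth.Agent.Lib.helper7.Growth Groth.Agent.Lib.helper11.IsoLocus
open Groth.Agent.Lib.helper12.PullTensor Groth.Agent.Lib.Helper18.ProjFormulaLF

section GG

variable {X : Scheme.{u}}

/-- a module such that every point lies in the non-vanishing locus of a global section is globally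
generated -/
theorem isGloballyGenerated_of_forall_mem_genLocus {M : X.Modules}
    (h : ∀ x : X, ∃ s : Coh.structureModule X ⟶ M, x ∈ CohB1.genLocus M s) :
    Curv2.IsGloballyGenerated M :=
  Groth.Agent.Lib.helper11.SerreGG.isGloballyGenerated_of_genAt M fun y => by
    obtain ⟨s, hs⟩ := h y
    exact Groth.Agent.Lib.helper9.CurveGG.genAt_of_mem_isoLocus s hs

end GG

section Unit

variable {X : Scheme.{u}}

/-- a left unitor with a section formula -/
noncomputable def lam (F : X.Modules) : CohB1.tensorMod (Coh.structureModule X) F ≅ F :=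
  braid (Coh.structureModule X) F ≪≫ SecTwist.unitorR F

theorem lam_tmul (F : X.Modules) (U : X.Opens) (a : X.ringCatSheaf.obj.obj (op U))
    (f : F.val.obj (op U)) :
    ((lam F).hom.val.app (op U)).hom
      (SecTwist.tmul (Coh.structureModule X) F U (a : (Coh.structureModule X).val.obj (op U)) f) =
      a • f := by
  unfold lam
  change ((SecTwist.unitorR F).hom.val.app (op U)).hom
    (((braid (Coh.structureModule X) F).hom.val.app (op U)).hom _) = _
  refine (congrArg _ (Groth.Agent.Lib.helper12.TensorInvLocal.braid_tmul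
    (Coh.structureModule X) F U a f)).trans ?_
  exact SecTwist.unitorR_tmul F U f a

variable (D : X.IdealSheafData)

/-- the comparison `O_D ⊗ F ⟶ j_* j^* F` -/
noncomputable def theta (F : X.Modules) :
    CohB1.tensorMod (ClSub.quotMod D) F ⟶
      (Scheme.Modules.pushforward D.subschemeι).obj ((Scheme.Modules.pullback D.subschemeι).obj F) :=
  projHom D.subschemeι (Coh.structureModule D.subscheme) F ≫
    (Scheme.Modules.pushforward D.subschemeι).map
      (lam ((Scheme.Modules.pullback D.subschemeι).obj F)).hom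

theorem isIso_theta (F : X.Modules) (hF : FlatMod.IsFinLocFree F) : IsIso (theta D F) := by
  haveI := isIso_projHom D.subschemeι (Coh.structureModule D.subscheme) F hF
  haveI : IsIso ((Scheme.Modules.pushforward D.subschemeι).map
      (lam ((Scheme.Modules.pullback D.subschemeι).obj F)).hom) :=
    Functor.map_isIso _ _
  exact IsIso.comp_isIso

theorem toSubscheme_theta (F : X.Modules) :
    tensorMap (ClSub.toSubscheme D) (𝟙 F) ≫ theta D F =
      (lam F).hom ≫ (pbAdj D.subschemeι).unit.app F := by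
  apply tensorMod_hom_ext
  intro U a f
  unfold theta
  change (((Scheme.Modules.pushforward D.subschemeι).map
      (lam ((Scheme.Modules.pullback D.subschemeι).obj F)).hom).val.app (op U)).hom
    (((projHom D.subschemeι (Coh.structureModule D.subscheme) F).val.app (op U)).hom
      (((tensorMap (ClSub.toSubscheme D) (𝟙 F)).val.app (op U)).hom _)) =
    (((pbAdj D.subschemeι).unit.app F).val.app (op U)).hom (((lam F).hom.val.app (op U)).hom _)
  refine (congrArg _ (congrArg _ (tensorMap_tmul (ClSub.toSubscheme D) (𝟙 F) U a f))).trans ?_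
  refine (congrArg _ (projHom_tmul D.subschemeι (Coh.structureModule D.subscheme) F U _ _)).trans ?_
  refine Eq.trans ?_ (congrArg _ (lam_tmul F U a f)).symm
  have h1 : ((𝟙 F : F ⟶ F).val.app (op U)).hom f = f := rfl
  rw [h1]
  refine (lam_tmul ((Scheme.Modules.pullback D.subschemeι).obj F) (D.subschemeι ⁻¹ᵁ U) _ _).trans ?_
  exact (Groth.Agent.Lib.helper12.ProjUP4.unitSec_smul D.subschemeι F U a f).symm

/-- if global sections lift along `O ⊗ F ⟶ O_D ⊗ F`, every map `j^*O ⟶ j^*F` is a pullback -/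
theorem exists_pullback_map_eq (F : X.Modules) (hF : FlatMod.IsFinLocFree F)
    (hsurj : ∀ u : Coh.structureModule X ⟶ CohB1.tensorMod (ClSub.quotMod D) F,
      ∃ s : Coh.structureModule X ⟶ CohB1.tensorMod (Coh.structureModule X) F,
        s ≫ tensorMap (ClSub.toSubscheme D) (𝟙 F) = u)
    (t' : (Scheme.Modules.pullback D.subschemeι).obj (Coh.structureModule X) ⟶
      (Scheme.Modules.pullback D.subschemeι).obj F) :
    ∃ s : Coh.structureModule X ⟶ F, (Scheme.Modules.pullback D.subschemeι).map s = t' := by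
  haveI := isIso_theta D F hF
  let u' : Coh.structureModule X ⟶ (Scheme.Modules.pushforward D.subschemeι).obj
      ((Scheme.Modules.pullback D.subschemeι).obj F) := (pbAdj D.subschemeι).homEquiv _ _ t'
  obtain ⟨s₀, hs₀⟩ := hsurj (u' ≫ inv (theta D F))
  refine ⟨s₀ ≫ (lam F).hom, ?_⟩
  apply ((pbAdj D.subschemeι).homEquiv _ _).injective
  rw [Adjunction.homEquiv_unit]
  have h1 : (pbAdj D.subschemeι).unit.app (Coh.structureModule X) ≫
      (Scheme.Modules.pushforward D.subschemeι).map
        ((Scheme.Modules.pullback D.subschemeι).map (s₀ ≫ (lam F).hom)) =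
      (s₀ ≫ (lam F).hom) ≫ (pbAdj D.subschemeι).unit.app F :=
    ((pbAdj D.subschemeι).unit.naturality (s₀ ≫ (lam F).hom)).symm
  refine h1.trans ?_
  rw [Category.assoc, ← toSubscheme_theta D F, ← Category.assoc, hs₀, Category.assoc,
    IsIso.inv_hom_id, Category.comp_id]

end Unit

section Lift

variable {X : Scheme.{u}}

/-- if `H⁰(g)` is surjective, morphisms out of `O` lift along `g` -/
theorem exists_lift_of_surjective_H0 {A B : X.Modules} (g : A ⟶ B)
    (hg : Function.Surjective (HH.map g 0)) (u : Coh.structureModule X ⟶ B) :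
    ∃ s : Coh.structureModule X ⟶ A, s ≫ g = u := by
  let a : B.val.obj (op ⊤) := (u.val.app (op ⊤)).hom (1 : X.ringCatSheaf.obj.obj (op ⊤))
  obtain ⟨y, hy⟩ := hg ((HH.equiv₀ B).symm a)
  let b : A.val.obj (op ⊤) := HH.equiv₀ A y
  refine ⟨Groth.Agent.Lib.Helper20.SplitH1.homOfGlobal A b, ?_⟩
  apply Groth.Agent.Lib.Helper20.SplitH1.hom_ext_top
  change (g.val.app (op ⊤)).hom
    (((Groth.Agent.Lib.Helper20.SplitH1.homOfGlobal A b).val.app (op ⊤)).hom
      (1 : X.ringCatSheaf.obj.obj (op ⊤))) = a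
  rw [Groth.Agent.Lib.Helper20.SplitH1.homOfGlobal_top]
  change (g.val.app (op ⊤)).hom (HH.equiv₀ A y) = a
  rw [← HH.equiv₀_naturality, hy, LinearEquiv.apply_symm_apply]

end Lift

section LinAlg

variable {K : Type*} [Field K] {V₀ V₁ V₂ V₃ : Type*}
  [AddCommGroup V₀] [Module K V₀] [AddCommGroup V₁] [Module K V₁]
  [AddCommGroup V₂] [Module K V₂] [AddCommGroup V₃] [Module K V₃]

/-- in an exact sequence `V₀ → V₁ → V₂ → V₃ → 0` with `dim V₂ = dim V₃`, the first map is surjective -/
theorem surjective_of_exact_of_finrank_eq [Module.Finite K V₂] [Module.Finite K V₃]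
    (g : V₀ →ₗ[K] V₁) (δ : V₁ →ₗ[K] V₂) (f : V₂ →ₗ[K] V₃)
    (h1 : Function.Exact g δ) (h2 : Function.Exact δ f) (hf : Function.Surjective f)
    (hd : finrank K V₂ = finrank K V₃) : Function.Surjective g := by
  have hinj : Function.Injective f :=
    (LinearMap.injective_iff_surjective_of_finrank_eq_finrank hd).mpr hf
  intro v
  have h3 : δ v = 0 := by
    apply hinj
    rw [map_zero]
    exact (h2 (δ v)).mpr ⟨v, rfl⟩
  exact (h1 v).mp h3

end LinAlg

section Stable

/-- an eventually non-increasing sequence of natural numbers is eventually constant -/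
theorem exists_stable (a : ℕ → ℕ) : ∀ (n r₀ : ℕ), a r₀ ≤ n → (∀ r, r₀ ≤ r → a (r + 1) ≤ a r) →
    ∃ r₁, r₀ ≤ r₁ ∧ ∀ r, r₁ ≤ r → a (r + 1) = a r := by
  intro n
  induction n with
  | zero =>
    intro r₀ h0 hmono
    have hz : ∀ r, r₀ ≤ r → a r = 0 := by
      intro r hr
      induction r, hr using Nat.le_induction with
      | base => exact Nat.le_zero.mp h0
      | succ r hr ih => exact Nat.le_zero.mp ((hmono r hr).trans (le_of_eq ih))
    exact ⟨r₀, le_rfl, fun r hr => by rw [hz r hr, hz (r + 1) (hr.trans (Nat.le_succ r))]⟩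
  | succ n ih =>
    intro r₀ h0 hmono
    by_cases hstab : ∀ r, r₀ ≤ r → a (r + 1) = a r
    · exact ⟨r₀, le_rfl, hstab⟩
    · push Not at hstab
      obtain ⟨r, hr, hne⟩ := hstab
      have hanti : ∀ r, r₀ ≤ r → a r ≤ a r₀ := by
        intro r hr
        induction r, hr using Nat.le_induction with
        | base => exact le_rfl
        | succ r hr ih => exact (hmono r hr).trans ih
      have hlt : a (r + 1) < a r := lt_of_le_of_ne (hmono r hr) hne
      have h1 : a (r + 1) ≤ n := by
        have := hanti r hr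
        omega
      obtain ⟨r₁, hr₁, h⟩ := ih (r + 1) h1 (fun r' hr' => hmono r' (by omega))
      exact ⟨r₁, by omega, h⟩

end Stable

section Main

variable (k : Type u) [Field k] (X : Scheme.{u}) [X.Over (Spec (CommRingCat.of k))]
  [IsProper (X ↘ Spec (CommRingCat.of k))] (D : X.IdealSheafData)

/-- sections of `O_D ⊗ M^r` lift to sections of `M^r` for `r ≫ 0`, when `M ⊗ I_D ≅ O` and Serre vanishing
holds for `O_D` -/
theorem exists_forall_lift {M : X.Modules} (hM : PicF.IsInvertible M)
    (e : CohB1.tensorMod M (ClSub.idealMod D) ≅ Coh.structureModule X)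
    (hv : SV k X (ClSub.quotMod D) M) :
    ∃ r₁ : ℕ, ∀ r, r₁ ≤ r →
      ∀ u : Coh.structureModule X ⟶ CohB1.tensorMod (ClSub.quotMod D) (CohB1.tensorPow M r),
        ∃ s : Coh.structureModule X ⟶ CohB1.tensorMod (Coh.structureModule X) (CohB1.tensorPow M r),
          s ≫ tensorMap (ClSub.toSubscheme D) (𝟙 (CohB1.tensorPow M r)) = u := by
  haveI := Groth.Agent.Lib.Lead.CurveEuler.isNoetherian k X
  have hO : Coh.IsCoh (Coh.structureModule X) := Groth.Agent.Lib.helper8.Dev.isCoh_structureModule X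
  have hS := Groth.Agent.Lib.helper7.IdealMod.idealSeq_shortExact D
  have hI : Coh.IsCoh (ClSub.idealMod D) := by
    haveI : Mono (ClSub.idealModι D) := Groth.Agent.Lib.helper7.IdealMod.mono_idealModι D
    exact Groth.Agent.Lib.Lead.HilbPos.isCoh_of_mono (ClSub.idealModι D)
      (Groth.Agent.Lib.helper7.IdealMod.idealMod_qcoh D) hO
  have hQ : Coh.IsCoh (ClSub.quotMod D) :=
    Groth.Agent.Lib.helper8.Dev.isCoh_push_structureModule D.subschemeι
  obtain ⟨r₀, h0s⟩ := hv.subsingleton hQ hM
  have h0 : ∀ n, r₀ ≤ n → ∀ p, 0 < p → hh k X (ClSub.quotMod D) M p n = 0 := by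
    intro n hn p hp
    haveI := h0s n hn p hp
    exact Module.finrank_zero_of_subsingleton
  let a : ℕ → ℕ := fun r => hh k X (Coh.structureModule X) M 1 r
  have hIa : ∀ r, hh k X (ClSub.idealMod D) M 1 (r + 1) = a r := by
    intro r
    rw [hh_shift]
    exact hh_iso k X (braid _ _ ≪≫ e) M 1 r
  have hmono : ∀ r, r₀ ≤ r → a (r + 1) ≤ a r := by
    intro r hr
    have h1 := hh_mid_le k X (Groth.Agent.Lib.helper7.IdealMod.idealSeq D) hS hI hO hQ hM 1 (r + 1)
    have h2 : hh k X (ClSub.quotMod D) M 1 (r + 1) = 0 := h0 (r + 1) (hr.trans (Nat.le_succ r)) 1 one_pos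
    have h3 := hIa r
    change hh k X (Coh.structureModule X) M 1 (r + 1) ≤
      hh k X (ClSub.idealMod D) M 1 (r + 1) + hh k X (ClSub.quotMod D) M 1 (r + 1) at h1
    rw [h2, h3, add_zero] at h1
    exact h1
  obtain ⟨r₁, hr₁, hstab⟩ := exists_stable a (a r₀) r₀ le_rfl hmono
  refine ⟨r₁ + 1, fun r hr => ?_⟩
  obtain ⟨r', rfl⟩ : ∃ r', r = r' + 1 := ⟨r - 1, by omega⟩
  have hr' : r₁ ≤ r' := by omega
  obtain ⟨w, hS'⟩ := Groth.Agent.Lib.Helper18.DegCalc.shortExact_tensor
    (Groth.Agent.Lib.helper7.IdealMod.idealSeq D) hS (isFLF_tensorPow X hM (r' + 1))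
  let S₀ := Groth.Agent.Lib.helper7.IdealMod.idealSeq D
  let E := CohB1.tensorPow M (r' + 1)
  haveI f1 : Module.Finite k (Coh.HH X (CohB1.tensorMod S₀.X₁ E) 1) :=
    finite_tensor k X hI hM 1 (r' + 1)
  haveI f2 : Module.Finite k (Coh.HH X (CohB1.tensorMod S₀.X₂ E) 1) :=
    finite_tensor k X hO hM 1 (r' + 1)
  haveI f3 : Module.Finite k (Coh.HH X (CohB1.tensorMod S₀.X₃ E) 1) :=
    finite_tensor k X hQ hM 1 (r' + 1)
  haveI hsub : Subsingleton (Coh.HH X (CohB1.tensorMod S₀.X₃ E) 1) :=
    h0s (r' + 1) (by omega) 1 one_pos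
  have hfsurj : Function.Surjective (HH.mapOver k (tensorMap S₀.f (𝟙 E)) 1) := by
    intro y
    have hex := HH.exactOver₂ hS' k 1
    refine (hex y).mp ?_
    exact Subsingleton.elim _ _
  have hd : finrank k (Coh.HH X (CohB1.tensorMod S₀.X₁ E) 1) =
      finrank k (Coh.HH X (CohB1.tensorMod S₀.X₂ E) 1) := by
    have h1 : hh k X (ClSub.idealMod D) M 1 (r' + 1) = a r' := hIa r'
    have h2 : hh k X (Coh.structureModule X) M 1 (r' + 1) = a r' := hstab r' hr'
    exact h1.trans h2.symm
  have hgsurj := surjective_of_exact_of_finrank_eq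
    (HH.mapOver k (tensorMap S₀.g (𝟙 E)) 0) (HH.δOver hS' k 0) (HH.mapOver k (tensorMap S₀.f (𝟙 E)) 1)
    (HH.exactOver₃ hS' k 0) (HH.exactOver₁ hS' k 0) hfsurj hd
  intro u
  exact exists_lift_of_surjective_H0 (tensorMap S₀.g (𝟙 E)) hgsurj u

end Main
section Final

variable (k : Type u) [Field k] (X : Scheme.{u}) [X.Over (Spec (CommRingCat.of k))]
  [IsProper (X ↘ Spec (CommRingCat.of k))] (D : X.IdealSheafData)

/-- the canonical section of an inverse `M` of `I_D` does not vanish off `D` -/
theorem exists_section_off_support {M : X.Modules}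
    (e : CohB1.tensorMod M (ClSub.idealMod D) ≅ Coh.structureModule X) :
    ∃ s : Coh.structureModule X ⟶ M, ∀ x : X, x ∉ (D.support : Set X) → x ∈ CohB1.genLocus M s := by
  refine ⟨e.inv ≫ tensorMap (𝟙 M) (ClSub.idealModι D) ≫ (rightUnitor M).hom, fun x hx => ?_⟩
  let W : X.Opens := ⟨(D.support : Set X)ᶜ, D.support.isClosed.isOpen_compl⟩
  have hxW : x ∈ W := hx
  have hWι : W ≤ isoLocus (ClSub.idealModι D) :=
    Groth.Agent.Lib.helper11.TwistH1.le_isoLocus_kernel_ι (ClSub.toSubscheme D) W (fun V hV =>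
      Groth.Agent.Lib.helper11.TwistH1.subsingleton_quotMod_of_disjoint D V
        (Set.disjoint_left.mpr fun y hyV hyD => hV hyV hyD))
  have h1 : W ≤ isoLocus (tensorMap (𝟙 M) (ClSub.idealModι D)) := by
    refine le_trans ?_ (isoLocus_inf_le_tensorMap (𝟙 M) (ClSub.idealModι D))
    rw [isoLocus_id, top_inf_eq]
    exact hWι
  rw [genLocus_eq_isoLocus, isoLocus_comp_of_isIso_left, isoLocus_comp_of_isIso_right]
  exact h1 hxW

include k in
/-- **S17288**: if `O(D)|_D` is ample then `O(mD)` is globally generated for `m ≫ 0` -/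
theorem eventually_gg (hD : PicF.IsInvertible (ClSub.idealMod D)) (LD : X.Modules)
    (hLD : ClSub.IsInverseOf LD (ClSub.idealMod D))
    (hample : CohB1.IsAmple ((Scheme.Modules.pullback D.subschemeι).obj LD)) :
    ∀ᶠ m : ℕ in Filter.atTop, Curv2.IsGloballyGenerated (CohB1.tensorPow LD m) := by
  haveI := Groth.Agent.Lib.Lead.CurveEuler.isNoetherian k X
  obtain ⟨e⟩ := hLD
  have hM : PicF.IsInvertible LD :=
    Groth.Agent.Lib.helper11.AmpleAffine.isInvertible_of_isInverseOf hD
      ⟨braid _ _ ≪≫ e⟩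
  letI : D.subscheme.Over (Spec (CommRingCat.of k)) :=
    ⟨D.subschemeι ≫ (X ↘ Spec (CommRingCat.of k))⟩
  haveI : IsProper (D.subscheme ↘ Spec (CommRingCat.of k)) :=
    inferInstanceAs (IsProper (D.subschemeι ≫ (X ↘ Spec (CommRingCat.of k))))
  haveI := Groth.Agent.Lib.Lead.CurveEuler.isNoetherian k D.subscheme
  haveI : (Coh.structureModule D.subscheme).IsQuasicoherent :=
    (Groth.Agent.Lib.helper8.Dev.isCoh_structureModule D.subscheme).1
  have hv : SV k X (ClSub.quotMod D) LD :=
    (SV.push_iff D.subschemeι (Coh.structureModule D.subscheme) hM).mpr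
      (SV.of_isAmple hample (Groth.Agent.Lib.helper8.Dev.isCoh_structureModule D.subscheme))
  obtain ⟨r₁, hlift⟩ := exists_forall_lift k X D hM e hv
  obtain ⟨n₁, hcov⟩ := Groth.Agent.Lib.helper11.AmpleInv.exists_sections_cover hample
  obtain ⟨s₀, hs₀⟩ := exists_section_off_support X D e
  rw [Filter.eventually_atTop]
  refine ⟨max r₁ n₁ + 1, fun r hr => ?_⟩
  have hr1 : r₁ ≤ r := by omega
  have hr2 : n₁ ≤ r := by omega
  have hr0 : 0 < r := by omega
  apply isGloballyGenerated_of_forall_mem_genLocus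
  intro x
  by_cases hx : x ∈ (D.support : Set X)
  · rw [← Scheme.IdealSheafData.range_subschemeι] at hx
    obtain ⟨z, rfl⟩ := hx
    obtain ⟨kk, σ, hσ⟩ := hcov r hr2
    have hz : z ∈ ⨆ i, CohB1.genLocus _ (σ i) := by rw [hσ]; trivial
    obtain ⟨i, hi⟩ := Opens.mem_iSup.mp hz
    let t' : (Scheme.Modules.pullback D.subschemeι).obj (Coh.structureModule X) ⟶
        (Scheme.Modules.pullback D.subschemeι).obj (CohB1.tensorPow LD r) :=
      (Groth.Agent.Lib.helper11.InvMod.pullbackUnitIso D.subschemeι).hom ≫ σ i ≫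
        (Groth.Agent.Lib.helper12.PullAmple.pullTensorPowIso D.subschemeι hM r).inv
    obtain ⟨s, hs⟩ := exists_pullback_map_eq D (CohB1.tensorPow LD r)
      (Groth.Agent.Lib.helper16.FLF.isFinLocFree_of_isInvertible
        (Groth.Agent.Lib.helper12.TensorInv.isInvertible_tensorPow hM r)) (hlift r hr1) t'
    refine ⟨s, ?_⟩
    have h1 : Groth.Agent.Lib.helper12.PullAmple.pullSec D.subschemeι hM r s = σ i := by
      unfold Groth.Agent.Lib.helper12.PullAmple.pullSec
      rw [hs]
      simp only [t', Category.assoc, Iso.inv_hom_id, Category.comp_id, Iso.inv_hom_id_assoc]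
    have h2 := Groth.Agent.Lib.helper12.PullAmple.genLocus_pullSec D.subschemeι hM r s
    rw [h1] at h2
    have h3 : z ∈ D.subschemeι ⁻¹ᵁ CohB1.genLocus _ s := by rw [← h2]; exact hi
    exact h3
  · have h1 : x ∉ Groth.Agent.Lib.helper12.TensorPowAdd.baseLocus (CohB1.tensorPow LD 1) := by
      intro hb
      refine hb (s₀ ≫ (tensorPowOne LD).inv) ?_
      have := genLocus_comp_iso s₀ (tensorPowOne LD).symm
      rw [Iso.symm_hom] at this
      rw [this]
      exact hs₀ x hx
    have h2 := Groth.Agent.Lib.helper12.TensorPowAdd.baseLocus_mul_subset' hM 1 r hr0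
    rw [Nat.mul_one] at h2
    have h3 : x ∉ Groth.Agent.Lib.helper12.TensorPowAdd.baseLocus (CohB1.tensorPow LD r) :=
      fun hb => h1 (h2 hb)
    unfold Groth.Agent.Lib.helper12.TensorPowAdd.baseLocus at h3
    simp only [Set.mem_ofPred_eq, not_forall, not_not] at h3
    exact h3

end Final
end Groth.Agent.Lib.helper7.Nakai
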