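import Mathlib
import Groth.Agent.Lib.Helper7.Nakai2
import Groth.Agent.Lib.Helper7.NefAmple
import Groth.Agent.Lib.Helper7.SnapperPos2
import Groth.Agent.Lib.Helper12.InvDual2
import Groth.Agent.Lib.Helper12.PullAmple
import Groth.Agent.Lib.Helper12.AmplePow
import Groth.Agent.Lib.Helper11.CounitEpi
import Groth.Agent.Lib.Lead.GenLocusInt

/-!
# Nakai–Moishezon, part 4: the integral step (helper7)

* `isAmple_of_section`: on an integral proper `k`-scheme `Z`, an invertible module `N` which is strictly nef,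
  ample on every proper closed subscheme, and has a nonzero section of a positive power, is ample.
-/

set_option autoImplicit false
set_option linter.unusedSectionVars false
set_option linter.style.haveILetI false
universe u

open CategoryTheory CategoryTheory.Limits AlgebraicGeometry Opposite TopologicalSpace Module

namespace Groth.Agent.Lib.helper7.Nakai

open Groth.Agent.Lib.Lead.ModTensor Groth.Agent.Lib.Helper18 Groth.Agent.Lib.Helper18.NefPull
open Scheme.Modules Groth.Agent.Lib.helper7.Growth

section IST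

variable (k : Type u) [Field k] (Z : Scheme.{u}) [Z.Over (Spec (CommRingCat.of k))]
  [IsProper (Z ↘ Spec (CommRingCat.of k))]

/-- a nonzero section of an invertible module on an integral scheme generates somewhere -/
theorem exists_mem_genLocus_of_ne_zero {Z : Scheme.{u}} [IsIntegral Z] {M : Z.Modules}
    (hM : PicF.IsInvertible M)
    (s : Coh.structureModule Z ⟶ M) (hs : s ≠ 0) : ∃ x : Z, x ∈ CohB1.genLocus M s := by
  have h := Groth.Agent.Lib.Lead.GenLocusInt.isoLocus_ne_bot
    (Groth.Agent.Lib.helper11.InvMod.isInvertible_structureModule Z) hM s hs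
  by_contra hcon
  push Not at hcon
  apply h
  ext x
  simp only [Opens.coe_bot, Set.mem_empty_iff_false, iff_false]
  exact fun hx => hcon x hx

/-- auxiliary form of the integral step, with the power `N^{m+1}` abstracted -/
theorem isAmple_of_section_aux [IsIntegral Z] {N : Z.Modules} (hN : PicF.IsInvertible N)
    (hJ : ∀ J : Z.IdealSheafData, J ≠ ⊥ →
      CohB1.IsAmple ((Scheme.Modules.pullback J.subschemeι).obj N))
    (hnef : ∀ C : Z.IdealSheafData, IsIntegral C.subscheme →
      topologicalKrullDim (C.support : Set Z) = 1 → 0 < nefq k Z C N)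
    (m : ℕ) (M : Z.Modules) (eM : M ≅ CohB1.tensorPow N (m + 1))
    (s : Coh.structureModule Z ⟶ M) (hs : s ≠ 0) :
    CohB1.IsAmple N := by
  haveI := Groth.Agent.Lib.Lead.CurveEuler.isNoetherian k Z
  have hM : PicF.IsInvertible M := Groth.Agent.Lib.helper11.InvMod.isInvertible_of_iso eM.symm
    (Groth.Agent.Lib.helper12.TensorInv.isInvertible_tensorPow hN (m + 1))
  obtain ⟨M', hM', ⟨ε⟩, -⟩ := Groth.Agent.Lib.helper12.InvDual.exists_inverse hM
  have hne := exists_mem_genLocus_of_ne_zero hM s hs
  haveI : M'.IsQuasicoherent := Groth.Agent.Lib.helper12.AmpleBasis.isQuasicoherent_of_isInvertible hM'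
  let D : Z.IdealSheafData := Groth.Agent.Lib.helper7.SnapperPos.divisor M M' ε s
  obtain ⟨e₁⟩ := Groth.Agent.Lib.helper7.SnapperPos.nonempty_idealMod_divisor_iso M M' ε s hM' hne
  have hDne : D ≠ ⊥ := by
    intro hD
    obtain ⟨x, hx⟩ := hne
    have h1 := Groth.Agent.Lib.helper7.SnapperPos.notMem_support_divisor M M' ε s hx
    apply h1
    change x ∈ D.support
    rw [hD, Scheme.IdealSheafData.support_bot]
    trivial
  have hD : PicF.IsInvertible (ClSub.idealMod D) :=
    Groth.Agent.Lib.helper11.InvMod.isInvertible_of_iso e₁ hM'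
  have hLD : ClSub.IsInverseOf M (ClSub.idealMod D) :=
    ⟨tensorIso (Iso.refl M) e₁.symm ≪≫ ε⟩
  have hND : PicF.IsInvertible ((Scheme.Modules.pullback D.subschemeι).obj N) :=
    Groth.Agent.Lib.helper11.InvMod.isInvertible_pullback D.subschemeι hN
  have hample : CohB1.IsAmple ((Scheme.Modules.pullback D.subschemeι).obj M) := by
    have h1 := hJ D hDne
    rw [Groth.Agent.Lib.helper12.AmplePow.isAmple_tensorPow_iff hND (m + 1) (Nat.succ_pos m)] at h1
    exact Groth.Agent.Lib.helper12.AmplePow.isAmple_of_iso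
      ((Groth.Agent.Lib.helper12.PullAmple.pullTensorPowIso D.subschemeι hN (m + 1)).symm ≪≫
        (Scheme.Modules.pullback D.subschemeι).mapIso eM.symm) h1
  have hev := eventually_gg k Z D hD M hLD hample
  obtain ⟨r₀, hr₀⟩ := Filter.eventually_atTop.mp hev
  have hgg := hr₀ (r₀ + 1) (Nat.le_succ r₀)
  have hgg1 : Curv2.IsGloballyGenerated (CohB1.tensorPow (CohB1.tensorPow N (m + 1)) (r₀ + 1)) :=
    Groth.Agent.Lib.helper11.CounitEpi.isGloballyGenerated_of_iso
      (Groth.Agent.Lib.helper12.AmplePow.tensorPowIso eM (r₀ + 1)) hgg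
  have hgg' : Curv2.IsGloballyGenerated (CohB1.tensorPow N ((m + 1) * (r₀ + 1))) :=
    Groth.Agent.Lib.helper11.CounitEpi.isGloballyGenerated_of_iso
      (Groth.Agent.Lib.helper12.TensorPowAdd.tensorPowMul N (m + 1) (r₀ + 1)) hgg1
  have heq : (m + 1) * (r₀ + 1) = (m * r₀ + m + r₀) + 1 := by ring
  rw [heq] at hgg'
  exact Groth.Agent.Lib.helper7.NefAmple.isAmple_of_strictlyNef_of_gg k Z hN hnef _ hgg'

/-- **integral step** of Nakai–Moishezon -/
theorem isAmple_of_section [IsIntegral Z] {N : Z.Modules} (hN : PicF.IsInvertible N)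
    (hJ : ∀ J : Z.IdealSheafData, J ≠ ⊥ →
      CohB1.IsAmple ((Scheme.Modules.pullback J.subschemeι).obj N))
    (hnef : ∀ C : Z.IdealSheafData, IsIntegral C.subscheme →
      topologicalKrullDim (C.support : Set Z) = 1 → 0 < nefq k Z C N)
    (m : ℕ) (s : Coh.structureModule Z ⟶ CohB1.tensorPow N (m + 1)) (hs : s ≠ 0) :
    CohB1.IsAmple N :=
  isAmple_of_section_aux k Z hN hJ hnef m _ (Iso.refl _) s hs

end IST

end Groth.Agent.Lib.helper7.Nakai
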