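import Mathlib
import Groth.Agent.Lib.Helper7.Nakai3
import Groth.Agent.Lib.Helper7.Nakai4
import Groth.Agent.Lib.Helper18.CurveLift

/-!
# Nakai–Moishezon, part 5 (helper7)

* `nefq_pos_of_isClosedImmersion`: strict nefness passes to closed subschemes
* `isAmple_of_strictlyNef_of_sections`: **S16711**
-/

set_option autoImplicit false
set_option linter.unusedSectionVars false
set_option linter.style.haveILetI false
universe u

open CategoryTheory CategoryTheory.Limits AlgebraicGeometry Opposite TopologicalSpace Module

namespace Groth.Agent.Lib.helper7.Nakai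

open Groth.Agent.Lib.Lead.ModTensor Groth.Agent.Lib.Helper18 Groth.Agent.Lib.Helper18.NefPull
open Scheme.Modules Groth.Agent.Lib.helper7.Growth Groth.Agent.Lib.Helper18.CurveLift

section Transfer

variable (k : Type u) [Field k] (X X' : Scheme.{u}) [X.Over (Spec (CommRingCat.of k))]
  [IsProper (X ↘ Spec (CommRingCat.of k))] [X'.Over (Spec (CommRingCat.of k))]
  [IsProper (X' ↘ Spec (CommRingCat.of k))]

/-- strict nefness passes to closed subschemes -/
theorem nefq_pos_of_isClosedImmersion (f : X' ⟶ X) [IsClosedImmersion f]
    (hf : f ≫ (X ↘ Spec (CommRingCat.of k)) = X' ↘ Spec (CommRingCat.of k))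
    {L : X.Modules} (hL : PicF.IsInvertible L)
    (hnef : ∀ C : X.IdealSheafData, IsIntegral C.subscheme →
      topologicalKrullDim (C.support : Set X) = 1 → 0 < nefq k X C L)
    (C' : X'.IdealSheafData) (hC'i : IsIntegral C'.subscheme)
    (hC' : topologicalKrullDim (C'.support : Set X') = 1) :
    0 < nefq k X' C' ((Scheme.Modules.pullback f).obj L) := by
  have hcl : IsClosed (f '' (C'.support : Set X')) :=
    f.isClosedEmbedding.isClosedMap _ C'.support.isClosed
  let T : Closeds X := ⟨f '' (C'.support : Set X'), hcl⟩
  have hirr' : IsIrreducible (C'.support : Set X') := by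
    rw [← C'.range_subschemeι, ← Set.image_univ]
    exact (IrreducibleSpace.isIrreducible_univ C'.subscheme).image _
      C'.subschemeι.continuous.continuousOn
  have hirr : IsIrreducible (T : Set X) := hirr'.image _ f.continuous.continuousOn
  haveI : IsIntegral (redI T).subscheme := isIntegral_redI T hirr
  have hsupp : ((redI T).support : Set X) = f '' (C'.support : Set X') := coe_support_redI T
  have hdim : topologicalKrullDim ((redI T).support : Set X) = 1 := by
    rw [hsupp, ← hC']
    let e := f.isClosedEmbedding.isEmbedding.homeomorphImage (C'.support : Set X')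
    exact (IsHomeomorph.topologicalKrullDim_eq e e.isHomeomorph).symm
  obtain ⟨r, hr, hreq⟩ := nefq_pullback k X X' f hf L hL (redI T) hdim C' hC' hsupp.symm
  rw [hreq]
  exact mul_pos (by exact_mod_cast hr) (hnef (redI T) inferInstance hdim)

end Transfer

section Main

variable (k : Type u) [Field k] (X : Scheme.{u}) [X.Over (Spec (CommRingCat.of k))]
  [IsProper (X ↘ Spec (CommRingCat.of k))]

/-- **S16711**: strictly nef + sections on every integral subscheme ⇒ ample -/
theorem isAmple_of_strictlyNef_of_sections {L : X.Modules} (hL : PicF.IsInvertible L)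
    (hnef : ∀ C : X.IdealSheafData, IsIntegral C.subscheme →
      topologicalKrullDim (C.support : Set X) = 1 → 0 < nefq k X C L)
    (heff : ∀ Z : X.IdealSheafData, IsIntegral Z.subscheme →
      ∃ (m : ℕ) (s : Coh.structureModule Z.subscheme ⟶
          CohB1.tensorPow ((Scheme.Modules.pullback Z.subschemeι).obj L) (m + 1)), s ≠ 0) :
    CohB1.IsAmple L := by
  refine isAmple_of_core k X hL (fun Z hZ hJ => ?_)
  haveI := hZ
  letI : Z.subscheme.Over (Spec (CommRingCat.of k)) :=
    ⟨Z.subschemeι ≫ (X ↘ Spec (CommRingCat.of k))⟩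
  haveI : IsProper (Z.subscheme ↘ Spec (CommRingCat.of k)) :=
    inferInstanceAs (IsProper (Z.subschemeι ≫ (X ↘ Spec (CommRingCat.of k))))
  obtain ⟨m, s, hs⟩ := heff Z hZ
  exact isAmple_of_section k Z.subscheme
    (Groth.Agent.Lib.helper11.InvMod.isInvertible_pullback Z.subschemeι hL) hJ
    (fun C' hC'i hC' => nefq_pos_of_isClosedImmersion k X Z.subscheme Z.subschemeι rfl hL hnef
      C' hC'i hC') m s hs

end Main

end Groth.Agent.Lib.helper7.Nakai
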