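import Mathlib
import Groth.Agent.Lib.Helper7.Nakai3
import Groth.Agent.Lib.Helper7.Growth6

/-!
# Nakai–Moishezon, part 6: Serre vanishing for modules with small support, and Kleiman's trick (helper7)

* `SV_of_support_subset`: Serre vanishing for coherent modules supported in `T`, when `N` is ample on all integral
  closed subschemes contained in `T`
* `isAmple_pullback_of_ker_ne_bot`, `SV_of_support_ne_univ`
* `exists_hh_eq_of_map`: a map of coherent modules which is an isomorphism on a nonempty open induces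
  `h^p(A ⊗ N^m) = h^p(B ⊗ N^m)` for `p ≥ 2`, `m ≫ 0`
* `exists_hh_stable`: `h^p(N^{m+1}) = h^p(N^m)` for `p ≥ 2`, `m ≫ 0`
-/

set_option autoImplicit false
set_option linter.unusedSectionVars false
set_option linter.style.haveILetI false
universe u

open CategoryTheory CategoryTheory.Limits AlgebraicGeometry Opposite TopologicalSpace Module

namespace Groth.Agent.Lib.helper7.Nakai

open Groth.Agent.Lib.Lead.ModTensor Groth.Agent.Lib.Helper18
open Scheme.Modules Groth.Agent.Lib.helper7.Growth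

section Small

variable (k : Type u) [Field k] (Z : Scheme.{u}) [Z.Over (Spec (CommRingCat.of k))]
  [IsProper (Z ↘ Spec (CommRingCat.of k))]

include k in
/-- Serre vanishing for coherent modules supported in `T` -/
theorem SV_of_support_subset {N : Z.Modules} (hN : PicF.IsInvertible N) (T : Set Z)
    (hT : ∀ (Z' : Scheme.{u}) (i : Z' ⟶ Z) [IsClosedImmersion i] [IsIntegral Z'],
      Set.range i ⊆ T → CohB1.IsAmple ((Scheme.Modules.pullback i).obj N))
    (G : Z.Modules) (hG : Coh.IsCoh G) (hsupp : CohB1.support G ⊆ T) : SV k Z G N := by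
  haveI := Groth.Agent.Lib.Lead.CurveEuler.isNoetherian k Z
  let P : Z.Modules → Prop := fun G => SV k Z G N
  have hPiso : ∀ M N' : Z.Modules, Nonempty (M ≅ N') → P M → P N' := by
    rintro M N' ⟨e⟩ hM
    exact hM.iso e
  refine Groth.Agent.Lib.helper8.Dev.devissage_master_aux P hPiso T ?_ ?_ ?_ G hG hsupp
  · intro N' hN'
    exact SV.zero hN' N
  · intro S hS h1 h2 h3 _ a b
    exact SV.ext S hS h1 h2 h3 hN a b
  · intro Z' i _ _ hrange _ I ι hι hIq hI0
    haveI := hι
    letI : Z'.Over (Spec (CommRingCat.of k)) := ⟨i ≫ (Z ↘ Spec (CommRingCat.of k))⟩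
    haveI : IsProper (Z' ↘ Spec (CommRingCat.of k)) :=
      inferInstanceAs (IsProper (i ≫ (Z ↘ Spec (CommRingCat.of k))))
    haveI := Groth.Agent.Lib.Lead.CurveEuler.isNoetherian k Z'
    have hA := hT Z' i hrange
    have hIc : Coh.IsCoh I := Groth.Agent.Lib.Lead.HilbPos.isCoh_of_mono ι hIq
      (Groth.Agent.Lib.helper8.Dev.isCoh_structureModule Z')
    haveI : I.IsQuasicoherent := hIq
    exact (SV.push_iff i I hN).mpr (SV.of_isAmple hA hIc)

/-- ampleness on the closed subscheme `V(ker i)` gives ampleness along the closed immersion `i` -/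
theorem isAmple_pullback_of_ker {Z : Scheme.{u}} {N : Z.Modules} {Z' : Scheme.{u}} (i : Z' ⟶ Z)
    [IsClosedImmersion i]
    (h : CohB1.IsAmple ((Scheme.Modules.pullback i.ker.subschemeι).obj N)) :
    CohB1.IsAmple ((Scheme.Modules.pullback i).obj N) := by
  let φ : Z' ⟶ i.ker.subscheme := i.toImage
  haveI : IsIso φ := inferInstanceAs (IsIso i.toImage)
  have hφ : φ ≫ i.ker.subschemeι = i := i.toImage_imageι
  have hA₁ := Groth.Agent.Lib.helper12.PullAmple.isAmple_pullback_of_isAffineHom φ h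
  let e : (Scheme.Modules.pullback φ).obj ((Scheme.Modules.pullback i.ker.subschemeι).obj N) ≅
      (Scheme.Modules.pullback i).obj N :=
    (Scheme.Modules.pullbackComp φ i.ker.subschemeι).app N ≪≫
      (Scheme.Modules.pullbackCongr hφ).app N
  exact Groth.Agent.Lib.helper12.AmplePow.isAmple_of_iso e hA₁

/-- the kernel of a non-surjective closed immersion is not zero -/
theorem ker_ne_bot_of_range_ne_univ {Z Z' : Scheme.{u}} (i : Z' ⟶ Z) [IsClosedImmersion i]
    (h : Set.range i ≠ Set.univ) : i.ker ≠ ⊥ := by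
  intro hbot
  apply h
  have h1 := Scheme.Hom.support_ker i
  rw [hbot, Scheme.IdealSheafData.support_bot, i.isClosedEmbedding.isClosed_range.closure_eq] at h1
  exact h1.symm

include k in
/-- Serre vanishing for coherent modules with proper support, when `N` is ample on all proper closed
subschemes -/
theorem SV_of_support_ne_univ {N : Z.Modules} (hN : PicF.IsInvertible N)
    (hJ : ∀ J : Z.IdealSheafData, J ≠ ⊥ →
      CohB1.IsAmple ((Scheme.Modules.pullback J.subschemeι).obj N))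
    (T : Set Z) (hT : T ≠ Set.univ)
    (G : Z.Modules) (hG : Coh.IsCoh G) (hsupp : CohB1.support G ⊆ T) : SV k Z G N := by
  refine SV_of_support_subset k Z hN T (fun Z' i _ _ hrange => ?_) G hG hsupp
  refine isAmple_pullback_of_ker i (hJ i.ker (ker_ne_bot_of_range_ne_univ i ?_))
  intro h
  apply hT
  rw [h] at hrange
  exact Set.eq_univ_of_univ_subset hrange

end Small

section Map

open Groth.Agent.Lib.helper11.IsoLocus Groth.Agent.Lib.helper7.SnapperMain

variable (k : Type u) [Field k] (Z : Scheme.{u}) [Z.Over (Spec (CommRingCat.of k))]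
  [IsProper (Z ↘ Spec (CommRingCat.of k))]

/-- **Kleiman's trick, abstract form**: a morphism of coherent modules which is an isomorphism on `W` induces
equalities `h^p(A ⊗ N^m) = h^p(B ⊗ N^m)` for `p ≥ 2` and `m ≫ 0`, if Serre vanishing holds for modules
supported off `W` -/
theorem exists_hh_eq_of_map {N : Z.Modules} (hN : PicF.IsInvertible N) (W : Z.Opens)
    (hsmall : ∀ G : Z.Modules, Coh.IsCoh G → CohB1.support G ⊆ ((W : Z.Opens) : Set Z)ᶜ → SV k Z G N)
    {A B : Z.Modules} (hA : Coh.IsCoh A) (hB : Coh.IsCoh B) (f : A ⟶ B) (hW : W ≤ isoLocus f) :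
    ∃ m₀ : ℕ, ∀ m, m₀ ≤ m → ∀ p, 2 ≤ p → hh k Z A N p m = hh k Z B N p m := by
  haveI := Groth.Agent.Lib.Lead.CurveEuler.isNoetherian k Z
  have hK : Coh.IsCoh (kernel f) := CohKer.isCoh_kernel hA hB f
  have hI : Coh.IsCoh (Abelian.coimage f) := CohKer.isCoh_cokernel hK hA (kernel.ι f)
  have hS1 := Groth.Agent.Lib.helper8.Dev.shortExact_cokernel (kernel.ι f)
  have hfac : Abelian.coimage.π f ≫ Abelian.factorThruCoimage f = f := Abelian.coimage.fac f
  obtain ⟨-, hWι⟩ := le_isoLocus_of_comp_mono (Abelian.coimage.π f) (Abelian.factorThruCoimage f) W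
    (by rw [hfac]; exact hW)
  have hS2 := Groth.Agent.Lib.helper8.Dev.shortExact_cokernel (Abelian.factorThruCoimage f)
  have hQ : Coh.IsCoh (cokernel (Abelian.factorThruCoimage f)) := CohKer.isCoh_cokernel hI hB _
  have hcompl : ∀ {A' B' : Z.Modules} (g : A' ⟶ B'), W ≤ isoLocus g →
      ((isoLocus g : Z.Opens) : Set Z)ᶜ ⊆ ((W : Z.Opens) : Set Z)ᶜ := by
    intro A' B' g hg
    exact Set.compl_subset_compl.mpr hg
  obtain ⟨m₁, h₁⟩ := hsmall _ hK ((support_kernel_subset f).trans (hcompl f hW))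
  obtain ⟨m₂, h₂⟩ := hsmall _ hQ ((support_cokernel_subset _).trans (hcompl _ hWι))
  refine ⟨max m₁ m₂, fun m hm p hp => ?_⟩
  have hm₁ : m₁ ≤ m := le_trans (le_max_left _ _) hm
  have hm₂ : m₂ ≤ m := le_trans (le_max_right _ _) hm
  obtain ⟨q, rfl⟩ : ∃ q, p = q + 1 := ⟨p - 1, by omega⟩
  have hq : 0 < q := by omega
  -- first sequence
  have a1 : hh k Z A N (q + 1) m ≤
      hh k Z (kernel f) N (q + 1) m + hh k Z (Abelian.coimage f) N (q + 1) m :=
    hh_mid_le k Z _ hS1 hK hA hI hN (q + 1) m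
  have a2 : hh k Z (Abelian.coimage f) N (q + 1) m ≤
      hh k Z A N (q + 1) m + hh k Z (kernel f) N (q + 1 + 1) m :=
    hh_right_le k Z _ hS1 hK hA hI hN (q + 1) m
  have a3 : hh k Z (Abelian.coimage f) N (q + 1) m ≤
      hh k Z B N (q + 1) m + hh k Z (cokernel (Abelian.factorThruCoimage f)) N q m :=
    hh_left_succ_le k Z _ hS2 hI hB hQ hN q m
  have a4 : hh k Z B N (q + 1) m ≤
      hh k Z (Abelian.coimage f) N (q + 1) m +
        hh k Z (cokernel (Abelian.factorThruCoimage f)) N (q + 1) m :=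
    hh_mid_le k Z _ hS2 hI hB hQ hN (q + 1) m
  have z1 := h₁ m hm₁ (q + 1) (Nat.succ_pos q)
  have z2 := h₁ m hm₁ (q + 1 + 1) (Nat.succ_pos _)
  have z3 := h₂ m hm₂ q hq
  have z4 := h₂ m hm₂ (q + 1) (Nat.succ_pos q)
  omega

/-- **Kleiman's trick**: on an integral proper `k`-scheme, if `N` is ample on every proper closed subscheme,
then `h^p(N^{m+1}) = h^p(N^m)` for `p ≥ 2` and `m ≫ 0` -/
theorem exists_hh_stable [IsIntegral Z] {N : Z.Modules} (hN : PicF.IsInvertible N)
    (hJ : ∀ J : Z.IdealSheafData, J ≠ ⊥ →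
      CohB1.IsAmple ((Scheme.Modules.pullback J.subschemeι).obj N)) :
    ∃ m₀ : ℕ, ∀ m, m₀ ≤ m → ∀ p, 2 ≤ p →
      hh k Z (Coh.structureModule Z) N p (m + 1) = hh k Z (Coh.structureModule Z) N p m := by
  haveI := Groth.Agent.Lib.Lead.CurveEuler.isNoetherian k Z
  obtain ⟨x⟩ : Nonempty Z := inferInstance
  obtain ⟨U, hxU, ⟨e₀⟩⟩ := hN x
  have hNc : Coh.IsCoh N := Groth.Agent.Lib.Lead.CurveInv.isCoh_of_isInvertible Z hN
  obtain ⟨N', a, b, hN', ha, hb⟩ := exists_comparison hNc U 1
    (e₀ ≪≫ (Groth.Agent.Lib.helper16.FLF.freeModOneIso (↑U : Scheme.{u})).symm)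
  have hO : Coh.IsCoh (FlatMod.freeMod Z 1) :=
    Groth.Agent.Lib.Lead.RankAdd.isCoh_of_isFinLocFreeOfRank
      (Groth.Agent.Lib.helper16.FLF.isFinLocFreeOfRank_freeMod Z 1)
  have hT : ((U : Z.Opens) : Set Z)ᶜ ≠ Set.univ := by
    intro h
    have : x ∈ ((U : Z.Opens) : Set Z)ᶜ := by rw [h]; trivial
    exact this hxU
  have hsmall : ∀ G : Z.Modules, Coh.IsCoh G → CohB1.support G ⊆ ((U : Z.Opens) : Set Z)ᶜ →
      SV k Z G N := fun G hG hs => SV_of_support_ne_univ k Z hN hJ _ hT G hG hs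
  obtain ⟨m₁, h₁⟩ := exists_hh_eq_of_map k Z hN U hsmall hNc hN' a ha
  obtain ⟨m₂, h₂⟩ := exists_hh_eq_of_map k Z hN U hsmall hO hN' b hb
  refine ⟨max m₁ m₂, fun m hm p hp => ?_⟩
  rw [hh_structure_shift, h₁ m (le_trans (le_max_left _ _) hm) p hp,
    ← h₂ m (le_trans (le_max_right _ _) hm) p hp]
  exact hh_iso k Z (Groth.Agent.Lib.helper16.FLF.freeModOneIso Z) N p m

end Map

end Groth.Agent.Lib.helper7.Nakai
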