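import Mathlib
import Groth.Agent.Lib.Helper7.Nakai6
import Groth.Agent.Lib.Helper7.Kodaira
import Groth.Agent.Lib.Lead.HilbPos2
import Groth.Agent.Lib.Lead.ProperDim

/-!
# Nakai–Moishezon, part 7: existence of sections (helper7)

* `exists_section_of_coeff_pos`: on an integral proper `k`-scheme `Z` of dimension `d > 0`, if `N` is ample on
  all proper closed subschemes and the Hilbert polynomial of `N` has positive coefficient of degree `d`, then some
  positive power of `N` has a nonzero section.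
-/

set_option autoImplicit false
set_option linter.unusedSectionVars false
set_option linter.style.haveILetI false
universe u

open CategoryTheory CategoryTheory.Limits AlgebraicGeometry Opposite TopologicalSpace Module

namespace Groth.Agent.Lib.helper7.Nakai

open Groth.Agent.Lib.Lead.ModTensor Groth.Agent.Lib.Helper18
open Scheme.Modules Groth.Agent.Lib.helper7.Growth

section Sections

variable (k : Type u) [Field k] (Z : Scheme.{u}) [Z.Over (Spec (CommRingCat.of k))]
  [IsProper (Z ↘ Spec (CommRingCat.of k))]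

open Polynomial Filter in
theorem exists_section_of_coeff_pos [IsIntegral Z] {N : Z.Modules} (hN : PicF.IsInvertible N)
    (hJ : ∀ J : Z.IdealSheafData, J ≠ ⊥ →
      CohB1.IsAmple ((Scheme.Modules.pullback J.subschemeι).obj N))
    (d : ℕ) (hd0 : 0 < d) (hd : topologicalKrullDim Z ≤ ((d : ℕ) : WithBot ℕ∞))
    (Q : ℚ[X]) (hQ : ShStab.IsHilbPoly k Z N (Coh.structureModule Z) Q) (hpos : 0 < Q.coeff d) :
    ∃ (m : ℕ) (s : Coh.structureModule Z ⟶ CohB1.tensorPow N (m + 1)), s ≠ 0 := by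
  haveI := Groth.Agent.Lib.Lead.CurveEuler.isNoetherian k Z
  have hO : Coh.IsCoh (Coh.structureModule Z) := Groth.Agent.Lib.helper8.Dev.isCoh_structureModule Z
  have hQd : Q.natDegree ≤ d := Groth.Agent.Lib.Lead.HilbPos.natDegree_le k Z hN hO d
    ((topologicalKrullDim_subspace_le Z _).trans hd) hQ
  obtain ⟨m₀, hstab⟩ := exists_hh_stable k Z hN hJ
  -- stabilisation
  have hconst : ∀ m, m₀ ≤ m → ∀ p, 2 ≤ p →
      hh k Z (Coh.structureModule Z) N p m = hh k Z (Coh.structureModule Z) N p m₀ := by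
    intro m hm
    induction m, hm using Nat.le_induction with
    | base => intro p _; rfl
    | succ m hm ih =>
      intro p hp
      rw [hstab m hm p hp]
      exact ih p hp
  -- the Euler characteristic
  obtain ⟨d', rfl⟩ : ∃ d', d = d' + 1 := ⟨d - 1, by omega⟩
  have heul : ∀ m : ℕ, (Q.eval (m : ℚ) : ℚ) =
      ((∑ i ∈ Finset.range (d' + 1 + 1),
        (-1 : ℤ) ^ i * (hh k Z (Coh.structureModule Z) N i m : ℤ) : ℤ) : ℚ) := by
    intro m
    rw [← hQ m, Groth.Agent.Lib.Lead.ProperDim.euler_eq_sum k Z (d' + 1) (by exact_mod_cast hd)]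
    rfl
  let c : ℤ := ∑ i ∈ Finset.range d',
    (-1 : ℤ) ^ (i + 2) * (hh k Z (Coh.structureModule Z) N (i + 2) m₀ : ℤ)
  have hle : ∀ m : ℕ, m₀ ≤ m → (Q.eval (m : ℚ) : ℚ) ≤
      ((hh k Z (Coh.structureModule Z) N 0 m : ℤ) : ℚ) + (c : ℚ) := by
    intro m hm
    rw [heul m, Finset.sum_range_succ', Finset.sum_range_succ']
    have h1 : ∑ i ∈ Finset.range d',
        (-1 : ℤ) ^ (i + 1 + 1) * (hh k Z (Coh.structureModule Z) N (i + 1 + 1) m : ℤ) = c := by
      apply Finset.sum_congr rfl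
      intro i _
      rw [hconst m hm (i + 1 + 1) (by omega)]
    rw [h1]
    have h2 : (0 : ℤ) ≤ (hh k Z (Coh.structureModule Z) N 1 m : ℤ) := Int.natCast_nonneg _
    have : c + (-1 : ℤ) ^ (0 + 1) * (hh k Z (Coh.structureModule Z) N (0 + 1) m : ℤ) +
        (-1 : ℤ) ^ 0 * (hh k Z (Coh.structureModule Z) N 0 m : ℤ) ≤
        (hh k Z (Coh.structureModule Z) N 0 m : ℤ) + c := by
      simp only [zero_add, pow_one, pow_zero, one_mul, neg_mul]
      linarith
    exact_mod_cast this
  -- growth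
  obtain ⟨c', hc', hev⟩ := Groth.Agent.Lib.helper7.Kodaira.exists_pos_le_eval Q (d' + 1) hQd hpos
  have htend : Tendsto (fun m : ℕ => c' * (m : ℝ) ^ (d' + 1)) atTop atTop :=
    ((tendsto_pow_atTop (Nat.succ_ne_zero d')).comp tendsto_natCast_atTop_atTop).const_mul_atTop hc'
  have hgt := htend.eventually_gt_atTop ((c : ℝ))
  obtain ⟨m, ⟨hm1, hm2⟩, hm3⟩ := (((eventually_ge_atTop (max m₀ 1)).and hev).and hgt).exists
  have hm₀ : m₀ ≤ m := le_trans (le_max_left _ _) hm1
  have hm1' : 1 ≤ m := le_trans (le_max_right _ _) hm1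
  have hQc : ((c : ℤ) : ℝ) < ((Q.eval (m : ℚ) : ℚ) : ℝ) := lt_of_lt_of_le hm3 hm2
  have hQc' : ((c : ℤ) : ℚ) < Q.eval (m : ℚ) := by exact_mod_cast hQc
  have h0 : 0 < hh k Z (Coh.structureModule Z) N 0 m := by
    have := hle m hm₀
    have h3 : (0 : ℚ) < ((hh k Z (Coh.structureModule Z) N 0 m : ℤ) : ℚ) := by linarith
    exact_mod_cast h3
  obtain ⟨s, hs⟩ := Groth.Agent.Lib.helper7.Kodaira.exists_section_ne_zero_of_finrank_pos k Z h0
  obtain ⟨m', rfl⟩ : ∃ m', m = m' + 1 := ⟨m - 1, by omega⟩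
  refine ⟨m', s ≫ (leftUnitor (CohB1.tensorPow N (m' + 1))).hom, fun h => hs ?_⟩
  rw [← cancel_mono (leftUnitor (CohB1.tensorPow N (m' + 1))).hom, h, Limits.zero_comp]

end Sections

end Groth.Agent.Lib.helper7.Nakai
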