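import Mathlib
import Groth.Agent.Lib.Helper7.Nakai5
import Groth.Agent.Lib.Helper7.Nakai7
import Groth.Agent.Lib.Helper7.SnapperARR
import Groth.Agent.Lib.Helper7.SnapperQuot
import Groth.Agent.Lib.Helper7.DivisorDim
import Groth.Agent.Lib.Helper3.IrredDim
import Groth.Agent.Lib.Lead.HilbPos5

/-!
# Nakai–Moishezon, part 8: the criterion (helper7)

* `isAmple_of_dim_le_zero`
* `isHilbPoly_quotMod`
* `nefq_eq_coeff_one`
* `isAmple_of_coeff_pos`: Nakai–Moishezon in Hilbert polynomial form
* `nakai_moishezon`: **S7749**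
-/

set_option autoImplicit false
set_option linter.unusedSectionVars false
set_option linter.style.haveILetI false
universe u

open CategoryTheory CategoryTheory.Limits AlgebraicGeometry Opposite TopologicalSpace Module

namespace Groth.Agent.Lib.helper7.Nakai

open Groth.Agent.Lib.Lead.ModTensor Groth.Agent.Lib.Helper18 Groth.Agent.Lib.Helper18.NefPull
open Scheme.Modules Groth.Agent.Lib.helper7.Growth Groth.Agent.Lib.helper7.SnapperMain
open Groth.Agent.Lib.Lead.HilbPos

section DimZero

variable (k : Type u) [Field k] (Z : Scheme.{u}) [Z.Over (Spec (CommRingCat.of k))]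
  [IsProper (Z ↘ Spec (CommRingCat.of k))]

include k in
/-- on a proper `k`-scheme of dimension `≤ 0` every invertible module is ample -/
theorem isAmple_of_dim_le_zero (hd : topologicalKrullDim Z ≤ ((0 : ℕ) : WithBot ℕ∞))
    {N : Z.Modules} (hN : PicF.IsInvertible N) : CohB1.IsAmple N := by
  refine isAmple_of_forall_SV (k := k) hN (fun F _ => SV.of_subsingleton ⟨0, fun n _ p hp => ?_⟩)
  exact Groth.Agent.Lib.Lead.ProperDim.subsingleton_HH k Z 0 hd _ p hp

end DimZero

section Hilb

variable (k : Type u) [Field k] (X : Scheme.{u}) [X.Over (Spec (CommRingCat.of k))]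
  [IsProper (X ↘ Spec (CommRingCat.of k))]

open Polynomial in
/-- the Hilbert polynomial of `O_Z` with respect to `L|_Z` is the Hilbert polynomial of `O_X/I_Z` with respect
to `L` -/
theorem isHilbPoly_quotMod (Z : X.IdealSheafData) {L : X.Modules} (hL : PicF.IsInvertible L) (Q : ℚ[X])
    (hQ : @ShStab.IsHilbPoly k _ Z.subscheme ⟨Z.subschemeι ≫ (X ↘ Spec (CommRingCat.of k))⟩
      ((Scheme.Modules.pullback Z.subschemeι).obj L) (Coh.structureModule Z.subscheme) Q) :
    ShStab.IsHilbPoly k X L (ClSub.quotMod Z) Q := by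
  letI : Z.subscheme.Over (Spec (CommRingCat.of k)) :=
    ⟨Z.subschemeι ≫ (X ↘ Spec (CommRingCat.of k))⟩
  intro m
  rw [← hQ m]
  congr 1
  haveI : (Coh.structureModule Z.subscheme).IsQuasicoherent :=
    (Groth.Agent.Lib.helper8.Dev.isCoh_structureModule Z.subscheme).1
  exact chi_push k X Z.subschemeι (Coh.structureModule Z.subscheme) 1 (fun _ => L) (fun _ => hL)
    (fun _ => m)

open Polynomial in
/-- the degree of `L` on a curve is the linear coefficient of the Hilbert polynomial -/
theorem nefq_eq_coeff_one (C : X.IdealSheafData) {L : X.Modules} (hL : PicF.IsInvertible L)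
    (hC : topologicalKrullDim (C.support : Set X) = 1) (Q : ℚ[X])
    (hQ : ShStab.IsHilbPoly k X L (ClSub.quotMod C) Q) :
    (nefq k X C L : ℚ) = Q.coeff 1 := by
  have hF := Groth.Agent.Lib.helper7.SnapperQuot.isCoh_quotMod C
  have hd : topologicalKrullDim (CohB1.support (ClSub.quotMod C)) ≤ ((1 : ℕ) : WithBot ℕ∞) := by
    rw [Groth.Agent.Lib.helper7.DivisorDim.support_quotMod_eq, hC]
    rfl
  have hdeg : Q.natDegree ≤ 1 := natDegree_le k X hL hF 1 hd hQ
  have h0 := hQ 0
  have h1 := hQ 1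
  have e0 : Curv2.euler k X (ShStab.twist X L (ClSub.quotMod C) 0) =
      Curv2.euler k X (ClSub.quotMod C) :=
    Groth.Agent.Lib.Lead.CurveEuler.euler_eq_of_iso k X (rightUnitor _)
  have e1 : Curv2.euler k X (ShStab.twist X L (ClSub.quotMod C) 1) =
      Curv2.euler k X (CohB1.tensorMod (ClSub.quotMod C) L) :=
    Groth.Agent.Lib.Lead.CurveEuler.euler_eq_of_iso k X (tensorIso (Iso.refl _) (tensorPowOne L))
  rw [e0] at h0
  rw [e1] at h1
  unfold nefq
  push_cast
  rw [h0, h1]
  rw [Polynomial.eq_X_add_C_of_natDegree_le_one hdeg]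
  simp

open Polynomial in
/-- **Nakai–Moishezon**, Hilbert polynomial form -/
theorem isAmple_of_coeff_pos {L : X.Modules} (hL : PicF.IsInvertible L)
    (hpos : ∀ Z : X.IdealSheafData, IsIntegral Z.subscheme → ∀ d : ℕ, 0 < d →
      topologicalKrullDim (Z.support : Set X) = d → ∀ Q : ℚ[X],
        ShStab.IsHilbPoly k X L (ClSub.quotMod Z) Q → 0 < Q.coeff d) : CohB1.IsAmple L := by
  haveI := Groth.Agent.Lib.Lead.CurveEuler.isNoetherian k X
  -- strict nefness
  have hnef : ∀ C : X.IdealSheafData, IsIntegral C.subscheme →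
      topologicalKrullDim (C.support : Set X) = 1 → 0 < nefq k X C L := by
    intro C hCi hC
    have hd : topologicalKrullDim (CohB1.support (ClSub.quotMod C)) ≤ ((1 : ℕ) : WithBot ℕ∞) := by
      rw [Groth.Agent.Lib.helper7.DivisorDim.support_quotMod_eq, hC]
      rfl
    obtain ⟨Q, hQ, -⟩ := exists_isHilbPoly k X hL
      (Groth.Agent.Lib.helper7.SnapperQuot.isCoh_quotMod C) 1 hd
    have h1 := hpos C hCi 1 one_pos hC Q hQ
    have h2 := nefq_eq_coeff_one k X C hL hC Q hQ
    rw [← h2] at h1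
    exact_mod_cast h1
  refine isAmple_of_core k X hL (fun Z hZ hJ => ?_)
  haveI := hZ
  letI : Z.subscheme.Over (Spec (CommRingCat.of k)) :=
    ⟨Z.subschemeι ≫ (X ↘ Spec (CommRingCat.of k))⟩
  haveI : IsProper (Z.subscheme ↘ Spec (CommRingCat.of k)) :=
    inferInstanceAs (IsProper (Z.subschemeι ≫ (X ↘ Spec (CommRingCat.of k))))
  haveI := Groth.Agent.Lib.Lead.CurveEuler.isNoetherian k Z.subscheme
  have hNinv : PicF.IsInvertible ((Scheme.Modules.pullback Z.subschemeι).obj L) :=
    Groth.Agent.Lib.helper11.InvMod.isInvertible_pullback Z.subschemeι hL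
  obtain ⟨d, hd, -⟩ :=
    Groth.Agent.Lib.helper3.IrredDim.exists_dim_eq_localDim_of_irreducible k Z.subscheme
  have hnefZ : ∀ C' : Z.subscheme.IdealSheafData, IsIntegral C'.subscheme →
      topologicalKrullDim (C'.support : Set Z.subscheme) = 1 →
      0 < nefq k Z.subscheme C' ((Scheme.Modules.pullback Z.subschemeι).obj L) :=
    fun C' hC'i hC' => nefq_pos_of_isClosedImmersion k X Z.subscheme Z.subschemeι rfl hL hnef
      C' hC'i hC'
  rcases Nat.eq_zero_or_pos d with rfl | hd0
  · exact isAmple_of_dim_le_zero k Z.subscheme hd.le hNinv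
  · have hO : Coh.IsCoh (Coh.structureModule Z.subscheme) :=
      Groth.Agent.Lib.helper8.Dev.isCoh_structureModule Z.subscheme
    obtain ⟨Q, hQ, -⟩ := exists_isHilbPoly k Z.subscheme hNinv hO d
      ((topologicalKrullDim_subspace_le _ _).trans hd.le)
    have hQX := isHilbPoly_quotMod k X Z hL Q hQ
    have hdimZ : topologicalKrullDim (Z.support : Set X) = d := by
      have e : Z.subscheme ≃ₜ ↥(Set.range Z.subschemeι) :=
        Z.subschemeι.isClosedEmbedding.isEmbedding.toHomeomorph
      rw [← hd, IsHomeomorph.topologicalKrullDim_eq e e.isHomeomorph, Z.range_subschemeι]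
    have hc := hpos Z hZ d hd0 hdimZ Q hQX
    obtain ⟨m, s, hs⟩ := exists_section_of_coeff_pos k Z.subscheme hNinv hJ d hd0 hd.le Q hQ hc
    exact isAmple_of_section k Z.subscheme hNinv hJ hnefZ m s hs

/-- **S7749**: the Nakai–Moishezon criterion -/
theorem nakai_moishezon (L : X.Modules) (hL : PicF.IsInvertible L) :
    CohB1.IsAmple L ↔
      ∀ (Z : X.IdealSheafData) [IsIntegral Z.subscheme] (d : ℕ), 0 < d →
        topologicalKrullDim (Z.support : Set X) = d →
        ∀ P : MvPolynomial (Fin d) ℚ,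
          (∀ n : Fin d → ℕ, (Curv2.euler k X (Curv2.tensorPows (ClSub.quotMod Z) d (fun _ => L) n) : ℚ) =
            MvPolynomial.eval (fun i => (n i : ℚ)) P) →
          0 < MvPolynomial.coeff (Finsupp.equivFunOnFinite.symm fun _ : Fin d => 1) P := by
  haveI := Groth.Agent.Lib.Lead.CurveEuler.isNoetherian k X
  constructor
  · intro hA Z hZ d hd0 hdim P hP
    have hF := Groth.Agent.Lib.helper7.SnapperQuot.isCoh_quotMod Z
    have hsupp : topologicalKrullDim (CohB1.support (ClSub.quotMod Z)) = ((d : ℕ) : WithBot ℕ∞) := by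
      rw [Groth.Agent.Lib.helper7.DivisorDim.support_quotMod_eq, hdim]
    obtain ⟨Q, hQ, -⟩ := exists_isHilbPoly k X hA.1 hF d hsupp.le
    rw [Groth.Agent.Lib.helper7.SnapperARR.coeff_ones_eq_factorial_mul k X d L hA.1 _ hF hsupp.le
      P hP Q hQ]
    have hpos : 0 < Q.coeff d := coeff_pos k X hA hF d hsupp hQ
    have hfac : (0 : ℚ) < (d.factorial : ℚ) := by exact_mod_cast Nat.factorial_pos d
    exact mul_pos hfac hpos
  · intro H
    refine isAmple_of_coeff_pos k X hL (fun Z hZ d hd0 hdim Q hQ => ?_)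
    have hF := Groth.Agent.Lib.helper7.SnapperQuot.isCoh_quotMod Z
    have hsupp : topologicalKrullDim (CohB1.support (ClSub.quotMod Z)) = ((d : ℕ) : WithBot ℕ∞) := by
      rw [Groth.Agent.Lib.helper7.DivisorDim.support_quotMod_eq, hdim]
    obtain ⟨P, -, hP⟩ := snapper_poly k X (ClSub.quotMod Z) hF d hsupp.le d (fun _ => L)
      (fun _ => hL)
    have h1 := @H Z hZ d hd0 hdim P hP
    rw [Groth.Agent.Lib.helper7.SnapperARR.coeff_ones_eq_factorial_mul k X d L hL _ hF hsupp.le
      P hP Q hQ] at h1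
    have hfac : (0 : ℚ) < (d.factorial : ℚ) := by exact_mod_cast Nat.factorial_pos d
    rcases (mul_pos_iff.mp h1) with ⟨_, h⟩ | ⟨h', _⟩
    · exact h
    · exact absurd h' (not_lt.mpr hfac.le)

end Hilb

end Groth.Agent.Lib.helper7.Nakai
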