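import Mathlib
import Groth.Agent.Lib.Helper7.IntList3
import Groth.Agent.Lib.Helper7.AmpleOpen
import Groth.Agent.Lib.Helper7.Nakai8

/-!
# List-based intersection numbers IV: numerically trivial slots (helper7)

* `E_congr`: isomorphic slots
* `exists_ampleInv_decomp`: on a projective scheme every invertible module is a difference of ample ones
* `nt`: a numerically trivial slot kills the intersection number (projective case)
* `E_replicate_tensor_numTriv`: `∫ c(A ⊗ N')^d G = ∫ c(A)^d G` for `N'` numerically trivial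
* `isAmple_of_numEquiv`: ampleness is a numerical property
-/

set_option autoImplicit false
set_option linter.unusedSectionVars false
set_option linter.style.haveILetI false
universe u

open CategoryTheory CategoryTheory.Limits AlgebraicGeometry Opposite TopologicalSpace

namespace Groth.Agent.Lib.helper7.IntList

open Groth.Agent.Lib.Lead.ModTensor Groth.Agent.Lib.Helper18.NefPull
open Groth.Agent.Lib.helper7.NumEq Groth.Agent.Lib.helper12.TensorInv

variable (k : Type u) [Field k] (X : Scheme.{u}) [X.Over (Spec (CommRingCat.of k))]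
  [IsProper (X ↘ Spec (CommRingCat.of k))]

theorem E_congr {l l' : List X.Modules} (h : List.Forall₂ (fun A B => Nonempty (A ≅ B)) l l') :
    ∀ G : X.Modules, E k X l G = E k X l' G := by
  induction h with
  | nil => intro G; rfl
  | cons hab _ ih =>
    intro G
    obtain ⟨e⟩ := hab
    rw [E_congr_head k X e, E_cons, E_cons, ih, ih]

theorem E_congr_replicate {A B : X.Modules} (e : A ≅ B) (n : ℕ) (G : X.Modules) :
    E k X (List.replicate n A) G = E k X (List.replicate n B) G := by
  apply E_congr
  induction n with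
  | zero => exact List.Forall₂.nil
  | succ n ih => exact List.Forall₂.cons ⟨e⟩ ih

include k in
/-- on a projective scheme, every invertible module is a difference of two ample ones -/
theorem exists_ampleInv_decomp {H H' : X.Modules} (hH : CohB1.IsAmple H)
    (ε : CohB1.tensorMod H H' ≅ Coh.structureModule X) {A₀ : X.Modules}
    (hA₀ : PicF.IsInvertible A₀) :
    ∃ T₂' : X.Modules, IsAmpleInv X T₂' ∧ IsAmpleInv X (CohB1.tensorMod A₀ T₂') := by
  obtain ⟨B, hB, -, ⟨eB⟩⟩ := Groth.Agent.Lib.helper12.InvDual.exists_inverse hA₀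
  obtain ⟨n, hn⟩ := Groth.Agent.Lib.helper7.BigCone.exists_isAmple_twist k X hH hB
  refine ⟨CohB1.tensorPow H' (n + 1), ⟨CohB1.tensorPow H (n + 1), ?_, ?_⟩,
    ⟨CohB1.tensorMod H (CohB1.tensorMod B (CohB1.tensorPow H n)), hn, ?_⟩⟩
  · exact (Groth.Agent.Lib.helper12.AmplePow.isAmple_tensorPow_iff hH.1 (n + 1)
      (Nat.succ_pos n)).mp hH
  · exact isInverseOf_tensorPow ⟨ε⟩ (n + 1)
  · have h1 : ClSub.IsInverseOf (CohB1.tensorMod H (CohB1.tensorMod B (CohB1.tensorPow H n)))
        (CohB1.tensorMod H' (CohB1.tensorMod A₀ (CohB1.tensorPow H' n))) :=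
      isInverseOf_tensorMod ⟨ε⟩ (isInverseOf_tensorMod ⟨eB⟩ (isInverseOf_tensorPow ⟨ε⟩ n))
    have e' : CohB1.tensorMod H' (CohB1.tensorMod A₀ (CohB1.tensorPow H' n)) ≅
        CohB1.tensorMod A₀ (CohB1.tensorPow H' (n + 1)) :=
      braid _ _ ≪≫ assoc A₀ (CohB1.tensorPow H' n) H'
    exact isInverseOf_of_iso (Iso.refl _) e' h1

/-- **a numerically trivial slot kills the intersection number** (projective case) -/
theorem nt {H' : X.Modules} (hH' : IsAmpleInv X H') {N' : X.Modules}
    (hN' : SlotCond k (fun a : ℤ => a = 0) X N') :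
    ∀ (l₂ : List X.Modules), (∀ A ∈ l₂, PicF.IsInvertible A) →
    ∀ (l₁ : List X.Modules), (∀ T' ∈ l₁, IsAmpleInv X T') →
    ∀ G : X.Modules, Coh.IsCoh G →
    topologicalKrullDim (CohB1.support G) ≤ ((l₂.length + l₁.length + 1 : ℕ) : WithBot ℕ∞) →
    E k X (N' :: (l₂ ++ l₁)) G = 0 := by
  obtain ⟨H, hH, ⟨ε⟩⟩ := hH'
  intro l₂
  induction l₂ with
  | nil =>
    intro _ l₁ hl₁ G hG hsupp
    rw [List.nil_append]
    refine gen k goodPred_eq_zero l₁.length X N' l₁ hN' hl₁ rfl G hG ?_
    simpa using hsupp
  | cons A₀ t ih =>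
    intro hl₂ l₁ hl₁ G hG hsupp
    have hA₀ : PicF.IsInvertible A₀ := hl₂ A₀ List.mem_cons_self
    have ht : ∀ A ∈ t, PicF.IsInvertible A := fun A hA => hl₂ A (List.mem_cons_of_mem _ hA)
    obtain ⟨T₂', hT₂', hT₁'⟩ := exists_ampleInv_decomp k X hH ε hA₀
    have hrest : ∀ A ∈ N' :: (t ++ l₁), PicF.IsInvertible A := by
      intro A hA
      rcases List.mem_cons.mp hA with rfl | hA
      · exact hN'.1
      rcases List.mem_append.mp hA with hA | hA
      · exact ht A hA
      · exact (hl₁ A hA).isInvertible
    have hsupp' : topologicalKrullDim (CohB1.support G) ≤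
        (((N' :: (t ++ l₁)).length + 1 : ℕ) : WithBot ℕ∞) := by
      refine hsupp.trans (le_of_eq ?_)
      simp only [List.length_cons, List.length_append]
      congr 1
      omega
    have hten := E_tensor k X A₀ T₂' hA₀ hT₂'.isInvertible (N' :: (t ++ l₁)) hrest G hG hsupp'
    -- move the new ample slots to the ample part
    have hmove : ∀ T : X.Modules, IsAmpleInv X T →
        E k X (T :: N' :: (t ++ l₁)) G = 0 := by
      intro T hT
      have hp : (T :: N' :: (t ++ l₁)).Perm (N' :: (t ++ T :: l₁)) := by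
        refine (List.Perm.swap N' T (t ++ l₁)).trans (List.Perm.cons N' ?_)
        exact List.perm_middle.symm
      rw [E_perm k X hp]
      refine ih ht (T :: l₁) ?_ G hG ?_
      · intro T' hT'
        rcases List.mem_cons.mp hT' with rfl | hT'
        · exact hT
        · exact hl₁ T' hT'
      · refine hsupp.trans (le_of_eq ?_)
        simp only [List.length_cons]
        congr 1
        omega
    rw [List.cons_append, E_swap]
    rw [hmove _ hT₁', hmove _ hT₂'] at hten
    linarith

/-- replacing `d` slots `A ⊗ N'` by `A` for numerically trivial `N'` -/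
theorem E_replicate_tensor_numTriv {H' : X.Modules} (hH' : IsAmpleInv X H') {N' : X.Modules}
    (hN' : SlotCond k (fun a : ℤ => a = 0) X N') {A : X.Modules} (hA : PicF.IsInvertible A) :
    ∀ (j : ℕ) (rest : List X.Modules), (∀ B ∈ rest, PicF.IsInvertible B) →
    ∀ G : X.Modules, Coh.IsCoh G →
    topologicalKrullDim (CohB1.support G) ≤ ((j + rest.length : ℕ) : WithBot ℕ∞) →
    E k X (List.replicate j (CohB1.tensorMod A N') ++ rest) G =
      E k X (List.replicate j A ++ rest) G := by
  have hAN : PicF.IsInvertible (CohB1.tensorMod A N') := isInvertible_tensorMod hA hN'.1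
  intro j
  induction j with
  | zero => intro rest _ G _ _; rfl
  | succ j ih =>
    intro rest hrest G hG hsupp
    have hinv : ∀ B ∈ List.replicate j (CohB1.tensorMod A N') ++ rest, PicF.IsInvertible B := by
      intro B hB
      rcases List.mem_append.mp hB with hB | hB
      · rw [List.eq_of_mem_replicate hB]; exact hAN
      · exact hrest B hB
    have hlen : (List.replicate j (CohB1.tensorMod A N') ++ rest).length = j + rest.length := by
      simp
    have hsupp' : topologicalKrullDim (CohB1.support G) ≤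
        (((List.replicate j (CohB1.tensorMod A N') ++ rest).length + 1 : ℕ) : WithBot ℕ∞) := by
      refine hsupp.trans (le_of_eq ?_)
      rw [hlen]
      congr 1
      omega
    rw [List.replicate_succ, List.cons_append,
      E_tensor k X A N' hA hN'.1 _ hinv G hG hsupp']
    have h0 : E k X (N' :: (List.replicate j (CohB1.tensorMod A N') ++ rest)) G = 0 := by
      have := nt k X hH' hN' (List.replicate j (CohB1.tensorMod A N') ++ rest) hinv []
        (fun _ h => absurd h List.not_mem_nil) G hG (by
          refine hsupp'.trans (le_of_eq ?_)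
          simp)
      rwa [List.append_nil] at this
    rw [h0, add_zero]
    have hp1 : (A :: (List.replicate j (CohB1.tensorMod A N') ++ rest)).Perm
        (List.replicate j (CohB1.tensorMod A N') ++ A :: rest) := List.perm_middle.symm
    have hp2 : (List.replicate j A ++ A :: rest).Perm (A :: (List.replicate j A ++ rest)) :=
      List.perm_middle
    rw [E_perm k X hp1, ih (A :: rest) ?_ G hG ?_, E_perm k X hp2, List.replicate_succ,
      List.cons_append]
    · intro B hB
      rcases List.mem_cons.mp hB with rfl | hB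
      · exact hA
      · exact hrest B hB
    · refine hsupp.trans (le_of_eq ?_)
      simp only [List.length_cons]
      congr 1
      omega

/-- the degree on a curve in terms of `E` -/
theorem neg_nefq_eq_E (C : X.IdealSheafData) (A : X.Modules) :
    - nefq k X C A = E k X [A] (ClSub.quotMod C) := by
  rw [E_cons, E_nil, E_nil]
  unfold nefq
  ring

/-- **ampleness is a numerical property** -/
theorem isAmple_of_numEquiv {L L' : X.Modules} (hL : CohB1.IsAmple L) (hL' : PicF.IsInvertible L')
    (hnum : ∀ C : X.IdealSheafData, IsIntegral C.subscheme →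
      topologicalKrullDim (C.support : Set X) = 1 → nefq k X C L = nefq k X C L') :
    CohB1.IsAmple L' := by
  haveI := Groth.Agent.Lib.Lead.CurveEuler.isNoetherian k X
  obtain ⟨M, hM, ⟨eM⟩, -⟩ := Groth.Agent.Lib.helper12.InvDual.exists_inverse hL.1
  obtain ⟨M', hM', ⟨eM'⟩, -⟩ := Groth.Agent.Lib.helper12.InvDual.exists_inverse hL'
  have hMinv : IsAmpleInv X M := ⟨L, hL, ⟨eM⟩⟩
  -- the numerically trivial module
  set N' := CohB1.tensorMod M' L with hN'def
  have hN'inv : PicF.IsInvertible N' := isInvertible_tensorMod hM' hL.1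
  have hN' : SlotCond k (fun a : ℤ => a = 0) X N' := by
    refine ⟨hN'inv, fun C hCi hC => ?_⟩
    have hQ := Groth.Agent.Lib.helper7.SnapperQuot.isCoh_quotMod C
    have hd : topologicalKrullDim (CohB1.support (ClSub.quotMod C)) ≤
        ((([] : List X.Modules).length + 1 : ℕ) : WithBot ℕ∞) := by
      rw [Groth.Agent.Lib.helper7.DivisorDim.support_quotMod_eq, hC]
      rfl
    have hnil : ∀ A ∈ ([] : List X.Modules), PicF.IsInvertible A :=
      fun _ h => absurd h List.not_mem_nil
    rw [neg_nefq_eq_E, hN'def, E_tensor k X M' L hM' hL.1 [] hnil _ hQ hd,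
      E_inv k X L' M' hL' hM' eM' [] hnil _ hQ hd, ← neg_nefq_eq_E, ← neg_nefq_eq_E,
      hnum C hCi hC]
    ring
  -- `M' ≅ M ⊗ N'`
  have eMN : CohB1.tensorMod M N' ≅ M' :=
    (assoc M M' L).symm ≪≫ tensorIso (braid M M') (Iso.refl L) ≪≫ assoc M' M L ≪≫
      tensorIso (Iso.refl M') (braid M L ≪≫ eM) ≪≫ rightUnitor M'
  obtain ⟨dd, hdd⟩ := exists_dim_le k X
  refine Groth.Agent.Lib.helper7.Nakai.isAmple_of_coeff_pos k X hL' (fun Z hZ d hd0 hdim Q hQ => ?_)
  have hF := Groth.Agent.Lib.helper7.SnapperQuot.isCoh_quotMod Z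
  have hsupp : topologicalKrullDim (CohB1.support (ClSub.quotMod Z)) = ((d : ℕ) : WithBot ℕ∞) := by
    rw [Groth.Agent.Lib.helper7.DivisorDim.support_quotMod_eq, hdim]
  have h1 := Groth.Agent.Lib.helper7.SnapperPos.D_top_eq k X dd hdd L' M' hL' ⟨eM'⟩ d _ hF
    hsupp.le Q hQ
  have h2 := Groth.Agent.Lib.helper7.SnapperPos.intNum_const_pos k X dd hdd L M hL ⟨eM⟩ d _ hF
    hsupp
  have h3 : E k X (List.replicate d M') (ClSub.quotMod Z) =
      E k X (List.replicate d M) (ClSub.quotMod Z) := by
    rw [← E_congr_replicate k X eMN d]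
    have := E_replicate_tensor_numTriv k X hMinv hN' hM d [] (fun _ h => absurd h List.not_mem_nil)
      _ hF (by simpa using hsupp.le)
    simpa using this
  rw [E_replicate k X dd hdd, E_replicate k X dd hdd] at h3
  have h4 : (0 : ℚ) < (Groth.Agent.Lib.helper7.SnapperNewton.D k X dd M' d (ClSub.quotMod Z) : ℚ) := by
    rw [h3]
    exact_mod_cast h2
  rw [h1] at h4
  have hfac : (0 : ℚ) < (d.factorial : ℚ) := by exact_mod_cast Nat.factorial_pos d
  exact (mul_pos_iff_of_pos_left hfac).mp h4

end Groth.Agent.Lib.helper7.IntList
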