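import Mathlib

/-!
# The real-analysis lemma in Kleiman's nefness theorem (helper7)

For integers `e 0, …, e (m+1)` put
`P(t) = Σ_c binom(m+1,c) e(c) t^{m+1-c}`, `Q(t) = Σ_c binom(m,c) e(c+1) t^{m-c}`.
If `e 0 > 0`, `e c ≥ 0` for `c ≤ m`, and `Q(t) ≥ 0` for all positive rationals `t` with `P(t) > 0`,
then `e (m+1) ≥ 0`.
-/

set_option autoImplicit false

open Finset

namespace Groth.Agent.Lib.helper7.KleimanRA

/-- Pascal's rule for sums -/
theorem sum_choose_succ {R : Type*} [CommRing R] (f : ℕ → R) (m : ℕ) :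
    ∑ c ∈ range (m + 2), ((m + 1).choose c : R) * f c =
      ∑ c ∈ range (m + 1), (m.choose c : R) * f (c + 1) +
        ∑ c ∈ range (m + 1), (m.choose c : R) * f c := by
  rw [Finset.sum_range_succ' (fun c => ((m + 1).choose c : R) * f c) (m + 1)]
  rw [Finset.sum_range_succ' (fun c => (m.choose c : R) * f c) m]
  have h1 : ∑ c ∈ range (m + 1), ((m + 1).choose (c + 1) : R) * f (c + 1) =
      ∑ c ∈ range (m + 1), (m.choose c : R) * f (c + 1) +
        ∑ c ∈ range (m + 1), (m.choose (c + 1) : R) * f (c + 1) := by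
    rw [← Finset.sum_add_distrib]
    apply Finset.sum_congr rfl
    intro c _
    rw [Nat.choose_succ_succ]
    push_cast
    ring
  have h2 : ∑ c ∈ range (m + 1), (m.choose (c + 1) : R) * f (c + 1) =
      ∑ c ∈ range m, (m.choose (c + 1) : R) * f (c + 1) := by
    rw [Finset.sum_range_succ, Nat.choose_succ_self]
    simp
  rw [h1, h2]
  simp only [Nat.choose_zero_right, Nat.cast_one, one_mul]
  ring

/-- `P(t) = (L + tH)^{m+1}` -/
noncomputable def P (m : ℕ) (e : ℕ → ℤ) (t : ℝ) : ℝ :=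
  ∑ c ∈ range (m + 2), ((m + 1).choose c : ℝ) * ((e c : ℝ) * t ^ (m + 1 - c))

/-- `Q(t) = (L + tH)^m · L` -/
noncomputable def Q (m : ℕ) (e : ℕ → ℤ) (t : ℝ) : ℝ :=
  ∑ c ∈ range (m + 1), (m.choose c : ℝ) * ((e (c + 1) : ℝ) * t ^ (m - c))

/-- `R(t) = t (L + tH)^m · H` -/
noncomputable def R (m : ℕ) (e : ℕ → ℤ) (t : ℝ) : ℝ :=
  ∑ c ∈ range (m + 1), (m.choose c : ℝ) * ((e c : ℝ) * t ^ (m + 1 - c))

theorem P_eq (m : ℕ) (e : ℕ → ℤ) (t : ℝ) : P m e t = Q m e t + R m e t := by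
  unfold P Q R
  rw [sum_choose_succ (fun c => (e c : ℝ) * t ^ (m + 1 - c)) m]
  congr 1
  apply Finset.sum_congr rfl
  intro c _
  rw [Nat.add_sub_add_right]

theorem continuous_P (m : ℕ) (e : ℕ → ℤ) : Continuous (P m e) := by
  unfold P
  fun_prop

theorem continuous_Q (m : ℕ) (e : ℕ → ℤ) : Continuous (Q m e) := by
  unfold Q
  fun_prop

theorem R_ge (m : ℕ) (e : ℕ → ℤ) (hpos : ∀ c, c ≤ m → 0 ≤ e c) (t : ℝ) (ht : 0 ≤ t) :
    (e 0 : ℝ) * t ^ (m + 1) ≤ R m e t := by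
  unfold R
  have h := Finset.single_le_sum (f := fun c => (m.choose c : ℝ) * ((e c : ℝ) * t ^ (m + 1 - c)))
    (s := range (m + 1)) (fun c hc => ?_) (Finset.mem_range.mpr (Nat.succ_pos m))
  · simpa using h
  · have hc' : c ≤ m := Nat.lt_succ_iff.mp (Finset.mem_range.mp hc)
    have : (0 : ℝ) ≤ (e c : ℝ) := by exact_mod_cast hpos c hc'
    positivity

theorem Q_ge (m : ℕ) (e : ℕ → ℤ) (hpos : ∀ c, c ≤ m → 0 ≤ e c) (t : ℝ) (ht : 0 ≤ t) :
    (e (m + 1) : ℝ) ≤ Q m e t := by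
  unfold Q
  rw [Finset.sum_range_succ]
  simp only [Nat.choose_self, Nat.cast_one, one_mul, Nat.sub_self, pow_zero, mul_one]
  have : 0 ≤ ∑ c ∈ range m, (m.choose c : ℝ) * ((e (c + 1) : ℝ) * t ^ (m - c)) := by
    apply Finset.sum_nonneg
    intro c hc
    have hc' : c + 1 ≤ m := Finset.mem_range.mp hc
    have : (0 : ℝ) ≤ (e (c + 1) : ℝ) := by exact_mod_cast hpos (c + 1) hc'
    positivity
  linarith

theorem Q_zero (m : ℕ) (e : ℕ → ℤ) : Q m e 0 = (e (m + 1) : ℝ) := by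
  unfold Q
  rw [Finset.sum_range_succ, Finset.sum_eq_zero]
  · simp
  · intro c hc
    have hc' : c < m := Finset.mem_range.mp hc
    have : m - c ≠ 0 := by omega
    rw [zero_pow this]
    simp

/-- the real-analysis lemma -/
theorem nonneg_of_forall_rat (m : ℕ) (e : ℕ → ℤ) (h0 : 0 < e 0) (hpos : ∀ c, c ≤ m → 0 ≤ e c)
    (H : ∀ p q : ℕ, 0 < p → 0 < q → 0 < P m e ((p : ℝ) / (q : ℝ)) → 0 ≤ Q m e ((p : ℝ) / (q : ℝ))) :
    0 ≤ e (m + 1) := by
  by_contra hneg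
  rw [not_le] at hneg
  have hnegR : (e (m + 1) : ℝ) < 0 := by exact_mod_cast hneg
  have h0R : (1 : ℝ) ≤ (e 0 : ℝ) := by exact_mod_cast h0
  -- a point where `P` is positive
  set T : ℝ := - (e (m + 1) : ℝ) + 1 with hT
  have hT1 : 1 ≤ T := by rw [hT]; linarith
  have hT0 : 0 ≤ T := by linarith
  have hPT : 0 < P m e T := by
    rw [P_eq]
    have h1 := R_ge m e hpos T hT0
    have h2 := Q_ge m e hpos T hT0
    have h3 : T ≤ T ^ (m + 1) := by
      calc T = T ^ 1 := (pow_one T).symm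
        _ ≤ T ^ (m + 1) := pow_le_pow_right₀ hT1 (by omega)
    have h4 : T ≤ (e 0 : ℝ) * T ^ (m + 1) := by
      calc T ≤ T ^ (m + 1) := h3
        _ = 1 * T ^ (m + 1) := (one_mul _).symm
        _ ≤ (e 0 : ℝ) * T ^ (m + 1) := by
          apply mul_le_mul_of_nonneg_right h0R
          positivity
    rw [hT] at h4 ⊢
    linarith
  -- the last point where `P ≤ 0`
  set S : Set ℝ := Set.Icc 0 T ∩ {t | P m e t ≤ 0} with hS
  have hScomp : IsCompact S :=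
    isCompact_Icc.inter_right (isClosed_le (continuous_P m e) continuous_const)
  have hP0 : P m e 0 = (e (m + 1) : ℝ) := by
    rw [P_eq, Q_zero]
    have : R m e 0 = 0 := by
      unfold R
      apply Finset.sum_eq_zero
      intro c hc
      have hc' : c < m + 1 := Finset.mem_range.mp hc
      have : m + 1 - c ≠ 0 := by omega
      rw [zero_pow this]
      simp
    rw [this, add_zero]
  have hSne : S.Nonempty := ⟨0, ⟨le_rfl, hT0⟩, by
    show P m e 0 ≤ 0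
    rw [hP0]; exact hnegR.le⟩
  obtain ⟨t₀, ht₀⟩ := hScomp.exists_isGreatest hSne
  have ht₀S := ht₀.1
  have ht₀0 : 0 ≤ t₀ := ht₀S.1.1
  have ht₀T : t₀ < T := by
    rcases lt_or_eq_of_le ht₀S.1.2 with h | h
    · exact h
    · exfalso
      have : P m e t₀ ≤ 0 := ht₀S.2
      rw [h] at this
      linarith
  have hPt₀ : P m e t₀ ≤ 0 := ht₀S.2
  -- `Q t₀ < 0`
  have hQt₀ : Q m e t₀ < 0 := by
    rcases eq_or_lt_of_le ht₀0 with h | h
    · rw [← h, Q_zero]; exact hnegR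
    · have h1 := R_ge m e hpos t₀ ht₀0
      have h2 : 0 < (e 0 : ℝ) * t₀ ^ (m + 1) := by positivity
      rw [P_eq] at hPt₀
      linarith
  -- `Q < 0` near `t₀`
  have hopen : IsOpen {t | Q m e t < 0} := isOpen_lt (continuous_Q m e) continuous_const
  obtain ⟨δ, hδ, hball⟩ := Metric.isOpen_iff.mp hopen t₀ hQt₀
  -- a rational point
  obtain ⟨r, hr1, hr2⟩ := exists_rat_btwn (show t₀ < min (t₀ + δ) T from lt_min (by linarith) ht₀T)
  have hr0 : (0 : ℝ) < (r : ℝ) := lt_of_le_of_lt ht₀0 hr1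
  have hrT : (r : ℝ) ≤ T := (hr2.trans_le (min_le_right _ _)).le
  have hrδ : (r : ℝ) < t₀ + δ := hr2.trans_le (min_le_left _ _)
  have hQr : Q m e (r : ℝ) < 0 := by
    apply hball
    rw [Metric.mem_ball, Real.dist_eq, abs_lt]
    constructor <;> linarith
  have hPr : 0 < P m e (r : ℝ) := by
    by_contra hcon
    rw [not_lt] at hcon
    have : (r : ℝ) ∈ S := ⟨⟨hr0.le, hrT⟩, hcon⟩
    have := ht₀.2 this
    linarith
  -- write `r = p / q`
  have hr0' : (0 : ℚ) < r := by exact_mod_cast hr0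
  have hnum : 0 < r.num := Rat.num_pos.mpr hr0'
  have hrq : (r : ℝ) = ((r.num.toNat : ℕ) : ℝ) / ((r.den : ℕ) : ℝ) := by
    have h1 : (r : ℝ) = ((r.num : ℤ) : ℝ) / ((r.den : ℕ) : ℝ) := by
      exact_mod_cast (Rat.num_div_den r).symm
    rw [h1]
    congr 1
    have : ((r.num.toNat : ℕ) : ℤ) = r.num := Int.toNat_of_nonneg hnum.le
    exact_mod_cast congrArg (fun z : ℤ => (z : ℝ)) this.symm
  have := H r.num.toNat r.den (by omega) r.den_pos (by rw [← hrq]; exact hPr)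
  rw [← hrq] at this
  linarith

theorem scale_term (q p : ℝ) (hq : q ≠ 0) (n c : ℕ) (hc : c ≤ n) :
    q ^ n * (p / q) ^ (n - c) = q ^ c * p ^ (n - c) := by
  have h1 : q ^ n = q ^ c * q ^ (n - c) := by
    rw [← pow_add]; congr 1; omega
  rw [h1, div_pow, mul_assoc, mul_div_cancel₀ _ (pow_ne_zero _ hq)]

theorem P_scaled (m : ℕ) (e : ℕ → ℤ) (p q : ℕ) (hq : 0 < q) :
    (q : ℝ) ^ (m + 1) * P m e ((p : ℝ) / (q : ℝ)) =
      ((∑ c ∈ range (m + 2), ((m + 1).choose c : ℤ) * (q : ℤ) ^ c * (p : ℤ) ^ (m + 1 - c) * e c : ℤ) : ℝ) := by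
  have hq' : (q : ℝ) ≠ 0 := by exact_mod_cast hq.ne'
  unfold P
  rw [Finset.mul_sum]
  push_cast
  apply Finset.sum_congr rfl
  intro c hc
  have hc' : c ≤ m + 1 := Nat.lt_succ_iff.mp (Finset.mem_range.mp hc)
  have := scale_term (q : ℝ) (p : ℝ) hq' (m + 1) c hc'
  calc (q : ℝ) ^ (m + 1) * (((m + 1).choose c : ℝ) * ((e c : ℝ) * ((p : ℝ) / q) ^ (m + 1 - c)))
      = ((m + 1).choose c : ℝ) * (e c : ℝ) * ((q : ℝ) ^ (m + 1) * ((p : ℝ) / q) ^ (m + 1 - c)) := by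
        ring
    _ = _ := by rw [this]; ring

theorem Q_scaled (m : ℕ) (e : ℕ → ℤ) (p q : ℕ) (hq : 0 < q) :
    (q : ℝ) ^ m * Q m e ((p : ℝ) / (q : ℝ)) =
      ((∑ c ∈ range (m + 1), (m.choose c : ℤ) * (q : ℤ) ^ c * (p : ℤ) ^ (m - c) * e (c + 1) : ℤ) : ℝ) := by
  have hq' : (q : ℝ) ≠ 0 := by exact_mod_cast hq.ne'
  unfold Q
  rw [Finset.mul_sum]
  push_cast
  apply Finset.sum_congr rfl
  intro c hc
  have hc' : c ≤ m := Nat.lt_succ_iff.mp (Finset.mem_range.mp hc)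
  have := scale_term (q : ℝ) (p : ℝ) hq' m c hc'
  calc (q : ℝ) ^ m * ((m.choose c : ℝ) * ((e (c + 1) : ℝ) * ((p : ℝ) / q) ^ (m - c)))
      = (m.choose c : ℝ) * (e (c + 1) : ℝ) * ((q : ℝ) ^ m * ((p : ℝ) / q) ^ (m - c)) := by
        ring
    _ = _ := by rw [this]; ring

/-- the integer form of the real-analysis lemma -/
theorem nonneg_of_forall_nat (m : ℕ) (e : ℕ → ℤ) (h0 : 0 < e 0) (hpos : ∀ c, c ≤ m → 0 ≤ e c)
    (H : ∀ p q : ℕ, 0 < p → 0 < q →
      0 < ∑ c ∈ range (m + 2), ((m + 1).choose c : ℤ) * (q : ℤ) ^ c * (p : ℤ) ^ (m + 1 - c) * e c →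
      0 ≤ ∑ c ∈ range (m + 1), (m.choose c : ℤ) * (q : ℤ) ^ c * (p : ℤ) ^ (m - c) * e (c + 1)) :
    0 ≤ e (m + 1) := by
  refine nonneg_of_forall_rat m e h0 hpos (fun p q hp hq hP => ?_)
  have hqR : (0 : ℝ) < (q : ℝ) := by exact_mod_cast hq
  have h1 : (0 : ℝ) < (q : ℝ) ^ (m + 1) * P m e ((p : ℝ) / (q : ℝ)) := by positivity
  rw [P_scaled m e p q hq] at h1
  have h2 := H p q hp hq (by exact_mod_cast h1)
  have h3 : (0 : ℝ) ≤ (q : ℝ) ^ m * Q m e ((p : ℝ) / (q : ℝ)) := by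
    rw [Q_scaled m e p q hq]
    exact_mod_cast h2
  exact nonneg_of_mul_nonneg_right h3 (by positivity)

end Groth.Agent.Lib.helper7.KleimanRA
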