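import Mathlib
import Groth.Agent.Lib.Helper7.IntList4
import Groth.Agent.Lib.Helper7.KleimanRA

/-!
# List-based intersection numbers V: the binomial expansion (helper7)

* `E_expand`: `∫ c(M^q ⊗ H'^p)^a c(M)^i c(H')^j G = Σ_c binom(a,c) q^c p^{a-c} ∫ c(M)^{i+c} c(H')^{j+a-c} G`
-/

set_option autoImplicit false
set_option linter.unusedSectionVars false
set_option linter.style.haveILetI false
universe u

open CategoryTheory CategoryTheory.Limits AlgebraicGeometry Opposite TopologicalSpace

namespace Groth.Agent.Lib.helper7.IntList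

open Groth.Agent.Lib.Lead.ModTensor Groth.Agent.Lib.helper12.TensorInv
open Groth.Agent.Lib.helper7.KleimanRA

variable (k : Type u) [Field k] (X : Scheme.{u}) [X.Over (Spec (CommRingCat.of k))]
  [IsProper (X ↘ Spec (CommRingCat.of k))]

/-- the mixed symbol `∫ c(M)^x c(H')^y G` -/
noncomputable abbrev F2 (M H' : X.Modules) (G : X.Modules) (x y : ℕ) : ℤ :=
  E k X (List.replicate x M ++ List.replicate y H') G

theorem isInvertible_of_mem_mixed {M H' T' : X.Modules} (hM : PicF.IsInvertible M)
    (hH' : PicF.IsInvertible H') (hT' : PicF.IsInvertible T') (a i j : ℕ) :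
    ∀ B ∈ List.replicate a T' ++ (List.replicate i M ++ List.replicate j H'),
      PicF.IsInvertible B := by
  intro B hB
  rcases List.mem_append.mp hB with hB | hB
  · rw [List.eq_of_mem_replicate hB]; exact hT'
  rcases List.mem_append.mp hB with hB | hB
  · rw [List.eq_of_mem_replicate hB]; exact hM
  · rw [List.eq_of_mem_replicate hB]; exact hH'

theorem E_expand {M H' : X.Modules} (hM : PicF.IsInvertible M) (hH' : PicF.IsInvertible H')
    (p q : ℕ) (G : X.Modules) (hG : Coh.IsCoh G) :
    ∀ (a i j : ℕ),
    topologicalKrullDim (CohB1.support G) ≤ ((a + i + j : ℕ) : WithBot ℕ∞) →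
    E k X (List.replicate a (CohB1.tensorMod (CohB1.tensorPow M q) (CohB1.tensorPow H' p)) ++
        (List.replicate i M ++ List.replicate j H')) G =
      ∑ c ∈ Finset.range (a + 1), (a.choose c : ℤ) * ((q : ℤ) ^ c * (p : ℤ) ^ (a - c) *
        F2 k X M H' G (i + c) (j + (a - c))) := by
  set T' := CohB1.tensorMod (CohB1.tensorPow M q) (CohB1.tensorPow H' p) with hT'def
  have hMq : PicF.IsInvertible (CohB1.tensorPow M q) := isInvertible_tensorPow hM q
  have hHp : PicF.IsInvertible (CohB1.tensorPow H' p) := isInvertible_tensorPow hH' p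
  have hT' : PicF.IsInvertible T' := isInvertible_tensorMod hMq hHp
  intro a
  induction a with
  | zero =>
    intro i j _
    simp [F2]
  | succ a ih =>
    intro i j hsupp
    set rest := List.replicate a T' ++ (List.replicate i M ++ List.replicate j H') with hrest
    have hinv : ∀ B ∈ rest, PicF.IsInvertible B := isInvertible_of_mem_mixed X hM hH' hT' a i j
    have hlen : rest.length = a + i + j := by simp [hrest, add_assoc]
    have hsupp' : topologicalKrullDim (CohB1.support G) ≤
        ((rest.length + 1 : ℕ) : WithBot ℕ∞) := by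
      refine hsupp.trans (le_of_eq ?_)
      rw [hlen]
      congr 1
      omega
    rw [List.replicate_succ, List.cons_append, ← hrest,
      E_tensor k X _ _ hMq hHp rest hinv G hG hsupp',
      E_tensorPow k X M hM rest hinv G hG hsupp' q,
      E_tensorPow k X H' hH' rest hinv G hG hsupp' p]
    -- move the new slots
    have hp1 : (M :: rest).Perm
        (List.replicate a T' ++ (List.replicate (i + 1) M ++ List.replicate j H')) := by
      rw [hrest, List.replicate_succ, List.cons_append]
      exact List.perm_middle.symm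
    have hp2 : (H' :: rest).Perm
        (List.replicate a T' ++ (List.replicate i M ++ List.replicate (j + 1) H')) := by
      rw [hrest, List.replicate_succ]
      refine List.perm_middle.symm.trans (List.Perm.append_left _ ?_)
      exact List.perm_middle.symm
    rw [E_perm k X hp1, E_perm k X hp2,
      ih (i + 1) j (hsupp.trans (le_of_eq (by congr 1; omega))),
      ih i (j + 1) (hsupp.trans (le_of_eq (by congr 1; omega)))]
    rw [sum_choose_succ (fun c => (q : ℤ) ^ c * (p : ℤ) ^ (a + 1 - c) *
      F2 k X M H' G (i + c) (j + (a + 1 - c))) a, Finset.mul_sum, Finset.mul_sum]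
    congr 1
    · apply Finset.sum_congr rfl
      intro c _
      have h1 : a + 1 - (c + 1) = a - c := Nat.add_sub_add_right a 1 c
      have h2 : i + 1 + c = i + (c + 1) := by omega
      rw [h1, h2]
      ring
    · apply Finset.sum_congr rfl
      intro c hc
      have hc' : c ≤ a := Nat.lt_succ_iff.mp (Finset.mem_range.mp hc)
      have h1 : a + 1 - c = (a - c) + 1 := by omega
      have h2 : j + 1 + (a - c) = j + ((a - c) + 1) := by omega
      rw [h1, h2]
      ring

/-- the pure power: `∫ c(M^q ⊗ H'^p)^a G = Σ_c binom(a,c) q^c p^{a-c} ∫ c(M)^c c(H')^{a-c} G` -/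
theorem E_expand_pure {M H' : X.Modules} (hM : PicF.IsInvertible M) (hH' : PicF.IsInvertible H')
    (p q : ℕ) (G : X.Modules) (hG : Coh.IsCoh G) (a : ℕ)
    (hsupp : topologicalKrullDim (CohB1.support G) ≤ ((a : ℕ) : WithBot ℕ∞)) :
    E k X (List.replicate a (CohB1.tensorMod (CohB1.tensorPow M q) (CohB1.tensorPow H' p))) G =
      ∑ c ∈ Finset.range (a + 1), (a.choose c : ℤ) * (q : ℤ) ^ c * (p : ℤ) ^ (a - c) *
        F2 k X M H' G c (a - c) := by
  have h := E_expand k X hM hH' p q G hG a 0 0 (by simpa using hsupp)
  simp only [List.replicate_zero, List.append_nil, zero_add] at h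
  rw [h]
  apply Finset.sum_congr rfl
  intro c _
  ring

/-- one `M` slot and `a` mixed slots -/
theorem E_expand_one {M H' : X.Modules} (hM : PicF.IsInvertible M) (hH' : PicF.IsInvertible H')
    (p q : ℕ) (G : X.Modules) (hG : Coh.IsCoh G) (a : ℕ)
    (hsupp : topologicalKrullDim (CohB1.support G) ≤ ((a + 1 : ℕ) : WithBot ℕ∞)) :
    E k X (M :: List.replicate a (CohB1.tensorMod (CohB1.tensorPow M q) (CohB1.tensorPow H' p))) G =
      ∑ c ∈ Finset.range (a + 1), (a.choose c : ℤ) * (q : ℤ) ^ c * (p : ℤ) ^ (a - c) *
        F2 k X M H' G (c + 1) (a - c) := by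
  have h := E_expand k X hM hH' p q G hG a 1 0 (by simpa using hsupp)
  have hp : (M :: List.replicate a
      (CohB1.tensorMod (CohB1.tensorPow M q) (CohB1.tensorPow H' p))).Perm
      (List.replicate a (CohB1.tensorMod (CohB1.tensorPow M q) (CohB1.tensorPow H' p)) ++
        (List.replicate 1 M ++ List.replicate 0 H')) := by
    simp only [List.replicate_zero, List.append_nil, List.replicate_one]
    exact (List.perm_append_singleton _ _).symm
  rw [E_perm k X hp, h]
  apply Finset.sum_congr rfl
  intro c _
  have h1 : 1 + c = c + 1 := by omega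
  rw [h1, zero_add]
  ring

end Groth.Agent.Lib.helper7.IntList
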