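import Mathlib
import Groth.Agent.Lib.Helper7.IntList5

/-!
# Kleiman's theorem on nef invertible modules (projective case) (helper7)

* `KM n`: for `M` inverse to a nef module and `H'` inverse to an ample one, the mixed numbers
  `∫ c(M)^i c(H')^j G`, `i + j = n`, `dim Supp G ≤ n`, are nonnegative
* `km : ∀ n, KM n`
* `isAmple_tensorPow_tensor_of_nef`: nef ⊗ ample is ample
-/

set_option autoImplicit false
set_option linter.unusedSectionVars false
set_option linter.style.haveILetI false
universe u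

open CategoryTheory CategoryTheory.Limits AlgebraicGeometry Opposite TopologicalSpace

namespace Groth.Agent.Lib.helper7.IntList

open Groth.Agent.Lib.Lead.ModTensor Groth.Agent.Lib.helper12.TensorInv
open Groth.Agent.Lib.helper7.KleimanRA Groth.Agent.Lib.Helper18.NefPull

variable (k : Type u) [Field k]

/-- the nonnegativity condition on the inverse of a nef module -/
abbrev NefInv (Y : Scheme.{u}) [Y.Over (Spec (CommRingCat.of k))] (M : Y.Modules) : Prop :=
  SlotCond k (fun a : ℤ => 0 ≤ a) Y M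

/-- the class of lists for `km` -/
def KmClass (Y : Scheme.{u}) [Y.Over (Spec (CommRingCat.of k))] (l : List Y.Modules) : Prop :=
  ∃ (M H' : Y.Modules) (i j : ℕ), l = List.replicate i M ++ List.replicate j H' ∧
    NefInv k Y M ∧ IsAmpleInv Y H'

theorem KmClass.isInvertible {Y : Scheme.{u}} [Y.Over (Spec (CommRingCat.of k))]
    {l : List Y.Modules} (h : KmClass k Y l) : ∀ A ∈ l, PicF.IsInvertible A := by
  obtain ⟨M, H', i, j, rfl, hM, hH'⟩ := h
  intro A hA
  rcases List.mem_append.mp hA with hA | hA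
  · rw [List.eq_of_mem_replicate hA]; exact hM.1
  · rw [List.eq_of_mem_replicate hA]; exact hH'.isInvertible

theorem KmClass.pullback (Y : Scheme.{u})
    [Y.Over (Spec (CommRingCat.of k))] [IsProper (Y ↘ Spec (CommRingCat.of k))]
    (Z : Scheme.{u}) (i : Z ⟶ Y) [IsClosedImmersion i] (l : List Y.Modules)
    (h : KmClass k Y l) :
    @KmClass k _ Z ⟨i ≫ (Y ↘ Spec (CommRingCat.of k))⟩
      (l.map (Scheme.Modules.pullback i).obj) := by
  letI : Z.Over (Spec (CommRingCat.of k)) := ⟨i ≫ (Y ↘ Spec (CommRingCat.of k))⟩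
  haveI : IsProper (Z ↘ Spec (CommRingCat.of k)) := by
    show IsProper (i ≫ (Y ↘ Spec (CommRingCat.of k)))
    infer_instance
  obtain ⟨M, H', a, b, rfl, hM, hH'⟩ := h
  refine ⟨(Scheme.Modules.pullback i).obj M, (Scheme.Modules.pullback i).obj H', a, b, ?_,
    SlotCond.pullback k goodPred_nonneg Y Z i rfl hM, hH'.pullback i⟩
  rw [List.map_append, List.map_replicate, List.map_replicate]

/-- Kleiman's statement in dimension `n` -/
def KM (n : ℕ) : Prop :=
  ∀ (X : Scheme.{u}) [X.Over (Spec (CommRingCat.of k))] [IsProper (X ↘ Spec (CommRingCat.of k))]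
    (M H' : X.Modules), NefInv k X M → IsAmpleInv X H' → ∀ i j : ℕ, i + j = n →
    ∀ G : X.Modules, Coh.IsCoh G →
      topologicalKrullDim (CohB1.support G) ≤ ((n : ℕ) : WithBot ℕ∞) →
      0 ≤ E k X (List.replicate i M ++ List.replicate j H') G

/-- reduction to integral schemes -/
theorem km_of_int (n : ℕ)
    (h : ∀ (Z : Scheme.{u}) [Z.Over (Spec (CommRingCat.of k))]
      [IsProper (Z ↘ Spec (CommRingCat.of k))] [IsIntegral Z],
      topologicalKrullDim Z = ((n : ℕ) : WithBot ℕ∞) → ∀ (M H' : Z.Modules), NefInv k Z M →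
      IsAmpleInv Z H' → ∀ i j : ℕ, i + j = n →
      0 ≤ E k Z (List.replicate i M ++ List.replicate j H') (Coh.structureModule Z)) :
    KM.{u} k n := by
  intro X _ _ M H' hM hH' i j hij G hG hsupp
  refine red k goodPred_nonneg (fun Y _ l => KmClass k Y l) (fun Y _ l h => h.isInvertible)
    (fun Y _ _ Z i _ l h => KmClass.pullback k Y Z i l h) n ?_ X _ (by simp [hij])
    ⟨M, H', i, j, rfl, hM, hH'⟩ G hG hsupp
  intro Z _ _ _ hdim l hlen hcl
  obtain ⟨M₁, H₁, a, b, rfl, hM₁, hH₁⟩ := hcl
  exact h Z hdim M₁ H₁ hM₁ hH₁ a b (by simpa using hlen)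

section Int

variable (Z : Scheme.{u}) [Z.Over (Spec (CommRingCat.of k))]
  [IsProper (Z ↘ Spec (CommRingCat.of k))] [IsIntegral Z]

/-- the case with at least one ample slot -/
theorem km_int_ample (r : ℕ) (hdim : topologicalKrullDim Z = ((r + 1 : ℕ) : WithBot ℕ∞))
    (IH : KM.{u} k r) {M H' : Z.Modules} (hM : NefInv k Z M) (hH' : IsAmpleInv Z H')
    (i j : ℕ) (hij : i + j = r) :
    0 ≤ E k Z (List.replicate i M ++ List.replicate (j + 1) H') (Coh.structureModule Z) := by
  obtain ⟨H, hH, ⟨ε⟩⟩ := id hH'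
  have hp : (List.replicate i M ++ List.replicate (j + 1) H').Perm
      (H' :: (List.replicate i M ++ List.replicate j H')) := by
    rw [List.replicate_succ]
    exact List.perm_middle
  rw [E_perm k Z hp]
  have hinv : ∀ A ∈ List.replicate i M ++ List.replicate j H', PicF.IsInvertible A :=
    KmClass.isInvertible k ⟨M, H', i, j, rfl, hM, hH'⟩
  obtain ⟨m, G', hm, hG', hG'dim, hcut⟩ := cut_ample k Z r hdim hH ε _ hinv (by simp [hij])
  have h1 := IH Z M H' hM hH' i j hij G' hG' hG'dim
  rw [← hcut] at h1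
  have hm' : (0 : ℤ) < (m : ℤ) := by exact_mod_cast hm
  exact nonneg_of_mul_nonneg_right h1 hm'

omit [IsProper (Z ↘ Spec (CommRingCat.of k))] in
include k in
/-- a closed subscheme of full dimension of an integral scheme is everything -/
theorem eq_bot_of_dim_support_eq (n : ℕ) (hdim : topologicalKrullDim Z = ((n : ℕ) : WithBot ℕ∞))
    (V : Z.IdealSheafData)
    (hV : topologicalKrullDim (V.support : Set Z) = ((n : ℕ) : WithBot ℕ∞)) : V = ⊥ := by
  rw [← Scheme.IdealSheafData.support_eq_top_iff]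
  by_contra hne
  have hne' : (V.support : Set Z) ≠ Set.univ := by
    intro h
    apply hne
    ext x
    simp [h]
  have h1 := Groth.Agent.Lib.helper8.DimLt.topologicalKrullDim_add_one_le
    (Set.subset_univ (V.support : Set Z)) V.support.isClosed
    (IrreducibleSpace.isIrreducible_univ Z) hne'
  rw [hV, Groth.Agent.Lib.helper3.IrredDim.dim_univ_eq, hdim] at h1
  exact Groth.Agent.Lib.helper8.DimLt.not_add_one_le n h1

/-- positivity of the pure power of a mixed module, given Kleiman's statement -/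
theorem E_mixed_pos {X : Scheme.{u}} [X.Over (Spec (CommRingCat.of k))]
    [IsProper (X ↘ Spec (CommRingCat.of k))] (d : ℕ) (IH : KM.{u} k d)
    {M H' : X.Modules} (hM : NefInv k X M) (hH' : IsAmpleInv X H') (p q : ℕ) (hp : 0 < p)
    (G : X.Modules) (hG : Coh.IsCoh G)
    (hsupp : topologicalKrullDim (CohB1.support G) = ((d : ℕ) : WithBot ℕ∞)) :
    0 < E k X (List.replicate d
      (CohB1.tensorMod (CohB1.tensorPow M q) (CohB1.tensorPow H' p))) G := by
  rw [E_expand_pure k X hM.1 hH'.isInvertible p q G hG d hsupp.le]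
  apply Finset.sum_pos'
  · intro c hc
    have hc' : c ≤ d := Nat.lt_succ_iff.mp (Finset.mem_range.mp hc)
    have := IH X M H' hM hH' c (d - c) (by omega) G hG hsupp.le
    positivity
  · refine ⟨0, Finset.mem_range.mpr (Nat.succ_pos d), ?_⟩
    obtain ⟨H, hH, hε⟩ := id hH'
    obtain ⟨dd, hdd⟩ := exists_dim_le k X
    have h2 := Groth.Agent.Lib.helper7.SnapperPos.intNum_const_pos k X dd hdd H H' hH hε d G hG
      hsupp
    have h3 : F2 k X M H' G 0 (d - 0) = E k X (List.replicate d H') G := by simp [F2]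
    rw [h3, E_replicate k X dd hdd]
    have hp' : (0 : ℤ) < (p : ℤ) := by exact_mod_cast hp
    have : (0 : ℤ) < Groth.Agent.Lib.helper7.SnapperNewton.D k X dd H' d G := h2
    simp only [Nat.choose_zero_right, Nat.cast_one, pow_zero, one_mul, Nat.sub_zero]
    exact mul_pos (pow_pos hp' _) this

/-- Claim A: ampleness of `L^q ⊗ H^p` when the top self-intersection is positive -/
theorem isAmple_mixed (n : ℕ) (hdim : topologicalKrullDim Z = ((n : ℕ) : WithBot ℕ∞))
    (IH : ∀ d, d < n → KM.{u} k d) {L M H H' : Z.Modules} (hM : NefInv k Z M)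
    (εL : CohB1.tensorMod L M ≅ Coh.structureModule Z) (hL : PicF.IsInvertible L)
    (hH : CohB1.IsAmple H) (ε : CohB1.tensorMod H H' ≅ Coh.structureModule Z)
    (p q : ℕ) (hp : 0 < p)
    (hpos : 0 < E k Z (List.replicate n
      (CohB1.tensorMod (CohB1.tensorPow M q) (CohB1.tensorPow H' p))) (Coh.structureModule Z)) :
    CohB1.IsAmple (CohB1.tensorMod (CohB1.tensorPow L q) (CohB1.tensorPow H p)) := by
  haveI := Groth.Agent.Lib.Lead.CurveEuler.isNoetherian k Z
  have hH' : IsAmpleInv Z H' := ⟨H, hH, ⟨ε⟩⟩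
  set T := CohB1.tensorMod (CohB1.tensorPow L q) (CohB1.tensorPow H p) with hTdef
  set T' := CohB1.tensorMod (CohB1.tensorPow M q) (CohB1.tensorPow H' p) with hT'def
  have hT : PicF.IsInvertible T :=
    isInvertible_tensorMod (isInvertible_tensorPow hL q) (isInvertible_tensorPow hH.1 p)
  have hTT' : ClSub.IsInverseOf T T' :=
    isInverseOf_tensorMod (isInverseOf_tensorPow ⟨εL⟩ q) (isInverseOf_tensorPow ⟨ε⟩ p)
  obtain ⟨dd, hdd⟩ := exists_dim_le k Z
  refine Groth.Agent.Lib.helper7.Nakai.isAmple_of_coeff_pos k Z hT (fun V hV d hd0 hVdim Qp hQp => ?_)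
  have hF := Groth.Agent.Lib.helper7.SnapperQuot.isCoh_quotMod V
  have hsupp : topologicalKrullDim (CohB1.support (ClSub.quotMod V)) = ((d : ℕ) : WithBot ℕ∞) := by
    rw [Groth.Agent.Lib.helper7.DivisorDim.support_quotMod_eq, hVdim]
  have h1 := Groth.Agent.Lib.helper7.SnapperPos.D_top_eq k Z dd hdd T T' hT hTT' d _ hF
    hsupp.le Qp hQp
  have hdn : d ≤ n := by
    have h2 := topologicalKrullDim_subspace_le Z (V.support : Set Z)
    rw [hVdim, hdim] at h2
    exact_mod_cast h2
  have hE : 0 < E k Z (List.replicate d T') (ClSub.quotMod V) := by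
    rcases lt_or_eq_of_le hdn with hlt | heq
    · exact E_mixed_pos k d (IH d hlt) hM hH' p q hp _ hF hsupp
    · subst heq
      have hVbot := eq_bot_of_dim_support_eq k Z d hdim V hVdim
      rw [hVbot, E_iso k Z _ (Groth.Agent.Lib.helper7.RegInt.quotBotIso (X := Z))]
      exact hpos
  rw [E_replicate k Z dd hdd] at hE
  have h4 : (0 : ℚ) < (Groth.Agent.Lib.helper7.SnapperNewton.D k Z dd T' d (ClSub.quotMod V) : ℚ) := by
    exact_mod_cast hE
  rw [h1] at h4
  have hfac : (0 : ℚ) < (d.factorial : ℚ) := by exact_mod_cast Nat.factorial_pos d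
  exact (mul_pos_iff_of_pos_left hfac).mp h4

/-- the pure case: Kleiman's polynomial argument -/
theorem km_int_pure (m : ℕ) (hdim : topologicalKrullDim Z = ((m + 1 : ℕ) : WithBot ℕ∞))
    (IH : ∀ d, d < m + 1 → KM.{u} k d) {M H' : Z.Modules} (hM : NefInv k Z M)
    (hH' : IsAmpleInv Z H') :
    0 ≤ E k Z (List.replicate (m + 1) M) (Coh.structureModule Z) := by
  haveI := Groth.Agent.Lib.Lead.CurveEuler.isNoetherian k Z
  have hO : Coh.IsCoh (Coh.structureModule Z) :=
    Groth.Agent.Lib.helper8.Dev.isCoh_structureModule Z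
  have hsuppO : topologicalKrullDim (CohB1.support (Coh.structureModule Z)) =
      ((m + 1 : ℕ) : WithBot ℕ∞) := by
    rw [Groth.Agent.Lib.helper7.SnapperARR.dim_support_structureModule Z, hdim]
  obtain ⟨H, hH, ⟨ε⟩⟩ := id hH'
  obtain ⟨L, hL, -, ⟨εL⟩⟩ := Groth.Agent.Lib.helper12.InvDual.exists_inverse hM.1
  set e : ℕ → ℤ := fun c => F2 k Z M H' (Coh.structureModule Z) c (m + 1 - c) with he
  have hfin : e (m + 1) = E k Z (List.replicate (m + 1) M) (Coh.structureModule Z) := by
    simp [he, F2]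
  rw [← hfin]
  apply nonneg_of_forall_nat m e
  · -- `e 0 > 0`
    obtain ⟨dd, hdd⟩ := exists_dim_le k Z
    have h2 := Groth.Agent.Lib.helper7.SnapperPos.intNum_const_pos k Z dd hdd H H' hH ⟨ε⟩ (m + 1)
      _ hO hsuppO
    have h3 : e 0 = E k Z (List.replicate (m + 1) H') (Coh.structureModule Z) := by
      simp [he, F2]
    rw [h3, E_replicate k Z dd hdd]
    exact h2
  · -- `e c ≥ 0` for `c ≤ m`
    intro c hc
    have h1 : m + 1 - c = (m - c) + 1 := by omega
    show 0 ≤ F2 k Z M H' (Coh.structureModule Z) c (m + 1 - c)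
    rw [h1]
    exact km_int_ample k Z m hdim (IH m (Nat.lt_succ_self m)) hM hH' c (m - c) (by omega)
  · -- the implication
    intro p q hp hq hP
    have hexp := E_expand_pure k Z hM.1 hH'.isInvertible p q _ hO (m + 1) hsuppO.le
    have hP' : 0 < E k Z (List.replicate (m + 1)
        (CohB1.tensorMod (CohB1.tensorPow M q) (CohB1.tensorPow H' p)))
        (Coh.structureModule Z) := by
      rw [hexp]
      exact hP
    have hamp := isAmple_mixed k Z (m + 1) hdim IH hM εL hL hH ε p q hp hP'
    have hT'inv : IsAmpleInv Z (CohB1.tensorMod (CohB1.tensorPow M q) (CohB1.tensorPow H' p)) :=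
      ⟨_, hamp, isInverseOf_tensorMod (isInverseOf_tensorPow ⟨εL⟩ q)
        (isInverseOf_tensorPow ⟨ε⟩ p)⟩
    have hgen := gen k goodPred_nonneg m Z M
      (List.replicate m (CohB1.tensorMod (CohB1.tensorPow M q) (CohB1.tensorPow H' p))) hM
      (fun T' hT' => by rw [List.eq_of_mem_replicate hT']; exact hT'inv) (by simp)
      (Coh.structureModule Z) hO hsuppO.le
    rw [E_expand_one k Z hM.1 hH'.isInvertible p q _ hO m hsuppO.le] at hgen
    refine hgen.trans (le_of_eq ?_)
    apply Finset.sum_congr rfl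
    intro c _
    show _ = _ * F2 k Z M H' (Coh.structureModule Z) (c + 1) (m + 1 - (c + 1))
    rw [Nat.add_sub_add_right]

end Int

/-- **Kleiman's theorem** (projective case) -/
theorem km : ∀ n : ℕ, KM.{u} k n := by
  intro n
  induction n using Nat.strong_induction_on with
  | _ n IH =>
    apply km_of_int
    intro Z _ _ _ hdim M H' hM hH' i j hij
    cases j with
    | zero =>
      rw [List.replicate_zero, List.append_nil]
      have hin : i = n := by omega
      subst hin
      cases i with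
      | zero =>
        rw [List.replicate_zero, E_nil]
        exact (Groth.Agent.Lib.helper7.SnapperPos.euler_structure_pos k Z hdim.le).le
      | succ m => exact km_int_pure k Z m hdim IH hM hH'
    | succ j =>
      have hn : n = (i + j) + 1 := by omega
      subst hn
      exact km_int_ample k Z (i + j) hdim (IH (i + j) (Nat.lt_succ_self _)) hM hH' i j rfl

section Final

variable (X : Scheme.{u}) [X.Over (Spec (CommRingCat.of k))]
  [IsProper (X ↘ Spec (CommRingCat.of k))]

/-- the inverse of a nef module satisfies `NefInv` -/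
theorem nefInv_of_nef {L M : X.Modules} (hL : PicF.IsInvertible L) (hM : PicF.IsInvertible M)
    (εL : CohB1.tensorMod L M ≅ Coh.structureModule X)
    (hnef : ∀ C : X.IdealSheafData, IsIntegral C.subscheme →
      topologicalKrullDim (C.support : Set X) = 1 → 0 ≤ nefq k X C L) : NefInv k X M := by
  refine ⟨hM, fun C hCi hC => ?_⟩
  have hQ := Groth.Agent.Lib.helper7.SnapperQuot.isCoh_quotMod C
  have hd : topologicalKrullDim (CohB1.support (ClSub.quotMod C)) ≤
      ((([] : List X.Modules).length + 1 : ℕ) : WithBot ℕ∞) := by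
    rw [Groth.Agent.Lib.helper7.DivisorDim.support_quotMod_eq, hC]
    rfl
  have hnil : ∀ A ∈ ([] : List X.Modules), PicF.IsInvertible A :=
    fun _ h => absurd h List.not_mem_nil
  show 0 ≤ - nefq k X C M
  rw [neg_nefq_eq_E, E_inv k X L M hL hM εL [] hnil _ hQ hd, ← neg_nefq_eq_E, neg_neg]
  exact hnef C hCi hC

/-- **nef ⊗ ample is ample** -/
theorem isAmple_tensorPow_tensor_of_nef {L A : X.Modules} (hL : PicF.IsInvertible L)
    (hA : CohB1.IsAmple A)
    (hnef : ∀ C : X.IdealSheafData, IsIntegral C.subscheme →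
      topologicalKrullDim (C.support : Set X) = 1 → 0 ≤ nefq k X C L) (ν : ℕ) :
    CohB1.IsAmple (CohB1.tensorMod (CohB1.tensorPow L ν) A) := by
  haveI := Groth.Agent.Lib.Lead.CurveEuler.isNoetherian k X
  obtain ⟨M, hM, ⟨εL⟩, -⟩ := Groth.Agent.Lib.helper12.InvDual.exists_inverse hL
  obtain ⟨A', hA', ⟨εA⟩, -⟩ := Groth.Agent.Lib.helper12.InvDual.exists_inverse hA.1
  have hMnef : NefInv k X M := nefInv_of_nef k X hL hM εL hnef
  have hA'inv : IsAmpleInv X A' := ⟨A, hA, ⟨εA⟩⟩
  set T := CohB1.tensorMod (CohB1.tensorPow L ν) (CohB1.tensorPow A 1) with hTdef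
  set T' := CohB1.tensorMod (CohB1.tensorPow M ν) (CohB1.tensorPow A' 1) with hT'def
  have hT : PicF.IsInvertible T :=
    isInvertible_tensorMod (isInvertible_tensorPow hL ν) (isInvertible_tensorPow hA.1 1)
  have hTT' : ClSub.IsInverseOf T T' :=
    isInverseOf_tensorMod (isInverseOf_tensorPow ⟨εL⟩ ν) (isInverseOf_tensorPow ⟨εA⟩ 1)
  have hTamp : CohB1.IsAmple T := by
    obtain ⟨dd, hdd⟩ := exists_dim_le k X
    refine Groth.Agent.Lib.helper7.Nakai.isAmple_of_coeff_pos k X hT
      (fun V hV d hd0 hVdim Qp hQp => ?_)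
    have hF := Groth.Agent.Lib.helper7.SnapperQuot.isCoh_quotMod V
    have hsupp : topologicalKrullDim (CohB1.support (ClSub.quotMod V)) =
        ((d : ℕ) : WithBot ℕ∞) := by
      rw [Groth.Agent.Lib.helper7.DivisorDim.support_quotMod_eq, hVdim]
    have h1 := Groth.Agent.Lib.helper7.SnapperPos.D_top_eq k X dd hdd T T' hT hTT' d _ hF
      hsupp.le Qp hQp
    have hE := E_mixed_pos k d (km k d) hMnef hA'inv 1 ν one_pos _ hF hsupp
    rw [E_replicate k X dd hdd] at hE
    have h4 : (0 : ℚ) <
        (Groth.Agent.Lib.helper7.SnapperNewton.D k X dd T' d (ClSub.quotMod V) : ℚ) := by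
      exact_mod_cast hE
    rw [h1] at h4
    have hfac : (0 : ℚ) < (d.factorial : ℚ) := by exact_mod_cast Nat.factorial_pos d
    exact (mul_pos_iff_of_pos_left hfac).mp h4
  exact Groth.Agent.Lib.helper12.AmplePow.isAmple_of_iso
    (tensorIso (Iso.refl _) (tensorPowOne A)) hTamp

/-- additivity of the degree on a curve -/
theorem nefq_tensorMod {P Q : X.Modules} (hP : PicF.IsInvertible P) (hQ : PicF.IsInvertible Q)
    (C : X.IdealSheafData) (hC : topologicalKrullDim (C.support : Set X) = 1) :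
    nefq k X C (CohB1.tensorMod P Q) = nefq k X C P + nefq k X C Q := by
  have hF := Groth.Agent.Lib.helper7.SnapperQuot.isCoh_quotMod C
  have hd : topologicalKrullDim (CohB1.support (ClSub.quotMod C)) ≤
      ((([] : List X.Modules).length + 1 : ℕ) : WithBot ℕ∞) := by
    rw [Groth.Agent.Lib.helper7.DivisorDim.support_quotMod_eq, hC]
    rfl
  have hnil : ∀ A ∈ ([] : List X.Modules), PicF.IsInvertible A :=
    fun _ h => absurd h List.not_mem_nil
  have h := E_tensor k X P Q hP hQ [] hnil _ hF hd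
  rw [← neg_nefq_eq_E, ← neg_nefq_eq_E, ← neg_nefq_eq_E] at h
  linarith

/-- if all `L^ν ⊗ A` are ample then `L` is nef -/
theorem nef_of_forall_isAmple {L A : X.Modules} (hL : PicF.IsInvertible L)
    (hA : CohB1.IsAmple A)
    (hamp : ∀ ν : ℕ, 0 < ν → CohB1.IsAmple (CohB1.tensorMod (CohB1.tensorPow L ν) A))
    (C : X.IdealSheafData) (hCi : IsIntegral C.subscheme)
    (hC : topologicalKrullDim (C.support : Set X) = 1) : 0 ≤ nefq k X C L := by
  haveI := hCi
  by_contra hneg
  rw [not_le] at hneg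
  have hApos := Groth.Agent.Lib.helper7.NefAmple.nefq_pos_of_isAmple k X hA C hCi hC
  set ν := (nefq k X C A).toNat + 1 with hν
  have h1 := Groth.Agent.Lib.helper7.NefAmple.nefq_pos_of_isAmple k X (hamp ν (Nat.succ_pos _)) C
    hCi hC
  rw [nefq_tensorMod k X (isInvertible_tensorPow hL ν) hA.1 C hC,
    Groth.Agent.Lib.helper7.NefAmple.nefq_tensorPow k X hL C hC ν] at h1
  have h2 : ((ν : ℕ) : ℤ) = nefq k X C A + 1 := by
    rw [hν]
    push_cast
    rw [Int.toNat_of_nonneg hApos.le]
  have h3 : (ν : ℤ) * nefq k X C L ≤ -(ν : ℤ) := by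
    have : nefq k X C L ≤ -1 := by omega
    have hν0 : (0 : ℤ) ≤ (ν : ℤ) := Int.natCast_nonneg ν
    nlinarith
  linarith

end Final

end Groth.Agent.Lib.helper7.IntList
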