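import Mathlib
import Groth.Agent.Lib.Helper20.DualProjCM
import Groth.Agent.Lib.Helper21.OmegaLocal4
import Groth.Agent.Lib.Helper19.ProjSpaceProper
import Groth.Agent.Lib.Helper20.PnLocalRing
import Groth.Agent.Lib.Helper18.ProjBasic
import Groth.Agent.Lib.Helper28.TwistPn
import Groth.Agent.Lib.Helper11.InvHom
import Groth.Agent.Lib.Helper16.FLF5

/-!
# The dualizing pair of an integral projective scheme, with generic triviality (helper7)

* `exists_dualizing_generic`: for `X` integral, closed in `ℙᴺ_k`, of dimension `n`: a coherent `ω`, a trace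
  `t : Hⁿ(X, ω) → k` with `Hom(F, ω) ≃ Hⁿ(X, F)^∨` for all coherent `F`, and a nonempty open on which `ω` is trivial.
-/

set_option autoImplicit false
set_option linter.unusedSectionVars false
set_option linter.unusedVariables false
set_option linter.style.haveILetI false

universe u

open CategoryTheory Limits AlgebraicGeometry Opposite Abelian

namespace Groth.Agent.Lib.helper7.SurfH2

open Groth.Agent.Lib.Helper20.DualDev Groth.Agent.Lib.Helper20.DualProjCM
  Groth.Agent.Lib.Helper20.LargeTwist Groth.Agent.Lib.helper11.InvMod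

attribute [local instance] Groth.Agent.Lib.helper21.ShHomCoh.hasInjRes
  Groth.Agent.Lib.Helper20.LargeTwist.hasSheafHom'

variable (k : Type u) [Field k] (N : ℕ) {X : Scheme.{u}} [X.Over (Spec (CommRingCat.of k))]
  (ι : X ⟶ CohB1.ProjSpace N k) [IsClosedImmersion ι]
  (hι : ι ≫ CohB1.ProjSpace.toSpec N k = X ↘ Spec (CommRingCat.of k))

include hι in
theorem exists_dualizing_generic [IsIntegral X] (n : ℕ) (hn : topologicalKrullDim ↥X = n) :
    ∃ (ω : X.Modules) (_ : Coh.IsCoh ω) (t : Coh.HH X ω n →ₗ[k] k),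
      (∀ F : X.Modules, Coh.IsCoh F → Good k t F) ∧
      ∃ V : X.Opens, (V : Set X).Nonempty ∧ IsTrivOn ω V := by
  have hnN : n ≤ N := by
    have h1 : topologicalKrullDim ↥X ≤ topologicalKrullDim ↥(CohB1.ProjSpace N k) :=
      ι.isClosedEmbedding.topologicalKrullDim_le
    rw [hn, Groth.Agent.Lib.Helper18.ProjBasic.topologicalKrullDim_projSpace] at h1
    exact_mod_cast h1
  have hvan : ∀ q : ℕ, q < N - n → IsZero ((ModSite.extSh (O := (CohB1.ProjSpace N k).sheaf)
      ((Scheme.Modules.pushforward ι).obj (Coh.structureModule X)) q).obj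
        (Twist.twistProjSpace N k (-((N : ℤ) + 1)))) := by
    intro q hq
    refine isZero_extSh_push_of_lt_codim k N ι (N - n) ?_ q hq
    rw [hn]
    exact_mod_cast (show n + (N - n) ≤ N by omega)
  obtain ⟨ω, ⟨eω⟩⟩ := exists_omega k N ι (N - n)
  obtain ⟨t, ht⟩ := Groth.Agent.Lib.Helper20.DualProj.exists_dualizing k N ι hι n hnN hvan ω ⟨eω⟩
  have hcohE : Coh.IsCoh ((ModSite.extSh (O := (CohB1.ProjSpace N k).sheaf)
      ((Scheme.Modules.pushforward ι).obj (Coh.structureModule X)) (N - n)).obj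
        (Twist.twistProjSpace N k (-((N : ℤ) + 1)))) :=
    Groth.Agent.Lib.helper21.ShHomCoh.isCoh_T (N - n) _ _ _
      (isCoh_push_structureModule k N ι) (isCoh_twistProjSpace k N _)
  have hω : Coh.IsCoh ω := isCoh_of_isCoh_pushforward ι ω
    (Groth.Agent.Lib.helper21.ShHomCoh.isCoh_of_iso' eω.symm hcohE)
  refine ⟨ω, hω, t, ht, ?_⟩
  -- generic triviality
  haveI hprop : IsProper (CohB1.ProjSpace.toSpec N k) :=
    Groth.Agent.Lib.helper19.ProjSpaceProper.proper_toSpec N k
  letI : (CohB1.ProjSpace N k).Over (Spec (CommRingCat.of k)) := ⟨CohB1.ProjSpace.toSpec N k⟩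
  haveI hlft : LocallyOfFiniteType ((CohB1.ProjSpace N k) ↘ Spec (CommRingCat.of k)) := by
    change LocallyOfFiniteType (CohB1.ProjSpace.toSpec N k)
    infer_instance
  haveI : IsIntegral (CohB1.ProjSpace N k) :=
    Groth.Agent.Lib.Helper18.ProjBasic.isIntegral_projSpace N k
  have hPdim : topologicalKrullDim (CohB1.ProjSpace N k) ≤ (N : WithBot ℕ∞) :=
    (Groth.Agent.Lib.Helper18.ProjBasic.topologicalKrullDim_projSpace N k).le
  have hP : ∀ Z : Set ↥(CohB1.ProjSpace N k), Z ∈ irreducibleComponents ↥(CohB1.ProjSpace N k) →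
      topologicalKrullDim ↥Z = (N : WithBot ℕ∞) := by
    intro Z hZ
    rw [irreducibleComponents_eq_singleton, Set.mem_singleton_iff] at hZ
    subst hZ
    rw [← Groth.Agent.Lib.Helper18.ProjBasic.topologicalKrullDim_projSpace N k]
    exact IsHomeomorph.topologicalKrullDim_eq _
      (Homeomorph.Set.univ ↥(CohB1.ProjSpace N k)).isHomeomorph
  have heq : ∀ Z : Set ↥X, Z ∈ irreducibleComponents ↥X →
      topologicalKrullDim ↥Z = (n : WithBot ℕ∞) := by
    intro Z hZ
    rw [irreducibleComponents_eq_singleton, Set.mem_singleton_iff] at hZ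
    subst hZ
    rw [← hn]
    exact IsHomeomorph.topologicalKrullDim_eq _ (Homeomorph.Set.univ ↥X).isHomeomorph
  have hreg := Groth.Agent.Lib.Helper20.PnLocalRing.isRegularLocalRing_stalk N k
  have hinv := Groth.Agent.Lib.helper28.TwistPn.isInvertible N k (-((N : ℤ) + 1))
  have hL1 : FlatMod.IsFinLocFreeOfRank 1 (Twist.twistProjSpace N k (-((N : ℤ) + 1))) :=
    (Groth.Agent.Lib.helper16.FLF.isInvertible_iff_isFinLocFreeOfRank_one _).mp hinv
  haveI : IsLocallyNoetherian (CohB1.ProjSpace N k) :=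
    LocallyOfFiniteType.isLocallyNoetherian ((CohB1.ProjSpace N k) ↘ Spec (CommRingCat.of k))
  haveI : ω.IsQuasicoherent := hω.1
  set ξ := genericPoint X with hξdef
  have hξ : closure ({ξ} : Set X) ∈ irreducibleComponents X := by
    rw [irreducibleComponents_eq_singleton, Set.mem_singleton_iff]
    exact (genericPoint_spec X).def
  obtain ⟨V, hξV, ⟨iso⟩⟩ := Groth.Agent.Lib.helper21.OmegaLocal.exists_open_restrict_iso_freeMod
    ι _ hL1 ω ξ (N - n) (hreg _)
    (Groth.Agent.Lib.helper21.OmegaLocal.ringKrullDim_stalk_of_generic k (CohB1.ProjSpace N k) N n hnN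
      hP hPdim ι heq ξ hξ)
    (isField_stalk_of_closure_mem_irreducibleComponents X ξ hξ) eω
  exact ⟨V, ⟨ξ, hξV⟩, ⟨iso ≪≫ Groth.Agent.Lib.helper16.FLF.freeModOneIso _⟩⟩

end Groth.Agent.Lib.helper7.SurfH2
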