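import Mathlib
import Groth.Agent.Lib.Helper18.NNComplex
import Groth.Agent.Lib.Helper11.InvMod
import Groth.Agent.Lib.Helper11.InvPullback

/-!
# Degree zero base change for the structure sheaf without comparison data (helper7)

* `pullbackUnitHom_unit_one`: the unit of `g^* ⊣ g_*` sends `1 ∈ Γ(Y, O_Y)` to `1 ∈ Γ(X, g^*O_Y) ≅ Γ(X, O_X)`.
* `ΘX g : H⁰(X, g^*O_Y) ≃ Γ(X, O_X)` and `ΘX_pullMod_one`.
* `span_ιH_zero`: if `L` computes the cohomology of `O_Y` naturally (`ComputesNat`) and `B → Γ(Y_B, O)` is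
  surjective, then the image of `H⁰(L) → H⁰(L ⊗ B)` spans.
-/

set_option autoImplicit false
universe u

open CategoryTheory CategoryTheory.Limits Opposite TopologicalSpace AlgebraicGeometry

namespace Groth.Agent.Lib.helper7.H0Span

open Groth.Agent.Lib.Helper18.BCHom Groth.Agent.Lib.Helper18.NNComplex
  Groth.Agent.Lib.helper11.InvMod Groth.Agent.Lib.Helper18 Groth.Agent.Lib.helper11.InvPullback

section unit

variable {X Y : Scheme.{u}} (g : X ⟶ Y)

/-- the unit of `g^* ⊣ g_*` sends the section `1` of `O_Y` to the section `1` of `g^* O_Y ≅ O_X` -/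
theorem pullbackUnitHom_unit_one :
    ((pullbackUnitHom g).val.app (op ⊤)).hom
      ((((Scheme.Modules.pullbackPushforwardAdjunction g).unit.app
        (Coh.structureModule Y)).val.app (op ⊤)).hom (1 : Coh.Γtop Y)) = (1 : Coh.Γtop X) := by
  have h0 : (Scheme.Modules.pullbackPushforwardAdjunction g).homEquiv _ _ (pullbackUnitHom g) =
      unitToPush g := by
    rw [pullbackUnitHom_eq, Equiv.apply_symm_apply]
  have h1 : (Scheme.Modules.pullbackPushforwardAdjunction g).unit.app (Coh.structureModule Y) ≫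
      (Scheme.Modules.pushforward g).map (pullbackUnitHom g) = unitToPush g :=
    ((Scheme.Modules.pullbackPushforwardAdjunction g).homEquiv_unit _ _ _).symm.trans h0
  have h2 := congr_arg (fun t : Coh.structureModule Y ⟶
      (Scheme.Modules.pushforward g).obj (Coh.structureModule X) =>
        (t.val.app (op ⊤)).hom (1 : Coh.Γtop Y)) h1
  have h3 : ((unitToPush g).val.app (op ⊤)).hom (1 : Coh.Γtop Y) = (1 : Coh.Γtop X) :=
    map_one (g.app ⊤).hom
  exact h2.trans h3

/-- `H⁰(X, g^*O_Y) ≃ Γ(X, O_X)` -/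
noncomputable def ΘX :
    Coh.HH X ((Scheme.Modules.pullback g).obj (Coh.structureModule Y)) 0 ≃ₗ[Coh.Γtop X]
      Coh.Γtop X :=
  (HH.equiv₀ _).trans
    ((SheafOfModules.evaluation _ (op ⊤)).mapIso (pullbackUnitIso g)).toLinearEquiv

theorem ΘX_apply (z : Coh.HH X ((Scheme.Modules.pullback g).obj (Coh.structureModule Y)) 0) :
    ΘX g z = ((pullbackUnitHom g).val.app (op ⊤)).hom
      (Sheaf.H.equiv₀ (Coh.toAb ((Scheme.Modules.pullback g).obj (Coh.structureModule Y)))
        isTerminalTop z) := rfl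

theorem ΘX_pullMod_one (s₁ : Coh.HH Y (Coh.structureModule Y) 0)
    (hs₁ : HH.equiv₀ (Coh.structureModule Y) s₁ = (1 : Coh.Γtop Y)) :
    ΘX g (CohPull.pullMod g (Coh.structureModule Y) 0 s₁) = (1 : Coh.Γtop X) := by
  have h1 := CohPull.equiv₀_pullMod g (Coh.structureModule Y) s₁
  have h2 : Sheaf.H.equiv₀ (Coh.toAb (Coh.structureModule Y)) isTerminalTop s₁ =
      (1 : Coh.Γtop Y) := hs₁
  rw [ΘX_apply, h1, h2]
  exact pullbackUnitHom_unit_one g

end unit

section span

variable {A : Type u} [CommRing A] {Y : Scheme.{u}} (fY : Y ⟶ Spec (CommRingCat.of A))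
  (L : CochainComplex (ModuleCat.{u} A) ℤ)

/-- if `L` computes the cohomology of `O_Y` naturally and `B → Γ(Y_B, O)` is surjective, the image of
`H⁰(L) → H⁰(L ⊗ B)` spans -/
theorem span_ιH_zero (hL : ComputesNat A fY (Coh.structureModule Y) L)
    (B : Type u) [CommRing B] [Algebra A B] (Y' : Scheme.{u})
    (fY' : Y' ⟶ Spec (CommRingCat.of B)) (g' : Y' ⟶ Y)
    (hpb : IsPullback g' fY' fY (Spec.map (CommRingCat.ofHom (algebraMap A B))))
    (hsurj : Function.Surjective (Coh.toGlobal fY')) :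
    Submodule.span B (Set.range (ιH (algebraMap A B) L ((0 : ℕ) : ℤ))) = ⊤ := by
  obtain ⟨e₀, he₀, H⟩ := hL 0
  obtain ⟨e, he, hnat⟩ := H B Y' fY' g' hpb
  obtain ⟨x₁, hx₁⟩ : ∃ x₁, HH.equiv₀ (Coh.structureModule Y) (e₀ x₁) = (1 : Coh.Γtop Y) :=
    ⟨e₀.symm ((HH.equiv₀ (Coh.structureModule Y)).symm (1 : Coh.Γtop Y)), by
      rw [e₀.apply_symm_apply]; exact (HH.equiv₀ (Coh.structureModule Y)).apply_symm_apply _⟩
  rw [eq_top_iff]
  intro y _
  obtain ⟨b, hb⟩ := hsurj (ΘX g' (e y))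
  have hy : y = b • ιH (algebraMap A B) L ((0 : ℕ) : ℤ) x₁ := by
    apply e.injective
    apply (ΘX g').injective
    rw [he, hnat, map_smul, ΘX_pullMod_one g' _ hx₁, smul_eq_mul, mul_one, hb]
  rw [hy]
  exact Submodule.smul_mem _ _ (Submodule.subset_span ⟨x₁, rfl⟩)

end span

end Groth.Agent.Lib.helper7.H0Span
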