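import Mathlib
import Groth.Agent.Lib.Helper7.H0Span
import Groth.Agent.Lib.Helper18.NNMaster0
import Groth.Agent.Lib.Lead.GrothVanish
import Groth.Agent.Lib.Helper21.GCStein2
import Groth.Agent.S0030

/-!
# `R¹f_*O_X` is finite locally free for a flat proper family of curves with `h⁰ = 1` (helper7)

No comparison data (`SectCmp`, `GenBC`) is used: everything goes through helper18's chart complexes
(`NNMaster0.master₀`) and the degree zero span lemma `H0Span.span_ιH_zero`.

* `exists_gsplit_zero`: if `Γ(X_s, O) = κ(s)` the differential `L⁰ ⟶ L¹` of any chart complex of `O_X`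
  splits near `s`.
* `isFinLocFree_Rpush_succ_of_gsplit`: the local freeness criterion of `R^{q+1} f_* F`.
* `isFinLocFree_R1_structureModule`.
-/

set_option autoImplicit false
universe u

open CategoryTheory CategoryTheory.Limits Opposite TopologicalSpace AlgebraicGeometry

namespace Groth.Agent.Lib.helper7.R1Free

open Groth.Agent.Lib.Helper18.BCHom Groth.Agent.Lib.Helper18.NNComplex
  Groth.Agent.Lib.Helper18.NNChart Groth.Agent.Lib.Helper18.NNMaster
  Groth.Agent.Lib.Helper18.NNMaster0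
  Groth.Agent.Lib.Helper18.NNRows Groth.Agent.Lib.Helper18.NNFibre
  Groth.Agent.Lib.Helper18.NNLocal Groth.Agent.Lib.Helper18.SplitAlg
  Groth.Agent.Lib.helper21.GCBase Groth.Agent.Lib.helper8.GenBCChart
  Groth.Agent.Lib.helper8.PullbackUnit Groth.Agent.Lib.helper8.EpsAffine
  Groth.Agent.Lib.helper7.H0Span Groth.Agent.Lib.helper25.FLFLocus
open Scheme.Modules

section gsplit

variable {X S : Scheme.{u}} (f : X ⟶ S) {W : S.Opens} (hW : IsAffineOpen W)
  (L : CochainComplex (ModuleCat.{u} Γ(S, W)) ℤ)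
  (hLff : ∀ i, Module.Finite Γ(S, W) (L.X i) ∧ Module.Free Γ(S, W) (L.X i))
  (hL : ComputesNat Γ(S, W) (fU f hW (le_refl (f ⁻¹ᵁ W)))
    ((Coh.structureModule X).restrict (f ⁻¹ᵁ W).ι) L)

include hLff hL in
/-- if `Γ(X_s, O) = κ(s)`, the differential `L⁰ ⟶ L¹` of a chart complex of `O_X` splits near `s` -/
theorem exists_gsplit_zero (s : S) (hsW : s ∈ W)
    (h0 : IsIso (f.fiberToSpecResidueField s).appTop) :
    ∃ a : Γ(S, W), s ∈ S.basicOpen a ∧ GSplit (L.sc ((0 : ℕ) : ℤ)) a := by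
  have hsq : IsPullback (f.fiberι s) (f.fiberToSpecResidueField s) f
      (S.fromSpecResidueField s) := IsPullback.of_hasPullback _ _
  have htop := top_le_preimage s hsW
  have hW' := isAffineOpen_top (Spec (S.residueField s))
  have hL' : ComputesNat Γ(S, W) (fU f hW (le_refl (f ⁻¹ᵁ W)))
      (Coh.structureModule (↑(f ⁻¹ᵁ W) : Scheme.{u})) L :=
    ComputesNat.of_iso _ (Scheme.Modules.restrictUnitIso (f ⁻¹ᵁ W).ι) hL
  have hpb := isPullback_chart₁ f (S.fromSpecResidueField s) (f.fiberι s)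
    (f.fiberToSpecResidueField s) hsq hW hW' htop
  letI : Algebra Γ(S, W) Γ(Spec (S.residueField s), ⊤) :=
    ((S.fromSpecResidueField s).appLE W ⊤ htop).hom.toAlgebra
  have hsurj : Function.Surjective
      (Coh.toGlobal (fU (f.fiberToSpecResidueField s) hW'
        (le_refl ((f.fiberToSpecResidueField s) ⁻¹ᵁ ⊤)))) := by
    intro r
    obtain ⟨r', rfl⟩ := (ConcreteCategory.bijective_of_isIso
      ((f.fiberToSpecResidueField s) ⁻¹ᵁ ⊤).topIso.inv).2 r
    obtain ⟨b, rfl⟩ := (ConcreteCategory.bijective_of_isIso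
      (f.fiberToSpecResidueField s).appTop).2 r'
    refine ⟨b, ?_⟩
    rw [toGlobal_fU, Scheme.Hom.appLE_eq_app]
    rfl
  have hspan := span_ιH_zero (fU f hW (le_refl (f ⁻¹ᵁ W))) L hL'
    Γ(Spec (S.residueField s), ⊤) _
    (fU (f.fiberToSpecResidueField s) hW' (le_refl _)) _ hpb hsurj
  haveI : Module.Finite Γ(S, W) (L.sc ((0 : ℕ) : ℤ)).X₂ := (hLff _).1
  haveI : Module.Free Γ(S, W) (L.sc ((0 : ℕ) : ℤ)).X₂ := (hLff _).2
  haveI : Module.Finite Γ(S, W) (L.sc ((0 : ℕ) : ℤ)).X₃ := (hLff _).1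
  haveI : Module.Free Γ(S, W) (L.sc ((0 : ℕ) : ℤ)).X₃ := (hLff _).2
  obtain ⟨a, ha, hsplit⟩ := exists_gsplit_of_span_isField (isField_Γ_residueField s)
    ((S.fromSpecResidueField s).appLE W ⊤ htop).hom (L.sc ((0 : ℕ) : ℤ)) hspan
  exact ⟨a, (mem_basicOpen_iff_ne_zero s hsW a).mpr ha, hsplit⟩

end gsplit

section free

variable {X S : Scheme.{u}} (f : X ⟶ S) [IsProper f] [LocallyOfFinitePresentation f]
  [HasInjectiveResolutions X.Modules]
  (F : X.Modules) [F.IsQuasicoherent] (hfp : CohB1.IsFP F) (hfl : FlatMod.IsFlatOver f F)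

include hfp hfl in
/-- local freeness of `R^{q+1} f_* F` from the vanishing of `H^{q+2}` of the fibres and the splitting of the
degree `q` differential of the chart complexes -/
theorem isFinLocFree_Rpush_succ_of_gsplit (q : ℕ)
    (hq2 : ∀ y : S, Subsingleton (CohIII.fiberH f F y (q + 2)))
    (hsplit : ∀ (y : S) (W : S.Opens) (hW : IsAffineOpen W)
      (L : CochainComplex (ModuleCat.{u} Γ(S, W)) ℤ),
      (∀ i, Module.Finite Γ(S, W) (L.X i) ∧ Module.Free Γ(S, W) (L.X i)) →
      ComputesNat Γ(S, W) (fU f hW (le_refl (f ⁻¹ᵁ W))) (F.restrict (f ⁻¹ᵁ W).ι) L →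
      y ∈ W → ∃ a : Γ(S, W), y ∈ S.basicOpen a ∧ GSplit (L.sc (q : ℤ)) a) :
    FlatMod.IsFinLocFree ((Coh.Rpush f (q + 1)).obj F) := by
  classical
  haveI : ∀ n, ((Coh.Rpush f n).obj F).IsQuasicoherent := fun n => Groth.Agent.S0030.result f F n
  intro y
  obtain ⟨W, hW', hyW, -⟩ := TopologicalSpace.Opens.isBasis_iff_nbhd.mp S.isBasis_affineOpens
    (show y ∈ (⊤ : S.Opens) from trivial)
  have hW : IsAffineOpen W := hW'
  obtain ⟨L, hLff, -, -, hL, hΘ⟩ := master₀ f F hfp hfl hW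
  obtain ⟨Θ1⟩ := hΘ (q + 1)
  obtain ⟨a2, hya2, -, hf2, -⟩ := exists_splits_of_vanish f hW F L hLff hL y hyW (q + 2) (hq2 y)
  obtain ⟨a0, hya0, hg0⟩ := hsplit y W hW L hLff hL hyW
  have hrel0 : (ComplexShape.up ℤ).Rel (q : ℤ) ((q + 1 : ℕ) : ℤ) := by
    show (q : ℤ) + 1 = ((q + 1 : ℕ) : ℤ)
    push_cast; ring
  have hrel1 : (ComplexShape.up ℤ).Rel ((q + 1 : ℕ) : ℤ) ((q + 2 : ℕ) : ℤ) := by
    show ((q + 1 : ℕ) : ℤ) + 1 = ((q + 2 : ℕ) : ℤ)
    push_cast; ring
  have hf1 : FSplit (L.sc ((q + 1 : ℕ) : ℤ)) a0 := (fsplit_iff_gsplit L hrel0 a0).mpr hg0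
  have hg1 : GSplit (L.sc ((q + 1 : ℕ) : ℤ)) a2 := (fsplit_iff_gsplit L hrel1 a2).mp hf2
  have hmul : S.basicOpen (a0 * a2) = S.basicOpen a0 ⊓ S.basicOpen a2 :=
    Scheme.basicOpen_mul S a0 a2
  haveI : Module.Finite Γ(S, W) (L.sc ((q + 1 : ℕ) : ℤ)).X₂ := (hLff _).1
  haveI : Module.Free Γ(S, W) (L.sc ((q + 1 : ℕ) : ℤ)).X₂ := (hLff _).2
  obtain ⟨p1, p2⟩ := projective_sections_basicOpen ((Coh.Rpush f (q + 1)).obj F) hW
    (L.sc ((q + 1 : ℕ) : ℤ)) Θ1 (a0 * a2) a0 a2 hf1 hg1 (hmul.le.trans inf_le_left)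
    (hmul.le.trans inf_le_right)
  exact freeNear_of_projective_sections _ (hW.basicOpen (a0 * a2)) p1 p2 y
    (by rw [hmul]; exact ⟨hya0, hya2⟩)

end free

section main

variable {X S : Scheme.{u}} (f : X ⟶ S) [IsProper f] [Flat f] [LocallyOfFinitePresentation f]
  [HasInjectiveResolutions X.Modules]

theorem isFP_structureModule (X : Scheme.{u}) : CohB1.IsFP (Coh.structureModule X) :=
  Groth.Agent.Lib.helper16.FLF.isFinitePresentation_of_isFinLocFree _
    (Groth.Agent.Lib.helper16.FLF.isFinLocFree_structureModule X)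

theorem isQuasicoherent_structureModule (X : Scheme.{u}) :
    (Coh.structureModule X).IsQuasicoherent :=
  Groth.Agent.Lib.helper16.FLF.isQuasicoherent_of_isFinLocFree _
    (Groth.Agent.Lib.helper16.FLF.isFinLocFree_structureModule X)

/-- vanishing of the cohomology of the fibres above their dimension -/
theorem subsingleton_fiberH_of_dim_le (F : X.Modules) (d : ℕ)
    (hd : ∀ s : S, topologicalKrullDim (f.fiber s) ≤ d) (s : S) (i : ℕ) (hi : d < i) :
    Subsingleton (CohIII.fiberH f F s i) := by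
  haveI : IsProper (f.fiberToSpecResidueField s) :=
    MorphismProperty.of_isPullback (IsPullback.of_hasPullback f (S.fromSpecResidueField s))
      inferInstance
  haveI : CompactSpace (f.fiber s) :=
    QuasiCompact.compactSpace_of_compactSpace (f.fiberToSpecResidueField s)
  haveI : QuasiSeparatedSpace (f.fiber s) :=
    quasiSeparatedSpace_of_quasiSeparated (f.fiberToSpecResidueField s)
  exact Groth.Agent.Lib.Lead.GrothVanish.subsingleton_HH_of_dim_le (f.fiber s) d (hd s) _ i hi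

/-- **`R¹f_*O_X` is finite locally free** for `f` flat, proper, locally of finite presentation with fibres of
dimension at most one and `Γ(X_s, O) = κ(s)` for all `s`. -/
theorem isFinLocFree_R1_structureModule
    (hdim : ∀ s : S, topologicalKrullDim ↥(f.fiber s) ≤ 1)
    (h0 : ∀ s : S, IsIso (f.fiberToSpecResidueField s).appTop) :
    FlatMod.IsFinLocFree ((Coh.Rpush f 1).obj (Coh.structureModule X)) := by
  have hfl := Groth.Agent.Lib.helper21.GCStein.isFlatOver_structureModule f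
  haveI := isQuasicoherent_structureModule X
  refine isFinLocFree_Rpush_succ_of_gsplit f (Coh.structureModule X) (isFP_structureModule X) hfl 0
    (fun y => subsingleton_fiberH_of_dim_le f _ 1 (by exact_mod_cast hdim) y 2 (by norm_num)) ?_
  intro y W hW L hLff hL hyW
  exact exists_gsplit_zero f hW L hLff hL y hyW (h0 y)

end main

end Groth.Agent.Lib.helper7.R1Free
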