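import Mathlib
import Groth.Prelude.Def_CohBC2

set_option autoImplicit false
universe u
open CategoryTheory AlgebraicGeometry
open Scheme.Modules

namespace Groth.Agent.Lib.helper7.BCUnit

variable {X Y Z : Scheme.{u}}

/-- unit of the composite -/
theorem unit_comp (f : X ⟶ Y) (g : Y ⟶ Z) (N : Z.Modules) :
    (pullbackPushforwardAdjunction g).unit.app N ≫
      (pushforward g).map ((pullbackPushforwardAdjunction f).unit.app ((pullback g).obj N)) ≫
      (pushforwardComp f g).hom.app ((pullback f).obj ((pullback g).obj N)) =
    (pullbackPushforwardAdjunction (f ≫ g)).unit.app N ≫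
      (pushforward (f ≫ g)).map ((pullbackComp f g).inv.app N) := by
  have h := unit_conjugateEquiv ((pullbackPushforwardAdjunction g).comp (pullbackPushforwardAdjunction f))
    (pullbackPushforwardAdjunction (f ≫ g)) (pullbackComp f g).inv N
  rw [conjugateEquiv_pullbackComp_inv] at h
  rw [← h]
  simp

/-- counit of the composite -/
theorem counit_comp (f : X ⟶ Y) (g : Y ⟶ Z) (M : X.Modules) :
    (pullback (f ≫ g)).map ((pushforwardComp f g).hom.app M) ≫
      (pullbackPushforwardAdjunction (f ≫ g)).counit.app M =
    (pullbackComp f g).inv.app ((pushforward g).obj ((pushforward f).obj M)) ≫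
      (pullback f).map ((pullbackPushforwardAdjunction g).counit.app ((pushforward f).obj M)) ≫
      (pullbackPushforwardAdjunction f).counit.app M := by
  have h := conjugateEquiv_counit ((pullbackPushforwardAdjunction g).comp (pullbackPushforwardAdjunction f))
    (pullbackPushforwardAdjunction (f ≫ g)) (pullbackComp f g).inv M
  rw [conjugateEquiv_pullbackComp_inv] at h
  rw [h]
  simp

theorem pushforwardCongr_rfl_hom_app (h : X ⟶ Z) (M : X.Modules) :
    (pushforwardCongr (rfl : h = h)).hom.app M = 𝟙 _ := by
  ext U
  simp

theorem pullbackCongr_rfl_hom_app (h : X ⟶ Z) (N : Z.Modules) :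
    (pullbackCongr (rfl : h = h)).hom.app N = 𝟙 _ := by
  simp [pullbackCongr]

theorem unit_congr {h₁ h₂ : X ⟶ Z} (e : h₁ = h₂) (N : Z.Modules) :
    (pullbackPushforwardAdjunction h₁).unit.app N ≫
      (pushforwardCongr e).hom.app ((pullback h₁).obj N) =
    (pullbackPushforwardAdjunction h₂).unit.app N ≫
      (pushforward h₂).map ((pullbackCongr e.symm).hom.app N) := by
  subst e
  rw [pushforwardCongr_rfl_hom_app, pullbackCongr_rfl_hom_app]
  simp

theorem counit_congr {h₁ h₂ : X ⟶ Z} (e : h₁ = h₂) (M : X.Modules) :
    (pullback h₂).map ((pushforwardCongr e).hom.app M) ≫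
      (pullbackPushforwardAdjunction h₂).counit.app M =
    (pullbackCongr e.symm).hom.app ((pushforward h₁).obj M) ≫
      (pullbackPushforwardAdjunction h₁).counit.app M := by
  subst e
  rw [pushforwardCongr_rfl_hom_app, pullbackCongr_rfl_hom_app]
  simp

section Square

variable {X S X' S' : Scheme.{u}} (f : X ⟶ S) (g : S' ⟶ S) (f' : X' ⟶ S') (g' : X' ⟶ X)
  (w : g' ≫ f = f' ≫ g)

/-- the comparison `f'^* g^* ≅ g'^* f^*` of a commutative square -/
noncomputable def sqIso : pullback g ⋙ pullback f' ≅ pullback f ⋙ pullback g' :=
  pullbackComp f' g ≪≫ pullbackCongr w.symm ≪≫ (pullbackComp g' f).symm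

theorem bc0Adj_unit (N : S.Modules) :
    (pullbackPushforwardAdjunction f).unit.app N ≫
      CohBC.bc0Adj f g f' g' w ((pullback f).obj N) =
    (pullbackPushforwardAdjunction g).unit.app N ≫ (pushforward g).map
      ((pullbackPushforwardAdjunction f').unit.app ((pullback g).obj N) ≫
        (pushforward f').map ((sqIso f g f' g' w).hom.app N)) := by
  have h1 := unit_comp g' f N
  have h2 := unit_comp f' g N
  have h3 := unit_congr w N
  have h4 := (pushforwardCongr w).hom.naturality ((pullbackComp g' f).inv.app N)
  have h5 := (pushforwardComp f' g).inv.naturality ((sqIso f g f' g' w).hom.app N)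
  have h2' : (pullbackPushforwardAdjunction g).unit.app N ≫
      (pushforward g).map ((pullbackPushforwardAdjunction f').unit.app ((pullback g).obj N)) =
      (pullbackPushforwardAdjunction (f' ≫ g)).unit.app N ≫
      (pushforward (f' ≫ g)).map ((pullbackComp f' g).inv.app N) ≫
      (pushforwardComp f' g).inv.app _ := by
    rw [← Category.assoc, ← h2]
    simp
  have h6 : (pullbackComp f' g).inv.app N ≫ (sqIso f g f' g' w).hom.app N =
      (pullbackCongr w.symm).hom.app N ≫ (pullbackComp g' f).inv.app N := by
    simp [sqIso]
  unfold CohBC.bc0Adj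
  rw [Functor.map_comp, ← Category.assoc ((pullbackPushforwardAdjunction g).unit.app N), h2']
  simp only [Category.assoc]
  rw [← Functor.comp_map, ← h5]
  rw [← Category.assoc ((pushforward (f' ≫ g)).map _), ← Functor.map_comp, h6, Functor.map_comp]
  simp only [Category.assoc]
  rw [reassoc_of% h1, reassoc_of% h4, reassoc_of% h3]
  rfl

theorem homEquiv_bc0 (F : X.Modules) :
    ((pullbackPushforwardAdjunction g).homEquiv _ _) (CohBC.bc0 f g f' g' w F) =
      CohBC.bc0Adj f g f' g' w F := by
  unfold CohBC.bc0
  exact Equiv.apply_symm_apply _ _

/-- **BCU**: the base change map at `f^* N` composed with the pulled back unit is the unit -/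
theorem bc0_unit (N : S.Modules) :
    (pullback g).map ((pullbackPushforwardAdjunction f).unit.app N) ≫
      CohBC.bc0 f g f' g' w ((pullback f).obj N) =
    (pullbackPushforwardAdjunction f').unit.app ((pullback g).obj N) ≫
      (pushforward f').map ((sqIso f g f' g' w).hom.app N) := by
  apply ((pullbackPushforwardAdjunction g).homEquiv _ _).injective
  refine ((pullbackPushforwardAdjunction g).homEquiv_naturality_left _ _).trans ?_
  refine (congrArg (fun t => (pullbackPushforwardAdjunction f).unit.app N ≫ t)
    (homEquiv_bc0 f g f' g' w ((pullback f).obj N))).trans ?_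
  refine (bc0Adj_unit f g f' g' w N).trans ?_
  exact ((pullbackPushforwardAdjunction g).homEquiv_unit _ _ _).symm

theorem bc0_eq (F : X.Modules) :
    CohBC.bc0 f g f' g' w F =
      (pullback g).map (CohBC.bc0Adj f g f' g' w F) ≫
        (pullbackPushforwardAdjunction g).counit.app _ := by
  unfold CohBC.bc0
  exact (pullbackPushforwardAdjunction g).homEquiv_counit _ _ _

/-- **BCC**: the pulled back counit is the counit composed with the base change map -/
theorem bc0_counit (F : X.Modules) :
    (pullback f').map (CohBC.bc0 f g f' g' w F) ≫
      (pullbackPushforwardAdjunction f').counit.app ((pullback g').obj F) =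
    (sqIso f g f' g' w).hom.app ((pushforward f).obj F) ≫
      (pullback g').map ((pullbackPushforwardAdjunction f).counit.app F) := by
  have k1 := counit_comp f' g ((pullback g').obj F)
  have k2 := counit_comp g' f ((pullback g').obj F)
  have k3 := counit_congr w ((pullback g').obj F)
  have k4 := (pullbackComp f' g).hom.naturality (CohBC.bc0Adj f g f' g' w F)
  have k1' : (pullback f').map ((pullbackPushforwardAdjunction g).counit.app
        ((pushforward f').obj ((pullback g').obj F))) ≫
      (pullbackPushforwardAdjunction f').counit.app ((pullback g').obj F) =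
      (pullbackComp f' g).hom.app _ ≫
      (pullback (f' ≫ g)).map ((pushforwardComp f' g).hom.app ((pullback g').obj F)) ≫
      (pullbackPushforwardAdjunction (f' ≫ g)).counit.app ((pullback g').obj F) := by
    rw [k1]
    simp
  rw [bc0_eq, Functor.map_comp, Category.assoc, k1']
  rw [← Functor.comp_map]
  erw [← Category.assoc, k4]
  rw [Category.assoc]
  have k5 : CohBC.bc0Adj f g f' g' w F ≫ (pushforwardComp f' g).hom.app ((pullback g').obj F) =
      (pushforward f).map ((pullbackPushforwardAdjunction g').unit.app F) ≫
        (pushforwardComp g' f).hom.app ((pullback g').obj F) ≫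
        (pushforwardCongr w).hom.app ((pullback g').obj F) := by
    unfold CohBC.bc0Adj
    simp
  rw [← Functor.map_comp_assoc, k5]
  simp only [Functor.map_comp, Category.assoc]
  rw [k3]
  have k6 := (pullbackCongr w.symm).hom.naturality
    ((pushforward f).map ((pullbackPushforwardAdjunction g').unit.app F) ≫
        (pushforwardComp g' f).hom.app ((pullback g').obj F))
  simp only [Functor.map_comp, Category.assoc] at k6
  rw [reassoc_of% k6, k2]
  have k7 := (pullbackComp g' f).inv.naturality
    ((pushforward f).map ((pullbackPushforwardAdjunction g').unit.app F))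
  have k8 : (pullback f ⋙ pullback g').map
        ((pushforward f).map ((pullbackPushforwardAdjunction g').unit.app F)) ≫
      (pullback g').map
        ((pullbackPushforwardAdjunction f).counit.app ((pushforward g').obj ((pullback g').obj F))) ≫
      (pullbackPushforwardAdjunction g').counit.app ((pullback g').obj F) =
      (pullback g').map ((pullbackPushforwardAdjunction f).counit.app F) := by
    rw [Functor.comp_map, ← Functor.map_comp_assoc]
    have := (pullbackPushforwardAdjunction f).counit.naturality
      ((pullbackPushforwardAdjunction g').unit.app F)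
    erw [this]
    rw [Functor.map_comp, Category.assoc]
    have t := (pullbackPushforwardAdjunction g').left_triangle_components F
    erw [t]
    exact Category.comp_id _
  have k9 : (sqIso f g f' g' w).hom.app ((pushforward f).obj F) =
      (pullbackComp f' g).hom.app ((pushforward f).obj F) ≫
      (pullbackCongr w.symm).hom.app ((pushforward f).obj F) ≫
      (pullbackComp g' f).inv.app ((pushforward f).obj F) := by
    simp [sqIso]
  rw [k9]
  simp only [Category.assoc]
  congr 2
  erw [← Category.assoc, k7]
  rw [Category.assoc]
  congr 1

theorem bc0Adj_naturality {F F' : X.Modules} (φ : F ⟶ F') :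
    (pushforward f).map φ ≫ CohBC.bc0Adj f g f' g' w F' =
      CohBC.bc0Adj f g f' g' w F ≫
        (pushforward g).map ((pushforward f').map ((pullback g').map φ)) := by
  unfold CohBC.bc0Adj
  have n1 := (pullbackPushforwardAdjunction g').unit.naturality φ
  have n2 := (pushforwardComp g' f).hom.naturality ((pullback g').map φ)
  have n3 := (pushforwardCongr w).hom.naturality ((pullback g').map φ)
  have n4 := (pushforwardComp f' g).inv.naturality ((pullback g').map φ)
  simp only [Functor.comp_map, Functor.id_map, Functor.id_obj, Functor.comp_obj] at n1 n2 n3 n4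
  rw [← Functor.map_comp_assoc, n1, Functor.map_comp_assoc, reassoc_of% n2, reassoc_of% n3, n4]
  simp only [Category.assoc]

theorem bc0_naturality {F F' : X.Modules} (φ : F ⟶ F') :
    (pullback g).map ((pushforward f).map φ) ≫ CohBC.bc0 f g f' g' w F' =
      CohBC.bc0 f g f' g' w F ≫ (pushforward f').map ((pullback g').map φ) := by
  apply ((pullbackPushforwardAdjunction g).homEquiv _ _).injective
  refine ((pullbackPushforwardAdjunction g).homEquiv_naturality_left _ _).trans ?_
  refine Eq.trans ?_ ((pullbackPushforwardAdjunction g).homEquiv_naturality_right _ _).symm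
  refine (congrArg (fun t => (pushforward f).map φ ≫ t) (homEquiv_bc0 f g f' g' w F')).trans ?_
  refine (bc0Adj_naturality f g f' g' w φ).trans ?_
  exact congrArg (fun t => t ≫ (pushforward g).map ((pushforward f').map ((pullback g').map φ)))
    (homEquiv_bc0 f g f' g' w F).symm

end Square

end Groth.Agent.Lib.helper7.BCUnit
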