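import Mathlib
import Groth.Agent.Lib.Helper11.NegCxRows

/-!
# Upper semicontinuity of `x ↦ dim H^p(L ⊗ κ(x))` over an arbitrary ring (helper7)

`L` a complex of finite projective modules over ANY commutative ring `A` (S2380 assumes `A` Noetherian and
the terms finite flat).
-/

set_option autoImplicit false
universe u
open CategoryTheory CategoryTheory.Limits TensorProduct

namespace Groth.Agent.Lib.helper7.NNUsc

open Groth.Agent.S2380 Groth.Agent.Lib.helper11.NegCx

variable {A : Type u} [CommRing A]

theorem upperSemicontinuous_dRank_chain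
    (P : ChainComplex (ModuleCat.{u} A) ℤ)
    (hP : ∀ i, Module.Finite A (P.X i) ∧ Module.Projective A (P.X i))
    (p : ℤ) : UpperSemicontinuous (CohIII.dRank P p) := by
  have hfin : ∀ i, Module.Finite A (P.X i) := fun i => (hP i).1
  haveI := hfin (p - 1)
  haveI : Module.Projective A (P.X (p - 1)) := (hP (p - 1)).2
  haveI : Module.Flat A (P.X (p - 1)) := inferInstance
  haveI : Module.FinitePresentation A (P.X (p - 1)) := Module.finitePresentation_of_projective A _
  haveI := hfin p
  have hc1 := fibre_finrank_usc (A := A) (P.X p ⧸ LinearMap.range (P.d (p + 1) p).hom)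
  have hc2 := fibre_finrank_usc (A := A) (P.X (p - 1) ⧸ LinearMap.range (P.d p (p - 1)).hom)
  have hn : IsLocallyConstant (fun y : PrimeSpectrum A =>
      Module.finrank y.asIdeal.ResidueField (y.asIdeal.ResidueField ⊗[A] (P.X (p - 1)))) := by
    have h := Module.isLocallyConstant_rankAtStalk (R := A) (M := P.X (p - 1))
    have e : (fun y : PrimeSpectrum A =>
        Module.finrank y.asIdeal.ResidueField (y.asIdeal.ResidueField ⊗[A] (P.X (p - 1)))) =
        Module.rankAtStalk (R := A) (P.X (p - 1)) := by
      funext y
      exact (Module.rankAtStalk_eq y).symm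
    rw [e]; exact h
  intro x b hb
  have e1 := hc1 x _ (Nat.lt_succ_self _)
  have e2 := hc2 x _ (Nat.lt_succ_self _)
  have e3 := hn.eventually_eq x
  filter_upwards [e1, e2, e3] with y h1 h2 h3
  have ky := rank_formula P hfin p y
  have kx := rank_formula P hfin p x
  omega

/-- **upper semicontinuity over an arbitrary ring** -/
theorem upperSemicontinuous_dRank (L : CochainComplex (ModuleCat.{u} A) ℤ)
    (hL : ∀ i, Module.Finite A (L.X i) ∧ Module.Projective A (L.X i)) (p : ℤ) :
    UpperSemicontinuous (CohIII.dRank L p) := by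
  rw [← dRank_neg']
  exact upperSemicontinuous_dRank_chain (neg L) (fun i => hL (-i)) (-p)

theorem upperSemicontinuous_dRank_of_free (L : CochainComplex (ModuleCat.{u} A) ℤ)
    (hL : ∀ i, Module.Finite A (L.X i) ∧ Module.Free A (L.X i)) (p : ℤ) :
    UpperSemicontinuous (CohIII.dRank L p) :=
  upperSemicontinuous_dRank L
    (fun i => ⟨(hL i).1, by haveI := (hL i).2; infer_instance⟩) p

end Groth.Agent.Lib.helper7.NNUsc
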