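import Mathlib
import Groth.Agent.Lib.Helper7.NNUsc
import Groth.Agent.Lib.Helper18.NNFibre
import Groth.Agent.Lib.Helper21.FibreH0b

/-!
# Fibre cohomology over an arbitrary base: semicontinuity and finiteness (helper7)

`f : X ⟶ S` proper and locally of finite presentation (`S` ANY scheme), `F` quasi-coherent of finite
presentation, flat over `S`.  The non-Noetherian versions of helper21's `FibreH0`:
* `upperSemicontinuous_fiberRank`;
* `fiberRank_pos_iff`;
* `finite_fiberH`;
* `finite_globalSections_fiber`, `fiberRank_structureModule` (for `f` flat).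
-/

set_option autoImplicit false
universe u

open CategoryTheory CategoryTheory.Limits Opposite TopologicalSpace AlgebraicGeometry

namespace Groth.Agent.Lib.helper7.NNFibreH0

open Groth.Agent.Lib.Helper18.NNComplex Groth.Agent.Lib.Helper18.NNMaster
  Groth.Agent.Lib.Helper18.NNFibre Groth.Agent.Lib.helper8.GenBCChart
  Groth.Agent.Lib.helper7.NNUsc Groth.Agent.Lib.helper11.InvMod

section geo

variable {X S : Scheme.{u}} (f : X ⟶ S) [IsProper f] [LocallyOfFinitePresentation f]
  (F : X.Modules) [F.IsQuasicoherent] (hfp : CohB1.IsFP F) (hfl : FlatMod.IsFlatOver f F)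

include hfp hfl in
/-- local data: around every point there is an affine chart with a Grothendieck complex -/
theorem exists_chart (y : S) :
    ∃ (W : S.Opens) (hW : IsAffineOpen W) (x : ↑(Spec (CommRingCat.of Γ(S, W))))
      (L : CochainComplex (ModuleCat.{u} Γ(S, W)) ℤ),
      hW.fromSpec x = y ∧
      (∀ i, Module.Finite Γ(S, W) (L.X i) ∧ Module.Free Γ(S, W) (L.X i)) ∧
      (∀ (x' : ↑(Spec (CommRingCat.of Γ(S, W)))) (p : ℕ),
        CohIII.dRank L (p : ℤ) x' = CohIII.fiberRank f F p (hW.fromSpec x')) ∧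
      (∀ (x' : ↑(Spec (CommRingCat.of Γ(S, W)))) (p : ℕ),
        Subsingleton (CohIII.fiberH f F (hW.fromSpec x') p) ↔
          Subsingleton ((CohIII.bcCx (algebraMap Γ(S, W) x'.asIdeal.ResidueField) L).homology
            (p : ℤ))) := by
  obtain ⟨W, hW, hyW⟩ : ∃ W : S.Opens, IsAffineOpen W ∧ y ∈ W := by
    obtain ⟨_, ⟨W, hW, rfl⟩, hyW, -⟩ :=
      S.isBasis_affineOpens.exists_subset_of_mem_open (Set.mem_univ y) isOpen_univ
    exact ⟨W, hW, hyW⟩
  obtain ⟨L, hLff, -, -, hL⟩ := exists_chart_complex f hW F hfp hfl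
  exact ⟨W, hW, hW.primeIdealOf ⟨y, hyW⟩, L, hW.fromSpec_primeIdealOf ⟨y, hyW⟩, hLff,
    fun x' p => dRank_eq_fiberRank f hW F L hL x' p,
    fun x' p => subsingleton_fiberH_iff f hW F L hL x' p⟩

include hfp hfl in
/-- **semicontinuity**: `y ↦ dim H^p(X_y, F_y)` is upper semicontinuous -/
theorem upperSemicontinuous_fiberRank (p : ℕ) : UpperSemicontinuous (CohIII.fiberRank f F p) := by
  intro y c hc
  obtain ⟨W, hW, x, L, rfl, hLff, h7, -⟩ := exists_chart f F hfp hfl y
  have hc' : CohIII.dRank L (p : ℤ) x < c := (h7 x p).trans_lt hc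
  have husc := upperSemicontinuous_dRank_of_free L hLff (p : ℤ) x c hc'
  rw [← hW.fromSpec.isOpenEmbedding.map_nhds_eq x, Filter.eventually_map]
  filter_upwards [husc] with x' hx'
  exact (h7 x' p).symm.trans_lt hx'

include hfp hfl in
/-- `0 < h^p(y) ↔ H^p(X_y, F_y) ≠ 0` -/
theorem fiberRank_pos_iff (y : S) (p : ℕ) :
    0 < CohIII.fiberRank f F p y ↔ Nontrivial (CohIII.fiberH f F y p) := by
  obtain ⟨W, hW, x, L, rfl, hLff, h7, h8⟩ := exists_chart f F hfp hfl y
  haveI := (hLff (p : ℤ)).1
  haveI := Groth.Agent.Lib.helper21.FibreH0.finite_homology_bcCx L (p : ℤ) x.asIdeal.ResidueField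
  rw [← h7 x p, ← not_subsingleton_iff_nontrivial, h8 x p]
  unfold CohIII.dRank
  rw [Module.finrank_pos_iff, ← not_subsingleton_iff_nontrivial]

include hfp hfl in
/-- `H^p(X_y, F_y)` is finite dimensional over `κ(y)` -/
theorem finite_fiberH (y : S) (p : ℕ) :
    Module.Finite (S.residueField y) (CohIII.fiberH f F y p) := by
  by_cases h : Nontrivial (CohIII.fiberH f F y p)
  · have hpos := (fiberRank_pos_iff f F hfp hfl y p).mpr h
    exact Module.finite_of_finrank_pos hpos
  · rw [not_nontrivial_iff_subsingleton] at h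
    infer_instance

end geo

end Groth.Agent.Lib.helper7.NNFibreH0
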