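import Mathlib
import Groth.Agent.Lib.Helper7.NNFibreH0
import Groth.Agent.Lib.Helper21.PicClosed

/-!
# The locus where an invertible module is trivial on the fibre is closed, over an arbitrary base (helper7)

Non-Noetherian version of helper21's `PicClosed`: `f : X ⟶ Y` proper, flat, locally of finite presentation
(`Y` ANY scheme) with integral fibres.
-/

set_option autoImplicit false
universe u

open CategoryTheory CategoryTheory.Limits Opposite TopologicalSpace AlgebraicGeometry

namespace Groth.Agent.Lib.helper7.NNPicClosed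

open Scheme.Modules
open Groth.Agent.Lib.helper11.InvMod Groth.Agent.Lib.helper11.IsoLocus
open Groth.Agent.Lib.helper11.GenLocus Groth.Agent.Lib.helper11.InvHom
open Groth.Agent.Lib.helper21.InvFibre Groth.Agent.Lib.Lead.ModTensor
open Groth.Agent.Lib.Helper20.TensorEquiv
open Groth.Agent.Lib.helper21.FibreH0 Groth.Agent.Lib.helper12.PullTensor
open Groth.Agent.Lib.helper16.FLF Groth.Agent.Lib.helper21.PicClosed

variable {X Y : Scheme.{u}} (f : X ⟶ Y) [IsProper f] [Flat f] [LocallyOfFinitePresentation f]

/-- `Γ(X_y, O)` is finite dimensional over `κ(y)` (arbitrary base) -/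
theorem finite_globalSections_fiber (y : Y) :
    Module.Finite (Y.residueField y) Γ(f.fiber y, ⊤) := by
  have hflf := isFinLocFree_structureModule X
  haveI := isQuasicoherent_of_isFinLocFree _ hflf
  haveI := NNFibreH0.finite_fiberH f (Coh.structureModule X)
    (isFinitePresentation_of_isFinLocFree _ hflf)
    (isFlatOver_of_isFinLocFree f _ hflf) y 0
  exact Module.Finite.equiv
    (fiberH0Equiv f (Coh.structureModule X) y (pullbackUnitIso (f.fiberι y)))

omit [IsProper f] [Flat f] [LocallyOfFinitePresentation f] in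
/-- `h⁰(X_y, O_X|_{X_y}) = dim Γ(X_y, O)` -/
theorem fiberRank_structureModule (y : Y) :
    CohIII.fiberRank f (Coh.structureModule X) 0 y =
      Module.finrank (Y.residueField y) Γ(f.fiber y, ⊤) :=
  (fiberH0Equiv f (Coh.structureModule X) y (pullbackUnitIso (f.fiberι y))).finrank_eq

variable (L M : X.Modules) (hL : PicF.IsInvertible L) (hM : PicF.IsInvertible M)
  (eML : CohB1.tensorMod M L ≅ Coh.structureModule X)

include hL hM eML in
theorem fiber_trivial_iff (y : Y) [IsIntegral (f.fiber y)] :
    Nonempty (CohIII.fiberMod f L y ≅ Coh.structureModule (f.fiber y)) ↔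
      0 < CohIII.fiberRank f L 0 y ∧ 0 < CohIII.fiberRank f M 0 y := by
  have hLflf := isFinLocFree_of_isInvertible hL
  have hMflf := isFinLocFree_of_isInvertible hM
  haveI := isQuasicoherent_of_isFinLocFree _ hLflf
  haveI := isQuasicoherent_of_isFinLocFree _ hMflf
  have hLc := isFinitePresentation_of_isFinLocFree _ hLflf
  have hMc := isFinitePresentation_of_isFinLocFree _ hMflf
  have hLfl := isFlatOver_of_isFinLocFree f L hLflf
  have hMfl := isFlatOver_of_isFinLocFree f M hMflf
  let ey : CohB1.tensorMod (CohIII.fiberMod f M y) (CohIII.fiberMod f L y) ≅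
      Coh.structureModule (f.fiber y) :=
    (pullTensorIso (f.fiberι y) M L hL).symm ≪≫ (Scheme.Modules.pullback (f.fiberι y)).mapIso eML ≪≫
      pullbackUnitIso (f.fiberι y)
  haveI : Nontrivial Γ(f.fiber y, ⊤) := inferInstance
  constructor
  · rintro ⟨eL⟩
    let eM : CohIII.fiberMod f M y ≅ Coh.structureModule (f.fiber y) :=
      (rightUnitor _).symm ≪≫ tensorIso (Iso.refl _) eL.symm ≪≫ ey
    refine ⟨?_, ?_⟩
    · rw [NNFibreH0.fiberRank_pos_iff f L hLc hLfl y 0]
      exact (fiberH0Equiv f L y eL).toEquiv.nontrivial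
    · rw [NNFibreH0.fiberRank_pos_iff f M hMc hMfl y 0]
      exact (fiberH0Equiv f M y eM).toEquiv.nontrivial
  · rintro ⟨h1, h2⟩
    rw [NNFibreH0.fiberRank_pos_iff f L hLc hLfl y 0] at h1
    rw [NNFibreH0.fiberRank_pos_iff f M hMc hMfl y 0] at h2
    obtain ⟨a, ha⟩ := exists_ne (0 : CohIII.fiberH f L y 0)
    obtain ⟨b, hb⟩ := exists_ne (0 : CohIII.fiberH f M y 0)
    have hs : Groth.Agent.Lib.Helper18.HH.equiv₀ (CohIII.fiberMod f L y) a ≠ 0 := by
      intro h0
      exact ha ((Groth.Agent.Lib.Helper18.HH.equiv₀ (CohIII.fiberMod f L y)).map_eq_zero_iff.mp h0)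
    have ht : Groth.Agent.Lib.Helper18.HH.equiv₀ (CohIII.fiberMod f M y) b ≠ 0 := by
      intro h0
      exact hb ((Groth.Agent.Lib.Helper18.HH.equiv₀ (CohIII.fiberMod f M y)).map_eq_zero_iff.mp h0)
    haveI := finite_globalSections_fiber f y
    have hZ : ∀ c : Γ(f.fiber y, ⊤), c ≠ 0 → IsUnit c := by
      intro c hc
      obtain ⟨d, hd⟩ := FiniteDimensional.exists_mul_eq_one (Y.residueField y) hc
      exact IsUnit.of_mul_eq_one d hd
    exact nonempty_iso_of_sections hZ (CohIII.fiberMod f L y) (CohIII.fiberMod f M y)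
      (isInvertible_pullback _ hL) (isInvertible_pullback _ hM) ey _ hs _ ht

include hL hM eML in
/-- **the locus where `L` is trivial on the fibre is closed** (integral fibres, arbitrary base) -/
theorem isClosed_setOf_fiber_trivial (hint : ∀ y : Y, IsIntegral (f.fiber y)) :
    IsClosed {y : Y | Nonempty (CohIII.fiberMod f L y ≅ Coh.structureModule (f.fiber y))} := by
  have hLflf := isFinLocFree_of_isInvertible hL
  have hMflf := isFinLocFree_of_isInvertible hM
  haveI := isQuasicoherent_of_isFinLocFree _ hLflf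
  haveI := isQuasicoherent_of_isFinLocFree _ hMflf
  have hLc := isFinitePresentation_of_isFinLocFree _ hLflf
  have hMc := isFinitePresentation_of_isFinLocFree _ hMflf
  have hLfl := isFlatOver_of_isFinLocFree f L hLflf
  have hMfl := isFlatOver_of_isFinLocFree f M hMflf
  have hset : {y : Y | Nonempty (CohIII.fiberMod f L y ≅ Coh.structureModule (f.fiber y))} =
      {y : Y | CohIII.fiberRank f L 0 y < 1}ᶜ ∩ {y : Y | CohIII.fiberRank f M 0 y < 1}ᶜ := by
    ext y
    haveI := hint y
    simp only [Set.mem_setOf_eq, Set.mem_inter_iff, Set.mem_compl_iff, not_lt]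
    exact fiber_trivial_iff f L M hL hM eML y
  rw [hset]
  exact ((NNFibreH0.upperSemicontinuous_fiberRank f L hLc hLfl 0).isOpen_preimage 1).isClosed_compl.inter
    ((NNFibreH0.upperSemicontinuous_fiberRank f M hMc hMfl 0).isOpen_preimage 1).isClosed_compl

end Groth.Agent.Lib.helper7.NNPicClosed
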