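import Groth.Prelude.Def_GrSyz

/-!
# helper7: basic lemmas for the GrSyz cluster (graded free resolutions over polynomial rings)
-/

universe u v

namespace Groth.Agent.Lib.helper7.GrSyzBasic

open MvPolynomial

section Weight

variable {σ : Type v}

lemma weight_one_eq_degree (d : σ →₀ ℕ) :
    Finsupp.weight (fun _ : σ => (1 : ℤ)) d = ((Finsupp.degree d : ℕ) : ℤ) := by
  rw [Finsupp.weight_apply, Finsupp.degree_apply, Finsupp.sum, Nat.cast_sum]
  refine Finset.sum_congr rfl (fun i _ => ?_)
  simp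

lemma weight_one_nonneg (d : σ →₀ ℕ) : 0 ≤ Finsupp.weight (fun _ : σ => (1 : ℤ)) d := by
  rw [weight_one_eq_degree]; exact Int.natCast_nonneg _

lemma weight_one_eq_zero_iff (d : σ →₀ ℕ) :
    Finsupp.weight (fun _ : σ => (1 : ℤ)) d = 0 ↔ d = 0 := by
  rw [weight_one_eq_degree, Int.natCast_eq_zero, Finsupp.degree_eq_zero_iff]

end Weight

section Irrel

variable (k : Type u) [CommRing k] (σ : Type v)

/-- The irrelevant ideal of the standard ℤ-grading of a polynomial ring consists of the
polynomials with zero constant coefficient. -/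
theorem mem_irrel_iff (p : MvPolynomial σ k) :
    p ∈ (GrSyz.irrel (GrSyz.stdGr k σ)).toIdeal ↔ constantCoeff p = 0 := by
  classical
  constructor
  · intro hp
    have hle : (GrSyz.irrel (GrSyz.stdGr k σ)).toIdeal ≤ RingHom.ker (constantCoeff (R := k) (σ := σ)) := by
      change Ideal.span _ ≤ _
      rw [Ideal.span_le]
      rintro q ⟨n, hn, hq⟩
      rw [SetLike.mem_coe, RingHom.mem_ker]
      by_contra h0
      have hq' : q.IsWeightedHomogeneous (fun _ : σ => (1 : ℤ)) n := hq
      have := hq' (d := 0) (by simpa [constantCoeff_eq] using h0)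
      rw [map_zero] at this
      omega
    exact hle hp
  · intro hp
    -- write p as the sum of its monomials
    rw [← p.support_sum_monomial_coeff]
    refine Ideal.sum_mem _ (fun d hd => ?_)
    have hd0 : d ≠ 0 := by
      rintro rfl
      rw [mem_support_iff] at hd
      exact hd (by simpa [constantCoeff_eq] using hp)
    refine Ideal.subset_span ⟨Finsupp.weight (fun _ : σ => (1 : ℤ)) d, ?_, ?_⟩
    · have h1 := weight_one_nonneg d
      have h2 := (weight_one_eq_zero_iff d).not.mpr hd0
      omega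
    · exact isWeightedHomogeneous_monomial _ _ _ rfl

theorem irrel_ne_top [Nontrivial k] : (GrSyz.irrel (GrSyz.stdGr k σ)).toIdeal ≠ ⊤ := by
  intro h
  have : (1 : MvPolynomial σ k) ∈ (GrSyz.irrel (GrSyz.stdGr k σ)).toIdeal := by rw [h]; trivial
  rw [mem_irrel_iff] at this
  simp at this

theorem one_not_mem_irrel [Nontrivial k] : (1 : MvPolynomial σ k) ∉ (GrSyz.irrel (GrSyz.stdGr k σ)).toIdeal := by
  rw [mem_irrel_iff]; simp

variable {k σ}

/-- A homogeneous element of degree `≤ 0` of the irrelevant ideal vanishes. -/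
theorem eq_zero_of_mem_stdGr_of_mem_irrel {p : MvPolynomial σ k} {n : ℤ} (hn : n ≤ 0)
    (hp : p ∈ GrSyz.stdGr k σ n) (hp' : p ∈ (GrSyz.irrel (GrSyz.stdGr k σ)).toIdeal) : p = 0 := by
  classical
  rw [mem_irrel_iff] at hp'
  have hp'' : p.IsWeightedHomogeneous (fun _ : σ => (1 : ℤ)) n := hp
  ext d
  rw [coeff_zero]
  by_contra hd
  have h1 := hp'' hd
  have h2 := weight_one_nonneg d
  have h3 : d = 0 := (weight_one_eq_zero_iff d).mp (by omega)
  subst h3
  exact hd (by simpa [constantCoeff_eq] using hp')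

/-- A homogeneous element outside the irrelevant ideal is a nonzero constant (of degree `0`). -/
theorem eq_C_of_mem_stdGr_of_not_mem_irrel {p : MvPolynomial σ k} {n : ℤ}
    (hp : p ∈ GrSyz.stdGr k σ n) (hp' : p ∉ (GrSyz.irrel (GrSyz.stdGr k σ)).toIdeal) :
    n = 0 ∧ p = C (constantCoeff p) ∧ constantCoeff p ≠ 0 := by
  classical
  rw [mem_irrel_iff] at hp'
  have hp'' : p.IsWeightedHomogeneous (fun _ : σ => (1 : ℤ)) n := hp
  have hn : n = 0 := by
    have := hp'' (d := 0) (by simpa [constantCoeff_eq] using hp')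
    rw [map_zero] at this
    exact this.symm
  refine ⟨hn, ?_, hp'⟩
  subst hn
  ext d
  by_cases hd : d = 0
  · subst hd; simp [constantCoeff_eq]
  · rw [coeff_C, if_neg (Ne.symm hd)]
    by_contra hne
    exact hd ((weight_one_eq_zero_iff d).mp (hp'' hne))

theorem isUnit_of_mem_stdGr_of_not_mem_irrel {k : Type u} [Field k] {p : MvPolynomial σ k} {n : ℤ}
    (hp : p ∈ GrSyz.stdGr k σ n) (hp' : p ∉ (GrSyz.irrel (GrSyz.stdGr k σ)).toIdeal) :
    IsUnit p := by
  obtain ⟨_, h2, h3⟩ := eq_C_of_mem_stdGr_of_not_mem_irrel hp hp'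
  rw [h2]
  exact (isUnit_iff_ne_zero.mpr h3).map C

end Irrel

section Res

variable {R : Type u} [CommRing R] {σ' : Type u} [SetLike σ' R]
  {𝒜 : ℤ → σ'}
  {M : Type u} [AddCommGroup M] [Module R M] {τ : Type u} [SetLike τ M] [AddSubgroupClass τ M]
  {ℳ : ℤ → τ} [DirectSum.Decomposition ℳ] [SetLike.GradedSMul 𝒜 ℳ]

/-- The image of a differential of a minimal resolution lies in `𝔪 F_i`: coordinatewise. -/
theorem dLin_apply_mem (F : GrSyz.FreeRes 𝒜 ℳ) {𝔪 : Ideal R} (hF : F.IsMinimal 𝔪) (i : ℕ)
    (v : Fin (F.rk (i + 1)) → R) (a : Fin (F.rk i)) : F.dLin i v a ∈ 𝔪 := by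
  rw [Matrix.mulVecLin_apply, Matrix.mulVec, dotProduct]
  exact Ideal.sum_mem _ (fun c _ => Ideal.mul_mem_right _ _ (hF i a c))

/-- In a minimal resolution (w.r.t. a proper ideal) no column of a differential `d i` vanishes. -/
theorem exists_d_ne_zero (F : GrSyz.FreeRes 𝒜 ℳ) {𝔪 : Ideal R} (hF : F.IsMinimal 𝔪)
    (h1 : (1 : R) ∉ 𝔪) (i : ℕ) (b : Fin (F.rk (i + 1))) : ∃ a, F.d i a b ≠ 0 := by
  classical
  by_contra hcon
  push Not at hcon
  have hker : (Pi.single b 1 : Fin (F.rk (i + 1)) → R) ∈ LinearMap.ker (Matrix.mulVecLin (F.d i)) := by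
    rw [LinearMap.mem_ker, Matrix.mulVecLin_apply, Matrix.mulVec_single_one]
    funext a
    exact hcon a
  rw [F.exact_succ i] at hker
  obtain ⟨v, hv⟩ := hker
  have := dLin_apply_mem F hF (i + 1) v b
  change (Matrix.mulVecLin (F.d (i + 1))) v b ∈ 𝔪 at this
  rw [hv, Pi.single_eq_same] at this
  exact h1 this

end Res

section Span

variable {R : Type*} [CommRing R] {N : Type*} [AddCommGroup N] [Module R N]
  {ι : Type*} [Fintype ι] [DecidableEq ι]

/-- If `c b` lies in the span of the other members of the family, there is a relation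
with coefficient `1` at `b`. -/
theorem exists_rel_of_mem_span (c : ι → N) (b : ι)
    (h : c b ∈ Submodule.span R (c '' {b' | b' ≠ b})) :
    ∃ v : ι → R, v b = 1 ∧ Fintype.linearCombination R c v = 0 := by
  obtain ⟨l, hl, hlc⟩ := (Finsupp.mem_span_image_iff_linearCombination R).mp h
  have hlb : l b = 0 := by
    by_contra hne
    have : b ∈ (l.support : Set ι) := by simpa using hne
    exact (hl this) rfl
  refine ⟨Pi.single b 1 - ⇑l, by simp [hlb], ?_⟩
  rw [map_sub, Fintype.linearCombination_apply_single, one_smul, ← hlc,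
    Fintype.linearCombination_apply, Finsupp.linearCombination_apply,
    Finsupp.sum_fintype l (fun i a => a • c i) (fun _ => zero_smul _ _), sub_self]

/-- A relation with a unit coefficient at `b` exhibits `c b` in the span of the others. -/
theorem mem_span_of_rel (c : ι → N) (b : ι) (v : ι → R) (hv : IsUnit (v b))
    (h : Fintype.linearCombination R c v = 0) :
    c b ∈ Submodule.span R (c '' {b' | b' ≠ b}) := by
  rw [Fintype.linearCombination_apply, ← Finset.add_sum_erase _ _ (Finset.mem_univ b)] at h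
  have h2 : v b • c b = - ∑ x ∈ Finset.univ.erase b, v x • c x := eq_neg_of_add_eq_zero_left h
  have h3 : v b • c b ∈ Submodule.span R (c '' {b' | b' ≠ b}) := by
    rw [h2]
    refine Submodule.neg_mem _ (Submodule.sum_mem _ (fun x hx => ?_))
    refine Submodule.smul_mem _ _ (Submodule.subset_span ⟨x, ?_, rfl⟩)
    exact Finset.ne_of_mem_erase hx
  obtain ⟨u, hu⟩ := hv
  have : c b = (↑u⁻¹ : R) • (v b • c b) := by
    rw [← hu, smul_smul, Units.inv_mul, one_smul]
  rw [this]
  exact Submodule.smul_mem _ _ h3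

omit [DecidableEq ι] in
theorem mulVec_eq_linearCombination {m : Type*} [Fintype m] (A : Matrix m ι R) (v : ι → R) :
    A.mulVec v = Fintype.linearCombination R (fun b' a => A a b') v := by
  funext a
  rw [Fintype.linearCombination_apply, Finset.sum_apply, Matrix.mulVec, dotProduct]
  refine Finset.sum_congr rfl (fun j _ => ?_)
  rw [Pi.smul_apply, smul_eq_mul, mul_comm]

end Span

end Groth.Agent.Lib.helper7.GrSyzBasic
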