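import Groth.Agent.Lib.Helper7.GrSyzHilb
import Mathlib.RingTheory.Polynomial.Basic
import Mathlib.RingTheory.Finiteness.Defs
import Mathlib.RingTheory.Noetherian.Basic

/-!
# helper7: existence of minimal graded free resolutions (GrSyz)
-/

universe u v

namespace Groth.Agent.Lib.helper7.GrSyzMinRes

open MvPolynomial DirectSum Groth.Agent.Lib.helper7.GrSyzBasic Groth.Agent.Lib.helper7.GrSyzHilb

section Basic

variable {k : Type u} [Field k] {σ : Type v}

local notation "S" => MvPolynomial σ k
local notation "𝒜" => GrSyz.stdGr k σ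

theorem stdGr_neg_eq_bot {d : ℤ} (hd : d < 0) : (𝒜 d : Submodule k S) = ⊥ := by
  rw [eq_bot_iff]
  intro p hp
  rw [Submodule.mem_bot]
  have hp' : p.IsWeightedHomogeneous (fun _ : σ => (1 : ℤ)) d := hp
  ext e
  rw [coeff_zero]
  by_contra he
  have := hp' he
  have := weight_one_nonneg e
  omega

/-- The degree-zero component of an element outside the irrelevant ideal is outside it too. -/
theorem decompose_zero_not_mem {x : S} (hx : x ∉ (GrSyz.irrel 𝒜).toIdeal) :
    (decompose 𝒜 x 0 : S) ∉ (GrSyz.irrel 𝒜).toIdeal := by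
  classical
  intro h0
  apply hx
  rw [(GrSyz.irrel 𝒜).isHomogeneous.mem_iff]
  intro i
  rcases lt_trichotomy i 0 with hi | hi | hi
  · have : (decompose 𝒜 x i : S) ∈ (⊥ : Submodule k S) := by
      have h := stdGr_neg_eq_bot (k := k) (σ := σ) hi
      exact h ▸ Submodule.coe_mem _
    rw [Submodule.mem_bot] at this
    rw [this]
    exact zero_mem _
  · subst hi; exact h0
  · exact Ideal.subset_span ⟨i, hi, Submodule.coe_mem _⟩

theorem isUnit_decompose_zero {x : S} (hx : x ∉ (GrSyz.irrel 𝒜).toIdeal) :
    IsUnit (decompose 𝒜 x 0 : S) :=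
  isUnit_of_mem_stdGr_of_not_mem_irrel (Submodule.coe_mem _) (decompose_zero_not_mem hx)

/-- Minimal homogeneous generators: the abstract graded Nakayama lemma. -/
theorem exists_minimal_generators {N : Type*} [AddCommGroup N] [Module S N]
    (K : Submodule S N) (H : ℤ → Set N) (hfg : K.FG)
    (hspan : K = Submodule.span S {x | x ∈ K ∧ ∃ d, x ∈ H d})
    (hrel : ∀ (p : ℕ) (ε : Fin p → ℤ) (g : Fin p → N), (∀ b, g b ∈ H (ε b)) →
      ∀ v : Fin p → S, Fintype.linearCombination S g v = 0 →
        ∀ D, Fintype.linearCombination S g (comp ε D v) = 0) :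
    ∃ (p : ℕ) (ε : Fin p → ℤ) (g : Fin p → N), (∀ b, g b ∈ K ∧ g b ∈ H (ε b)) ∧
      Submodule.span S (Set.range g) = K ∧
      ∀ v : Fin p → S, Fintype.linearCombination S g v = 0 →
        ∀ b, v b ∈ (GrSyz.irrel 𝒜).toIdeal := by
  classical
  -- the property of admitting `p` homogeneous generators
  let P : ℕ → Prop := fun p => ∃ (ε : Fin p → ℤ) (g : Fin p → N),
    (∀ b, g b ∈ K ∧ g b ∈ H (ε b)) ∧ Submodule.span S (Set.range g) = K
  have hex : ∃ p, P p := by
    rw [hspan] at hfg
    obtain ⟨s', hs's, hss'⟩ := (Submodule.fg_span_iff_fg_span_finset_subset _).mp hfg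
    have hmem : ∀ x : s', ∃ d, (x : N) ∈ H d := fun x => (hs's x.2).2
    choose dd hdd using hmem
    refine ⟨s'.card, fun b => dd (s'.equivFin.symm b), fun b => (s'.equivFin.symm b : N),
      fun b => ⟨(hs's (s'.equivFin.symm b).2).1, hdd _⟩, ?_⟩
    rw [hspan, hss']
    congr 1
    ext x
    simp only [Set.mem_range, Finset.mem_coe]
    constructor
    · rintro ⟨b, rfl⟩
      exact (s'.equivFin.symm b).2
    · intro hx
      exact ⟨s'.equivFin ⟨x, hx⟩, by simp⟩
  obtain ⟨p, hp, hmin⟩ : ∃ p, P p ∧ ∀ q < p, ¬ P q :=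
    ⟨Nat.find hex, Nat.find_spec hex, fun q hq => Nat.find_min hex hq⟩
  obtain ⟨ε, g, hg, hgspan⟩ := hp
  refine ⟨p, ε, g, hg, hgspan, ?_⟩
  intro v hv b0
  by_contra hb0
  -- pass to the component of degree `ε b0`
  have hw := hrel _ ε g (fun b => (hg b).2) v hv (ε b0)
  have hunit : IsUnit (comp ε (ε b0) v b0) := by
    have : comp ε (ε b0) v b0 = (decompose 𝒜 (v b0) 0 : S) := by
      unfold comp
      rw [sub_self]
    rw [this]
    exact isUnit_decompose_zero hb0
  have hmem := mem_span_of_rel g b0 _ hunit hw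
  -- remove `g b0`
  cases p with
  | zero => exact b0.elim0
  | succ p' =>
    apply hmin p' (Nat.lt_succ_self p')
    refine ⟨ε ∘ b0.succAbove, g ∘ b0.succAbove, fun b => hg _, ?_⟩
    rw [Set.range_comp, Fin.range_succAbove, ← hgspan]
    apply le_antisymm
    · exact Submodule.span_mono (Set.image_subset_range _ _)
    · rw [Submodule.span_le]
      rintro x ⟨b, rfl⟩
      by_cases hb : b = b0
      · subst hb
        have : g '' {b' | b' ≠ b} = g '' {b}ᶜ := rfl
        rw [← this]
        exact hmem
      · exact Submodule.subset_span ⟨b, hb, rfl⟩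

end Basic

section Stage

variable {k : Type u} [Field k] {r : ℕ}

local notation "S" => MvPolynomial (Fin (r + 1)) k
local notation "𝒜" => GrSyz.stdGr k (Fin (r + 1))

theorem comp_zero {n : ℕ} (e : Fin n → ℤ) (D : ℤ) : comp e D (0 : Fin n → S) = 0 := by
  funext b
  simp [comp]

/-- A vector is the (finite) sum of its homogeneous components. -/
theorem exists_sum_comp {n : ℕ} (e : Fin n → ℤ) (v : Fin n → S) :
    ∃ T : Finset ℤ, v = ∑ D ∈ T, comp e D v := by
  classical
  refine ⟨Finset.univ.biUnion (fun b => ((decompose 𝒜 (v b)).support).image (· + e b)), ?_⟩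
  funext b
  rw [Finset.sum_apply]
  simp only [comp]
  have hsub : ((decompose 𝒜 (v b)).support).image (· + e b) ⊆
      Finset.univ.biUnion (fun b => ((decompose 𝒜 (v b)).support).image (· + e b)) :=
    Finset.subset_biUnion_of_mem (fun b => ((decompose 𝒜 (v b)).support).image (· + e b))
      (Finset.mem_univ b)
  rw [← Finset.sum_subset hsub]
  · rw [Finset.sum_image (fun x _ y _ h => by simpa using h)]
    conv_lhs => rw [← DirectSum.sum_support_decompose 𝒜 (v b)]
    refine Finset.sum_congr rfl (fun i _ => ?_)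
    rw [add_sub_cancel_right]
  · intro D _ hD
    have : D - e b ∉ (decompose 𝒜 (v b)).support := by
      intro h
      apply hD
      rw [Finset.mem_image]
      exact ⟨D - e b, h, by ring⟩
    rw [DFinsupp.notMem_support_iff] at this
    rw [this]
    rfl

variable (k r) in
/-- A stage in the construction of a minimal resolution: a graded free module `S^n` with basis
degrees `e` and a graded submodule `K ⊆ 𝔪 S^n`. -/
structure Stage where
  n : ℕ
  e : Fin n → ℤ
  K : Submodule S (Fin n → S)
  gr : ∀ v ∈ K, ∀ D, comp e D v ∈ K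
  le : ∀ v ∈ K, ∀ b, v b ∈ (GrSyz.irrel 𝒜).toIdeal

theorem mulVec_of {n p : ℕ} (g : Fin p → Fin n → S) (v : Fin p → S) :
    (Matrix.of fun a b => g b a).mulVec v = Fintype.linearCombination S g v := by
  rw [mulVec_eq_linearCombination]
  rfl

theorem exists_next (s : Stage k r) : ∃ (t : Stage k r) (A : Matrix (Fin s.n) (Fin t.n) S),
    (∀ a b, A a b ∈ 𝒜 (t.e b - s.e a)) ∧ LinearMap.range (Matrix.mulVecLin A) = s.K ∧
      t.K = LinearMap.ker (Matrix.mulVecLin A) := by
  classical
  have hrel : ∀ (p : ℕ) (ε : Fin p → ℤ) (g : Fin p → Fin s.n → S),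
      (∀ b, g b ∈ (G k (Fin (r + 1)) s.e (ε b) : Set (Fin s.n → S))) →
      ∀ v : Fin p → S, Fintype.linearCombination S g v = 0 →
        ∀ D, Fintype.linearCombination S g (comp ε D v) = 0 := by
    intro p ε g hg v hv D
    rw [← mulVec_of] at hv ⊢
    rw [mulVec_comp s.e ε D (Matrix.of fun a b => g b a)
      (fun a b => (mem_G s.e (ε b) (g b)).mp (hg b) a), hv, comp_zero]
  have hspan : s.K = Submodule.span S {x | x ∈ s.K ∧ ∃ d, x ∈
      (G k (Fin (r + 1)) s.e d : Set (Fin s.n → S))} := by
    apply le_antisymm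
    · intro v hv
      obtain ⟨T, hT⟩ := exists_sum_comp s.e v
      rw [hT]
      refine Submodule.sum_mem _ (fun D _ => Submodule.subset_span ⟨s.gr v hv D, D, comp_mem _ _ _⟩)
    · rw [Submodule.span_le]
      rintro x ⟨hx, _⟩
      exact hx
  obtain ⟨p, ε, g, hg, hgspan, hmin⟩ := exists_minimal_generators s.K
    (fun D => (G k (Fin (r + 1)) s.e D : Set (Fin s.n → S)))
    (IsNoetherian.noetherian s.K) hspan hrel
  refine ⟨⟨p, ε, LinearMap.ker (Matrix.mulVecLin (Matrix.of fun a b => g b a)), ?_, ?_⟩,
    Matrix.of fun a b => g b a, ?_, ?_, rfl⟩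
  · intro v hv D
    rw [LinearMap.mem_ker, Matrix.mulVecLin_apply, mulVec_of] at hv ⊢
    exact hrel p ε g (fun b => (hg b).2) v hv D
  · intro v hv b
    rw [LinearMap.mem_ker, Matrix.mulVecLin_apply, mulVec_of] at hv
    exact hmin v hv b
  · intro a b
    exact (mem_G s.e (ε b) (g b)).mp (hg b).2 a
  · have h1 : LinearMap.range (Matrix.mulVecLin (Matrix.of fun a b => g b a)) =
        LinearMap.range (Fintype.linearCombination S g) := by
      ext x
      simp only [LinearMap.mem_range, Matrix.mulVecLin_apply, mulVec_of]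
    have h2 : LinearMap.range (Fintype.linearCombination S g) = Submodule.span S (Set.range g) :=
      Fintype.range_linearCombination ..
    exact h1.trans (h2.trans hgspan)

variable {M : Type u} [AddCommGroup M] [Module k M] [Module (MvPolynomial (Fin (r + 1)) k) M]
  [IsScalarTower k (MvPolynomial (Fin (r + 1)) k) M]
  [Module.Finite (MvPolynomial (Fin (r + 1)) k) M]
  (ℳ : ℤ → Submodule k M) [DirectSum.Decomposition ℳ]
  [SetLike.GradedSMul (GrSyz.stdGr k (Fin (r + 1))) ℳ]

omit [IsScalarTower k (MvPolynomial (Fin (r + 1)) k) M] in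
theorem exists_init : ∃ (s : Stage k r) (aug : Fin s.n → M), (∀ b, aug b ∈ ℳ (s.e b)) ∧
    Function.Surjective (Fintype.linearCombination S aug) ∧
      s.K = LinearMap.ker (Fintype.linearCombination S aug) := by
  classical
  have hrel : ∀ (p : ℕ) (ε : Fin p → ℤ) (g : Fin p → M),
      (∀ b, g b ∈ (ℳ (ε b) : Set M)) →
      ∀ v : Fin p → S, Fintype.linearCombination S g v = 0 →
        ∀ D, Fintype.linearCombination S g (comp ε D v) = 0 := by
    intro p ε g hg v hv D
    rw [aug_comp ℳ ε D g hg v, hv, decompose_zero]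
    rfl
  have hspan : (⊤ : Submodule S M) = Submodule.span S {x | x ∈ (⊤ : Submodule S M) ∧
      ∃ d, x ∈ (ℳ d : Set M)} := by
    symm
    rw [eq_top_iff]
    intro m _
    rw [← DirectSum.sum_support_decompose ℳ m]
    refine Submodule.sum_mem _ (fun i _ => Submodule.subset_span ⟨trivial, i, Submodule.coe_mem _⟩)
  obtain ⟨p, ε, g, hg, hgspan, hmin⟩ := exists_minimal_generators (⊤ : Submodule S M)
    (fun D => (ℳ D : Set M)) (Module.finite_def.mp inferInstance) hspan hrel
  refine ⟨⟨p, ε, LinearMap.ker (Fintype.linearCombination S g), ?_, ?_⟩, g,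
    fun b => (hg b).2, ?_, rfl⟩
  · intro v hv D
    rw [LinearMap.mem_ker] at hv ⊢
    exact hrel p ε g (fun b => (hg b).2) v hv D
  · intro v hv b
    exact hmin v hv b
  · rw [← LinearMap.range_eq_top, Fintype.range_linearCombination, hgspan]

/-- the next stage -/
noncomputable def step (s : Stage k r) : Stage k r := Classical.choose (exists_next s)

/-- the matrix to the next stage -/
noncomputable def mat (s : Stage k r) : Matrix (Fin s.n) (Fin (step s).n) S :=
  Classical.choose (Classical.choose_spec (exists_next s))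

theorem mat_spec (s : Stage k r) : (∀ a b, mat s a b ∈ 𝒜 ((step s).e b - s.e a)) ∧
    LinearMap.range (Matrix.mulVecLin (mat s)) = s.K ∧
      (step s).K = LinearMap.ker (Matrix.mulVecLin (mat s)) :=
  Classical.choose_spec (Classical.choose_spec (exists_next s))

theorem mat_mem (s : Stage k r) (a : Fin s.n) (b : Fin (step s).n) :
    mat s a b ∈ (GrSyz.irrel 𝒜).toIdeal := by
  classical
  have hcol : (fun a => mat s a b) ∈ s.K := by
    rw [← (mat_spec s).2.1]
    exact ⟨Pi.single b 1, by rw [Matrix.mulVecLin_apply, Matrix.mulVec_single_one]; rfl⟩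
  exact s.le _ hcol a

/-- the sequence of stages -/
noncomputable def seq (s0 : Stage k r) : ℕ → Stage k r
  | 0 => s0
  | i + 1 => step (seq s0 i)

omit [IsScalarTower k (MvPolynomial (Fin (r + 1)) k) M] in
/-- Existence of a minimal graded free resolution. -/
theorem exists_minimal_freeRes :
    ∃ F : GrSyz.FreeRes 𝒜 ℳ, F.IsMinimal (GrSyz.irrel 𝒜).toIdeal := by
  classical
  obtain ⟨s0, aug, haug, hsurj, hK⟩ := exists_init (r := r) ℳ
  refine ⟨{ rk := fun i => (seq s0 i).n
            deg := fun i => (seq s0 i).e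
            d := fun i => mat (seq s0 i)
            aug := aug
            d_mem := fun i a b => (mat_spec (seq s0 i)).1 a b
            aug_mem := haug
            aug_surjective := hsurj
            exact_zero := ((mat_spec s0).2.1.trans hK).symm
            exact_succ := fun i =>
              (mat_spec (seq s0 i)).2.2.symm.trans (mat_spec (seq s0 (i + 1))).2.1.symm }, ?_⟩
  intro i a b
  exact mat_mem (seq s0 i) a b

end Stage

end Groth.Agent.Lib.helper7.GrSyzMinRes
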