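import Mathlib

/-!
# Spreading out a principal generator from a localization at a prime (helper7)

* `exists_away_principal`: for a Noetherian domain `A`, an ideal `J` and a prime `p` with `J A_p` principal,
  there are `g ∉ p` and `f ∈ J` with `J A_g = f A_g`.
-/

set_option autoImplicit false
set_option linter.style.haveILetI false
universe u

namespace Groth.Agent.Lib.helper7.SpreadPrincipal

variable {A : Type u} [CommRing A] [IsDomain A] [IsNoetherianRing A]

theorem exists_away_principal (J p : Ideal A) [hp : p.IsPrime]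
    (hprinc : (J.map (algebraMap A (Localization.AtPrime p))).IsPrincipal) :
    ∃ g : A, g ∉ p ∧ ∃ f ∈ J, ∀ (B : Type u) [CommRing B] [Algebra A B] [IsLocalization.Away g B],
      J.map (algebraMap A B) = Ideal.span {algebraMap A B f} := by
  classical
  set Ap := Localization.AtPrime p with hAp
  have hinj : Function.Injective (algebraMap A Ap) :=
    IsLocalization.injective Ap (Ideal.primeCompl_le_nonZeroDivisors p)
  obtain ⟨ξ, hξ⟩ := hprinc.principal
  have hξmem : ξ ∈ J.map (algebraMap A Ap) := by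
    rw [hξ]; exact Submodule.mem_span_singleton_self ξ
  obtain ⟨⟨⟨j₀, hj₀⟩, s₀⟩, h0⟩ :=
    (IsLocalization.mem_map_algebraMap_iff p.primeCompl Ap).mp hξmem
  simp only at h0
  have hs₀unit : IsUnit (algebraMap A Ap s₀) := IsLocalization.map_units Ap s₀
  -- `J A_p = (j₀)`
  have hJp : J.map (algebraMap A Ap) = Ideal.span {algebraMap A Ap j₀} := by
    rw [hξ, ← h0, Ideal.submodule_span_eq]
    exact (Ideal.span_singleton_mul_right_unit hs₀unit ξ).symm
  -- every element of `J` is multiplied into `(j₀)` by some element outside `p`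
  have hstep : ∀ j ∈ J, ∃ s : A, s ∉ p ∧ s * j ∈ Ideal.span {j₀} := by
    intro j hj
    have h1 : algebraMap A Ap j ∈ Ideal.span {algebraMap A Ap j₀} :=
      hJp ▸ Ideal.mem_map_of_mem _ hj
    obtain ⟨c, hc⟩ := Ideal.mem_span_singleton'.mp h1
    obtain ⟨⟨a, s⟩, hcs⟩ := IsLocalization.surj p.primeCompl c
    simp only at hcs
    refine ⟨s, s.2, ?_⟩
    have h2 : algebraMap A Ap (s * j) = algebraMap A Ap (a * j₀) := by
      rw [map_mul, map_mul, ← hc, ← hcs]
      ring
    rw [hinj h2]
    exact Ideal.mul_mem_left _ _ (Ideal.mem_span_singleton_self j₀)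
  obtain ⟨T, hT⟩ := (IsNoetherian.noetherian J : J.FG)
  have hTJ : ∀ t ∈ T, t ∈ J := fun t ht => hT ▸ Submodule.subset_span ht
  choose! s hs using hstep
  set g := ∏ t ∈ T, s t with hg
  have hgp : g ∉ p := by
    intro h
    obtain ⟨t, ht, hst⟩ := (hp.prod_mem_iff).mp h
    exact (hs t (hTJ t ht)).1 hst
  have hgJ : ∀ j ∈ J, g * j ∈ Ideal.span {j₀} := by
    intro j hj
    rw [← hT] at hj
    refine Submodule.span_induction ?_ ?_ ?_ ?_ hj
    · intro t ht
      have h1 : g = (∏ t' ∈ T.erase t, s t') * s t := by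
        rw [hg, ← Finset.prod_erase_mul T s ht]
      rw [h1, mul_assoc]
      exact Ideal.mul_mem_left _ _ (hs t (hTJ t ht)).2
    · rw [mul_zero]; exact Ideal.zero_mem _
    · intro a b _ _ ha hb
      rw [mul_add]; exact Ideal.add_mem _ ha hb
    · intro c a _ ha
      rw [smul_eq_mul, mul_left_comm]
      exact Ideal.mul_mem_left _ _ ha
  refine ⟨g, hgp, j₀, hj₀, ?_⟩
  intro B _ _ _
  apply le_antisymm
  · rw [Ideal.map_le_iff_le_comap]
    intro j hj
    rw [Ideal.mem_comap]
    have hgu : IsUnit (algebraMap A B g) := IsLocalization.Away.algebraMap_isUnit g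
    obtain ⟨c, hc⟩ := Ideal.mem_span_singleton'.mp (hgJ j hj)
    have h1 : algebraMap A B g * algebraMap A B j = algebraMap A B c * algebraMap A B j₀ := by
      rw [← map_mul, ← map_mul, hc]
    have h2 : algebraMap A B j = ↑hgu.unit⁻¹ * algebraMap A B c * algebraMap A B j₀ := by
      rw [mul_assoc, ← h1, ← mul_assoc, IsUnit.val_inv_mul, one_mul]
    rw [h2]
    exact Ideal.mul_mem_left _ _ (Ideal.mem_span_singleton_self _)
  · rw [Ideal.span_le, Set.singleton_subset_iff]
    exact Ideal.mem_map_of_mem _ hj₀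

end Groth.Agent.Lib.helper7.SpreadPrincipal
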