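import Mathlib

/-!
# Primes in a Noetherian local ring whose maximal ideal has two generators (helper7)

* `isPrincipalIdealRing_of_maximalIdeal_eq_span_singleton`
* `isPrincipal_of_maximalIdeal_eq_span_pair`: every non-maximal prime is principal
-/

set_option autoImplicit false
set_option linter.style.haveILetI false
universe u

open IsLocalRing

namespace Groth.Agent.Lib.helper7.TwoGen

variable {R : Type u} [CommRing R] [IsLocalRing R] [IsNoetherianRing R]

/-- a Noetherian local ring with principal maximal ideal is a principal ideal ring -/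
theorem isPrincipalIdealRing_of_maximalIdeal_eq_span_singleton (t : R)
    (ht : maximalIdeal R = Ideal.span {t}) : IsPrincipalIdealRing R := by
  apply IsPrincipalIdealRing.of_prime
  intro P hP
  by_cases hPm : P = maximalIdeal R
  · rw [hPm, ht]
    exact ⟨⟨t, rfl⟩⟩
  · have hPle : P ≤ maximalIdeal R := le_maximalIdeal hP.ne_top
    have htP : t ∉ P := by
      intro h
      apply hPm
      refine le_antisymm hPle ?_
      rw [ht, Ideal.span_le]
      exact Set.singleton_subset_iff.mpr h
    have hsub : P ≤ Ideal.span {t} • P := by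
      intro a ha
      have hat : a ∈ Ideal.span {t} := ht ▸ hPle ha
      obtain ⟨b, rfl⟩ := Ideal.mem_span_singleton'.mp hat
      have hb : b ∈ P := (hP.mem_or_mem ha).resolve_right htP
      rw [mul_comm]
      exact Ideal.mul_mem_mul (Ideal.mem_span_singleton_self t) hb
    have hjac : Ideal.span {t} ≤ Ideal.jacobson ⊥ := by
      rw [← ht, IsLocalRing.jacobson_eq_maximalIdeal ⊥ bot_ne_top]
    have hbot : P = ⊥ :=
      Submodule.eq_bot_of_le_smul_of_le_jacobson_bot (Ideal.span {t}) P (IsNoetherian.noetherian P)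
        hsub hjac
    rw [hbot]
    exact ⟨⟨0, by simp⟩⟩

/-- in a Noetherian local ring whose maximal ideal is generated by two elements, a prime not containing the first
generator is principal -/
theorem isPrincipal_of_notMem (x y : R) (hm : maximalIdeal R = Ideal.span {x, y})
    (P : Ideal R) [hP : P.IsPrime] (hxP : x ∉ P) : P.IsPrincipal := by
  have hxm : x ∈ maximalIdeal R := hm ▸ Ideal.subset_span (Set.mem_insert x {y})
  have hne : Ideal.span {x} ≠ ⊤ := by
    intro h
    have : (1 : R) ∈ maximalIdeal R := by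
      have h1 : (1 : R) ∈ Ideal.span {x} := h ▸ Submodule.mem_top
      exact (Ideal.span_le.mpr (Set.singleton_subset_iff.mpr hxm)) h1
    exact (Ideal.ne_top_iff_one _).mp (IsLocalRing.maximalIdeal.isMaximal R).ne_top this
  haveI : Nontrivial (R ⧸ Ideal.span {x}) := Ideal.Quotient.nontrivial_iff.mpr hne
  haveI : IsLocalRing (R ⧸ Ideal.span {x}) :=
    IsLocalRing.of_surjective' (Ideal.Quotient.mk (Ideal.span {x})) Ideal.Quotient.mk_surjective
  -- the maximal ideal of the quotient is generated by the image of `y`
  have hmq : maximalIdeal (R ⧸ Ideal.span {x}) =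
      Ideal.span {Ideal.Quotient.mk (Ideal.span {x}) y} := by
    have h1 : maximalIdeal (R ⧸ Ideal.span {x}) =
        (maximalIdeal R).map (Ideal.Quotient.mk (Ideal.span {x})) :=
      (IsLocalRing.map_maximalIdeal_of_surjective _ Ideal.Quotient.mk_surjective).symm
    rw [h1, hm, Ideal.map_span]
    apply le_antisymm
    · rw [Ideal.span_le]
      rintro _ ⟨a, ha, rfl⟩
      rcases ha with rfl | ha
      · rw [Ideal.Quotient.eq_zero_iff_mem.mpr (Ideal.mem_span_singleton_self a)]
        exact Ideal.zero_mem _
      · rw [Set.mem_singleton_iff.mp ha]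
        exact Ideal.mem_span_singleton_self _
    · rw [Ideal.span_le]
      rintro _ rfl
      exact Ideal.subset_span ⟨y, Set.mem_insert_of_mem x rfl, rfl⟩
  haveI := isPrincipalIdealRing_of_maximalIdeal_eq_span_singleton _ hmq
  -- a generator of the image of `P`
  obtain ⟨g, hg⟩ := (IsPrincipalIdealRing.principal
    (P.map (Ideal.Quotient.mk (Ideal.span {x})))).principal
  have hgmem : g ∈ P.map (Ideal.Quotient.mk (Ideal.span {x})) := by
    rw [hg]; exact Submodule.mem_span_singleton_self g
  obtain ⟨f, hfP, rfl⟩ := (Ideal.mem_map_iff_of_surjective _ Ideal.Quotient.mk_surjective).mp hgmem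
  -- `P ≤ (f) + x P`
  have hsub : P ≤ Ideal.span {f} ⊔ Ideal.span {x} • P := by
    intro a ha
    have h1 : Ideal.Quotient.mk (Ideal.span {x}) a ∈
        P.map (Ideal.Quotient.mk (Ideal.span {x})) := Ideal.mem_map_of_mem _ ha
    rw [hg] at h1
    obtain ⟨cbar, hc⟩ := Submodule.mem_span_singleton.mp h1
    obtain ⟨c, rfl⟩ := Ideal.Quotient.mk_surjective cbar
    have h2 : Ideal.Quotient.mk (Ideal.span {x}) (a - c * f) = 0 := by
      rw [map_sub, map_mul, ← hc]
      simp
    rw [Ideal.Quotient.eq_zero_iff_mem] at h2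
    obtain ⟨b, hb⟩ := Ideal.mem_span_singleton'.mp h2
    have hbP : b ∈ P := by
      have h3 : b * x ∈ P := by
        rw [hb]
        exact P.sub_mem ha (P.mul_mem_left c hfP)
      exact (hP.mem_or_mem h3).resolve_right hxP
    have h4 : a = c * f + x * b := by
      rw [mul_comm x b, hb]; ring
    rw [h4]
    refine Submodule.add_mem_sup (Ideal.mem_span_singleton'.mpr ⟨c, rfl⟩) ?_
    exact Ideal.mul_mem_mul (Ideal.mem_span_singleton_self x) hbP
  have hjac : Ideal.span {x} ≤ Ideal.jacobson ⊥ := by
    rw [IsLocalRing.jacobson_eq_maximalIdeal ⊥ bot_ne_top]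
    exact Ideal.span_le.mpr (Set.singleton_subset_iff.mpr hxm)
  have hle : P ≤ Ideal.span {f} :=
    Submodule.le_of_le_smul_of_le_jacobson_bot (IsNoetherian.noetherian P) hjac hsub
  refine ⟨⟨f, le_antisymm hle ?_⟩⟩
  rw [Ideal.submodule_span_eq, Ideal.span_le]
  exact Set.singleton_subset_iff.mpr hfP

/-- **every non-maximal prime is principal** when the maximal ideal has two generators -/
theorem isPrincipal_of_maximalIdeal_eq_span_pair (x y : R) (hm : maximalIdeal R = Ideal.span {x, y})
    (P : Ideal R) [hP : P.IsPrime] (hPm : P ≠ maximalIdeal R) : P.IsPrincipal := by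
  by_cases hx : x ∈ P
  · have hy : y ∉ P := by
      intro hy
      apply hPm
      refine le_antisymm (le_maximalIdeal hP.ne_top) ?_
      rw [hm, Ideal.span_le]
      rintro a (rfl | ha)
      · exact hx
      · rw [Set.mem_singleton_iff.mp ha]; exact hy
    exact isPrincipal_of_notMem y x (by rw [hm, Set.pair_comm]) P hy
  · exact isPrincipal_of_notMem x y hm P hx

/-- the regular case: dimension at most two -/
theorem isPrincipal_of_isRegularLocalRing {R : Type u} [CommRing R] [IsRegularLocalRing R]
    (hdim : ringKrullDim R ≤ 2) (P : Ideal R) [hP : P.IsPrime]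
    (hPm : P = maximalIdeal R → ringKrullDim R ≤ 1) : P.IsPrincipal := by
  classical
  have hspan : ((maximalIdeal R).spanFinrank : WithBot ℕ∞) = ringKrullDim R :=
    IsRegularLocalRing.spanFinrank_maximalIdeal
  obtain ⟨s, hcard, hs⟩ := Submodule.FG.exists_span_finset_card_eq_spanFinrank
    (IsNoetherian.noetherian (maximalIdeal R))
  have hle2 : s.card ≤ 2 := by
    rw [hcard]
    have : ((maximalIdeal R).spanFinrank : WithBot ℕ∞) ≤ 2 := hspan ▸ hdim
    exact_mod_cast this
  by_cases hPm' : P = maximalIdeal R
  · -- then the dimension is at most one and the maximal ideal is principal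
    have h1 : s.card ≤ 1 := by
      rw [hcard]
      have : ((maximalIdeal R).spanFinrank : WithBot ℕ∞) ≤ 1 := hspan ▸ hPm hPm'
      exact_mod_cast this
    rw [hPm', ← hs]
    rcases Nat.le_one_iff_eq_zero_or_eq_one.mp h1 with h0 | h1'
    · rw [Finset.card_eq_zero.mp h0]
      exact ⟨⟨0, by simp⟩⟩
    · obtain ⟨a, rfl⟩ := Finset.card_eq_one.mp h1'
      exact ⟨⟨a, by simp⟩⟩
  · -- two generators
    have : ∃ x y : R, maximalIdeal R = Ideal.span {x, y} := by
      rcases Nat.lt_or_ge s.card 2 with h | h
      · rcases Nat.le_one_iff_eq_zero_or_eq_one.mp (Nat.lt_succ_iff.mp h) with h0 | h1'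
        · refine ⟨0, 0, ?_⟩
          rw [← hs, Finset.card_eq_zero.mp h0]
          simp
        · obtain ⟨a, rfl⟩ := Finset.card_eq_one.mp h1'
          refine ⟨a, a, ?_⟩
          rw [← hs]
          simp
      · obtain ⟨a, b, -, hab⟩ := Finset.card_eq_two.mp (le_antisymm hle2 h)
        refine ⟨a, b, ?_⟩
        rw [← hs, hab]
        simp
    obtain ⟨x, y, hm⟩ := this
    exact isPrincipal_of_maximalIdeal_eq_span_pair x y hm P hPm'

end Groth.Agent.Lib.helper7.TwoGen
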