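import Mathlib
import Groth.Agent.Lib.Helper7.TwoGen
import Groth.Agent.Lib.Helper7.SpreadPrincipal

/-!
# Prime ideals of a two-dimensional regular domain are locally principal (helper7)

* `map_isPrincipal_of_regular`: `A` a Noetherian domain of dimension `≤ 2`, `J` a non-maximal prime,
  `p` a prime whose localization is regular: then `J A_p` is principal.
* `exists_away_span_singleton`: then `J A_g = f A_g` for some `g ∉ p`, `f ∈ J`.
-/

set_option autoImplicit false
set_option linter.style.haveILetI false
universe u

namespace Groth.Agent.Lib.helper7.SurfCartierAlg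

open IsLocalRing

variable {A : Type u} [CommRing A] [IsDomain A] [IsNoetherianRing A]

theorem map_isPrincipal_of_regular (hdim : ringKrullDim A ≤ 2) (J p : Ideal A) [hJ : J.IsPrime]
    [hp : p.IsPrime] (hJmax : ¬ J.IsMaximal)
    (R : Type u) [CommRing R] [Algebra A R] [IsLocalization.AtPrime R p] [IsRegularLocalRing R] :
    (J.map (algebraMap A R)).IsPrincipal := by
  by_cases hJp : J ≤ p
  · have hdisj : Disjoint (p.primeCompl : Set A) (J : Set A) := by
      rw [Set.disjoint_left]
      intro a ha haJ
      exact ha (hJp haJ)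
    haveI hP : (J.map (algebraMap A R)).IsPrime :=
      IsLocalization.isPrime_of_isPrime_disjoint p.primeCompl R J hJ hdisj
    have hRdim : ringKrullDim R = p.height :=
      IsLocalization.AtPrime.ringKrullDim_eq_height p R
    have hpdim : (p.height : WithBot ℕ∞) ≤ ringKrullDim A := Ideal.height_le_ringKrullDim_of_isPrime
    refine Groth.Agent.Lib.helper7.TwoGen.isPrincipal_of_isRegularLocalRing
      (hRdim ▸ hpdim.trans hdim) _ ?_
    intro hPm
    -- then `J = p`
    have hJp' : J = p := by
      have h1 : (J.map (algebraMap A R)).comap (algebraMap A R) = J :=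
        IsLocalization.comap_map_of_isPrime_disjoint p.primeCompl R hJ hdisj
      have h2 : (p.map (algebraMap A R)).comap (algebraMap A R) = p :=
        IsLocalization.comap_map_of_isPrime_disjoint p.primeCompl R hp
          (by rw [Set.disjoint_left]; intro a ha hap; exact ha hap)
      rw [← h1, hPm, ← IsLocalization.AtPrime.map_eq_maximalIdeal p R, h2]
    subst hJp'
    obtain ⟨m, hm, hJm⟩ := Ideal.exists_le_maximal J hJ.ne_top
    have hlt : J < m := lt_of_le_of_ne hJm (fun h => hJmax (h ▸ hm))
    haveI := hm.isPrime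
    have h3 : J.height + 1 ≤ m.height := Ideal.height_add_one_le_of_lt_of_isPrime hlt
    have h4 : (m.height : WithBot ℕ∞) ≤ 2 :=
      (Ideal.height_le_ringKrullDim_of_isPrime).trans hdim
    have h5 : m.height ≤ 2 := WithBot.coe_le_coe.mp h4
    have h6 : J.height ≤ 1 := by
      have : J.height + 1 ≤ 1 + 1 := h3.trans (by rw [one_add_one_eq_two]; exact h5)
      exact (ENat.add_le_add_iff_right (by simp)).mp this
    rw [hRdim]
    exact_mod_cast h6
  · obtain ⟨j, hjJ, hjp⟩ := Set.not_subset.mp hJp
    have hu : IsUnit (algebraMap A R j) := IsLocalization.map_units R (⟨j, hjp⟩ : p.primeCompl)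
    have htop : J.map (algebraMap A R) = ⊤ :=
      Ideal.eq_top_of_isUnit_mem _ (Ideal.mem_map_of_mem _ hjJ) hu
    rw [htop]
    exact ⟨⟨1, Ideal.span_singleton_one.symm⟩⟩

theorem exists_away_span_singleton (hdim : ringKrullDim A ≤ 2) (J p : Ideal A) [hJ : J.IsPrime]
    [hp : p.IsPrime] (hJmax : ¬ J.IsMaximal)
    (R : Type u) [CommRing R] [Algebra A R] [IsLocalization.AtPrime R p] [IsRegularLocalRing R] :
    ∃ g : A, g ∉ p ∧ ∃ f ∈ J, ∀ (B : Type u) [CommRing B] [Algebra A B] [IsLocalization.Away g B],
      J.map (algebraMap A B) = Ideal.span {algebraMap A B f} := by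
  let e : R ≃ₐ[A] Localization.AtPrime p := IsLocalization.algEquiv p.primeCompl R _
  haveI : IsRegularLocalRing (Localization.AtPrime p) := IsRegularLocalRing.of_ringEquiv e.toRingEquiv
  exact Groth.Agent.Lib.helper7.SpreadPrincipal.exists_away_principal J p
    (map_isPrincipal_of_regular hdim J p hJmax (Localization.AtPrime p))

end Groth.Agent.Lib.helper7.SurfCartierAlg
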