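import Mathlib
import Groth.Prelude.Def_BlowUp2
import Groth.Agent.Lib.Helper7.SurfCartierAlg
import Groth.Agent.Lib.Helper17.RegSmoothSch
import Groth.Agent.Lib.Helper18.RegPoint
import Groth.Agent.Lib.Helper3.FTFieldLocalDim
import Groth.Agent.Lib.Helper7.IdealCartier

/-!
# Integral curves on a smooth surface are effective Cartier divisors (helper7)

* `isEffCartierIdeal_of_curve`: `X` integral, smooth over a perfect field, of dimension 2; `I` an ideal sheaf with
  integral subscheme and one-dimensional support: then `BlowUp.IsEffCartierIdeal I`.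
* `isInvertible_idealMod_of_curve`: hence `PicF.IsInvertible (ClSub.idealMod I)`.
-/

set_option autoImplicit false
set_option linter.style.haveILetI false
universe u
open CategoryTheory AlgebraicGeometry TopologicalSpace

namespace Groth.Agent.Lib.helper7.SurfCartier

/-- in a Jacobson space, an irreducible closed subset of positive dimension meets an open set in
more than one point (or not at all). -/
theorem not_subsingleton_inter {T : Type*} [TopologicalSpace T] [JacobsonSpace T] {S U : Set T}
    (hS : IsClosed S) (hirr : IsPreirreducible S) (hU : IsOpen U) (hne : (S ∩ U).Nonempty)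
    (hdim : ¬ topologicalKrullDim S ≤ 0) : ¬ (S ∩ U).Subsingleton := by
  intro hsub
  obtain ⟨y, hy⟩ := hne
  have heq : S ∩ U = {y} := by
    ext z
    constructor
    · intro hz; exact hsub hz hy
    · rintro rfl; exact hy
  have hlc : IsLocallyClosed ({y} : Set T) := by
    rw [← heq]; exact hS.isLocallyClosed.inter hU.isLocallyClosed
  have hcl : IsClosed ({y} : Set T) := isClosed_singleton_of_isLocallyClosed_singleton hlc
  have h1 : S ⊆ closure (S ∩ U) :=
    subset_closure_inter_of_isPreirreducible_of_isOpen hirr hU ⟨y, hy⟩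
  rw [heq, hcl.closure_eq] at h1
  haveI : Subsingleton S := ⟨fun a b => Subtype.ext ((h1 a.2).trans (h1 b.2).symm)⟩
  exact hdim (topologicalKrullDim_zero_of_discreteTopology S)

variable {X : Scheme.{u}}

/-- points of the support inside an affine open correspond to primes containing the ideal. -/
theorem mem_support_iff_le_primeIdealOf (I : X.IdealSheafData) (U : X.affineOpens) (y : X)
    (hy : y ∈ U.1) : y ∈ I.support ↔ I.ideal U ≤ (U.2.primeIdealOf ⟨y, hy⟩).asIdeal := by
  rw [Scheme.IdealSheafData.mem_support_iff_of_mem hy, Scheme.mem_zeroLocus_iff]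
  constructor
  · intro h f hf
    by_contra hcon
    exact h f hf ((Groth.Agent.Lib.helper3.FTField.mem_basicOpen_iff U.2 y hy f).mpr hcon)
  · intro h f hf hyf
    exact (Groth.Agent.Lib.helper3.FTField.mem_basicOpen_iff U.2 y hy f).mp hyf (h hf)

theorem isIrreducible_support (I : X.IdealSheafData) [IrreducibleSpace I.subscheme] :
    IsIrreducible (I.support : Set X) := by
  rw [← Scheme.IdealSheafData.range_subschemeι, ← Set.image_univ]
  exact (IrreducibleSpace.isIrreducible_univ _).image _ I.subschemeι.continuous.continuousOn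

variable (k : Type u) [Field k] [PerfectField k] (X : Scheme.{u}) [X.Over (Spec (CommRingCat.of k))]
  [Smooth (X ↘ Spec (CommRingCat.of k))] [IsIntegral X]

include k in
/-- **Every integral curve on a smooth surface over a perfect field is an effective Cartier divisor.** -/
theorem isEffCartierIdeal_of_curve (hdim : topologicalKrullDim X = 2) (I : X.IdealSheafData)
    (hI : IsIntegral I.subscheme) (hd : topologicalKrullDim (I.support : Set X) = 1) :
    BlowUp.IsEffCartierIdeal I := by
  intro x
  haveI := hI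
  obtain ⟨U₀, hU₀, hxU₀, -⟩ := exists_isAffineOpen_mem_and_subset (x := x) (U := ⊤) trivial
  let U : X.affineOpens := ⟨U₀, hU₀⟩
  haveI : IsLocallyNoetherian X :=
    LocallyOfFiniteType.isLocallyNoetherian (X ↘ Spec (CommRingCat.of k))
  haveI : Nonempty U₀ := ⟨⟨x, hxU₀⟩⟩
  haveI : IsDomain Γ(X, U₀) := inferInstance
  haveI : IsNoetherianRing Γ(X, U₀) := IsLocallyNoetherian.component_noetherian U
  have hAdim : ringKrullDim Γ(X, U₀) ≤ 2 :=
    hdim ▸ Groth.Agent.Lib.Helper18.RegPoint.ringKrullDim_sections_le hU₀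
  haveI : JacobsonSpace X := LocallyOfFiniteType.jacobsonSpace (X ↘ Spec (CommRingCat.of k))
  set J := I.ideal U with hJdef
  set p := (hU₀.primeIdealOf ⟨x, hxU₀⟩).asIdeal with hp
  have hSirr : IsIrreducible (I.support : Set X) := isIrreducible_support I
  have hSdim : ¬ topologicalKrullDim (I.support : Set X) ≤ 0 := by
    rw [hd]; exact not_le.mpr (by exact_mod_cast zero_lt_one)
  by_cases hV : Nonempty (I.subschemeι ⁻¹ᵁ U₀)
  swap
  · -- the ideal is the unit ideal
    refine ⟨U, hxU₀, 1, one_mem _, ?_⟩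
    rw [Ideal.span_singleton_one, ← I.ker_subschemeι_app U]
    have hVbot : I.subschemeι ⁻¹ᵁ U₀ = ⊥ := by
      ext c
      simp only [Opens.coe_bot, Set.mem_empty_iff_false, iff_false]
      intro hc
      exact hV ⟨⟨c, hc⟩⟩
    rw [Ideal.eq_top_iff_one, RingHom.mem_ker]
    haveI : Subsingleton Γ(I.subscheme, I.subschemeι ⁻¹ᵁ U₀) := by rw [hVbot]; infer_instance
    exact Subsingleton.elim _ _
  obtain ⟨⟨c, hc⟩⟩ := hV
  haveI : Nonempty (I.subschemeι ⁻¹ᵁ U₀) := ⟨⟨c, hc⟩⟩
  haveI : IsDomain Γ(I.subscheme, I.subschemeι ⁻¹ᵁ U₀) :=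
    AlgebraicGeometry.IsIntegral.component_integral (X := I.subscheme) (I.subschemeι ⁻¹ᵁ U₀)
  haveI hJprime : J.IsPrime := by
    rw [hJdef, ← I.ker_subschemeι_app U]
    exact RingHom.ker_isPrime _
  have hne : ((I.support : Set X) ∩ (U₀ : Set X)).Nonempty := by
    refine ⟨I.subschemeι c, ?_, hc⟩
    rw [← Scheme.IdealSheafData.range_subschemeι]
    exact Set.mem_range_self c
  have hJmax : ¬ J.IsMaximal := by
    intro hmax
    apply not_subsingleton_inter I.support.isClosed hSirr.isPreirreducible U₀.isOpen hne hSdim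
    intro y hy z hz
    have h1 := (mem_support_iff_le_primeIdealOf I U y hy.2).mp hy.1
    have h2 := (mem_support_iff_le_primeIdealOf I U z hz.2).mp hz.1
    have e1 : J = (hU₀.primeIdealOf ⟨y, hy.2⟩).asIdeal :=
      hmax.eq_of_le (hU₀.primeIdealOf ⟨y, hy.2⟩).2.ne_top h1
    have e2 : J = (hU₀.primeIdealOf ⟨z, hz.2⟩).asIdeal :=
      hmax.eq_of_le (hU₀.primeIdealOf ⟨z, hz.2⟩).2.ne_top h2
    have e3 : hU₀.primeIdealOf ⟨y, hy.2⟩ = hU₀.primeIdealOf ⟨z, hz.2⟩ :=
      PrimeSpectrum.ext (e1.symm.trans e2)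
    have := congrArg hU₀.fromSpec e3
    rwa [hU₀.fromSpec_primeIdealOf, hU₀.fromSpec_primeIdealOf] at this
  have hJbot : J ≠ ⊥ := by
    intro hbot
    have hsub : (U₀ : Set X) ⊆ I.support := by
      intro y hy
      rw [SetLike.mem_coe, mem_support_iff_le_primeIdealOf I U y hy, ← hJdef, hbot]
      exact bot_le
    have hdense : Dense (U₀ : Set X) := U₀.isOpen.dense ⟨x, hxU₀⟩
    have hall : (I.support : Set X) = Set.univ := by
      rw [← Set.univ_subset_iff, ← hdense.closure_eq]
      exact closure_minimal hsub I.support.isClosed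
    rw [hall] at hd
    have h2 : topologicalKrullDim ↥(Set.univ : Set X) = topologicalKrullDim X :=
      IsHomeomorph.topologicalKrullDim_eq _ (Homeomorph.Set.univ X).isHomeomorph
    rw [h2, hdim] at hd
    exact absurd hd (by decide)
  have hreg : IsRegularLocalRing (X.presheaf.stalk x) :=
    (Groth.Agent.Lib.helper17.RegSmooth.mem_smoothLocus_iff_isRegularLocalRing_of_perfectField
      (X ↘ Spec (CommRingCat.of k)) x).mp (by rw [Scheme.Hom.smoothLocus_eq_top]; trivial)
  letI := X.presheaf.algebra_section_stalk (U := U₀) ⟨x, hxU₀⟩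
  haveI : IsLocalization.AtPrime (X.presheaf.stalk x) p := hU₀.isLocalization_stalk ⟨x, hxU₀⟩
  obtain ⟨g, hgp, f, hfJ, hloc⟩ := Groth.Agent.Lib.helper7.SurfCartierAlg.exists_away_span_singleton
    hAdim J p hJmax (X.presheaf.stalk x)
  have hxg : x ∈ X.basicOpen g :=
    (Groth.Agent.Lib.helper3.FTField.mem_basicOpen_iff hU₀ x hxU₀ g).mpr hgp
  haveI : IsLocalization.Away g Γ(X, X.basicOpen g) := hU₀.isLocalization_basicOpen g
  have hideal : I.ideal (X.affineBasicOpen (U := U) g) =
      Ideal.span {algebraMap Γ(X, U₀) Γ(X, X.basicOpen g) f} := by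
    rw [← I.map_ideal_basicOpen U g]
    exact hloc Γ(X, X.basicOpen g)
  have hg0 : g ≠ 0 := fun h => hgp (h ▸ zero_mem p)
  have hinj : Function.Injective (algebraMap Γ(X, U₀) Γ(X, X.basicOpen g)) :=
    IsLocalization.injective _ (powers_le_nonZeroDivisors_of_noZeroDivisors hg0)
  haveI : Nonempty (X.basicOpen g) := ⟨⟨x, hxg⟩⟩
  haveI : IsDomain Γ(X, X.basicOpen g) := inferInstance
  have hnz : algebraMap Γ(X, U₀) Γ(X, X.basicOpen g) f ∈ nonZeroDivisors Γ(X, X.basicOpen g) := by
    apply mem_nonZeroDivisors_of_ne_zero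
    intro h0
    apply hJbot
    rw [eq_bot_iff]
    intro j hj
    have h1 : algebraMap Γ(X, U₀) Γ(X, X.basicOpen g) j ∈
        J.map (algebraMap Γ(X, U₀) Γ(X, X.basicOpen g)) := Ideal.mem_map_of_mem _ hj
    rw [hloc Γ(X, X.basicOpen g), h0, Ideal.span_singleton_zero, Ideal.mem_bot] at h1
    rw [Ideal.mem_bot]
    exact hinj (h1.trans (map_zero _).symm)
  exact ⟨X.affineBasicOpen (U := U) g, hxg, algebraMap Γ(X, U₀) Γ(X, X.basicOpen g) f, hnz, hideal⟩

include k in
theorem isInvertible_idealMod_of_curve (hdim : topologicalKrullDim X = 2) (I : X.IdealSheafData)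
    (hI : IsIntegral I.subscheme) (hd : topologicalKrullDim (I.support : Set X) = 1) :
    PicF.IsInvertible (ClSub.idealMod I) :=
  Groth.Agent.Lib.helper7.IdealCartier.invertible_of_effCartier I
    (isEffCartierIdeal_of_curve k X hdim I hI hd)

end Groth.Agent.Lib.helper7.SurfCartier
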