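import Mathlib
import Groth.Agent.Lib.Helper7.SurfCartier
import Groth.Agent.Lib.Helper19.CohenK4
import Groth.Agent.Lib.Helper17.RegSmooth

/-!
# Integral curves on a regular surface of finite type over a field are effective Cartier divisors (helper7)

* `isRegularLocalRing_stalk_of_smooth`: local rings of a scheme smooth over an arbitrary field are regular.
* `isEffCartierIdeal_of_curve_of_regular`, `isInvertible_idealMod_of_curve_of_regular`: the versions of
  `SurfCartier.isEffCartierIdeal_of_curve` with regularity of the local rings as a hypothesis.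
-/

set_option autoImplicit false
set_option linter.style.haveILetI false
universe u
open CategoryTheory AlgebraicGeometry TopologicalSpace

namespace Groth.Agent.Lib.helper7.SurfCartier

section Smooth

variable {K : Type u} [Field K] {X : Scheme.{u}} (f : X ⟶ Spec (CommRingCat.of K))

set_option backward.isDefEq.respectTransparency false in
/-- local rings of a scheme smooth over a field are regular -/
theorem isRegularLocalRing_stalk_of_smooth [Smooth f] (x : X) :
    IsRegularLocalRing (X.presheaf.stalk x) := by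
  have hess := LocallyOfFiniteType.stalkMap f x
  have : IsLocallyNoetherian X := LocallyOfFiniteType.isLocallyNoetherian f
  have hx : x ∈ f.smoothLocus := by rw [Scheme.Hom.smoothLocus_eq_top]; trivial
  rw [Scheme.Hom.mem_smoothLocus] at hx
  algebraize [(f.stalkMap x).hom]
  let K' := (Spec.structureSheaf K).presheaf.stalk (f x)
  let e : K ≃ₐ[K] K' := IsLocalization.atUnits _ (f x).asIdeal.primeCompl
      (fun y hy ↦ by aesop (add simp IsUnit.mem_submonoid_iff))
  let : Field K' := (e.toRingEquiv.symm.isField (Field.toIsField K)).toField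
  let : Field ((Spec (.of K)).presheaf.stalk (f x)) := this
  letI : Algebra K' (X.presheaf.stalk x) := (f.stalkMap x).hom.toAlgebra
  have : Algebra.FormallySmooth ((Spec (.of K)).presheaf.stalk (f x)) (X.presheaf.stalk x) := hx
  exact Groth.Agent.Lib.helper19.CohenK.isRegularLocalRing_of_isAdicFormallySmooth_field
    ((Spec (.of K)).presheaf.stalk (f x)) (X.presheaf.stalk x)
    (Groth.Agent.Lib.helper17.RegSmooth.isAdicFormallySmooth_of_formallySmooth _ _ _)

end Smooth

variable (k : Type u) [Field k] (X : Scheme.{u}) [X.Over (Spec (CommRingCat.of k))]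
  [LocallyOfFiniteType (X ↘ Spec (CommRingCat.of k))] [IsIntegral X]

include k in
/-- **Every integral curve on a regular surface of finite type over a field is an effective Cartier divisor.** -/
theorem isEffCartierIdeal_of_curve_of_regular (hdim : topologicalKrullDim X = 2)
    (hregX : ∀ x : X, IsRegularLocalRing (X.presheaf.stalk x)) (I : X.IdealSheafData)
    (hI : IsIntegral I.subscheme) (hd : topologicalKrullDim (I.support : Set X) = 1) :
    BlowUp.IsEffCartierIdeal I := by
  intro x
  haveI := hI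
  obtain ⟨U₀, hU₀, hxU₀, -⟩ := exists_isAffineOpen_mem_and_subset (x := x) (U := ⊤) trivial
  let U : X.affineOpens := ⟨U₀, hU₀⟩
  haveI : IsLocallyNoetherian X :=
    LocallyOfFiniteType.isLocallyNoetherian (X ↘ Spec (CommRingCat.of k))
  haveI : Nonempty U₀ := ⟨⟨x, hxU₀⟩⟩
  haveI : IsDomain Γ(X, U₀) := inferInstance
  haveI : IsNoetherianRing Γ(X, U₀) := IsLocallyNoetherian.component_noetherian U
  have hAdim : ringKrullDim Γ(X, U₀) ≤ 2 :=
    hdim ▸ Groth.Agent.Lib.Helper18.RegPoint.ringKrullDim_sections_le hU₀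
  haveI : JacobsonSpace X := LocallyOfFiniteType.jacobsonSpace (X ↘ Spec (CommRingCat.of k))
  set J := I.ideal U with hJdef
  set p := (hU₀.primeIdealOf ⟨x, hxU₀⟩).asIdeal with hp
  have hSirr : IsIrreducible (I.support : Set X) := isIrreducible_support I
  have hSdim : ¬ topologicalKrullDim (I.support : Set X) ≤ 0 := by
    rw [hd]; exact not_le.mpr (by exact_mod_cast zero_lt_one)
  by_cases hV : Nonempty (I.subschemeι ⁻¹ᵁ U₀)
  swap
  · -- the ideal is the unit ideal
    refine ⟨U, hxU₀, 1, one_mem _, ?_⟩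
    rw [Ideal.span_singleton_one, ← I.ker_subschemeι_app U]
    have hVbot : I.subschemeι ⁻¹ᵁ U₀ = ⊥ := by
      ext c
      simp only [Opens.coe_bot, Set.mem_empty_iff_false, iff_false]
      intro hc
      exact hV ⟨⟨c, hc⟩⟩
    rw [Ideal.eq_top_iff_one, RingHom.mem_ker]
    haveI : Subsingleton Γ(I.subscheme, I.subschemeι ⁻¹ᵁ U₀) := by rw [hVbot]; infer_instance
    exact Subsingleton.elim _ _
  obtain ⟨⟨c, hc⟩⟩ := hV
  haveI : Nonempty (I.subschemeι ⁻¹ᵁ U₀) := ⟨⟨c, hc⟩⟩
  haveI : IsDomain Γ(I.subscheme, I.subschemeι ⁻¹ᵁ U₀) :=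
    AlgebraicGeometry.IsIntegral.component_integral (X := I.subscheme) (I.subschemeι ⁻¹ᵁ U₀)
  haveI hJprime : J.IsPrime := by
    rw [hJdef, ← I.ker_subschemeι_app U]
    exact RingHom.ker_isPrime _
  have hne : ((I.support : Set X) ∩ (U₀ : Set X)).Nonempty := by
    refine ⟨I.subschemeι c, ?_, hc⟩
    rw [← Scheme.IdealSheafData.range_subschemeι]
    exact Set.mem_range_self c
  have hJmax : ¬ J.IsMaximal := by
    intro hmax
    apply not_subsingleton_inter I.support.isClosed hSirr.isPreirreducible U₀.isOpen hne hSdim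
    intro y hy z hz
    have h1 := (mem_support_iff_le_primeIdealOf I U y hy.2).mp hy.1
    have h2 := (mem_support_iff_le_primeIdealOf I U z hz.2).mp hz.1
    have e1 : J = (hU₀.primeIdealOf ⟨y, hy.2⟩).asIdeal :=
      hmax.eq_of_le (hU₀.primeIdealOf ⟨y, hy.2⟩).2.ne_top h1
    have e2 : J = (hU₀.primeIdealOf ⟨z, hz.2⟩).asIdeal :=
      hmax.eq_of_le (hU₀.primeIdealOf ⟨z, hz.2⟩).2.ne_top h2
    have e3 : hU₀.primeIdealOf ⟨y, hy.2⟩ = hU₀.primeIdealOf ⟨z, hz.2⟩ :=
      PrimeSpectrum.ext (e1.symm.trans e2)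
    have := congrArg hU₀.fromSpec e3
    rwa [hU₀.fromSpec_primeIdealOf, hU₀.fromSpec_primeIdealOf] at this
  have hJbot : J ≠ ⊥ := by
    intro hbot
    have hsub : (U₀ : Set X) ⊆ I.support := by
      intro y hy
      rw [SetLike.mem_coe, mem_support_iff_le_primeIdealOf I U y hy, ← hJdef, hbot]
      exact bot_le
    have hdense : Dense (U₀ : Set X) := U₀.isOpen.dense ⟨x, hxU₀⟩
    have hall : (I.support : Set X) = Set.univ := by
      rw [← Set.univ_subset_iff, ← hdense.closure_eq]
      exact closure_minimal hsub I.support.isClosed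
    rw [hall] at hd
    have h2 : topologicalKrullDim ↥(Set.univ : Set X) = topologicalKrullDim X :=
      IsHomeomorph.topologicalKrullDim_eq _ (Homeomorph.Set.univ X).isHomeomorph
    rw [h2, hdim] at hd
    exact absurd hd (by decide)
  have hreg : IsRegularLocalRing (X.presheaf.stalk x) := hregX x
  letI := X.presheaf.algebra_section_stalk (U := U₀) ⟨x, hxU₀⟩
  haveI : IsLocalization.AtPrime (X.presheaf.stalk x) p := hU₀.isLocalization_stalk ⟨x, hxU₀⟩
  obtain ⟨g, hgp, f, hfJ, hloc⟩ := Groth.Agent.Lib.helper7.SurfCartierAlg.exists_away_span_singleton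
    hAdim J p hJmax (X.presheaf.stalk x)
  have hxg : x ∈ X.basicOpen g :=
    (Groth.Agent.Lib.helper3.FTField.mem_basicOpen_iff hU₀ x hxU₀ g).mpr hgp
  haveI : IsLocalization.Away g Γ(X, X.basicOpen g) := hU₀.isLocalization_basicOpen g
  have hideal : I.ideal (X.affineBasicOpen (U := U) g) =
      Ideal.span {algebraMap Γ(X, U₀) Γ(X, X.basicOpen g) f} := by
    rw [← I.map_ideal_basicOpen U g]
    exact hloc Γ(X, X.basicOpen g)
  have hg0 : g ≠ 0 := fun h => hgp (h ▸ zero_mem p)
  have hinj : Function.Injective (algebraMap Γ(X, U₀) Γ(X, X.basicOpen g)) :=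
    IsLocalization.injective _ (powers_le_nonZeroDivisors_of_noZeroDivisors hg0)
  haveI : Nonempty (X.basicOpen g) := ⟨⟨x, hxg⟩⟩
  haveI : IsDomain Γ(X, X.basicOpen g) := inferInstance
  have hnz : algebraMap Γ(X, U₀) Γ(X, X.basicOpen g) f ∈ nonZeroDivisors Γ(X, X.basicOpen g) := by
    apply mem_nonZeroDivisors_of_ne_zero
    intro h0
    apply hJbot
    rw [eq_bot_iff]
    intro j hj
    have h1 : algebraMap Γ(X, U₀) Γ(X, X.basicOpen g) j ∈
        J.map (algebraMap Γ(X, U₀) Γ(X, X.basicOpen g)) := Ideal.mem_map_of_mem _ hj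
    rw [hloc Γ(X, X.basicOpen g), h0, Ideal.span_singleton_zero, Ideal.mem_bot] at h1
    rw [Ideal.mem_bot]
    exact hinj (h1.trans (map_zero _).symm)
  exact ⟨X.affineBasicOpen (U := U) g, hxg, algebraMap Γ(X, U₀) Γ(X, X.basicOpen g) f, hnz, hideal⟩

include k in
theorem isInvertible_idealMod_of_curve_of_regular (hdim : topologicalKrullDim X = 2)
    (hregX : ∀ x : X, IsRegularLocalRing (X.presheaf.stalk x)) (I : X.IdealSheafData)
    (hI : IsIntegral I.subscheme) (hd : topologicalKrullDim (I.support : Set X) = 1) :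
    PicF.IsInvertible (ClSub.idealMod I) :=
  Groth.Agent.Lib.helper7.IdealCartier.invertible_of_effCartier I
    (isEffCartierIdeal_of_curve_of_regular k X hdim hregX I hI hd)

end Groth.Agent.Lib.helper7.SurfCartier
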