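import Groth.Agent.Lib.Helper7.GrSyzHilb
import Groth.Prelude.Def_GrLC
import Mathlib.RingTheory.MvPolynomial.Homogeneous

/-!
# helper7: graded quotients `S/I` for `I` the homogeneous vanishing ideal of a finite set of points
-/

universe u

namespace Groth.Agent.Lib.helper7.GrSyzPts

open MvPolynomial DirectSum Groth.Agent.Lib.helper7.GrSyzBasic Groth.Agent.Lib.helper7.GrSyzHilb

section

variable {k : Type u} [Field k] {r : ℕ}
  {M : Type u} [AddCommGroup M] [Module k M] [Module (MvPolynomial (Fin (r + 1)) k) M]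
  [IsScalarTower k (MvPolynomial (Fin (r + 1)) k) M]
  (ℳ : ℤ → Submodule k M) [DirectSum.Decomposition ℳ]
  [SetLike.GradedSMul (GrSyz.stdGr k (Fin (r + 1))) ℳ]
  (π : MvPolynomial (Fin (r + 1)) k →ₗ[MvPolynomial (Fin (r + 1)) k] M)
  (hπg : GrLC.IsGrHom (GrSyz.stdGr k (Fin (r + 1))) ℳ π)

local notation "S" => MvPolynomial (Fin (r + 1)) k
local notation "𝒜" => GrSyz.stdGr k (Fin (r + 1))

include hπg in
omit [IsScalarTower k (MvPolynomial (Fin (r + 1)) k) M]
  [SetLike.GradedSMul (GrSyz.stdGr k (Fin (r + 1))) ℳ] in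
/-- A graded map commutes with taking homogeneous components. -/
theorem decompose_map (x : S) (d : ℤ) :
    (decompose ℳ (π x) d : M) = π (decompose 𝒜 x d : S) := by
  classical
  induction x using DirectSum.Decomposition.inductionOn 𝒜 with
  | zero => simp
  | @homogeneous g x =>
    have hx : π (x : S) ∈ ℳ g := hπg g x x.2
    by_cases h : g = d
    · subst h
      rw [decompose_of_mem_same ℳ hx, decompose_coe, of_eq_same]
    · rw [decompose_of_mem_ne ℳ hx h, decompose_coe, of_eq_of_ne _ _ _ (Ne.symm h)]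
      simp
  | add x y hx hy =>
    rw [map_add, decompose_add, add_apply, Submodule.coe_add, hx, hy, decompose_add, add_apply,
      Submodule.coe_add, map_add]

theorem stdGr_neg_eq_bot {d : ℤ} (hd : d < 0) : (𝒜 d : Submodule k S) = ⊥ := by
  rw [eq_bot_iff]
  intro p hp
  rw [Submodule.mem_bot]
  have hp' : p.IsWeightedHomogeneous (fun _ : Fin (r + 1) => (1 : ℤ)) d := hp
  ext e
  rw [coeff_zero]
  by_contra he
  have := hp' he
  have := weight_one_nonneg e
  omega

include hπg in
omit [IsScalarTower k (MvPolynomial (Fin (r + 1)) k) M]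
  [SetLike.GradedSMul (GrSyz.stdGr k (Fin (r + 1))) ℳ] in
theorem piece_eq_bot_of_neg (hπ : Function.Surjective π) {d : ℤ} (hd : d < 0) : ℳ d = ⊥ := by
  rw [eq_bot_iff]
  intro m hm
  rw [Submodule.mem_bot]
  obtain ⟨x, rfl⟩ := hπ m
  rw [← decompose_of_mem_same ℳ hm, decompose_map ℳ π hπg]
  have : (decompose 𝒜 x d : S) ∈ (⊥ : Submodule k S) := by
    have h := stdGr_neg_eq_bot (k := k) (r := r) hd
    exact h ▸ Submodule.coe_mem _
  rw [Submodule.mem_bot] at this
  rw [this, map_zero]

/-- homogeneous components of a homogeneous polynomial -/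
theorem homogeneousComponent_of_mem_stdGr {f : S} {d : ℤ} (hf : f ∈ 𝒜 d) (j : ℕ) :
    homogeneousComponent j f = if (j : ℤ) = d then f else 0 := by
  classical
  have hf' : f.IsWeightedHomogeneous (fun _ : Fin (r + 1) => (1 : ℤ)) d := hf
  ext e
  rw [coeff_homogeneousComponent]
  by_cases he : coeff e f = 0
  · split_ifs <;> simp [he]
  · have h1 := hf' he
    rw [weight_one_eq_degree] at h1
    by_cases hj : (j : ℤ) = d
    · rw [if_pos hj, if_pos]
      rw [← hj] at h1
      exact_mod_cast h1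
    · rw [if_neg hj, if_neg, coeff_zero]
      intro h
      apply hj
      rw [← h1, h]

end

section Bound

variable {k : Type u} [Field k] {r : ℕ}
  {M : Type u} [AddCommGroup M] [Module k M] [Module (MvPolynomial (Fin (r + 1)) k) M]
  [IsScalarTower k (MvPolynomial (Fin (r + 1)) k) M]
  (ℳ : ℤ → Submodule k M) [DirectSum.Decomposition ℳ]
  [SetLike.GradedSMul (GrSyz.stdGr k (Fin (r + 1))) ℳ]
  (π : MvPolynomial (Fin (r + 1)) k →ₗ[MvPolynomial (Fin (r + 1)) k] M)
  (hπg : GrLC.IsGrHom (GrSyz.stdGr k (Fin (r + 1))) ℳ π)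
  (hπ : Function.Surjective π)
  (Z : Finset (Fin (r + 1) → k)) (I : Ideal (MvPolynomial (Fin (r + 1)) k))
  (hI : ∀ f : MvPolynomial (Fin (r + 1)) k, f ∈ I ↔
      ∀ p ∈ Z, ∀ j : ℕ, MvPolynomial.eval p (MvPolynomial.homogeneousComponent j f) = 0)
  (hker : LinearMap.ker π = I)

local notation "S" => MvPolynomial (Fin (r + 1)) k
local notation "𝒜" => GrSyz.stdGr k (Fin (r + 1))

include hπg hπ hI hker in
omit [SetLike.GradedSMul (GrSyz.stdGr k (Fin (r + 1))) ℳ] in
/-- The Hilbert function of the coordinate ring of a finite set of points is bounded by the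
number of points. -/
theorem finrank_piece_le (d : ℤ) : Module.finrank k ↥(ℳ d) ≤ Z.card := by
  classical
  have hfin : Module.Finite k ↥(𝒜 d) := finite_stdGr k r d
  -- restriction of π to degree d
  let πd : ↥(𝒜 d) →ₗ[k] ↥(ℳ d) :=
    (π.restrictScalars k).restrict (fun x hx => hπg d x hx)
  -- evaluation at the points
  let ev : ↥(𝒜 d) →ₗ[k] (↥Z → k) :=
    { toFun := fun f p => MvPolynomial.eval p.1 (f : S)
      map_add' := fun f g => by funext p; simp
      map_smul' := fun c f => by funext p; simp [MvPolynomial.smul_eval] }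
  have hsurj : Function.Surjective πd := by
    rintro ⟨m, hm⟩
    obtain ⟨x, rfl⟩ := hπ m
    refine ⟨⟨(decompose 𝒜 x d : S), Submodule.coe_mem _⟩, Subtype.ext ?_⟩
    change π (decompose 𝒜 x d : S) = π x
    rw [← decompose_map ℳ π hπg, decompose_of_mem_same ℳ hm]
  have hle : LinearMap.ker ev ≤ LinearMap.ker πd := by
    rintro ⟨f, hf⟩ hfev
    rw [LinearMap.mem_ker] at hfev ⊢
    refine Subtype.ext ?_
    change π f = 0
    have : f ∈ LinearMap.ker π := by
      rw [hker, hI]
      intro p hp j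
      rw [homogeneousComponent_of_mem_stdGr hf]
      split_ifs
      · exact congrFun hfev ⟨p, hp⟩
      · simp
    exact this
  have h1 := LinearMap.finrank_range_add_finrank_ker πd
  have h2 := LinearMap.finrank_range_add_finrank_ker ev
  have h3 : Module.finrank k ↥(LinearMap.range πd) = Module.finrank k ↥(ℳ d) := by
    rw [LinearMap.range_eq_top.mpr hsurj, finrank_top]
  have h4 := Submodule.finrank_mono hle
  have h5 : Module.finrank k ↥(LinearMap.range ev) ≤ Z.card := by
    refine (Submodule.finrank_le _).trans ?_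
    rw [Module.finrank_fintype_fun_eq_card, Fintype.card_coe]
  omega

end Bound

section AugNe

variable {R : Type u} [CommRing R] {σ' : Type u} [SetLike σ' R]
  {𝒜 : ℤ → σ'}
  {M : Type u} [AddCommGroup M] [Module R M] {τ : Type u} [SetLike τ M] [AddSubgroupClass τ M]
  {ℳ : ℤ → τ} [DirectSum.Decomposition ℳ] [SetLike.GradedSMul 𝒜 ℳ]

/-- In a minimal resolution (w.r.t. a proper ideal) no generator `aug b` vanishes. -/
theorem aug_ne_zero (F : GrSyz.FreeRes 𝒜 ℳ) {𝔪 : Ideal R} (hF : F.IsMinimal 𝔪)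
    (h1 : (1 : R) ∉ 𝔪) (b : Fin (F.rk 0)) : F.aug b ≠ 0 := by
  classical
  intro hcon
  have hker : (Pi.single b 1 : Fin (F.rk 0) → R) ∈
      LinearMap.ker (Fintype.linearCombination R F.aug) := by
    rw [LinearMap.mem_ker, Fintype.linearCombination_apply_single, hcon, smul_zero]
  rw [F.exact_zero] at hker
  obtain ⟨v, hv⟩ := hker
  have := dLin_apply_mem F hF 0 v b
  change (Matrix.mulVecLin (F.d 0)) v b ∈ 𝔪 at this
  rw [hv, Pi.single_eq_same] at this
  exact h1 this

end AugNe

/-- An integer quadratic bounded on a half-line is constant. -/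
theorem quad_bdd (A B C L d0 : ℤ)
    (h : ∀ d, d0 ≤ d → 0 ≤ A * d ^ 2 + B * d + C ∧ A * d ^ 2 + B * d + C ≤ L) :
    A = 0 ∧ B = 0 := by
  have hL : 0 ≤ L := (h d0 le_rfl).1.trans (h d0 le_rfl).2
  have e0 := h d0 le_rfl
  have e1 := h (d0 + (L + 1)) (by omega)
  have e2 := h (d0 + 2 * (L + 1)) (by omega)
  have hA : A = 0 := by
    by_contra hA
    rcases lt_or_gt_of_ne hA with hneg | hpos
    · have : A ≤ -1 := by omega
      nlinarith [sq_nonneg (L + 1)]
    · have : 1 ≤ A := by omega
      nlinarith [sq_nonneg (L + 1)]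
  subst hA
  refine ⟨rfl, ?_⟩
  by_contra hB
  rcases lt_or_gt_of_ne hB with hneg | hpos
  · have : B ≤ -1 := by omega
    nlinarith
  · have : 1 ≤ B := by omega
    nlinarith

theorem two_mul_choose_two (n : ℕ) : 2 * Nat.choose (2 + n) 2 = (n + 2) * (n + 1) := by
  induction n with
  | zero => simp
  | succ n ih =>
    have : 2 + (n + 1) = (2 + n) + 1 := by omega
    rw [this, Nat.choose_succ_succ, Nat.choose_one_right, Nat.mul_add, ih]
    ring

end Groth.Agent.Lib.helper7.GrSyzPts
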