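import Groth.Agent.Lib.Helper7.GrSyzBasic
import Mathlib.Algebra.Homology.ShortComplex.ModuleCat
import Mathlib.CategoryTheory.Abelian.Projective.Dimension
import Mathlib.Algebra.Category.ModuleCat.Projective
import Mathlib.RingTheory.Finiteness.Nakayama

/-!
# helper7: length of a minimal graded free resolution = projective dimension (GrSyz)
-/

universe u

namespace Groth.Agent.Lib.helper7.GrSyzPD

open CategoryTheory Groth.Agent.Lib.helper7.GrSyzBasic

section General

variable {R : Type u} [CommRing R] {P N : Type u} [AddCommGroup P] [Module R P]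
  [AddCommGroup N] [Module R N]

/-- Dimension shifting along a surjection from a projective module. -/
theorem pd_step (p : P →ₗ[R] N) (hp : Function.Surjective p) [Module.Projective R P] (m : ℕ) :
    HasProjectiveDimensionLT (ModuleCat.of R N) (m + 2) ↔
      HasProjectiveDimensionLT (ModuleCat.of R (LinearMap.ker p)) (m + 1) := by
  have hproj : Projective (ModuleCat.of R P) :=
    (IsProjective.iff_projective (R := R) P).mp inferInstance
  exact (LinearMap.shortExact_shortComplexKer hp).hasProjectiveDimensionLT_X₃_iff m hproj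

theorem pd_one_iff (N : Type u) [AddCommGroup N] [Module R N] :
    HasProjectiveDimensionLT (ModuleCat.of R N) 1 ↔ Module.Projective R N := by
  rw [← projective_iff_hasProjectiveDimensionLT_one, ← IsProjective.iff_projective]

/-- A direct summand of a finite free module over a domain that lies in `𝔪 F` vanishes. -/
theorem eq_bot_of_retract [IsDomain R] {a : ℕ} (𝔪 : Ideal R) (h1 : (1 : R) ∉ 𝔪)
    (Z : Submodule R (Fin a → R)) (hfg : Z.FG) (hZ : ∀ z ∈ Z, ∀ i, z i ∈ 𝔪)
    (ρ : (Fin a → R) →ₗ[R] (Fin a → R)) (hρ : ∀ z ∈ Z, ρ z = z) (hρ' : ∀ v, ρ v ∈ Z) :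
    Z = ⊥ := by
  classical
  have hle : Z ≤ 𝔪 • Z := by
    intro z hz
    have hz' : z = ∑ i, z i • ρ (Pi.single i 1) := by
      conv_lhs => rw [← hρ z hz, ← (Pi.basisFun R (Fin a)).sum_repr z, map_sum]
      refine Finset.sum_congr rfl (fun i _ => ?_)
      rw [map_smul, Pi.basisFun_repr, Pi.basisFun_apply]
    rw [hz']
    exact Submodule.sum_mem _ (fun i _ => Submodule.smul_mem_smul (hZ z hz i) (hρ' _))
  obtain ⟨r, hr, hrz⟩ := Submodule.exists_sub_one_mem_and_smul_eq_zero_of_fg_of_le_smul 𝔪 Z hfg hle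
  have hr0 : r ≠ 0 := by
    rintro rfl
    apply h1
    have := 𝔪.neg_mem hr
    simpa using this
  rw [eq_bot_iff]
  intro z hz
  rw [Submodule.mem_bot]
  funext i
  have := congrFun (hrz z hz) i
  rw [Pi.smul_apply, smul_eq_mul, Pi.zero_apply] at this
  exact (mul_eq_zero.mp this).resolve_left hr0

end General

section Res

variable {R : Type u} [CommRing R] {σ' : Type u} [SetLike σ' R]
  {𝒜 : ℤ → σ'}
  {M : Type u} [AddCommGroup M] [Module R M] {τ : Type u} [SetLike τ M] [AddSubgroupClass τ M]
  {ℳ : ℤ → τ} [DirectSum.Decomposition ℳ] [SetLike.GradedSMul 𝒜 ℳ]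
  (F : GrSyz.FreeRes 𝒜 ℳ)

theorem pd_zero_step (m : ℕ) :
    HasProjectiveDimensionLT (ModuleCat.of R M) (m + 2) ↔
      HasProjectiveDimensionLT (ModuleCat.of R (LinearMap.range (F.dLin 0))) (m + 1) := by
  have := pd_step F.augLin F.aug_surjective m
  rw [F.exact_zero] at this
  exact this

theorem pd_succ_step (i m : ℕ) :
    HasProjectiveDimensionLT (ModuleCat.of R (LinearMap.range (F.dLin i))) (m + 2) ↔
      HasProjectiveDimensionLT (ModuleCat.of R (LinearMap.range (F.dLin (i + 1)))) (m + 1) := by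
  have := pd_step (F.dLin i).rangeRestrict (F.dLin i).surjective_rangeRestrict m
  rw [LinearMap.ker_rangeRestrict, F.exact_succ i] at this
  exact this

theorem pd_chain (n : ℕ) : ∀ i j : ℕ, j = i + n →
    (HasProjectiveDimensionLT (ModuleCat.of R (LinearMap.range (F.dLin i))) (n + 1) ↔
      Module.Projective R (LinearMap.range (F.dLin j))) := by
  induction n with
  | zero =>
    intro i j hj
    obtain rfl : j = i := by omega
    exact pd_one_iff _
  | succ n ih =>
    intro i j hj
    rw [pd_succ_step F i n]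
    exact ih (i + 1) j (by omega)

/-- `pd M ≤ n + 1` iff the `n`-th syzygy image is projective. -/
theorem pdLE_succ_iff (n : ℕ) :
    HasProjectiveDimensionLE (ModuleCat.of R M) (n + 1) ↔
      Module.Projective R (LinearMap.range (F.dLin n)) := by
  change HasProjectiveDimensionLT (ModuleCat.of R M) (n + 2) ↔ _
  rw [pd_zero_step F n]
  exact pd_chain F n 0 n (by omega)

theorem pdLE_zero_iff :
    HasProjectiveDimensionLE (ModuleCat.of R M) 0 ↔ Module.Projective R M :=
  pd_one_iff M

/-- From vanishing of the image of `d n` in a minimal resolution, all later ranks vanish. -/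
theorem hasLengthLE_of_range_eq_bot {𝔪 : Ideal R} (hF : F.IsMinimal 𝔪) (h1 : (1 : R) ∉ 𝔪) (n : ℕ)
    (h : LinearMap.range (F.dLin n) = ⊥) : F.HasLengthLE n := by
  classical
  have hn1 : F.rk (n + 1) = 0 := by
    by_contra hne
    obtain ⟨b⟩ : Nonempty (Fin (F.rk (n + 1))) := ⟨⟨0, Nat.pos_of_ne_zero hne⟩⟩
    obtain ⟨a, ha⟩ := exists_d_ne_zero F hF h1 n b
    apply ha
    have hmem : F.dLin n (Pi.single b 1) ∈ LinearMap.range (F.dLin n) := ⟨_, rfl⟩
    rw [h, Submodule.mem_bot] at hmem
    have := congrFun hmem a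
    rw [Matrix.mulVecLin_apply, Matrix.mulVec_single_one] at this
    exact this
  have hall : ∀ j : ℕ, F.rk (n + 1 + j) = 0 := by
    intro j
    induction j with
    | zero => exact hn1
    | succ j ih =>
      by_contra hne
      obtain ⟨b⟩ : Nonempty (Fin (F.rk (n + 1 + j + 1))) := ⟨⟨0, Nat.pos_of_ne_zero hne⟩⟩
      obtain ⟨a, -⟩ := exists_d_ne_zero F hF h1 (n + 1 + j) b
      rw [ih] at a
      exact a.elim0
  intro i hi
  obtain ⟨j, rfl⟩ : ∃ j, i = n + 1 + j := ⟨i - (n + 1), by omega⟩
  exact hall j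

/-- If `F_n → N` is a surjection onto a projective module with kernel the image of `d n`, then (for a
minimal resolution over a domain) the image of `d n` vanishes. -/
theorem range_eq_bot_of_projective [IsDomain R] {𝔪 : Ideal R} (hF : F.IsMinimal 𝔪)
    (h1 : (1 : R) ∉ 𝔪) (n : ℕ) {N : Type u} [AddCommGroup N] [Module R N] [Module.Projective R N]
    (p : (Fin (F.rk n) → R) →ₗ[R] N) (hp : Function.Surjective p)
    (hker : LinearMap.ker p = LinearMap.range (F.dLin n)) :
    LinearMap.range (F.dLin n) = ⊥ := by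
  obtain ⟨s, hs⟩ := Module.projective_lifting_property p LinearMap.id hp
  have hs' : ∀ x, p (s x) = x := fun x => LinearMap.congr_fun hs x
  refine eq_bot_of_retract 𝔪 h1 _ ?_ ?_ (LinearMap.id - s.comp p) ?_ ?_
  · rw [LinearMap.range_eq_map]
    exact Submodule.FG.map _ Module.Finite.fg_top
  · rintro z ⟨v, rfl⟩ i
    exact dLin_apply_mem F hF n v i
  · intro z hz
    rw [← hker, LinearMap.mem_ker] at hz
    simp [hz]
  · intro v
    rw [← hker, LinearMap.mem_ker]
    simp [hs']

end Res

end Groth.Agent.Lib.helper7.GrSyzPD
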