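import Mathlib
import Groth.Agent.Lib.Helper7.IdealMod
import Groth.Agent.Lib.Helper7.IdealComap
import Groth.Agent.Lib.Helper7.IdealCartier
import Groth.Agent.Lib.Helper8.PullbackUnit2
import Groth.Agent.Lib.Helper16.QCohEpi
import Groth.Agent.Lib.Helper12.InvDual2

/-!
# Pullback of the ideal sheaf of an effective Cartier divisor (helper7)

For `f : X ⟶ Y` and an ideal sheaf `I` on `Y`, `J = I.comap f`:

* `toPushIdeal f I : idealMod I ⟶ f_* (idealMod J)`, compatible with the inclusions into the structure sheaves;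
* `pullIdeal f I : f^* (idealMod I) ⟶ idealMod J` its adjoint; it is an epimorphism (`epi_pullIdeal`);
* `isIso_pullIdeal`: an isomorphism when `I` and `J` are effective Cartier.
-/

set_option autoImplicit false
set_option linter.unusedSectionVars false
set_option linter.unusedVariables false
set_option linter.style.haveILetI false

universe u

open CategoryTheory Limits AlgebraicGeometry Opposite TopologicalSpace

namespace Groth.Agent.Lib.helper7.PullIdeal

open Groth.Agent.Lib.helper7.IdealMod Scheme.Modules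

variable {X Y : Scheme.{u}} (f : X ⟶ Y) (I : Y.IdealSheafData)

theorem comap_comm : (I.comap f).subschemeι ≫ f =
    ((I.comapIso f).hom ≫ pullback.snd f I.subschemeι) ≫ I.subschemeι := by
  rw [Category.assoc, ← pullback.condition, ← Category.assoc,
    Scheme.IdealSheafData.comapIso_hom_fst]

theorem app_eq_zero_of_eq {Z : Scheme.{u}} {a b : Z ⟶ Y} (h : a = b) (U : Y.Opens) (s : Γ(Y, U))
    (hb : (b.app U).hom s = 0) : (a.app U).hom s = 0 := by
  subst h; exact hb

/-- a function vanishing on `V(I)` pulls back to a function vanishing on `V(I.comap f)` -/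
theorem subschemeι_app_comap (U : Y.Opens) (s : Γ(Y, U)) (hs : (I.subschemeι.app U).hom s = 0) :
    ((I.comap f).subschemeι.app (f ⁻¹ᵁ U)).hom ((f.app U).hom s) = 0 := by
  have h2 : (((I.comap f).subschemeι ≫ f).app U).hom s = 0 := by
    refine app_eq_zero_of_eq (comap_comm f I) U s ?_
    change (((I.comapIso f).hom ≫ pullback.snd f I.subschemeι).app (I.subschemeι ⁻¹ᵁ U)).hom
      ((I.subschemeι.app U).hom s) = 0
    rw [hs, map_zero]
  exact h2

theorem w_comp_zero :
    (ClSub.idealModι I ≫ ClSub.unitToPush f) ≫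
      (Scheme.Modules.pushforward f).map (ClSub.toSubscheme (I.comap f)) = 0 := by
  apply Scheme.Modules.hom_ext
  intro W
  ext a
  have h0 : (I.subschemeι.app W).hom (((ClSub.idealModι I).app W).hom a) = 0 :=
    (mem_range_idealModι_iff I W _).mp ⟨a, rfl⟩
  exact subschemeι_app_comap f I W _ h0

instance : PreservesLimits (Scheme.Modules.pushforward f) :=
  (Scheme.Modules.pullbackPushforwardAdjunction f).rightAdjoint_preservesLimits

/-- `I ⟶ f_* (I.comap f)` on the level of ideal sheaves as modules -/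
noncomputable def toPushIdeal :
    ClSub.idealMod I ⟶ (Scheme.Modules.pushforward f).obj (ClSub.idealMod (I.comap f)) :=
  kernel.lift ((Scheme.Modules.pushforward f).map (ClSub.toSubscheme (I.comap f)))
      (ClSub.idealModι I ≫ ClSub.unitToPush f) (w_comp_zero f I) ≫
    (PreservesKernel.iso (Scheme.Modules.pushforward f) (ClSub.toSubscheme (I.comap f))).inv

theorem toPushIdeal_comp :
    toPushIdeal f I ≫ (Scheme.Modules.pushforward f).map (ClSub.idealModι (I.comap f)) =
      ClSub.idealModι I ≫ ClSub.unitToPush f := by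
  have h1 : (PreservesKernel.iso (Scheme.Modules.pushforward f)
        (ClSub.toSubscheme (I.comap f))).inv ≫
      (Scheme.Modules.pushforward f).map (ClSub.idealModι (I.comap f)) =
      kernel.ι ((Scheme.Modules.pushforward f).map (ClSub.toSubscheme (I.comap f))) := by
    change _ ≫ (Scheme.Modules.pushforward f).map (kernel.ι (ClSub.toSubscheme (I.comap f))) = _
    rw [Iso.inv_comp_eq, PreservesKernel.iso_hom, kernelComparison_comp_ι]
  unfold toPushIdeal
  refine (Category.assoc _ _ _).trans ?_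
  refine (congrArg (fun t => kernel.lift ((Scheme.Modules.pushforward f).map
    (ClSub.toSubscheme (I.comap f))) (ClSub.idealModι I ≫ ClSub.unitToPush f)
    (w_comp_zero f I) ≫ t) h1).trans ?_
  exact kernel.lift_ι _ _ _

/-- sections form of `toPushIdeal_comp` -/
theorem toPushIdeal_app (U : Y.Opens) (a : Γ(ClSub.idealMod I, U)) :
    ((ClSub.idealModι (I.comap f)).app (f ⁻¹ᵁ U)).hom (((toPushIdeal f I).app U).hom a) =
      (f.app U).hom (((ClSub.idealModι I).app U).hom a) := by
  have h := toPushIdeal_comp f I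
  have h2 := congrArg (fun φ => (Scheme.Modules.Hom.app φ U).hom a) h
  exact h2

/-- the comparison `f^* I ⟶ I.comap f` -/
noncomputable def pullIdeal :
    (Scheme.Modules.pullback f).obj (ClSub.idealMod I) ⟶ ClSub.idealMod (I.comap f) :=
  ((Scheme.Modules.pullbackPushforwardAdjunction f).homEquiv _ _).symm (toPushIdeal f I)

open Groth.Agent.Lib.helper8.PullbackUnit in
theorem surjective_pullIdeal_app {U : Y.Opens} (hU : IsAffineOpen U) {V : X.Opens}
    (hV : IsAffineOpen V) (e : V ≤ f ⁻¹ᵁ U) :
    Function.Surjective ((pullIdeal f I).app V).hom := by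
  let uL : Γ((Scheme.Modules.pullback f).obj (ClSub.idealMod I), V) →ₗ[Γ(X, V)]
      Γ(ClSub.idealMod (I.comap f), V) :=
    { toFun := ((pullIdeal f I).app V).hom
      map_add' := fun x y => map_add _ x y
      map_smul' := fun r x => Scheme.Modules.Hom.app_smul (pullIdeal f I) r x }
  let ιL : Γ(ClSub.idealMod (I.comap f), V) →ₗ[Γ(X, V)] Γ(X, V) :=
    { toFun := fun t => ((ClSub.idealModι (I.comap f)).app V).hom t
      map_add' := fun x y => map_add _ x y
      map_smul' := fun r x => idealModι_app_smul (I.comap f) V r x }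
  let T : Ideal Γ(X, V) := LinearMap.range (ιL ∘ₗ uL)
  have hmap : (I.ideal ⟨U, hU⟩).map (f.appLE U V e).hom ≤ T := by
    rw [Ideal.map_le_iff_le_comap]
    intro s hs
    obtain ⟨a, ha⟩ := (mem_range_idealModι_iff_of_affine I ⟨U, hU⟩ s).mpr hs
    rw [Ideal.mem_comap]
    refine ⟨ρ f e (ClSub.idealMod I) a, ?_⟩
    change ((ClSub.idealModι (I.comap f)).app V).hom (((pullIdeal f I).app V).hom
      (ρ f e (ClSub.idealMod I) a)) = (f.appLE U V e).hom s
    have h1 : ((pullIdeal f I).app V).hom (ρ f e (ClSub.idealMod I) a) =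
        ρv f e (toPushIdeal f I) a := app_ρ f e (toPushIdeal f I) a
    let a' : Γ(ClSub.idealMod (I.comap f), f ⁻¹ᵁ U) := ((toPushIdeal f I).app U).hom a
    have h3 := Groth.Agent.Lib.helper16.QCohEpi.app_map (ClSub.idealModι (I.comap f)) e a'
    have h2 : ((ClSub.idealModι (I.comap f)).app (f ⁻¹ᵁ U)).hom a' = (f.app U).hom s := by
      have := toPushIdeal_app f I U a
      rw [ha] at this
      exact this
    refine (congrArg (fun t => ((ClSub.idealModι (I.comap f)).app V).hom t) h1).trans ?_
    refine h3.trans ?_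
    rw [h2]
    rfl
  intro b
  have hb : ((ClSub.idealModι (I.comap f)).app V).hom b ∈ (I.comap f).ideal ⟨V, hV⟩ :=
    idealModι_app_mem (I.comap f) ⟨V, hV⟩ b
  have hb' : ((ClSub.idealModι (I.comap f)).app V).hom b ∈
      (I.ideal ⟨U, hU⟩).map (f.appLE U V e).hom := by
    rw [← Groth.Agent.Lib.helper7.IdealComap.ideal_comap f I hU hV e]; exact hb
  obtain ⟨m, hm⟩ := hmap hb'
  refine ⟨m, ?_⟩
  exact idealModι_app_injective (I.comap f) V hm

instance epi_pullIdeal : Epi (pullIdeal f I) := by
  refine Groth.Agent.Lib.helper16.QCohEpi.epi_of_surjective_on_basis (pullIdeal f I)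
    {V : X.Opens | IsAffineOpen V ∧ ∃ U : Y.Opens, IsAffineOpen U ∧ V ≤ f ⁻¹ᵁ U}
    (Groth.Agent.Lib.helper8.PullbackUnit.isBasis_affine_preimage f) ?_
  rintro V ⟨hV, U, hU, e⟩
  exact surjective_pullIdeal_app f I hU hV e

open Groth.Agent.Lib.helper11.InvMod Groth.Agent.Lib.helper11.GenLocus
  Groth.Agent.Lib.helper11.InvHom Groth.Agent.Lib.helper11.IsoLocus in
/-- an epimorphism between invertible modules is an isomorphism -/
theorem isIso_of_epi_of_isInvertible₂ {Z : Scheme.{u}} {M N : Z.Modules}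
    (hM : PicF.IsInvertible M) (hN : PicF.IsInvertible N) (φ : M ⟶ N) [Epi φ] : IsIso φ := by
  refine isIso_of_forall_restrict φ fun x => ?_
  obtain ⟨U₁, hxU₁, h₁⟩ := hM x
  obtain ⟨U₂, hxU₂, h₂⟩ := hN x
  obtain ⟨eM⟩ := IsTrivOn.of_le (inf_le_left : U₁ ⊓ U₂ ≤ U₁) h₁
  obtain ⟨eN⟩ := IsTrivOn.of_le (inf_le_right : U₁ ⊓ U₂ ≤ U₂) h₂
  refine ⟨U₁ ⊓ U₂, ⟨hxU₁, hxU₂⟩, ?_⟩
  rw [← isIso_localEnd_iff φ eM eN]
  have : Epi ((restrictFunctor (U₁ ⊓ U₂).ι).map φ) := inferInstance
  have : Epi (localEnd φ eM eN) := by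
    unfold localEnd
    infer_instance
  exact Groth.Agent.Lib.helper12.InvDual.isIso_of_epi_end _

/-- `f^* I ≅ I.comap f` when both are invertible -/
theorem isIso_pullIdeal (hI : PicF.IsInvertible (ClSub.idealMod I))
    (hJ : PicF.IsInvertible (ClSub.idealMod (I.comap f))) : IsIso (pullIdeal f I) :=
  isIso_of_epi_of_isInvertible₂
    (Groth.Agent.Lib.helper11.InvMod.isInvertible_pullback f hI) hJ (pullIdeal f I)

/-- the isomorphism `f^* I ≅ I.comap f` when both are invertible -/
noncomputable def pullIdealIso (hI : PicF.IsInvertible (ClSub.idealMod I))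
    (hJ : PicF.IsInvertible (ClSub.idealMod (I.comap f))) :
    (Scheme.Modules.pullback f).obj (ClSub.idealMod I) ≅ ClSub.idealMod (I.comap f) :=
  haveI := isIso_pullIdeal f I hI hJ
  asIso (pullIdeal f I)

end Groth.Agent.Lib.helper7.PullIdeal
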