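import Mathlib
import Groth.Agent.S0843
import Groth.Agent.S0844
import Groth.Agent.S0845
import Groth.Agent.Lib.Helper28.TwistPn
import Groth.Agent.Lib.Helper20.HomogRank
import Groth.Agent.Lib.Helper18.HHConseq

/-!
# Cohomology of `O(m)` on `P^N_F`, numerically (helper7)
-/

set_option autoImplicit false
set_option linter.unusedSectionVars false
set_option linter.style.haveILetI false
universe u

open CategoryTheory CategoryTheory.Limits AlgebraicGeometry Opposite TopologicalSpace Module

namespace Groth.Agent.Lib.helper7.TwistNum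

variable (F : Type u) [Field F] (N : ℕ)

theorem finite_homogeneousSubmodule (m : ℕ) :
    Module.Finite F ↥(MvPolynomial.homogeneousSubmodule (Fin (N + 1)) F m) := by
  apply Module.finite_of_finrank_pos
  rw [Groth.Agent.Lib.Helper20.HomogRank.finrank_homogeneousSubmodule]
  exact Nat.choose_pos (Nat.le_add_left _ _)

theorem subsingleton_HH_twist (m : ℤ) (p : ℕ) (hp0 : p ≠ 0) (hpN : p ≠ N) :
    Subsingleton (Coh.HH (CohB1.ProjSpace N F) (Twist.twistProjSpace N F m) p) :=
  Groth.Agent.S0844.result F N m p (fun h => hp0 h.1) (fun h => hpN h.1)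

theorem finrank_H0_twist (hN : 1 ≤ N) (m : ℤ) :
    Module.Finite F (Coh.HH (CohB1.ProjSpace N F) (Twist.twistProjSpace N F m) 0) ∧
    finrank F (Coh.HH (CohB1.ProjSpace N F) (Twist.twistProjSpace N F m) 0) =
      Nat.choose (m + N).toNat N := by
  by_cases hm : 0 ≤ m
  · obtain ⟨d, rfl⟩ := Int.eq_ofNat_of_zero_le hm
    obtain ⟨e⟩ := Groth.Agent.S0843.result F N d
    haveI := finite_homogeneousSubmodule F N d
    refine ⟨Module.Finite.equiv e.symm, ?_⟩
    rw [e.finrank_eq, Groth.Agent.Lib.Helper20.HomogRank.finrank_homogeneousSubmodule]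
    congr 1
  · haveI : Subsingleton (Coh.HH (CohB1.ProjSpace N F) (Twist.twistProjSpace N F m) 0) :=
      Groth.Agent.S0844.result F N m 0 (fun h => hm h.2) (fun h => by omega)
    refine ⟨inferInstance, ?_⟩
    rw [Module.finrank_zero_of_subsingleton]
    symm
    apply Nat.choose_eq_zero_of_lt
    omega

theorem finrank_HN_twist (hN : 1 ≤ N) (m : ℤ) :
    Module.Finite F (Coh.HH (CohB1.ProjSpace N F) (Twist.twistProjSpace N F m) N) ∧
    finrank F (Coh.HH (CohB1.ProjSpace N F) (Twist.twistProjSpace N F m) N) =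
      Nat.choose (-m - 1).toNat N := by
  by_cases hm : m ≤ -((N : ℤ) + 1)
  · obtain ⟨j, hj⟩ := Int.eq_ofNat_of_zero_le (show 0 ≤ -m - ((N : ℤ) + 1) by omega)
    have hm' : m = -((N : ℤ) + 1 + j) := by omega
    subst hm'
    obtain ⟨e⟩ := Groth.Agent.S0845.result F N j
    haveI := finite_homogeneousSubmodule F N j
    refine ⟨Module.Finite.equiv e.symm, ?_⟩
    rw [e.finrank_eq, Groth.Agent.Lib.Helper20.HomogRank.finrank_homogeneousSubmodule]
    congr 1
    omega
  · haveI : Subsingleton (Coh.HH (CohB1.ProjSpace N F) (Twist.twistProjSpace N F m) N) :=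
      Groth.Agent.S0844.result F N m N (fun h => by omega) (fun h => hm h.2)
    refine ⟨inferInstance, ?_⟩
    rw [Module.finrank_zero_of_subsingleton]
    symm
    apply Nat.choose_eq_zero_of_lt
    omega

theorem finite_HH_twist (hN : 1 ≤ N) (m : ℤ) (p : ℕ) :
    Module.Finite F (Coh.HH (CohB1.ProjSpace N F) (Twist.twistProjSpace N F m) p) := by
  by_cases hp0 : p = 0
  · subst hp0
    exact (finrank_H0_twist F N hN m).1
  by_cases hpN : p = N
  · subst hpN
    exact (finrank_HN_twist F p hN m).1
  haveI := subsingleton_HH_twist F N m p hp0 hpN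
  infer_instance

end Groth.Agent.Lib.helper7.TwistNum
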