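import Groth.Agent.Lib.Helper7.OmegaAlg
import Groth.Agent.Lib.Helper7.IdealCartier
import Groth.Agent.Lib.Helper16.QCohPullback
import Groth.Prelude.Def_Omega2

/-!
# Pullbacks to `Spec B` through an affine chart, ideal sheaves on charts, and `Ω_{Spec A/Spec R}`
(helper7)
-/

set_option autoImplicit false
set_option linter.style.haveILetI false
universe u
open CategoryTheory CategoryTheory.Limits AlgebraicGeometry TopologicalSpace Opposite
open Scheme.Modules Groth.Agent.Lib.helper7

namespace Groth.Agent.Lib.helper7.OmegaAffine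

section Chart
variable {X : Scheme.{u}} {B C : CommRingCat.{u}} (f : Spec B ⟶ X) (M : X.Modules)
  [M.IsQuasicoherent] (j : Spec C ⟶ X) [IsOpenImmersion j] (θ : C ⟶ B)
  (h : f = Spec.map θ ≫ j)

/-- If `f : Spec B ⟶ X` factors as `Spec B ⟶ Spec C ⟶ X` with the second map an open immersion,
then `f^* M` is the tilde of the base change of the sections of `M` over the chart. -/
noncomputable def pullbackChartIso :
    (Scheme.Modules.pullback f).obj M ≅
      tilde ((ModuleCat.extendScalars θ.hom).obj (moduleSpecΓFunctor.obj (M.restrict j))) :=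
  (pullbackCongr h).app M ≪≫ ((pullbackComp (Spec.map θ) j).app M).symm ≪≫
    (Scheme.Modules.pullback (Spec.map θ)).mapIso
      (((restrictFunctorIsoPullback j).app M).symm ≪≫ (asIso (M.restrict j).fromTildeΓ).symm) ≪≫
    (Groth.Agent.Lib.helper16.QCohPullback.tildePullbackIso θ).app _

end Chart

section IdealChart
variable {X : Scheme.{u}} {C : CommRingCat.{u}} (K : X.IdealSheafData)
  (j : Spec C ⟶ X) [IsOpenImmersion j]

/-- the image of the chart, an affine open -/
noncomputable abbrev chartOpen : X.affineOpens :=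
  ⟨j ''ᵁ ⊤, (isAffineOpen_top (Spec C)).image_of_isOpenImmersion j⟩

/-- the ring isomorphism `C ≅ Γ(X, j(Spec C))` -/
noncomputable def chartRingIso : C ≅ Γ(X, (chartOpen j).1) :=
  (Scheme.ΓSpecIso C).symm ≪≫ (j.appIso ⊤).symm

/-- the ideal of `C` cut out by the ideal sheaf `K` on the chart `j : Spec C ⟶ X` -/
noncomputable def chartIdeal : Ideal C := (K.ideal (chartOpen j)).comap (chartRingIso j).hom.hom

theorem mem_chartIdeal (c : C) :
    c ∈ chartIdeal K j ↔ (chartRingIso j).hom.hom c ∈ K.ideal (chartOpen j) := Iff.rfl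

/-- view a global section of `N|_{Spec C}` as a section of `N` over the chart -/
def ofChart (N : X.Modules) (t : (moduleSpecΓFunctor.obj (N.restrict j) : ModuleCat C)) :
    Γ(N, (chartOpen j).1) := t

/-- view a section of `N` over the chart as a global section of `N|_{Spec C}` -/
def toChart (N : X.Modules) (s : Γ(N, (chartOpen j).1)) :
    (moduleSpecΓFunctor.obj (N.restrict j) : ModuleCat C) := s

@[simp] theorem ofChart_toChart (N : X.Modules) (s : Γ(N, (chartOpen j).1)) :
    ofChart j N (toChart j N s) = s := rfl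

@[simp] theorem toChart_ofChart (N : X.Modules)
    (t : (moduleSpecΓFunctor.obj (N.restrict j) : ModuleCat C)) :
    toChart j N (ofChart j N t) = t := rfl

theorem ofChart_add (N : X.Modules) (a b : (moduleSpecΓFunctor.obj (N.restrict j) : ModuleCat C)) :
    ofChart j N (a + b) = ofChart j N a + ofChart j N b := rfl

theorem ofChart_smul (N : X.Modules) (c : C)
    (t : (moduleSpecΓFunctor.obj (N.restrict j) : ModuleCat C)) :
    ofChart j N (c • t) = (chartRingIso j).hom.hom c • ofChart j N t := by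
  change (c • (show Γ(N.restrict j, ⊤) from t) : Γ(N.restrict j, ⊤)) = _
  rw [Scheme.Modules.smul_Spec_def, IdealCartier.restrict_smul']
  congr 1

/-- global sections of `(idealMod K)|_{Spec C}` map to the chart ideal -/
noncomputable def chartSectionsMap :
    (moduleSpecΓFunctor.obj ((ClSub.idealMod K).restrict j) : ModuleCat C) →ₗ[C] chartIdeal K j where
  toFun t := ⟨(chartRingIso j).inv.hom
      (IdealMod.sectionsEquiv K (chartOpen j) (ofChart j _ t)), by
    rw [mem_chartIdeal, ← CommRingCat.comp_apply, Iso.inv_hom_id]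
    exact Subtype.property _⟩
  map_add' a b := by
    apply Subtype.ext
    change (chartRingIso j).inv.hom ((IdealMod.sectionsEquiv K (chartOpen j)
      (ofChart j _ (a + b)) : K.ideal (chartOpen j)) : Γ(X, (chartOpen j).1)) = _
    rw [ofChart_add, _root_.map_add, Submodule.coe_add, _root_.map_add]
    rfl
  map_smul' c t := by
    apply Subtype.ext
    change (chartRingIso j).inv.hom ((IdealMod.sectionsEquiv K (chartOpen j)
      (ofChart j _ (c • t)) : K.ideal (chartOpen j)) : Γ(X, (chartOpen j).1)) = _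
    rw [ofChart_smul, _root_.map_smul, Submodule.coe_smul, smul_eq_mul, _root_.map_mul,
      ← CommRingCat.comp_apply, Iso.hom_inv_id]
    rfl

theorem chartSectionsMap_coe (t : (moduleSpecΓFunctor.obj ((ClSub.idealMod K).restrict j) : ModuleCat C)) :
    (chartRingIso j).hom.hom (chartSectionsMap K j t : C) =
      ((ClSub.idealModι K).app (chartOpen j).1).hom (ofChart j _ t) := by
  change (chartRingIso j).hom.hom ((chartRingIso j).inv.hom _) = _
  rw [← CommRingCat.comp_apply, Iso.inv_hom_id]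
  rfl

theorem chartRingIso_inv_injective : Function.Injective (chartRingIso j).inv.hom := by
  intro a b hab
  have := congrArg (chartRingIso j).hom.hom hab
  rwa [← CommRingCat.comp_apply, ← CommRingCat.comp_apply, Iso.inv_hom_id] at this

theorem chartRingIso_hom_injective : Function.Injective (chartRingIso j).hom.hom := by
  intro a b hab
  have := congrArg (chartRingIso j).inv.hom hab
  rwa [← CommRingCat.comp_apply, ← CommRingCat.comp_apply, Iso.hom_inv_id] at this

theorem chartSectionsMap_bijective : Function.Bijective (chartSectionsMap K j) := by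
  constructor
  · intro a b hab
    have h1 : (chartRingIso j).hom.hom (chartSectionsMap K j a : C) =
        (chartRingIso j).hom.hom (chartSectionsMap K j b : C) := by rw [hab]
    rw [chartSectionsMap_coe, chartSectionsMap_coe] at h1
    exact IdealMod.idealModι_app_injective K _ h1
  · rintro ⟨c, hc⟩
    rw [mem_chartIdeal] at hc
    refine ⟨toChart j _ ((IdealMod.sectionsEquiv K (chartOpen j)).symm ⟨_, hc⟩), ?_⟩
    apply Subtype.ext
    apply chartRingIso_hom_injective j
    rw [chartSectionsMap_coe, ofChart_toChart, ← IdealMod.sectionsEquiv_coe,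
      LinearEquiv.apply_symm_apply]

/-- **Global sections of `(idealMod K)|_{Spec C}` are the chart ideal.** -/
noncomputable def chartSectionsIso :
    moduleSpecΓFunctor.obj ((ClSub.idealMod K).restrict j) ≅ ModuleCat.of C (chartIdeal K j) :=
  (LinearEquiv.ofBijective (chartSectionsMap K j) (chartSectionsMap_bijective K j)).toModuleIso

/-- **`(idealMod K)|_{Spec C} ≅ (chart ideal)^~`.** -/
noncomputable def restrictIdealModIso :
    (ClSub.idealMod K).restrict j ≅ tilde (ModuleCat.of C (chartIdeal K j)) :=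
  (asIso ((ClSub.idealMod K).restrict j).fromTildeΓ).symm ≪≫
    (tilde.functor C).mapIso (chartSectionsIso K j)

end IdealChart

section Kernel
variable {X : Scheme.{u}} {B C : CommRingCat.{u}} (i : Spec B ⟶ X)
  (j : Spec C ⟶ X) [IsOpenImmersion j] (θ : C ⟶ B) (h : i = Spec.map θ ≫ j)

include h in
theorem chart_le_preimage : (⊤ : (Spec B).Opens) ≤ i ⁻¹ᵁ (chartOpen j).1 := by
  subst h
  intro x _
  exact ⟨(Spec.map θ) x, trivial, rfl⟩

theorem chartRingIso_comp_appLE :
    (chartRingIso j).hom ≫ i.appLE (chartOpen j).1 ⊤ (chart_le_preimage i j θ h) =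
      θ ≫ (Scheme.ΓSpecIso B).inv := by
  subst h
  have e₁ : (⊤ : (Spec C).Opens) ≤ j ⁻¹ᵁ (j ''ᵁ ⊤) := by rw [Scheme.Hom.preimage_image_eq]
  have e₂ : (⊤ : (Spec B).Opens) ≤ (Spec.map θ) ⁻¹ᵁ ⊤ := le_rfl
  have h1 : (Spec.map θ ≫ j).appLE (chartOpen j).1 ⊤ (chart_le_preimage _ j θ rfl) =
      j.appLE (j ''ᵁ ⊤) ⊤ e₁ ≫ (Spec.map θ).appLE ⊤ ⊤ e₂ := by
    rw [Scheme.Hom.appLE_comp_appLE]
  rw [h1, chartRingIso, Iso.trans_hom, Iso.symm_hom, Iso.symm_hom, Category.assoc,
    Scheme.Hom.appIso_inv_appLE_assoc, Scheme.ΓSpecIso_inv_naturality]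
  congr 1

theorem res_top_injective {Y : Scheme.{u}} {V : Y.Opens} (e : (⊤ : Y.Opens) ≤ V) :
    Function.Injective (Y.presheaf.map (homOfLE e).op) := by
  intro a b hab
  have := congrArg (Y.presheaf.map (homOfLE (le_top : V ≤ ⊤)).op) hab
  simp only [← CommRingCat.comp_apply, ← Functor.map_comp] at this
  have h2 : ((homOfLE e).op ≫ (homOfLE (le_top : V ≤ ⊤)).op) = 𝟙 _ := Subsingleton.elim _ _
  rwa [h2, Y.presheaf.map_id] at this

include h in
theorem chartIdeal_ker [QuasiCompact i] : chartIdeal i.ker j = RingHom.ker θ.hom := by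
  ext c
  rw [mem_chartIdeal, Scheme.Hom.ker_apply, RingHom.mem_ker, RingHom.mem_ker]
  have h1 := congr($(chartRingIso_comp_appLE i j θ h) c)
  rw [CommRingCat.comp_apply, CommRingCat.comp_apply, Scheme.Hom.appLE,
    CommRingCat.comp_apply] at h1
  constructor
  · intro h0
    rw [h0, map_zero] at h1
    have h3 : Function.Injective (Scheme.ΓSpecIso B).inv.hom := by
      intro a b hab
      have := congrArg (Scheme.ΓSpecIso B).hom.hom hab
      rwa [← CommRingCat.comp_apply, ← CommRingCat.comp_apply, Iso.inv_hom_id] at this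
    exact h3 (by rw [← h1, map_zero])
  · intro h0
    rw [h0, map_zero] at h1
    exact res_top_injective (chart_le_preimage i j θ h) (by rw [h1, map_zero])

/-- **The conormal sheaf of a quasi-compact `i : Spec B ⟶ X` that factors through an affine chart
`Spec C ⟶ X` via `θ : C ⟶ B` is the tilde of `B ⊗_C ker θ`.** -/
noncomputable def conormalChartIso [QuasiCompact i] :
    Omega.conormal i ≅
      tilde ((ModuleCat.extendScalars θ.hom).obj (ModuleCat.of C (RingHom.ker θ.hom))) :=
  pullbackChartIso i (ClSub.idealMod i.ker) j θ h ≪≫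
    (tilde.functor B).mapIso ((ModuleCat.extendScalars θ.hom).mapIso
      (chartSectionsIso i.ker j ≪≫
        (LinearEquiv.ofEq _ _ (chartIdeal_ker i j θ h)).toModuleIso))

end Kernel

section KernelRel
variable {X Z : Scheme.{u}} {B C : CommRingCat.{u}} (i : Z ⟶ X)
  (jZ : Spec B ⟶ Z) [IsOpenImmersion jZ]
  (j : Spec C ⟶ X) [IsOpenImmersion j] (θ : C ⟶ B) (h : jZ ≫ i = Spec.map θ ≫ j)
  (hcart : jZ ''ᵁ ⊤ = i ⁻¹ᵁ (chartOpen j).1)

theorem appLE_image_injective {V : Z.Opens} (hV : V = jZ ''ᵁ ⊤) (e : (⊤ : (Spec B).Opens) ≤ jZ ⁻¹ᵁ V) :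
    Function.Injective (jZ.appLE V ⊤ e) := by
  subst hV
  rw [← Scheme.Hom.appIso_hom']
  intro a b hab
  have := congrArg (jZ.appIso ⊤).inv.hom hab
  rwa [← CommRingCat.comp_apply, ← CommRingCat.comp_apply, Iso.hom_inv_id] at this

include h hcart in
theorem chartIdeal_ker_rel [QuasiCompact i] : chartIdeal i.ker j = RingHom.ker θ.hom := by
  ext c
  rw [mem_chartIdeal, Scheme.Hom.ker_apply, RingHom.mem_ker, RingHom.mem_ker]
  have h1 := congr($(chartRingIso_comp_appLE (jZ ≫ i) j θ h) c)
  have e' : (⊤ : (Spec B).Opens) ≤ jZ ⁻¹ᵁ (i ⁻¹ᵁ (chartOpen j).1) :=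
    chart_le_preimage (jZ ≫ i) j θ h
  have h2 : (jZ ≫ i).appLE (chartOpen j).1 ⊤ (chart_le_preimage (jZ ≫ i) j θ h) =
      i.app (chartOpen j).1 ≫ jZ.appLE (i ⁻¹ᵁ (chartOpen j).1) ⊤ e' :=
    Scheme.Hom.comp_appLE _ _ _ _ _
  rw [h2, CommRingCat.comp_apply, CommRingCat.comp_apply, CommRingCat.comp_apply] at h1
  have h3 : Function.Injective (Scheme.ΓSpecIso B).inv.hom := by
    intro a b hab
    have := congrArg (Scheme.ΓSpecIso B).hom.hom hab
    rwa [← CommRingCat.comp_apply, ← CommRingCat.comp_apply, Iso.inv_hom_id] at this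
  constructor
  · intro h0
    rw [h0, map_zero] at h1
    exact h3 (by rw [← h1, map_zero])
  · intro h0
    rw [h0, map_zero] at h1
    exact appLE_image_injective jZ hcart.symm e' (by rw [h1, map_zero])

/-- **The conormal sheaf of a quasi-compact `i : Z ⟶ X` on an affine chart `Spec B ⟶ Z` which is the
preimage of an affine chart `Spec C ⟶ X`: the tilde of `B ⊗_C ker (C → B)`.** -/
noncomputable def conormalRestrictIso [QuasiCompact i] :
    (Omega.conormal i).restrict jZ ≅
      tilde ((ModuleCat.extendScalars θ.hom).obj (ModuleCat.of C (RingHom.ker θ.hom))) :=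
  (restrictFunctorIsoPullback jZ).app _ ≪≫ (pullbackComp jZ i).app _ ≪≫
    pullbackChartIso (jZ ≫ i) (ClSub.idealMod i.ker) j θ h ≪≫
    (tilde.functor B).mapIso ((ModuleCat.extendScalars θ.hom).mapIso
      (chartSectionsIso i.ker j ≪≫
        (LinearEquiv.ofEq _ _ (chartIdeal_ker_rel i jZ j θ h hcart)).toModuleIso))

end KernelRel

section Kaehler
open TensorProduct
variable (R A : Type u) [CommRing R] [CommRing A] [Algebra R A]

theorem ker_mulHom : RingHom.ker (OmegaAlg.mulHom R A) = KaehlerDifferential.ideal R A := by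
  ext x
  rw [RingHom.mem_ker, RingHom.mem_ker]
  rfl

instance : QuasiCompact (pullback.diagonal (Spec.map (CommRingCat.ofHom (algebraMap R A)))) :=
  inferInstance

/-- **`Ω_{Spec A/Spec R} ≅ (Ω[A⁄R])^~`.** -/
noncomputable def omegaSpecIso :
    Omega.sheaf (Spec.map (CommRingCat.ofHom (algebraMap R A))) ≅
      tilde (R := CommRingCat.of A) (ModuleCat.of A (Ω[A⁄R])) :=
  conormalChartIso (pullback.diagonal (Spec.map (CommRingCat.ofHom (algebraMap R A))))
      (pullbackSpecIso R A A).inv (CommRingCat.ofHom (OmegaAlg.mulHom R A))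
      (diagonal_SpecMap R A) ≪≫
    (tilde.functor (CommRingCat.of A)).mapIso
      ((ModuleCat.extendScalars (OmegaAlg.mulHom R A)).mapIso
        (LinearEquiv.ofEq _ _ (ker_mulHom R A)).toModuleIso ≪≫ OmegaAlg.kaehlerIso R A)

end Kaehler

section Relative
open TensorProduct
variable {X Y : Scheme.{u}} (f : X ⟶ Y) {U : X.Opens} (hU : IsAffineOpen U)
  {V : Y.Opens} (hV : IsAffineOpen V) (e : U ≤ f ⁻¹ᵁ V)

/-- the chart `Spec (B ⊗[A] B) ⟶ X ×_Y X` for `B = Γ(X,U)`, `A = Γ(Y,V)` -/
noncomputable def diagChart :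
    letI := (f.appLE V U e).hom.toAlgebra
    Spec (CommRingCat.of (Γ(X, U) ⊗[Γ(Y, V)] Γ(X, U))) ⟶ pullback f f :=
  letI := (f.appLE V U e).hom.toAlgebra
  (pullbackSpecIso Γ(Y, V) Γ(X, U) Γ(X, U)).inv ≫
    pullback.map _ _ f f hU.fromSpec hU.fromSpec hV.fromSpec
      (IsAffineOpen.SpecMap_appLE_fromSpec f hV hU e) (IsAffineOpen.SpecMap_appLE_fromSpec f hV hU e)

instance : letI := (f.appLE V U e).hom.toAlgebra; IsOpenImmersion (diagChart f hU hV e) := by
  letI := (f.appLE V U e).hom.toAlgebra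
  unfold diagChart
  infer_instance

theorem diagonal_comp_map {X' Y' : Scheme.{u}} (g : X' ⟶ Y') (i₁ : X' ⟶ X) (i₃ : Y' ⟶ Y)
    (e₁ : g ≫ i₃ = i₁ ≫ f) :
    pullback.diagonal g ≫ pullback.map g g f f i₁ i₁ i₃ e₁ e₁ = i₁ ≫ pullback.diagonal f := by
  apply pullback.hom_ext
  · rw [Category.assoc, Category.assoc, pullback.diagonal_fst, Category.comp_id]
    erw [pullback.lift_fst]
    rw [pullback.diagonal_fst_assoc]
  · rw [Category.assoc, Category.assoc, pullback.diagonal_snd, Category.comp_id]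
    erw [pullback.lift_snd]
    rw [pullback.diagonal_snd_assoc]

theorem fromSpec_comp_diagonal :
    letI := (f.appLE V U e).hom.toAlgebra
    hU.fromSpec ≫ pullback.diagonal f =
      Spec.map (CommRingCat.ofHom (OmegaAlg.mulHom Γ(Y, V) Γ(X, U))) ≫ diagChart f hU hV e := by
  letI := (f.appLE V U e).hom.toAlgebra
  rw [diagChart, ← Category.assoc, ← diagonal_SpecMap Γ(Y, V) Γ(X, U)]
  exact (diagonal_comp_map f _ hU.fromSpec hV.fromSpec
    (IsAffineOpen.SpecMap_appLE_fromSpec f hV hU e)).symm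

theorem range_diagChart :
    letI := (f.appLE V U e).hom.toAlgebra
    Set.range (diagChart f hU hV e) =
      pullback.fst f f ⁻¹' (U : Set X) ∩ pullback.snd f f ⁻¹' (U : Set X) := by
  letI := (f.appLE V U e).hom.toAlgebra
  rw [diagChart, Scheme.Hom.comp_base, TopCat.coe_comp, Set.range_comp,
    Set.range_eq_univ.mpr (pullbackSpecIso Γ(Y, V) Γ(X, U) Γ(X, U)).inv.surjective, Set.image_univ,
    Scheme.Pullback.range_map, hU.range_fromSpec]

theorem diagChart_cart :
    letI := (f.appLE V U e).hom.toAlgebra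
    hU.fromSpec ''ᵁ ⊤ = pullback.diagonal f ⁻¹ᵁ (chartOpen (diagChart f hU hV e)).1 := by
  letI := (f.appLE V U e).hom.toAlgebra
  apply Opens.ext
  rw [Scheme.Hom.coe_image, Opens.coe_top, Set.image_univ, hU.range_fromSpec, Scheme.Hom.coe_preimage,
    Scheme.Hom.coe_image, Opens.coe_top, Set.image_univ, range_diagChart, Set.preimage_inter,
    ← Set.preimage_comp, ← Set.preimage_comp, ← TopCat.coe_comp, ← TopCat.coe_comp,
    ← Scheme.Hom.comp_base, ← Scheme.Hom.comp_base, pullback.diagonal_fst, pullback.diagonal_snd]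
  simp

/-- **`Ω_{X/Y}` on an affine open `U` mapping into an affine open `V` is
`(Ω[Γ(X,U)⁄Γ(Y,V)])^~`** (for quasi-separated `f`). -/
noncomputable def omegaRestrictIso [QuasiSeparated f] :
    letI := (f.appLE V U e).hom.toAlgebra
    (Omega.sheaf f).restrict hU.fromSpec ≅
      tilde (R := Γ(X, U)) (ModuleCat.of Γ(X, U) (Ω[Γ(X, U)⁄Γ(Y, V)])) :=
  letI := (f.appLE V U e).hom.toAlgebra
  conormalRestrictIso (pullback.diagonal f) hU.fromSpec (diagChart f hU hV e)
      (CommRingCat.ofHom (OmegaAlg.mulHom Γ(Y, V) Γ(X, U))) (fromSpec_comp_diagonal f hU hV e)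
      (diagChart_cart f hU hV e) ≪≫
    (tilde.functor Γ(X, U)).mapIso
      ((ModuleCat.extendScalars (OmegaAlg.mulHom Γ(Y, V) Γ(X, U))).mapIso
        (LinearEquiv.ofEq _ _ (ker_mulHom _ _)).toModuleIso ≪≫ OmegaAlg.kaehlerIso _ _)

/-- **`Γ(Ω_{X/Y}, U) ≃ Ω[Γ(X,U)⁄Γ(Y,V)]`** for affine `U` mapping into affine `V`. -/
noncomputable def omegaSectionsEquiv [QuasiSeparated f] :
    letI := (f.appLE V U e).hom.toAlgebra
    Γ(Omega.sheaf f, U) ≃ₗ[Γ(X, U)] Ω[Γ(X, U)⁄Γ(Y, V)] :=
  letI := (f.appLE V U e).hom.toAlgebra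
  Groth.Agent.Lib.helper16.QCohPullback.secEquiv (Omega.sheaf f) hU ≪≫ₗ
    (moduleSpecΓFunctor.mapIso (omegaRestrictIso f hU hV e) ≪≫ (tilde.isoTop _).symm).toLinearEquiv

end Relative

section QCoh
variable {X Z : Scheme.{u}}

instance conormal_qcoh (i : Z ⟶ X) : (Omega.conormal i).IsQuasicoherent :=
  Groth.Agent.Lib.helper16.QCohPullback.isQuasicoherent_pullback i (ClSub.idealMod i.ker)

instance omega_qcoh {Y : Scheme.{u}} (f : X ⟶ Y) : (Omega.sheaf f).IsQuasicoherent :=
  conormal_qcoh _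

end QCoh

end Groth.Agent.Lib.helper7.OmegaAffine
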