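import Groth.Agent.Lib.Helper7.OmegaAffine
import Groth.Agent.Lib.Helper8.PullbackUnit
import Groth.Prelude.Def_Omega4

/-!
# Local structure of `Ω_{X/Y}` with its derivation (helper7)
-/

set_option autoImplicit false
set_option linter.style.haveILetI false
universe u
open CategoryTheory CategoryTheory.Limits AlgebraicGeometry TopologicalSpace Opposite
open Scheme.Modules Groth.Agent.Lib.helper7
open Groth.Agent.Lib.helper8.PullbackUnit (IsBC)

namespace Groth.Agent.Lib.helper7.OmegaLocal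

section BC
open TensorProduct

/-- transport of `IsBC` along a surjective ring map and a semilinear additive equivalence -/
theorem IsBC.comp_equiv {R₁ R R' : Type u} [CommRing R₁] [CommRing R] [CommRing R']
    (σ : R₁ →+* R) (hσ : Function.Surjective σ) (φ : R →+* R') {N₁ N P : Type u}
    [AddCommGroup N₁] [Module R₁ N₁] [AddCommGroup N] [Module R N] [AddCommGroup P] [Module R' P]
    (e : N₁ ≃+ N) (he : ∀ (r : R₁) (n : N₁), e (r • n) = σ r • e n) {k : N →+ P}
    (hk : IsBC φ k) : IsBC (φ.comp σ) (k.comp e.toAddMonoidHom) := by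
  constructor
  · intro r n
    change k (e (r • n)) = φ (σ r) • k (e n)
    rw [he, hk.map_smul]
  · intro T _ _ h hh
    have hsym : ∀ (r : R₁) (n : N), e.symm (σ r • n) = r • e.symm n := by
      intro r n
      apply e.injective
      rw [he, AddEquiv.apply_symm_apply, AddEquiv.apply_symm_apply]
    obtain ⟨h', hh', hu⟩ := hk.existsUnique_lift T (h.comp e.symm.toAddMonoidHom) (by
      intro r n
      obtain ⟨r₁, rfl⟩ := hσ r
      change h (e.symm (σ r₁ • n)) = φ (σ r₁) • h (e.symm n)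
      rw [hsym, hh]
      rfl)
    refine ⟨h', fun n => ?_, fun h'' hh'' => hu h'' (fun n => ?_)⟩
    · change h' (k (e n)) = h n
      rw [hh']
      change h (e.symm (e n)) = h n
      rw [AddEquiv.symm_apply_apply]
    · change h'' (k n) = h (e.symm n)
      rw [← hh'' (e.symm n)]
      change h'' (k n) = h'' (k (e (e.symm n)))
      rw [AddEquiv.apply_symm_apply]

/-- the conormal module is the base change of the ideal (universal property form) -/
theorem isBC_conormal {S A N : Type u} [CommRing S] [CommRing A] (μ : S →+* A)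
    (hμ : Function.Surjective μ) (I : Ideal S) (hI : I ≤ RingHom.ker μ) [AddCommGroup N]
    [Module A N] (q : I →+ N) (hq : ∀ (s : S) (i : I), q (s • i) = μ s • q i)
    (hsurj : Function.Surjective q) (hker : ∀ i : I, q i = 0 → (i : S) ∈ I ^ 2) : IsBC μ q := by
  letI := μ.toAlgebra
  letI : Module S N := Module.compHom N μ
  haveI : IsScalarTower S A N := IsScalarTower.of_algebraMap_smul (fun _ _ => rfl)
  let q' : I →ₗ[S] N := { toFun := q, map_add' := map_add q, map_smul' := hq }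
  have hb : IsBaseChange A q' := by
    obtain ⟨e, he⟩ := OmegaAlg.exists_equiv (S := S) (A := A) hμ I hI q hq hsurj hker
    exact IsBaseChange.of_equiv e (fun x => by rw [he, one_smul]; rfl)
  exact IsBC.of_isBaseChange q' hb

theorem isBC_fromIdeal (R A : Type u) [CommRing R] [CommRing A] [Algebra R A] :
    IsBC (OmegaAlg.mulHom R A) (KaehlerDifferential.fromIdeal R A).toAddMonoidHom := by
  refine isBC_conormal (OmegaAlg.mulHom R A) (OmegaAlg.mulHom_surjective R A)
    (KaehlerDifferential.ideal R A) le_rfl _ (OmegaAlg.fromIdeal_smul R A)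
    (KaehlerDifferential.fromIdeal_surjective R A) ?_
  intro i hi
  exact (Ideal.toCotangent_eq_zero _ i).1 hi

end BC

section Rings
open TensorProduct OmegaAffine
variable {X Y : Scheme.{u}} (f : X ⟶ Y) {U : X.Opens} (hU : IsAffineOpen U)
  {V : Y.Opens} (hV : IsAffineOpen V) (e : U ≤ f ⁻¹ᵁ V)

theorem fromSpec_appLE_top (e' : (⊤ : (Spec Γ(X, U)).Opens) ≤ hU.fromSpec ⁻¹ᵁ U) :
    hU.fromSpec.appLE U ⊤ e' = (Scheme.ΓSpecIso Γ(X, U)).inv := by
  rw [Scheme.Hom.appLE, hU.fromSpec_app_self, Category.assoc, ← Functor.map_comp]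
  rw [← Category.comp_id (Scheme.ΓSpecIso Γ(X, U)).inv]
  congr 1

/-- the chart open `W` of `X ×_Y X` -/
noncomputable abbrev chartW :
    (pullback f f).Opens :=
  letI := (f.appLE V U e).hom.toAlgebra
  (chartOpen (diagChart f hU hV e)).1

theorem chartW_eq : (chartW f hU hV e : Set ↥(pullback f f)) =
    pullback.fst f f ⁻¹' (U : Set X) ∩ pullback.snd f f ⁻¹' (U : Set X) := by
  letI := (f.appLE V U e).hom.toAlgebra
  rw [chartW, Scheme.Hom.coe_image, Opens.coe_top, Set.image_univ, range_diagChart]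

theorem chartW_le : chartW f hU hV e ≤ OmegaSh.diagNbhd f U := by
  intro x hx
  have := (chartW_eq f hU hV e).le hx
  exact this

theorem le_preimage_chartW : U ≤ pullback.diagonal f ⁻¹ᵁ chartW f hU hV e := by
  intro x hx
  have h₁ : pullback.fst f f (pullback.diagonal f x) = x := by
    rw [← Scheme.Hom.comp_apply, pullback.diagonal_fst]; rfl
  have h₂ : pullback.snd f f (pullback.diagonal f x) = x := by
    rw [← Scheme.Hom.comp_apply, pullback.diagonal_snd]; rfl
  apply (chartW_eq f hU hV e).ge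
  exact ⟨by rw [Set.mem_preimage, h₁]; exact hx, by rw [Set.mem_preimage, h₂]; exact hx⟩

theorem chartRingIso_comp_diagonal :
    letI := (f.appLE V U e).hom.toAlgebra
    (chartRingIso (diagChart f hU hV e)).hom ≫
      (pullback.diagonal f).appLE (chartW f hU hV e) U (le_preimage_chartW f hU hV e) =
    (CommRingCat.ofHom (OmegaAlg.mulHom Γ(Y, V) Γ(X, U)) :
      CommRingCat.of (Γ(X, U) ⊗[Γ(Y, V)] Γ(X, U)) ⟶ Γ(X, U)) := by
  letI := (f.appLE V U e).hom.toAlgebra
  rw [← cancel_mono (Scheme.ΓSpecIso Γ(X, U)).inv,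
    ← chartRingIso_comp_appLE (hU.fromSpec ≫ pullback.diagonal f) (diagChart f hU hV e)
      (CommRingCat.ofHom (OmegaAlg.mulHom Γ(Y, V) Γ(X, U))) (fromSpec_comp_diagonal f hU hV e),
    Category.assoc]
  congr 1
  have e' : (⊤ : (Spec Γ(X, U)).Opens) ≤ hU.fromSpec ⁻¹ᵁ U := by
    rw [hU.fromSpec_preimage_self]
  rw [← fromSpec_appLE_top hU e', Scheme.Hom.appLE_comp_appLE]

theorem appLE_top_top {B C : CommRingCat.{u}} (θ : B ⟶ C)
    (e' : (⊤ : (Spec C).Opens) ≤ Spec.map θ ⁻¹ᵁ ⊤) :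
    (Spec.map θ).appLE ⊤ ⊤ e' = (Spec.map θ).appTop := by
  rw [Scheme.Hom.appLE, ← Category.comp_id (Spec.map θ).appTop]
  congr 1

theorem appLE_comp_chartRingIso_inv (p : pullback f f ⟶ X)
    (ιp : letI := (f.appLE V U e).hom.toAlgebra
      Γ(X, U) ⟶ CommRingCat.of (Γ(X, U) ⊗[Γ(Y, V)] Γ(X, U)))
    (hp : letI := (f.appLE V U e).hom.toAlgebra
      diagChart f hU hV e ≫ p = Spec.map ιp ≫ hU.fromSpec)
    (eW : chartW f hU hV e ≤ p ⁻¹ᵁ U) :
    letI := (f.appLE V U e).hom.toAlgebra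
    p.appLE U (chartW f hU hV e) eW ≫ (chartRingIso (diagChart f hU hV e)).inv = ιp := by
  letI := (f.appLE V U e).hom.toAlgebra
  have e₁ : (⊤ : (Spec (CommRingCat.of (Γ(X, U) ⊗[Γ(Y, V)] Γ(X, U)))).Opens) ≤
      diagChart f hU hV e ⁻¹ᵁ (chartW f hU hV e) := by
    rw [chartW, Scheme.Hom.preimage_image_eq]
  have e₂ : (⊤ : (Spec Γ(X, U)).Opens) ≤ hU.fromSpec ⁻¹ᵁ U := by
    rw [hU.fromSpec_preimage_self]
  have e₃ : (⊤ : (Spec (CommRingCat.of (Γ(X, U) ⊗[Γ(Y, V)] Γ(X, U)))).Opens) ≤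
      Spec.map ιp ⁻¹ᵁ ⊤ := le_rfl
  rw [chartRingIso, Iso.trans_inv, Iso.symm_inv, Iso.symm_inv, Scheme.Hom.appIso_hom',
    ← Category.assoc, Scheme.Hom.appLE_comp_appLE,
    OmegaSh.appLE_congr_hom hp _ (e₃.trans ((Spec.map ιp).preimage_mono e₂)),
    ← Scheme.Hom.appLE_comp_appLE _ _ U ⊤ ⊤ e₂ e₃, fromSpec_appLE_top, appLE_top_top,
    Category.assoc, ← Scheme.ΓSpecIso_inv_naturality_assoc, Iso.inv_hom_id, Category.comp_id]

theorem diagChart_fst :
    letI := (f.appLE V U e).hom.toAlgebra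
    diagChart f hU hV e ≫ pullback.fst f f =
      Spec.map (CommRingCat.ofHom (Algebra.TensorProduct.includeLeftRingHom :
        Γ(X, U) →+* Γ(X, U) ⊗[Γ(Y, V)] Γ(X, U))) ≫ hU.fromSpec := by
  letI := (f.appLE V U e).hom.toAlgebra
  rw [diagChart, Category.assoc]
  erw [pullback.lift_fst]
  rw [← Category.assoc, pullbackSpecIso_inv_fst]

theorem diagChart_snd :
    letI := (f.appLE V U e).hom.toAlgebra
    diagChart f hU hV e ≫ pullback.snd f f =
      Spec.map (CommRingCat.ofHom (Algebra.TensorProduct.includeRight :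
        Γ(X, U) →ₐ[Γ(Y, V)] Γ(X, U) ⊗[Γ(Y, V)] Γ(X, U)).toRingHom) ≫ hU.fromSpec := by
  letI := (f.appLE V U e).hom.toAlgebra
  rw [diagChart, Category.assoc]
  erw [pullback.lift_snd]
  rw [← Category.assoc, pullbackSpecIso_inv_snd]
  rfl

end Rings

section Main
open TensorProduct OmegaAffine
variable {X Y : Scheme.{u}} (f : X ⟶ Y) [QuasiSeparated f] {U : X.Opens} (hU : IsAffineOpen U)
  {V : Y.Opens} (hV : IsAffineOpen V) (e : U ≤ f ⁻¹ᵁ V)

/-- sections over the chart as an additive equivalence -/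
def chartAddEquiv {X : Scheme.{u}} {C : CommRingCat.{u}} (j : Spec C ⟶ X) [IsOpenImmersion j]
    (N : X.Modules) :
    Γ(N, (chartOpen j).1) ≃+ (moduleSpecΓFunctor.obj (N.restrict j) : ModuleCat C) where
  toFun := toChart j N
  invFun := ofChart j N
  left_inv _ := rfl
  right_inv _ := rfl
  map_add' _ _ := rfl

/-- `Γ(𝓘_Δ, W) ≃+ ker (B ⊗[A] B → B)` -/
noncomputable def idealEquiv :
    letI := (f.appLE V U e).hom.toAlgebra
    Γ(ClSub.idealMod (pullback.diagonal f).ker, chartW f hU hV e) ≃+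
      KaehlerDifferential.ideal Γ(Y, V) Γ(X, U) :=
  letI := (f.appLE V U e).hom.toAlgebra
  (chartAddEquiv (diagChart f hU hV e) _).trans
    (((LinearEquiv.ofBijective (chartSectionsMap (pullback.diagonal f).ker (diagChart f hU hV e))
        (chartSectionsMap_bijective _ _)).trans
      ((LinearEquiv.ofEq _ _ (chartIdeal_ker_rel (pullback.diagonal f) hU.fromSpec
        (diagChart f hU hV e) (CommRingCat.ofHom (OmegaAlg.mulHom Γ(Y, V) Γ(X, U)))
        (fromSpec_comp_diagonal f hU hV e) (diagChart_cart f hU hV e))).trans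
      (LinearEquiv.ofEq _ _ (ker_mulHom _ _)))).toAddEquiv)

theorem idealEquiv_coe (t : Γ(ClSub.idealMod (pullback.diagonal f).ker, chartW f hU hV e)) :
    letI := (f.appLE V U e).hom.toAlgebra
    (chartRingIso (diagChart f hU hV e)).hom.hom (idealEquiv f hU hV e t : Γ(X, U) ⊗[Γ(Y, V)] Γ(X, U)) =
      ((ClSub.idealModι (pullback.diagonal f).ker).app (chartW f hU hV e)).hom t := by
  letI := (f.appLE V U e).hom.toAlgebra
  exact chartSectionsMap_coe (pullback.diagonal f).ker (diagChart f hU hV e)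
    (toChart (diagChart f hU hV e) _ t)

theorem idealEquiv_smul (r : Γ(pullback f f, chartW f hU hV e))
    (t : Γ(ClSub.idealMod (pullback.diagonal f).ker, chartW f hU hV e)) :
    letI := (f.appLE V U e).hom.toAlgebra
    idealEquiv f hU hV e (r • t) =
      (chartRingIso (diagChart f hU hV e)).inv.hom r • idealEquiv f hU hV e t := by
  letI := (f.appLE V U e).hom.toAlgebra
  apply Subtype.ext
  apply chartRingIso_hom_injective (diagChart f hU hV e)
  rw [idealEquiv_coe, Submodule.coe_smul, smul_eq_mul, _root_.map_mul, idealEquiv_coe,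
    ← CommRingCat.comp_apply, Iso.inv_hom_id]
  exact IdealMod.idealModι_app_smul _ _ r t

/-- `κ : Γ(𝓘_Δ, W) → Ω[B⁄A]`, the class of a section of the diagonal ideal -/
noncomputable def kappa :
    letI := (f.appLE V U e).hom.toAlgebra
    Γ(ClSub.idealMod (pullback.diagonal f).ker, chartW f hU hV e) →+ Ω[Γ(X, U)⁄Γ(Y, V)] :=
  letI := (f.appLE V U e).hom.toAlgebra
  (KaehlerDifferential.fromIdeal Γ(Y, V) Γ(X, U)).toAddMonoidHom.comp
    (idealEquiv f hU hV e).toAddMonoidHom

theorem chartRingIso_inv_surjective {X : Scheme.{u}} {C : CommRingCat.{u}} (j : Spec C ⟶ X)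
    [IsOpenImmersion j] : Function.Surjective (chartRingIso j).inv.hom := fun c =>
  ⟨(chartRingIso j).hom.hom c, by rw [← CommRingCat.comp_apply, Iso.hom_inv_id]; rfl⟩

theorem isBC_kappa :
    letI := (f.appLE V U e).hom.toAlgebra
    IsBC ((pullback.diagonal f).appLE (chartW f hU hV e) U (le_preimage_chartW f hU hV e)).hom
      (kappa f hU hV e) := by
  letI := (f.appLE V U e).hom.toAlgebra
  have h1 := IsBC.comp_equiv (chartRingIso (diagChart f hU hV e)).inv.hom
    (chartRingIso_inv_surjective _) (OmegaAlg.mulHom Γ(Y, V) Γ(X, U)) (idealEquiv f hU hV e)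
    (idealEquiv_smul f hU hV e) (isBC_fromIdeal Γ(Y, V) Γ(X, U))
  have h2 : (OmegaAlg.mulHom Γ(Y, V) Γ(X, U)).comp (chartRingIso (diagChart f hU hV e)).inv.hom =
      ((pullback.diagonal f).appLE (chartW f hU hV e) U (le_preimage_chartW f hU hV e)).hom := by
    have h3 := chartRingIso_comp_diagonal f hU hV e
    rw [← Iso.eq_inv_comp] at h3
    rw [h3]
    rfl
  rw [h2] at h1
  exact h1

theorem isAffineOpen_chartW : IsAffineOpen (chartW f hU hV e) := by
  letI := (f.appLE V U e).hom.toAlgebra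
  exact (chartOpen (diagChart f hU hV e)).2

/-- the canonical map `Γ(𝓘_Δ, W) → Γ(Ω_{X/Y}, U)` (unit of the adjunction, restricted) -/
noncomputable def rho :
    Γ(ClSub.idealMod (pullback.diagonal f).ker, chartW f hU hV e) →+ Γ(Omega.sheaf f, U) :=
  Groth.Agent.Lib.helper8.PullbackUnit.ρ (pullback.diagonal f) (le_preimage_chartW f hU hV e)
    (ClSub.idealMod (pullback.diagonal f).ker)

theorem isBC_rho :
    IsBC ((pullback.diagonal f).appLE (chartW f hU hV e) U (le_preimage_chartW f hU hV e)).hom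
      (rho f hU hV e) :=
  Groth.Agent.Lib.helper8.PullbackUnit.isBC_ρ (pullback.diagonal f)
    (isAffineOpen_chartW f hU hV e) hU (le_preimage_chartW f hU hV e)
    (ClSub.idealMod (pullback.diagonal f).ker)

theorem exists_equiv_rho :
    letI := (f.appLE V U e).hom.toAlgebra
    ∃ ψ : Γ(Omega.sheaf f, U) ≃ₗ[Γ(X, U)] Ω[Γ(X, U)⁄Γ(Y, V)],
      ∀ t, ψ (rho f hU hV e t) = kappa f hU hV e t := by
  letI := (f.appLE V U e).hom.toAlgebra
  obtain ⟨ψ₀, hψ₀, -⟩ := (isBC_rho f hU hV e).existsUnique_lift Ω[Γ(X, U)⁄Γ(Y, V)]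
    (kappa f hU hV e) (isBC_kappa f hU hV e).map_smul
  exact ⟨LinearEquiv.ofBijective ψ₀
    (IsBC.bijective_of_comp (isBC_rho f hU hV e) (isBC_kappa f hU hV e) ψ₀ hψ₀), hψ₀⟩

/-- the section `pr₂♯ b − pr₁♯ b` of the diagonal ideal over the chart `W` -/
noncomputable def liftW (b : Γ(X, U)) :
    Γ(ClSub.idealMod (pullback.diagonal f).ker, chartW f hU hV e) :=
  (ClSub.idealMod (pullback.diagonal f).ker).presheaf.map (homOfLE (chartW_le f hU hV e)).op
    (OmegaSh.idealLift f U b)

theorem rho_liftW (b : Γ(X, U)) : rho f hU hV e (liftW f hU hV e b) = OmegaSh.dSect f U b := by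
  change ((Scheme.Modules.pullback (pullback.diagonal f)).obj
      (ClSub.idealMod (pullback.diagonal f).ker)).presheaf.map
        (homOfLE (le_preimage_chartW f hU hV e)).op
      (OmegaSh.pullSect (pullback.diagonal f) (ClSub.idealMod (pullback.diagonal f).ker)
        (chartW f hU hV e) ((ClSub.idealMod (pullback.diagonal f).ker).presheaf.map
          (homOfLE (chartW_le f hU hV e)).op (OmegaSh.idealLift f U b))) = _
  rw [OmegaSh.pullSect_map, OmegaSh.resM_resM]
  rfl

theorem idealModι_liftW (b : Γ(X, U)) :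
    ((ClSub.idealModι (pullback.diagonal f).ker).app (chartW f hU hV e)).hom (liftW f hU hV e b) =
      ((pullback.snd f f).appLE U (chartW f hU hV e)
          ((chartW_le f hU hV e).trans inf_le_right)).hom b -
        ((pullback.fst f f).appLE U (chartW f hU hV e)
          ((chartW_le f hU hV e).trans inf_le_left)).hom b := by
  rw [liftW]
  erw [OmegaSh.idealModι_app_map, OmegaSh.ι_idealLift]
  change (pullback f f).presheaf.map (homOfLE (chartW_le f hU hV e)).op
    (OmegaSh.diagDiff f U b) = _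
  rw [OmegaSh.diagDiff, map_sub, ← CommRingCat.comp_apply, ← CommRingCat.comp_apply,
    Scheme.Hom.appLE_map, Scheme.Hom.appLE_map]

theorem idealEquiv_liftW (b : Γ(X, U)) :
    letI := (f.appLE V U e).hom.toAlgebra
    (idealEquiv f hU hV e (liftW f hU hV e b) : Γ(X, U) ⊗[Γ(Y, V)] Γ(X, U)) =
      (1 : Γ(X, U)) ⊗ₜ[Γ(Y, V)] b - b ⊗ₜ[Γ(Y, V)] (1 : Γ(X, U)) := by
  letI := (f.appLE V U e).hom.toAlgebra
  apply chartRingIso_hom_injective (diagChart f hU hV e)
  rw [idealEquiv_coe, idealModι_liftW, map_sub]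
  have h1 := appLE_comp_chartRingIso_inv f hU hV e (pullback.snd f f) _ (diagChart_snd f hU hV e)
    ((chartW_le f hU hV e).trans inf_le_right)
  have h2 := appLE_comp_chartRingIso_inv f hU hV e (pullback.fst f f) _ (diagChart_fst f hU hV e)
    ((chartW_le f hU hV e).trans inf_le_left)
  rw [Iso.comp_inv_eq] at h1 h2
  rw [h1, h2]
  rfl

theorem kappa_liftW (b : Γ(X, U)) :
    letI := (f.appLE V U e).hom.toAlgebra
    kappa f hU hV e (liftW f hU hV e b) = KaehlerDifferential.D Γ(Y, V) Γ(X, U) b := by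
  letI := (f.appLE V U e).hom.toAlgebra
  change KaehlerDifferential.fromIdeal Γ(Y, V) Γ(X, U) (idealEquiv f hU hV e (liftW f hU hV e b)) =
    KaehlerDifferential.DLinearMap Γ(Y, V) Γ(X, U) b
  rw [KaehlerDifferential.DLinearMap_apply]
  congr 1
  exact Subtype.ext (idealEquiv_liftW f hU hV e b)

include hU hV in
/-- **Local structure of `(Ω_{X/Y}, d)`**: on an affine open `U` mapping into an affine open `V`,
`Γ(Ω_{X/Y}, U) ≃ Ω[Γ(X,U)⁄Γ(Y,V)]` carrying `d` to the universal derivation. -/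
theorem exists_sectionsEquiv_dSect :
    letI := (f.appLE V U e).hom.toAlgebra
    ∃ ψ : Γ(Omega.sheaf f, U) ≃ₗ[Γ(X, U)] Ω[Γ(X, U)⁄Γ(Y, V)],
      ∀ b : Γ(X, U), ψ (OmegaSh.dSect f U b) = KaehlerDifferential.D Γ(Y, V) Γ(X, U) b := by
  letI := (f.appLE V U e).hom.toAlgebra
  obtain ⟨ψ, hψ⟩ := exists_equiv_rho f hU hV e
  exact ⟨ψ, fun b => by rw [← rho_liftW f hU hV e b, hψ, kappa_liftW]⟩

end Main

end Groth.Agent.Lib.helper7.OmegaLocal
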