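import Mathlib.RingTheory.Smooth.StandardSmooth
import Mathlib.RingTheory.Extension.Presentation.Submersive
import Mathlib.RingTheory.Localization.Away.Basic
import Mathlib.LinearAlgebra.Matrix.Charpoly.LinearMap

/-!
# helper7: tools for "elementary standard ⇒ standard smooth" (Smoothing cluster)
-/

universe u

namespace Groth.Agent.Lib.helper7.SmoothingStd

/-- If `S₁ → A` is surjective, `t` kills its kernel and maps to a positive power of `a`, then `A_a`
is the localization of `S₁` away from `t`. -/
theorem away_of_surjective_of_smul_ker {S₁ A A' : Type*} [CommRing S₁] [CommRing A] [CommRing A']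
    [Algebra S₁ A] [Algebra A A'] [Algebra S₁ A'] [IsScalarTower S₁ A A']
    (hsurj : Function.Surjective (algebraMap S₁ A)) (t : S₁) (a : A) (k : ℕ) (hk : 0 < k)
    (hta : algebraMap S₁ A t = a ^ k)
    (hker : ∀ x, algebraMap S₁ A x = 0 → t * x = 0) [IsLocalization.Away a A'] :
    IsLocalization.Away t A' := by
  have hmap : ∀ x : S₁, algebraMap S₁ A' x = algebraMap A A' (algebraMap S₁ A x) := fun x =>
    IsScalarTower.algebraMap_apply S₁ A A' x
  refine IsLocalization.Away.mk t ?_ ?_ ?_
  · rw [hmap, hta, map_pow]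
    exact (IsLocalization.Away.algebraMap_isUnit a).pow k
  · intro s
    obtain ⟨n, b, hb⟩ := IsLocalization.Away.surj a s
    obtain ⟨c, hc⟩ := hsurj (b * a ^ (k * n - n))
    refine ⟨n, c, ?_⟩
    rw [hmap, hmap, hta, hc, map_mul, ← hb, map_pow, map_pow, ← pow_mul, mul_assoc, ← pow_add]
    congr 2
    have : n ≤ k * n := Nat.le_mul_of_pos_left n hk
    omega
  · intro x y hxy
    rw [hmap, hmap] at hxy
    obtain ⟨n, hn⟩ := IsLocalization.Away.exists_of_eq a hxy
    refine ⟨n + 1, ?_⟩
    have h0 : algebraMap S₁ A (t ^ n * (x - y)) = 0 := by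
      rw [map_mul, map_pow, hta, map_sub, ← pow_mul]
      have : n ≤ k * n := Nat.le_mul_of_pos_left n hk
      have e : k * n = (k * n - n) + n := by omega
      rw [e, pow_add, mul_assoc, mul_sub, hn, sub_self, mul_zero]
    have := hker _ h0
    rw [← sub_eq_zero]
    calc t ^ (n + 1) * x - t ^ (n + 1) * y = t * (t ^ n * (x - y)) := by ring
      _ = 0 := this

open MvPolynomial Polynomial in
/-- Cayley–Hamilton/Nakayama step: if `t₀ • I ≤ I * I` for a finitely generated ideal `I`, then
there is `h` with `h • I = 0` and `h ≡ t₀ ^ d` modulo `I`. -/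
theorem exists_kill {S₁ : Type*} [CommRing S₁] (I : Ideal S₁) (hfg : I.FG) (t₀ : S₁)
    (ht : ∀ x ∈ I, t₀ * x ∈ I * I) :
    ∃ (h : S₁) (d : ℕ), (∀ x ∈ I, h * x = 0) ∧ h - t₀ ^ d ∈ I := by
  classical
  have : Module.Finite S₁ I := Module.Finite.iff_fg.mpr hfg
  obtain ⟨p, hmonic, -, hcoeff, hp⟩ :=
    LinearMap.exists_monic_and_natDegree_eq_and_coeff_mem_pow_and_aeval_eq_zero S₁
      (algebraMap S₁ (Module.End S₁ I) t₀) I (by
        rintro _ ⟨y, rfl⟩
        rw [Submodule.mem_smul_top_iff]
        change ((t₀ • y : I) : S₁) ∈ I • I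
        rw [Submodule.coe_smul, smul_eq_mul]
        exact ht y y.2)
  refine ⟨Polynomial.eval t₀ p, p.natDegree, ?_, ?_⟩
  · intro x hx
    rw [Polynomial.aeval_algebraMap_apply_eq_algebraMap_eval] at hp
    have := congrArg (fun f : Module.End S₁ I => ((f ⟨x, hx⟩ : I) : S₁)) hp
    simpa using this
  · have hsum := hmonic.as_sum
    have heval : Polynomial.eval t₀ p = t₀ ^ p.natDegree +
        ∑ i ∈ Finset.range p.natDegree, p.coeff i * t₀ ^ i := by
      conv_lhs => rw [hsum]
      simp [Polynomial.eval_finsetSum]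
    rw [heval, add_sub_cancel_left]
    refine Ideal.sum_mem _ (fun i hi => ?_)
    rw [Finset.mem_range] at hi
    refine Ideal.mul_mem_right _ _ ?_
    exact Ideal.pow_le_self (by omega) (hcoeff i)


open MvPolynomial in
/-- Main construction: `A = R[x]/I`, leading relations `v` (with `c ≤ n`), `a` a multiple of the
leading Jacobian minor, and a lift `ã` of `a` with `ã • I ≤ (v) + I²`.  Then `A_a` is standard
smooth over `R`. -/
theorem isStandardSmooth_away {R A : Type u} [CommRing R] [CommRing A] [Algebra R A]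
    {n c : ℕ} (hcn : c ≤ n) (v : Fin c → MvPolynomial (Fin n) R)
    (hom : MvPolynomial (Fin n) R →ₐ[R] A) (surj : Function.Surjective hom)
    (hv : ∀ j, hom (v j) = 0)
    (a a' : A) (at' : MvPolynomial (Fin n) R) (hat : hom at' = a)
    (ha : a = a' * hom (Matrix.det (Matrix.of fun j k : Fin c => pderiv (Fin.castLE hcn k) (v j))))
    (hfg : (RingHom.ker hom.toRingHom).FG)
    (hkill : ∀ x ∈ RingHom.ker hom.toRingHom,
      at' * x ∈ Ideal.span (Set.range v) ⊔ (RingHom.ker hom.toRingHom) ^ 2) :
    Algebra.IsStandardSmooth R (Localization.Away a) := by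
  classical
  -- the quotient by the leading relations
  have hJle : Ideal.span (Set.range v) ≤ RingHom.ker hom.toRingHom := by
    rw [Ideal.span_le]
    rintro _ ⟨j, rfl⟩
    exact hv j
  obtain ⟨π, hπ⟩ : ∃ π : (MvPolynomial (Fin n) R ⧸ Ideal.span (Set.range v)) →ₐ[R] A,
      ∀ x, π (Ideal.Quotient.mk _ x) = hom x :=
    ⟨Ideal.Quotient.liftₐ _ hom (fun x hx => hJle hx), fun x => rfl⟩
  have hπsurj : Function.Surjective π := by
    intro y
    obtain ⟨x, rfl⟩ := surj y
    exact ⟨Ideal.Quotient.mk _ x, hπ x⟩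
  -- the kernel of π
  have hker : RingHom.ker π.toRingHom =
      (RingHom.ker hom.toRingHom).map (Ideal.Quotient.mk (Ideal.span (Set.range v))) := by
    ext y
    obtain ⟨x, rfl⟩ := Ideal.Quotient.mk_surjective y
    rw [Ideal.mem_map_iff_of_surjective _ Ideal.Quotient.mk_surjective]
    constructor
    · intro hx
      exact ⟨x, by rw [RingHom.mem_ker]; rw [RingHom.mem_ker] at hx; exact (hπ x).symm.trans hx, rfl⟩
    · rintro ⟨x', hx', hxx'⟩
      rw [RingHom.mem_ker]
      rw [RingHom.mem_ker] at hx'
      change π (Ideal.Quotient.mk _ x) = 0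
      rw [← hxx', hπ]
      exact hx'
  have hkerfg : (RingHom.ker π.toRingHom).FG := by
    rw [hker]
    exact Ideal.FG.map hfg _
  have hkill' : ∀ y ∈ RingHom.ker π.toRingHom,
      Ideal.Quotient.mk (Ideal.span (Set.range v)) at' * y ∈
        RingHom.ker π.toRingHom * RingHom.ker π.toRingHom := by
    intro y hy
    rw [hker] at hy
    obtain ⟨x, hx, rfl⟩ := (Ideal.mem_map_iff_of_surjective _ Ideal.Quotient.mk_surjective).mp hy
    rw [← map_mul, hker, ← Ideal.map_mul, ← pow_two]
    obtain ⟨j, hj, q, hq, hjq⟩ := Submodule.mem_sup.mp (hkill x hx)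
    rw [← hjq, map_add, Ideal.Quotient.eq_zero_iff_mem.mpr hj, zero_add]
    exact Ideal.mem_map_of_mem _ hq
  obtain ⟨h, d, hh, hhd⟩ := exists_kill (RingHom.ker π.toRingHom) hkerfg _ hkill'
  -- the element to invert
  obtain ⟨t, ht⟩ : ∃ t, t = Ideal.Quotient.mk (Ideal.span (Set.range v)) at' * h := ⟨_, rfl⟩
  have htker : ∀ x, π x = 0 → t * x = 0 := by
    intro x hx
    rw [ht, mul_assoc, hh x hx, mul_zero]
  have hπt : π t = a ^ (d + 1) := by
    have h1 : π h = π (Ideal.Quotient.mk (Ideal.span (Set.range v)) at') ^ d := by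
      have := hhd
      rw [RingHom.mem_ker] at this
      have h2 : π (h - Ideal.Quotient.mk (Ideal.span (Set.range v)) at' ^ d) = 0 := this
      rw [map_sub, sub_eq_zero, map_pow] at h2
      exact h2
    rw [ht, map_mul, h1, hπ, hat, pow_succ']
  -- algebra structures
  let _ : Algebra (MvPolynomial (Fin n) R ⧸ Ideal.span (Set.range v)) A := π.toRingHom.toAlgebra
  have : IsScalarTower R (MvPolynomial (Fin n) R ⧸ Ideal.span (Set.range v)) A :=
    ⟨fun r s x => by
      change π (r • s) * x = r • (π s * x)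
      rw [map_smul, smul_mul_assoc]⟩
  have : IsScalarTower (MvPolynomial (Fin n) R ⧸ Ideal.span (Set.range v)) A (Localization.Away a) :=
    inferInstance
  have : IsScalarTower R (MvPolynomial (Fin n) R ⧸ Ideal.span (Set.range v)) (Localization.Away a) :=
    inferInstance
  have : IsLocalization.Away t (Localization.Away a) :=
    away_of_surjective_of_smul_ker (A := A) hπsurj t a (d + 1) (Nat.succ_pos d) hπt htker
  -- presentations
  let P₁ : Algebra.PreSubmersivePresentation R
      (MvPolynomial (Fin n) R ⧸ Ideal.span (Set.range v)) (Fin n) (Fin c) :=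
    Algebra.PreSubmersivePresentation.naive (v := v) (Fin.castLE hcn) (Fin.castLE_injective hcn)
  let Q : Algebra.SubmersivePresentation (MvPolynomial (Fin n) R ⧸ Ideal.span (Set.range v))
      (Localization.Away a) Unit Unit :=
    Algebra.SubmersivePresentation.localizationAway (Localization.Away a) t
  have hP₁jac : P₁.jacobian = Ideal.Quotient.mk (Ideal.span (Set.range v))
      (Matrix.det (Matrix.of fun j k : Fin c => pderiv (Fin.castLE hcn k) (v j))) := by
    rw [Algebra.PreSubmersivePresentation.jacobian_eq_jacobiMatrix_det]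
    have hmat : P₁.jacobiMatrix =
        (Matrix.of fun j k : Fin c => pderiv (Fin.castLE hcn k) (v j)).transpose := by
      ext i j
      rw [Algebra.PreSubmersivePresentation.jacobiMatrix_naive]
      rfl
    rw [hmat, Matrix.det_transpose]
    rfl
  have hunit : IsUnit (algebraMap A (Localization.Away a) a) :=
    IsLocalization.Away.algebraMap_isUnit a
  have hjac : IsUnit (Q.toPreSubmersivePresentation.comp P₁).jacobian := by
    rw [Algebra.PreSubmersivePresentation.comp_jacobian_eq_jacobian_smul_jacobian, Algebra.smul_def,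
      IsUnit.mul_iff]
    refine ⟨?_, Q.jacobian_isUnit⟩
    rw [hP₁jac]
    rw [IsScalarTower.algebraMap_apply (MvPolynomial (Fin n) R ⧸ Ideal.span (Set.range v)) A
      (Localization.Away a)]
    change IsUnit (algebraMap A (Localization.Away a) (π (Ideal.Quotient.mk _ _)))
    rw [hπ]
    have hunit' : IsUnit (algebraMap A (Localization.Away a)
        (a' * hom (Matrix.det (Matrix.of fun j k : Fin c => pderiv (Fin.castLE hcn k) (v j))))) := by
      rw [← ha]
      exact hunit
    rw [map_mul] at hunit'
    exact isUnit_of_mul_isUnit_right hunit'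
  exact (Algebra.SubmersivePresentation.mk (Q.toPreSubmersivePresentation.comp P₁) hjac).isStandardSmooth


end Groth.Agent.Lib.helper7.SmoothingStd
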