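import Groth.Agent.Lib.Helper7.OmegaSeq2

/-!
# Chart form of `IsConormalMap` (helper7)
-/

set_option autoImplicit false
set_option linter.style.haveILetI false
set_option linter.unusedSectionVars false
universe u
open CategoryTheory CategoryTheory.Limits AlgebraicGeometry TopologicalSpace Opposite
open Scheme.Modules

namespace Groth.Agent.Lib.helper7.ConormalChart

open Groth.Agent.Lib.helper8.PullbackUnit OmegaChart

section Ideal

variable {Z X : Scheme.{u}} (i : Z ⟶ X)

/-- for quasi-compact `i`, `Z → image` is injective on sections over every open -/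
theorem toImage_app_injective' [QuasiCompact i] (W : i.image.Opens) :
    Function.Injective (i.toImage.app W).hom := by
  have h := TopCat.Presheaf.app_injective_of_stalkFunctor_map_injective
    (F := i.image.sheaf) (G := (TopCat.Presheaf.pushforward _ i.toImage.base).obj Z.presheaf)
    i.toImage.c W (fun x _ => i.stalkFunctor_toImage_injective x)
  exact h

theorem app_eq_zero_congr {f g : Z ⟶ X} (e : f = g) (V : X.Opens) (t : Γ(X, V)) :
    (f.app V).hom t = 0 ↔ (g.app V).hom t = 0 := by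
  subst e; rfl

/-- sections of `O_X` killed by `i♯` are sections of the ideal of `i` (quasi-compact `i`) -/
theorem mem_range_idealSect [QuasiCompact i] (V : X.Opens) (t : Γ(X, V))
    (ht : (i.app V).hom t = 0) : ∃ s : Γ(ClSub.idealMod i.ker, V), OmegaSh.idealSect i.ker V s = t := by
  have h1 : (i.ker.subschemeι.app V).hom t = 0 := by
    apply toImage_app_injective' i (i.imageι ⁻¹ᵁ V)
    rw [map_zero]
    exact (app_eq_zero_congr i.toImage_imageι V t).mpr ht
  exact (IdealMod.mem_range_idealModι_iff i.ker V t).mpr h1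

/-- sections of the ideal of `i` are killed by `i♯` -/
theorem app_idealSect (V : X.Opens) (s : Γ(ClSub.idealMod i.ker, V)) :
    (i.app V).hom (OmegaSh.idealSect i.ker V s) = 0 := by
  have h1 : (i.ker.subschemeι.app V).hom (OmegaSh.idealSect i.ker V s) = 0 :=
    (IdealMod.mem_range_idealModι_iff i.ker V _).mp ⟨s, rfl⟩
  refine (app_eq_zero_congr i.toImage_imageι V _).mp ?_
  change (i.toImage.app (i.imageι ⁻¹ᵁ V)).hom ((i.imageι.app V).hom _) = 0
  rw [h1, map_zero]

theorem idealSect_injective (I : X.IdealSheafData) (V : X.Opens) :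
    Function.Injective (OmegaSh.idealSect I V) :=
  IdealMod.idealModι_app_injective I V

theorem idealSect_map (I : X.IdealSheafData) {V W : X.Opens} (h : W ≤ V)
    (s : Γ(ClSub.idealMod I, V)) :
    OmegaSh.idealSect I W ((ClSub.idealMod I).presheaf.map (homOfLE h).op s) =
      X.presheaf.map (homOfLE h).op (OmegaSh.idealSect I V s) :=
  ModBasisHom.app_map (ClSub.idealModι I) h s

end Ideal

section Rho

variable {X Y : Scheme.{u}} (g : Y ⟶ X) (A : X.Modules)

/-- `ρ` commutes with restriction in the source -/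
theorem ρ_map {U U₀ : X.Opens} {V : Y.Opens} (hU : U₀ ≤ U) (e₀ : V ≤ g ⁻¹ᵁ U₀)
    (e : V ≤ g ⁻¹ᵁ U) (a : Γ(A, U)) :
    ρ g e₀ A (A.presheaf.map (homOfLE hU).op a) = ρ g e A a := by
  rw [ρ_apply, ρ_apply]
  have h1 := Groth.Agent.Lib.helper16.QCohEpi.app_map
    ((pullbackPushforwardAdjunction g).unit.app A) hU a
  refine (congrArg (((Scheme.Modules.pullback g).obj A).presheaf.map (homOfLE e₀).op) h1).trans ?_
  generalize (((pullbackPushforwardAdjunction g).unit.app A).app U).hom a = x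
  change ((Scheme.Modules.pullback g).obj A).presheaf.map _
    (((Scheme.Modules.pullback g).obj A).presheaf.map _ x) =
      ((Scheme.Modules.pullback g).obj A).presheaf.map _ x
  rw [← ConcreteCategory.comp_apply, ← Functor.map_comp]
  rfl

/-- `ρ` commutes with restriction in the target -/
theorem map_ρ {U : X.Opens} {V V₀ : Y.Opens} (hV : V₀ ≤ V) (e : V ≤ g ⁻¹ᵁ U) (a : Γ(A, U)) :
    ((Scheme.Modules.pullback g).obj A).presheaf.map (homOfLE hV).op (ρ g e A a) =
      ρ g (hV.trans e) A a := by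
  rw [ρ_apply, ρ_apply]
  rw [← ConcreteCategory.comp_apply, ← Functor.map_comp]
  rfl

end Rho

section CF

variable {Z X X' Z' : Scheme.{u}} (i : Z ⟶ X) (i' : Z' ⟶ X') (g : X ⟶ X') (gZ : Z ⟶ Z')
  [QuasiCompact i]
  (φ : (Scheme.Modules.pullback gZ).obj (Omega.conormal i') ⟶ Omega.conormal i)

/-- chart form of `IsConormalMap` -/
theorem conormalMap_app (hφ : OmegaSh.IsConormalMap i i' g gZ φ) {U' : X'.Opens} {W : X.Opens}
    (eW : W ≤ g ⁻¹ᵁ U') {T' : Z'.Opens} (eT : T' ≤ i' ⁻¹ᵁ U') {V : Z.Opens}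
    (eV₁ : V ≤ gZ ⁻¹ᵁ T') (eV₂ : V ≤ i ⁻¹ᵁ W)
    (s' : Γ(ClSub.idealMod i'.ker, U')) (s : Γ(ClSub.idealMod i.ker, W))
    (hs : OmegaSh.idealSect i.ker W s = (g.appLE U' W eW).hom (OmegaSh.idealSect i'.ker U' s')) :
    (φ.app V).hom (ρ gZ eV₁ (Omega.conormal i') (ρ i' eT (ClSub.idealMod i'.ker) s')) =
      ρ i eV₂ (ClSub.idealMod i.ker) s := by
  obtain ⟨hsq, hφ'⟩ := hφ
  -- the section of the ideal of `i` over `g⁻¹U'`
  have hvan : (i.app (g ⁻¹ᵁ U')).hom ((g.app U').hom (OmegaSh.idealSect i'.ker U' s')) = 0 := by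
    have h1 : ((i ≫ g).app U').hom (OmegaSh.idealSect i'.ker U' s') = 0 := by
      refine (app_eq_zero_congr hsq U' _).mp ?_
      change (gZ.app (i' ⁻¹ᵁ U')).hom ((i'.app U').hom (OmegaSh.idealSect i'.ker U' s')) = 0
      rw [app_idealSect, map_zero]
    exact h1
  obtain ⟨st, hst⟩ := mem_range_idealSect i (g ⁻¹ᵁ U') _ hvan
  have hstW : (ClSub.idealMod i.ker).presheaf.map (homOfLE eW).op st = s := by
    apply idealSect_injective i.ker W
    rw [idealSect_map, hst, hs]
    rfl
  have h₁ : V ≤ gZ ⁻¹ᵁ (i' ⁻¹ᵁ U') := fun x hx => eT (eV₁ hx)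
  have h₂ : V ≤ i ⁻¹ᵁ (g ⁻¹ᵁ U') := fun x hx => eW (eV₂ hx)
  have key := hφ' U' s' st hst V h₁ h₂
  have hL : (φ.app V).hom (ρ gZ eV₁ (Omega.conormal i') (ρ i' eT (ClSub.idealMod i'.ker) s')) =
      (Omega.conormal i).presheaf.map (homOfLE h₁).op
        (φ.app (gZ ⁻¹ᵁ (i' ⁻¹ᵁ U'))
          (OmegaSh.pullSect gZ (Omega.conormal i') (i' ⁻¹ᵁ U')
            (OmegaSh.conormalSect i' U' s'))) := by
    rw [← ModBasisHom.app_map φ h₁]
    congr 1
    rw [ρ_apply i' eT]
    exact ρ_map gZ (Omega.conormal i') eT eV₁ h₁ _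
  have hR : ρ i eV₂ (ClSub.idealMod i.ker) s =
      (Omega.conormal i).presheaf.map (homOfLE h₂).op (OmegaSh.conormalSect i (g ⁻¹ᵁ U') st) := by
    rw [← hstW, ρ_map i (ClSub.idealMod i.ker) eW eV₂ h₂ st]
    rfl
  rw [hL, hR]
  exact key

end CF

end Groth.Agent.Lib.helper7.ConormalChart
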