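import Groth.Agent.Lib.Helper7.RegSectionAlg
import Groth.Agent.Lib.Helper7.ConormalTrans
import Groth.Agent.Lib.Helper7.ConormalChart
import Groth.Agent.Lib.Helper7.KerSections
import Groth.Agent.Lib.Helper11.KoszulReg
import Groth.Agent.Lib.Helper16.QCohEpi
import Groth.Agent.Lib.Helper16.FLF2

/-!
# A regular section of a finite locally free module identifies it with the conormal sheaf (helper7)
-/

set_option autoImplicit false
set_option linter.style.haveILetI false
set_option linter.unusedSectionVars false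
universe u
open CategoryTheory CategoryTheory.Limits AlgebraicGeometry TopologicalSpace Opposite
open Scheme.Modules

namespace Groth.Agent.Lib.helper7.RegSection

open Groth.Agent.Lib.helper8.PullbackUnit OmegaChart OmegaSeq4

theorem isH1Regular_of_isWeaklyRegular {A : Type u} [CommRing A] {n : ℕ} (f : Fin n → A)
    (h : RingTheory.Sequence.IsWeaklyRegular A (List.ofFn f)) : CAlgX.IsH1Regular f := by
  have h1 := Groth.Agent.Lib.helper11.KoszulH1.H1Z_of_isWeaklyRegular (M := A) n f h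
  intro a ha
  have h2 : a ∈ Groth.Agent.Lib.helper11.KoszulH1.Triv f A := by
    apply h1
    rw [← ha]
    exact Finset.sum_congr rfl (fun i _ => by rw [smul_eq_mul, mul_comm])
  refine (Submodule.span_le.mpr ?_) h2
  rintro _ ⟨i, j, x, rfl⟩
  have e : f j • (Pi.single i x : Fin n → A) - f i • (Pi.single j x : Fin n → A) =
      x • (Pi.single i (f j) - Pi.single j (f i) : Fin n → A) := by
    ext k
    simp only [Pi.sub_apply, Pi.smul_apply, Pi.single_apply, smul_eq_mul]
    split_ifs <;> ring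
  rw [e]
  exact Submodule.smul_mem _ _ (Submodule.subset_span ⟨i, j, rfl⟩)

variable {X Y : Scheme.{u}}

theorem chart_bijective (n : ℕ) (E : X.Modules) [E.IsQuasicoherent]
    (i : Y ⟶ X) [IsClosedImmersion i]
    (t : E ⟶ ClSub.idealMod i.ker) [Epi t]
    {U : X.Opens} (hU : IsAffineOpen U) (b : Module.Basis (Fin n) Γ(X, U) Γ(E, U))
    (hreg : RingTheory.Sequence.IsWeaklyRegular Γ(X, U)
      (List.ofFn fun k => OmegaSh.idealSect i.ker U ((t.app U).hom (b k)))) :
    Function.Bijective (((Scheme.Modules.pullback i).map t).app (i ⁻¹ᵁ U)).hom := by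
  have hV : IsAffineOpen (i ⁻¹ᵁ U) := hU.preimage i
  letI alg : Algebra Γ(X, U) Γ(Y, i ⁻¹ᵁ U) := (i.appLE U (i ⁻¹ᵁ U) le_rfl).hom.toAlgebra
  have happ : i.appLE U (i ⁻¹ᵁ U) le_rfl = i.app U := (i.app_eq_appLE (U := U)).symm
  have hBR : Function.Surjective (algebraMap Γ(X, U) Γ(Y, i ⁻¹ᵁ U)) := by
    change Function.Surjective (i.appLE U (i ⁻¹ᵁ U) le_rfl).hom
    rw [happ]
    exact i.app_surjective U hU
  have hιKB : Set.range (idealSectₗ i.ker U) =
      (RingHom.ker (algebraMap Γ(X, U) Γ(Y, i ⁻¹ᵁ U)) : Set Γ(X, U)) := by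
    change Set.range (OmegaSh.idealSect i.ker U) = _
    rw [OmegaSeq2.range_idealSect i.ker hU, Scheme.Hom.ker_apply]
    change _ = ((RingHom.ker (i.appLE U (i ⁻¹ᵁ U) le_rfl).hom : Ideal Γ(X, U)) : Set Γ(X, U))
    rw [happ]
  have hq₃ : IsBC (algebraMap Γ(X, U) Γ(Y, i ⁻¹ᵁ U))
      (ρ i (le_refl (i ⁻¹ᵁ U)) (ClSub.idealMod i.ker)) :=
    isBC_ρ i hU hV (le_refl (i ⁻¹ᵁ U)) (ClSub.idealMod i.ker)
  have hqE : IsBC (algebraMap Γ(X, U) Γ(Y, i ⁻¹ᵁ U)) (ρ i (le_refl (i ⁻¹ᵁ U)) E) :=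
    isBC_ρ i hU hV (le_refl (i ⁻¹ᵁ U)) E
  obtain ⟨f, hf⟩ : ∃ f : Fin n → Γ(X, U),
      f = fun k => OmegaSh.idealSect i.ker U ((t.app U).hom (b k)) := ⟨_, rfl⟩
  rw [← hf] at hreg
  have hb : CAlgX.IsH1Regular f := isH1Regular_of_isWeaklyRegular f hreg
  have hτ : ∀ k, idealSectₗ i.ker U (linApp t U (b k)) = f k := fun k => by rw [hf]; rfl
  have htsurj : Function.Surjective (t.app U).hom :=
    Groth.Agent.Lib.helper16.QCohEpi.surjective_app_of_epi t hU
  have hgen : RingHom.ker (algebraMap Γ(X, U) Γ(Y, i ⁻¹ᵁ U)) = Ideal.span (Set.range f) := by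
    apply le_antisymm
    · intro a ha
      have : a ∈ Set.range (idealSectₗ i.ker U) := by rw [hιKB]; exact ha
      obtain ⟨m, rfl⟩ := this
      obtain ⟨e, rfl⟩ := htsurj m
      have he : e = ∑ k, b.repr e k • b k := (b.sum_repr e).symm
      have h1 : idealSectₗ i.ker U ((t.app U).hom e) =
          ∑ k, b.repr e k * f k := by
        have h2 : (t.app U).hom e = linApp t U e := rfl
        rw [h2]
        conv_lhs => rw [he]
        rw [map_sum, map_sum]
        refine Finset.sum_congr rfl (fun k _ => ?_)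
        rw [_root_.map_smul, _root_.map_smul, hτ, smul_eq_mul]
      rw [h1]
      exact Ideal.sum_mem _ (fun k _ => Ideal.mul_mem_left _ _ (Ideal.subset_span ⟨k, rfl⟩))
    · rw [Ideal.span_le]
      rintro _ ⟨k, rfl⟩
      have : f k ∈ Set.range (idealSectₗ i.ker U) := ⟨_, hτ k⟩
      rw [hιKB] at this
      exact this
  exact OmegaSeqAlg.regularSection_bijective f Γ(Y, i ⁻¹ᵁ U) hBR (idealSectₗ i.ker U)
    (ConormalChart.idealSect_injective i.ker U) hιKB
    (ρ i (le_refl (i ⁻¹ᵁ U)) (ClSub.idealMod i.ker)) hq₃ hb hgen b (linApp t U) hτ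
    (ρ i (le_refl (i ⁻¹ᵁ U)) E) hqE (linApp ((Scheme.Modules.pullback i).map t) (i ⁻¹ᵁ U))
    (fun e => ConormalTrans.ρ_naturality i t (le_refl (i ⁻¹ᵁ U)) e)


theorem main (n : ℕ) (E : X.Modules)
    (hE : FlatMod.IsFinLocFreeOfRank n E) (s : E ⟶ Coh.structureModule X)
    (hs : ∀ x : X, ∃ U : X.affineOpens, x ∈ U.1 ∧
      ∃ b : Module.Basis (Fin n) Γ(X, U.1) (E.val.obj (op U.1)),
        @RingTheory.Sequence.IsWeaklyRegular Γ(X, U.1) Γ(X, U.1) _ _ _
          (List.ofFn fun k => (s.val.app (op U.1)).hom (b k)))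
    (i : Y ⟶ X) [IsClosedImmersion i] (t : E ⟶ ClSub.idealMod i.ker) [Epi t]
    (hts : t ≫ ClSub.idealModι i.ker = s) :
    IsIso ((Scheme.Modules.pullback i).map t) := by
  haveI : E.IsQuasicoherent := Groth.Agent.Lib.helper16.FLF.isQuasicoherent_of_isFinLocFree E
    (fun x => by
      obtain ⟨U, hxU, h⟩ := hE x
      exact ⟨U, n, hxU, h⟩)
  haveI : ((Scheme.Modules.pullback i).obj E).IsQuasicoherent :=
    Groth.Agent.Lib.helper16.QCohPullback.isQuasicoherent_pullback i E
  haveI : ((Scheme.Modules.pullback i).obj (ClSub.idealMod i.ker)).IsQuasicoherent :=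
    Groth.Agent.Lib.helper16.QCohPullback.isQuasicoherent_pullback i (ClSub.idealMod i.ker)
  subst hts
  choose U hxU b hreg using hs
  refine KerSections.isIso_of_bijective_cover _ (fun x : X => i ⁻¹ᵁ (U x).1)
    (fun x => (U x).2.preimage i) (fun y => ⟨i y, hxU (i y)⟩) (fun x => ?_)
  exact chart_bijective n E i t (U x).2 (b x) (hreg x)

end Groth.Agent.Lib.helper7.RegSection
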