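import Groth.Agent.Lib.Helper7.TorAPI5
import Mathlib.LinearAlgebra.TensorProduct.Tower
import Mathlib.LinearAlgebra.TensorProduct.Basis
import Mathlib.RingTheory.Flat.Basic

/-!
# helper7: flat base change for Tor of modules (semilinear bijection, by dimension shifting)
-/

universe u

open CategoryTheory TensorProduct

namespace Groth.Agent.Lib.helper7.TorBC

open Groth.Agent.Lib.helper7

variable {A A' : Type u} [CommRing A] [CommRing A'] [Algebra A A']

/-- there is a bijection `X → Z` semilinear over `A → A'`. -/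
def SemiBij (X : Type*) [AddCommGroup X] [Module A X] (Z : Type*) [AddCommGroup Z] [Module A' Z] :
    Prop :=
  ∃ φ : X →ₛₗ[algebraMap A A'] Z, Function.Bijective φ

section SemiBij

variable {X X' : Type*} [AddCommGroup X] [Module A X] [AddCommGroup X'] [Module A X']
variable {Z Z' : Type*} [AddCommGroup Z] [Module A' Z] [AddCommGroup Z'] [Module A' Z']

lemma SemiBij.comp_left (h : SemiBij (A := A) (A' := A') X Z) (e : X' ≃ₗ[A] X) :
    SemiBij (A := A) (A' := A') X' Z := by
  obtain ⟨φ, hφ⟩ := h
  exact ⟨φ.comp e.toLinearMap, hφ.comp e.bijective⟩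

lemma SemiBij.comp_right (h : SemiBij (A := A) (A' := A') X Z) (e : Z ≃ₗ[A'] Z') :
    SemiBij (A := A) (A' := A') X Z' := by
  obtain ⟨φ, hφ⟩ := h
  exact ⟨e.toLinearMap.comp φ, e.bijective.comp hφ⟩

lemma SemiBij.of_equiv (Y : Type*) [AddCommGroup Y] [Module A Y] [Module A' Y]
    [IsScalarTower A A' Y] (e : X ≃ₗ[A] Y) : SemiBij (A := A) (A' := A') X Y := by
  refine ⟨{ toFun := e, map_add' := e.map_add, map_smul' := fun a x => ?_ }, e.bijective⟩
  change e (a • x) = algebraMap A A' a • e x
  rw [e.map_smul, algebraMap_smul]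

/-- a semilinear bijection of ambient modules matching two submodules restricts to them. -/
lemma SemiBij.of_submodule (φ : X →ₛₗ[algebraMap A A'] Z) (hφ : Function.Bijective φ)
    (p : Submodule A X) (q : Submodule A' Z) (hpq : ∀ x, x ∈ p ↔ φ x ∈ q) :
    SemiBij (A := A) (A' := A') p q := by
  refine ⟨{ toFun := fun x => ⟨φ x, (hpq x).1 x.2⟩,
            map_add' := fun x y => Subtype.ext (φ.map_add x y),
            map_smul' := fun a x => Subtype.ext (φ.map_smulₛₗ a x) }, ?_, ?_⟩
  · intro x y hxy
    apply Subtype.ext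
    apply hφ.1
    exact congrArg Subtype.val hxy
  · rintro ⟨z, hz⟩
    obtain ⟨x, rfl⟩ := hφ.2 z
    exact ⟨⟨x, (hpq x).2 hz⟩, rfl⟩

end SemiBij

variable (A A')
variable (P' : Type u) [AddCommGroup P'] [Module A' P'] [Module A P'] [IsScalarTower A A' P']

/-- `P' ⊗_A Q → P' ⊗_{A'} (A' ⊗_A Q)`, `A'`-linear. -/
noncomputable def θ (Q : Type u) [AddCommGroup Q] [Module A Q] :
    P' ⊗[A] Q ≃ₗ[A'] P' ⊗[A'] (A' ⊗[A] Q) :=
  (TensorProduct.AlgebraTensorModule.cancelBaseChange A A' A' P' Q).symm

lemma θ_symm_naturality {K F : Type u} [AddCommGroup K] [Module A K] [AddCommGroup F] [Module A F]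
    (j : K →ₗ[A] F) (z : P' ⊗[A'] (A' ⊗[A] K)) :
    (θ A A' P' F).symm (LinearMap.lTensor P' (LinearMap.baseChange A' j) z) =
      LinearMap.lTensor P' j ((θ A A' P' K).symm z) := by
  induction z using TensorProduct.induction_on with
  | zero => simp
  | add x y hx hy => simp only [map_add, hx, hy]
  | tmul p w =>
    induction w using TensorProduct.induction_on with
    | zero => simp
    | add x y hx hy => simp only [TensorProduct.tmul_add, map_add, hx, hy]
    | tmul a k =>
      simp [θ]

lemma θ_naturality {K F : Type u} [AddCommGroup K] [Module A K] [AddCommGroup F] [Module A F]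
    (j : K →ₗ[A] F) (z : P' ⊗[A] K) :
    θ A A' P' F (LinearMap.lTensor P' j z) =
      LinearMap.lTensor P' (LinearMap.baseChange A' j) (θ A A' P' K z) := by
  apply (θ A A' P' F).symm.injective
  rw [θ_symm_naturality, LinearEquiv.symm_apply_apply, LinearEquiv.symm_apply_apply]

/-- `θ` as a semilinear map over `A → A'`. -/
noncomputable def θs (Q : Type u) [AddCommGroup Q] [Module A Q] :
    P' ⊗[A] Q →ₛₗ[algebraMap A A'] P' ⊗[A'] (A' ⊗[A] Q) where
  toFun := θ A A' P' Q
  map_add' := (θ A A' P' Q).map_add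
  map_smul' a x := by
    change θ A A' P' Q (a • x) = algebraMap A A' a • θ A A' P' Q x
    rw [← (θ A A' P' Q).map_smul, algebraMap_smul]

lemma θs_apply (Q : Type u) [AddCommGroup Q] [Module A Q] (x : P' ⊗[A] Q) :
    θs A A' P' Q x = θ A A' P' Q x := rfl

lemma θs_bijective (Q : Type u) [AddCommGroup Q] [Module A Q] :
    Function.Bijective (θs A A' P' Q) := (θ A A' P' Q).bijective

variable [Module.Flat A A']

/-- **Flat base change for Tor** (semilinear bijection). -/
theorem semiBij_tor (n : ℕ) : ∀ (Q : Type u) [AddCommGroup Q] [Module A Q],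
    SemiBij (A := A) (A' := A') ((TorAPI.T n (ModuleCat.of A P')).obj (ModuleCat.of A Q))
      ((TorAPI.T n (ModuleCat.of A' P')).obj (ModuleCat.of A' (A' ⊗[A] Q))) := by
  induction n using Nat.strong_induction_on with
  | _ n ih =>
  intro Q _ _
  -- an abstract free presentation of `Q`
  obtain ⟨F, _, _, π, hπ, hfree⟩ : ∃ (F : Type u) (_ : AddCommGroup F) (_ : Module A F)
      (π : F →ₗ[A] Q), Function.Surjective π ∧ Module.Free A F :=
    ⟨Q →₀ A, inferInstance, inferInstance, Finsupp.linearCombination A (id : Q → Q),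
      Finsupp.linearCombination_id_surjective A Q, inferInstance⟩
  obtain ⟨K, _, _, j, hj, hex⟩ : ∃ (K : Type u) (_ : AddCommGroup K) (_ : Module A K)
      (j : K →ₗ[A] F), Function.Injective j ∧ Function.Exact j π :=
    ⟨LinearMap.ker π, inferInstance, inferInstance, (LinearMap.ker π).subtype,
      Submodule.injective_subtype _, LinearMap.exact_subtype_ker_map π⟩
  have hS := ModSES.mkSES_shortExact j π hex hj hπ
  have hex' : Function.Exact (LinearMap.baseChange A' j) (LinearMap.baseChange A' π) :=
    lTensor_exact A' hex hπ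
  have hS' := ModSES.mkSES_shortExact (LinearMap.baseChange A' j) (LinearMap.baseChange A' π) hex'
    (Module.Flat.lTensor_preserves_injective_linearMap j hj) (LinearMap.lTensor_surjective A' hπ)
  haveI : Projective (ModSES.mkSES j π hex).X₂ :=
    (IsProjective.iff_projective (ModuleCat.of A F)).1 (inferInstanceAs (Module.Projective A F))
  haveI : Projective (ModSES.mkSES (LinearMap.baseChange A' j) (LinearMap.baseChange A' π) hex').X₂ :=
    (IsProjective.iff_projective (ModuleCat.of A' (A' ⊗[A] F))).1
      (inferInstanceAs (Module.Projective A' (A' ⊗[A] F)))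
  match n, ih with
  | 0, _ =>
    have e₁ := ((TorAPI.tor0Iso (ModuleCat.of A P')).app (ModuleCat.of A Q)).toLinearEquiv
    have e₂ := ((TorAPI.tor0Iso (ModuleCat.of A' P')).app
      (ModuleCat.of A' (A' ⊗[A] Q))).toLinearEquiv
    have h : SemiBij (A := A) (A' := A') (P' ⊗[A] Q) (P' ⊗[A'] (A' ⊗[A] Q)) :=
      ⟨θs A A' P' Q, θs_bijective A A' P' Q⟩
    exact (h.comp_left e₁).comp_right e₂.symm
  | 1, _ =>
    obtain ⟨d, hd, hdr⟩ := TorAPI.exists_linearMap_tor_one (ModuleCat.of A P') hS
      (TorAPI.isZero_T_projective _ _ 0)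
    obtain ⟨d', hd', hdr'⟩ := TorAPI.exists_linearMap_tor_one (ModuleCat.of A' P') hS'
      (TorAPI.isZero_T_projective _ _ 0)
    have hdr2 : LinearMap.range d = LinearMap.ker (LinearMap.lTensor P' j) := hdr
    have hdr2' : LinearMap.range d' =
        LinearMap.ker (LinearMap.lTensor P' (LinearMap.baseChange A' j)) := hdr'
    have h : SemiBij (A := A) (A' := A') (LinearMap.range d) (LinearMap.range d') := by
      refine SemiBij.of_submodule (θs A A' P' K) (θs_bijective A A' P' K) _ _ ?_
      intro x
      rw [hdr2, hdr2', LinearMap.mem_ker, LinearMap.mem_ker, θs_apply]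
      have hn := θ_naturality A A' P' j x
      constructor
      · intro hx
        rw [← hn, hx, map_zero]
      · intro hx
        rw [← hn] at hx
        exact (θ A A' P' F).injective (hx.trans (map_zero _).symm)
    exact (h.comp_left (LinearEquiv.ofInjective d hd)).comp_right
      (LinearEquiv.ofInjective d' hd').symm
  | (k + 2), ih =>
    obtain ⟨a⟩ := TorAPI.exists_iso_of_isZero (ModuleCat.of A P') hS (k + 1)
      (TorAPI.isZero_T_projective _ _ (k + 1)) (TorAPI.isZero_T_projective _ _ k)
    obtain ⟨a'⟩ := TorAPI.exists_iso_of_isZero (ModuleCat.of A' P') hS' (k + 1)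
      (TorAPI.isZero_T_projective _ _ (k + 1)) (TorAPI.isZero_T_projective _ _ k)
    have h := ih (k + 1) (by omega) K
    exact (h.comp_left a.toLinearEquiv).comp_right a'.toLinearEquiv.symm

end Groth.Agent.Lib.helper7.TorBC
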