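import Groth.Agent.Lib.Helper7.OmegaSeq5
import Groth.Agent.Lib.Helper7.OmegaSeqAlg5
import Groth.Prelude.Def_RegImm
import Groth.Agent.Lib.Helper16.FLF2

/-!
# `0 → j^*C_{Y/X} → C_{Y'/X} → C_{Y'/Y} → 0` for `Y' → Y` an `H_1`-regular immersion (helper7)
-/

set_option autoImplicit false
set_option linter.style.haveILetI false
set_option linter.unusedSectionVars false
universe u
open CategoryTheory CategoryTheory.Limits AlgebraicGeometry TopologicalSpace Opposite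
open Scheme.Modules

namespace Groth.Agent.Lib.helper7.OmegaSeq7

open Groth.Agent.Lib.helper8.PullbackUnit OmegaChart OmegaSeq4 OmegaSeq5

section H1Chart

variable {Y' Y : Scheme.{u}} (j : Y' ⟶ Y) [QuasiCompact j]

/-- over the open `V` of `Y` the ideal of `j` is generated by an `H_1`-regular sequence -/
def H1Chart (V : Y.Opens) : Prop :=
  ∃ (n : ℕ) (b : Fin n → Γ(Y, V)), CAlgX.IsH1Regular b ∧
    RingHom.ker (j.app V).hom = Ideal.span (Set.range b)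

theorem h1Chart_basicOpen {W : Y.Opens} (hW : IsAffineOpen W) (h : H1Chart j W) (g : Γ(Y, W)) :
    H1Chart j (Y.basicOpen g) := by
  obtain ⟨n, b, hb, hker⟩ := h
  haveI := hW.isLocalization_basicOpen g
  refine ⟨n, fun i => algebraMap Γ(Y, W) Γ(Y, Y.basicOpen g) (b i),
    OmegaSeqAlg.isH1Regular_of_isLocalization (Submonoid.powers g) b hb, ?_⟩
  have h1 := j.ker.map_ideal_basicOpen ⟨W, hW⟩ g
  rw [Scheme.Hom.ker_apply, Scheme.Hom.ker_apply] at h1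
  change Ideal.map _ (RingHom.ker (j.app W).hom) = RingHom.ker (j.app (Y.basicOpen g)).hom at h1
  rw [← h1, hker, Ideal.map_span, ← Set.range_comp]
  rfl

theorem exists_h1Chart (hreg : RegImm.IsRegularImmersion RegImm.Kind.h1 j) (y : Y') :
    ∃ W : Y.Opens, IsAffineOpen W ∧ j y ∈ W ∧ H1Chart j W := by
  obtain ⟨U, hyU, -, rs, hrs, hker⟩ := hreg.2 y
  refine ⟨U.1, U.2, hyU, rs.length, rs.get, hrs, ?_⟩
  rw [hker, Set.range_list_get]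

end H1Chart

section Free

variable {Y' Y : Scheme.{u}} (j : Y' ⟶ Y) [IsImmersion j] [QuasiCompact j]

/-- on an `H_1`-chart the conormal sheaf has free sections -/
theorem chart_free {V : Y.Opens} (hV : IsAffineOpen V) (hVj : V ≤ j.coborderRange)
    (hH1 : H1Chart j V) :
    ∃ n : ℕ, Nonempty (Γ(Omega.conormal j, j ⁻¹ᵁ V) ≃ₗ[Γ(Y', j ⁻¹ᵁ V)] (Fin n → Γ(Y', j ⁻¹ᵁ V))) := by
  obtain ⟨n, b, hb, hker⟩ := hH1
  obtain ⟨hTaff, hsj⟩ := ImmChart.of_le_coborder j hV hVj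
  have eT : j ⁻¹ᵁ V ≤ j ⁻¹ᵁ V := le_rfl
  letI algBR := (j.appLE V (j ⁻¹ᵁ V) eT).hom.toAlgebra
  have happ : j.appLE V (j ⁻¹ᵁ V) eT = j.app V := (j.app_eq_appLE (U := V)).symm
  have hBR : Function.Surjective (algebraMap Γ(Y, V) Γ(Y', j ⁻¹ᵁ V)) := by
    change Function.Surjective (j.appLE V (j ⁻¹ᵁ V) eT).hom
    rw [happ]; exact hsj
  have hιKB : Set.range (idealSectₗ j.ker V) =
      (RingHom.ker (algebraMap Γ(Y, V) Γ(Y', j ⁻¹ᵁ V)) : Set Γ(Y, V)) := by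
    change Set.range (OmegaSh.idealSect j.ker V) = _
    rw [OmegaSeq2.range_idealSect j.ker hV, Scheme.Hom.ker_apply]
    change _ = ((RingHom.ker (j.appLE V (j ⁻¹ᵁ V) eT).hom : Ideal Γ(Y, V)) : Set Γ(Y, V))
    rw [happ]
  have hq₃ : IsBC (algebraMap Γ(Y, V) Γ(Y', j ⁻¹ᵁ V)) (ρ j eT (ClSub.idealMod j.ker)) :=
    isBC_ρ j hV hTaff eT (ClSub.idealMod j.ker)
  have hgen : RingHom.ker (algebraMap Γ(Y, V) Γ(Y', j ⁻¹ᵁ V)) = Ideal.span (Set.range b) := by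
    change RingHom.ker (j.appLE V (j ⁻¹ᵁ V) eT).hom = _
    rw [happ]; exact hker
  exact ⟨n, OmegaSeqAlg.conormal_free Γ(Y, V) b Γ(Y', j ⁻¹ᵁ V) hBR (idealSectₗ j.ker V)
    (ConormalChart.idealSect_injective j.ker V) hιKB (ρ j eT (ClSub.idealMod j.ker)) hq₃ hb hgen⟩

/-- **the conormal sheaf of a quasi-compact `H_1`-regular immersion is finite locally free** -/
theorem isFinLocFree_conormal (hreg : RegImm.IsRegularImmersion RegImm.Kind.h1 j) :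
    FlatMod.IsFinLocFree (Omega.conormal j) := by
  haveI : (Omega.conormal j).IsQuasicoherent := OmegaAffine.conormal_qcoh j
  rw [Groth.Agent.Lib.helper16.FLF.isFinLocFree_iff_sections]
  intro y
  obtain ⟨W, hW, hyW, hH1⟩ := exists_h1Chart j hreg y
  obtain ⟨g, hg1, hg2⟩ := hW.exists_basicOpen_le (V := j.coborderRange)
    ⟨j y, ImmChart.mem_coborderRange j y⟩ hyW
  have hV : IsAffineOpen (Y.basicOpen g) := hW.basicOpen g
  obtain ⟨n, hn⟩ := chart_free j hV hg1 (h1Chart_basicOpen j hW hH1 g)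
  exact ⟨j ⁻¹ᵁ Y.basicOpen g, n, (ImmChart.of_le_coborder j hV hg1).1, hg2, hn⟩

end Free

section Seq

variable {Y' Y X : Scheme.{u}} (f : Y ⟶ X) [IsImmersion f] [QuasiCompact f]
  (j : Y' ⟶ Y) [IsImmersion j] [QuasiCompact j]
  (φ₁ : (Scheme.Modules.pullback j).obj (Omega.conormal f) ⟶ Omega.conormal (j ≫ f))
  (hφ₁ : OmegaSh.IsConormalMap (j ≫ f) f (𝟙 X) j φ₁)

include hφ₁ in
theorem chart_injective3 {U : X.Opens} (hU : IsAffineOpen U) (hUf : U ≤ f.coborderRange)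
    (hUjf : U ≤ (j ≫ f).coborderRange) (hVj : f ⁻¹ᵁ U ≤ j.coborderRange)
    (hH1 : H1Chart j (f ⁻¹ᵁ U)) :
    Function.Injective (φ₁.app ((j ≫ f) ⁻¹ᵁ U)).hom := by
  obtain ⟨n, b, hb, hker⟩ := hH1
  obtain ⟨hVaff, hsf⟩ := ImmChart.of_le_coborder f hU hUf
  obtain ⟨hTaff, hsj⟩ := ImmChart.of_le_coborder j hVaff hVj
  have eV : f ⁻¹ᵁ U ≤ f ⁻¹ᵁ U := le_rfl
  have eT : (j ≫ f) ⁻¹ᵁ U ≤ j ⁻¹ᵁ (f ⁻¹ᵁ U) := le_rfl
  have eT' : (j ≫ f) ⁻¹ᵁ U ≤ (j ≫ f) ⁻¹ᵁ U := le_rfl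
  letI algAB := (f.appLE U (f ⁻¹ᵁ U) eV).hom.toAlgebra
  letI algBR := (j.appLE (f ⁻¹ᵁ U) ((j ≫ f) ⁻¹ᵁ U) eT).hom.toAlgebra
  letI algAR := ((j ≫ f).appLE U ((j ≫ f) ⁻¹ᵁ U) eT').hom.toAlgebra
  haveI : IsScalarTower Γ(X, U) Γ(Y, f ⁻¹ᵁ U) Γ(Y', (j ≫ f) ⁻¹ᵁ U) :=
    IsScalarTower.of_algebraMap_eq' (by
      change ((j ≫ f).appLE U ((j ≫ f) ⁻¹ᵁ U) eT').hom =
        (j.appLE (f ⁻¹ᵁ U) ((j ≫ f) ⁻¹ᵁ U) eT).hom.comp (f.appLE U (f ⁻¹ᵁ U) eV).hom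
      rw [← CommRingCat.hom_comp, Scheme.Hom.appLE_comp_appLE])
  have hAB : Function.Surjective (algebraMap Γ(X, U) Γ(Y, f ⁻¹ᵁ U)) := by
    change Function.Surjective (f.appLE U (f ⁻¹ᵁ U) eV).hom
    rw [← f.app_eq_appLE]; exact hsf
  have hBR : Function.Surjective (algebraMap Γ(Y, f ⁻¹ᵁ U) Γ(Y', (j ≫ f) ⁻¹ᵁ U)) := by
    change Function.Surjective (j.appLE (f ⁻¹ᵁ U) (j ⁻¹ᵁ (f ⁻¹ᵁ U)) eT).hom
    rw [← j.app_eq_appLE]; exact hsj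
  haveI : (Omega.conormal f).IsQuasicoherent := OmegaAffine.conormal_qcoh f
  haveI : (Omega.conormal (j ≫ f)).IsQuasicoherent := OmegaAffine.conormal_qcoh (j ≫ f)
  have hιI : Set.range (idealSectₗ f.ker U) =
      (RingHom.ker (algebraMap Γ(X, U) Γ(Y, f ⁻¹ᵁ U)) : Set Γ(X, U)) := by
    change Set.range (OmegaSh.idealSect f.ker U) = _
    rw [OmegaSeq2.range_idealSect f.ker hU, Scheme.Hom.ker_apply]
    change _ = ((RingHom.ker (f.appLE U (f ⁻¹ᵁ U) eV).hom : Ideal Γ(X, U)) : Set Γ(X, U))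
    rw [← f.app_eq_appLE]
  have hιK : Set.range (idealSectₗ (j ≫ f).ker U) =
      (RingHom.ker (algebraMap Γ(X, U) Γ(Y', (j ≫ f) ⁻¹ᵁ U)) : Set Γ(X, U)) := by
    change Set.range (OmegaSh.idealSect (j ≫ f).ker U) = _
    rw [OmegaSeq2.range_idealSect (j ≫ f).ker hU, Scheme.Hom.ker_apply]
    change _ = ((RingHom.ker ((j ≫ f).appLE U ((j ≫ f) ⁻¹ᵁ U) eT').hom : Ideal Γ(X, U)) :
      Set Γ(X, U))
    rw [← (j ≫ f).app_eq_appLE]
  have hq₁ : IsBC (algebraMap Γ(X, U) Γ(Y, f ⁻¹ᵁ U)) (ρ f eV (ClSub.idealMod f.ker)) :=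
    isBC_ρ f hU hVaff eV (ClSub.idealMod f.ker)
  have hk : IsBC (algebraMap Γ(Y, f ⁻¹ᵁ U) Γ(Y', (j ≫ f) ⁻¹ᵁ U)) (ρ j eT (Omega.conormal f)) :=
    isBC_ρ j hVaff hTaff eT (Omega.conormal f)
  have hq₂ : IsBC (algebraMap Γ(X, U) Γ(Y', (j ≫ f) ⁻¹ᵁ U))
      (ρ (j ≫ f) eT' (ClSub.idealMod (j ≫ f).ker)) :=
    isBC_ρ (j ≫ f) hU hTaff eT' (ClSub.idealMod (j ≫ f).ker)
  have eW1 : U ≤ (𝟙 X) ⁻¹ᵁ U := le_rfl
  have h1 : ∀ s' s, idealSectₗ (j ≫ f).ker U s = idealSectₗ f.ker U s' →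
      linApp φ₁ ((j ≫ f) ⁻¹ᵁ U) (ρ j eT (Omega.conormal f) (ρ f eV (ClSub.idealMod f.ker) s')) =
        ρ (j ≫ f) eT' (ClSub.idealMod (j ≫ f).ker) s := fun s' s hs =>
    ConormalChart.conormalMap_app (j ≫ f) f (𝟙 X) j φ₁ hφ₁ eW1 eV eT eT' s' s
      (hs.trans (id_appLE_apply U eW1 _).symm)
  have hgen : RingHom.ker (algebraMap Γ(Y, f ⁻¹ᵁ U) Γ(Y', (j ≫ f) ⁻¹ᵁ U)) =
      Ideal.span (Set.range b) := by
    change RingHom.ker (j.appLE (f ⁻¹ᵁ U) (j ⁻¹ᵁ (f ⁻¹ᵁ U)) eT).hom = _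
    rw [← j.app_eq_appLE]; exact hker
  exact OmegaSeqAlg.conormal3_injective Γ(X, U) Γ(Y, f ⁻¹ᵁ U) Γ(Y', (j ≫ f) ⁻¹ᵁ U) hAB hBR
    (idealSectₗ f.ker U) (ConormalChart.idealSect_injective f.ker U) hιI
    (ρ f eV (ClSub.idealMod f.ker)) hq₁ (ρ j eT (Omega.conormal f)) hk
    (idealSectₗ (j ≫ f).ker U) hιK (ρ (j ≫ f) eT' (ClSub.idealMod (j ≫ f).ker)) hq₂
    (linApp φ₁ ((j ≫ f) ⁻¹ᵁ U)) h1 b hb hgen

/-- adapted charts carrying an `H_1`-regular generating sequence -/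
abbrev Chart3H := {U : X.affineOpens //
  U.1 ≤ f.coborderRange ∧ U.1 ≤ (j ≫ f).coborderRange ∧ f ⁻¹ᵁ U.1 ≤ j.coborderRange ∧
    H1Chart j (f ⁻¹ᵁ U.1)}

theorem chart3H_cover (hreg : RegImm.IsRegularImmersion RegImm.Kind.h1 j) (y : Y') :
    ∃ t : Chart3H f j, y ∈ (j ≫ f) ⁻¹ᵁ t.1.1 := by
  obtain ⟨W, hW, hyW, hH1⟩ := exists_h1Chart j hreg y
  -- an adapted affine chart of `X`
  obtain ⟨U₀, hU₀, hyU₀, h1, h2, h3⟩ := ImmChart.exists_chart_pre f (j y) j.coborderRange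
    (ImmChart.mem_coborderRange j y) (j ≫ f).coborderRange (by
      have := ImmChart.mem_coborderRange (j ≫ f) y
      exact this)
  obtain ⟨hT₀, hsf⟩ := ImmChart.of_le_coborder f hU₀ h2
  -- a common basic open of `f⁻¹U₀` and `W`
  obtain ⟨g₂, g₁, hgg, hyg⟩ := exists_basicOpen_le_affine_inter hT₀ hW (j y) ⟨hyU₀, hyW⟩
  obtain ⟨h, rfl⟩ := hsf g₂
  have hpre : f ⁻¹ᵁ X.basicOpen h = Y.basicOpen ((f.app U₀).hom h) := Scheme.preimage_basicOpen f h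
  have hle : X.basicOpen h ≤ U₀ := X.basicOpen_le h
  refine ⟨⟨⟨X.basicOpen h, hU₀.basicOpen h⟩, hle.trans h2, hle.trans h1, ?_, ?_⟩, ?_⟩
  · exact le_trans (fun _ hx => hle hx) h3
  · change H1Chart j (f ⁻¹ᵁ X.basicOpen h)
    rw [hpre, hgg]
    exact h1Chart_basicOpen j hW hH1 g₁
  · change j y ∈ f ⁻¹ᵁ X.basicOpen h
    rw [hpre]; exact hyg

include hφ₁ in
/-- **`j^*C_{Y/X} → C_{Y'/X}` is a monomorphism for `j` an `H_1`-regular immersion** -/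
theorem mono_conormalMap3 (hreg : RegImm.IsRegularImmersion RegImm.Kind.h1 j) : Mono φ₁ := by
  haveI : (Omega.conormal f).IsQuasicoherent := OmegaAffine.conormal_qcoh f
  haveI : (Omega.conormal (j ≫ f)).IsQuasicoherent := OmegaAffine.conormal_qcoh (j ≫ f)
  haveI : ((Scheme.Modules.pullback j).obj (Omega.conormal f)).IsQuasicoherent :=
    Groth.Agent.Lib.helper16.QCohPullback.isQuasicoherent_pullback j (Omega.conormal f)
  have haff : ∀ t : Chart3H f j, IsAffineOpen ((j ≫ f) ⁻¹ᵁ t.1.1) :=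
    fun t => (ImmChart.of_le_coborder (j ≫ f) t.1.2 t.2.2.1).1
  exact KerSections.mono_of_injective_cover φ₁ (fun t : Chart3H f j => (j ≫ f) ⁻¹ᵁ t.1.1) haff
    (chart3H_cover f j hreg) (fun t => chart_injective3 f j φ₁ hφ₁ t.1.2 t.2.1 t.2.2.1 t.2.2.2.1
      t.2.2.2.2)

variable (φ₂ : (Scheme.Modules.pullback (𝟙 Y')).obj (Omega.conormal (j ≫ f)) ⟶ Omega.conormal j)
  (hφ₂ : OmegaSh.IsConormalMap j (j ≫ f) f (𝟙 Y') φ₂)

include hφ₁ hφ₂ in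
/-- short-complex form of `j^*C_{Y/X} → C_{Y'/X} → C_{Y'/Y} → 0` -/
theorem conormal3_exact' :
    ∃ w : φ₁ ≫ ((Scheme.Modules.pullbackId Y').inv.app (Omega.conormal (j ≫ f)) ≫ φ₂) = 0,
      (ShortComplex.mk φ₁
        ((Scheme.Modules.pullbackId Y').inv.app (Omega.conormal (j ≫ f)) ≫ φ₂) w).Exact ∧
      Epi ((Scheme.Modules.pullbackId Y').inv.app (Omega.conormal (j ≫ f)) ≫ φ₂) := by
  haveI : (Omega.conormal f).IsQuasicoherent := OmegaAffine.conormal_qcoh f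
  haveI : (Omega.conormal (j ≫ f)).IsQuasicoherent := OmegaAffine.conormal_qcoh (j ≫ f)
  haveI : (Omega.conormal j).IsQuasicoherent := OmegaAffine.conormal_qcoh j
  haveI : ((𝟭 Y'.Modules).obj (Omega.conormal (j ≫ f))).IsQuasicoherent :=
    OmegaAffine.conormal_qcoh (j ≫ f)
  haveI : ((Scheme.Modules.pullback j).obj (Omega.conormal f)).IsQuasicoherent :=
    Groth.Agent.Lib.helper16.QCohPullback.isQuasicoherent_pullback j (Omega.conormal f)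
  have key := fun t : Chart3 f j => chart_conormal3 f j φ₁ hφ₁ φ₂ hφ₂ t.1.2 t.2.1 t.2.2.1 t.2.2.2
  have haff : ∀ t : Chart3 f j, IsAffineOpen ((j ≫ f) ⁻¹ᵁ t.1.1) :=
    fun t => (ImmChart.of_le_coborder (j ≫ f) t.1.2 t.2.2.1).1
  let φ₂' := (Scheme.Modules.pullbackId Y').inv.app (Omega.conormal (j ≫ f)) ≫ φ₂
  have w : φ₁ ≫ φ₂' = 0 := QCohExact.comp_eq_zero_of_cover φ₁ φ₂'
    (fun t : Chart3 f j => (j ≫ f) ⁻¹ᵁ t.1.1) haff (chart3_cover f j)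
    (fun t a => ((key t).2 _).mpr ⟨a, rfl⟩)
  refine ⟨w, ?_, ?_⟩
  · exact QCohExact.exact_of_cover φ₁ φ₂' w (fun t : Chart3 f j => (j ≫ f) ⁻¹ᵁ t.1.1) haff
      (chart3_cover f j) (fun t b hb => ((key t).2 b).mp hb)
  · exact KerSections.epi_of_surjective_cover φ₂'
      (fun t : Chart3 f j => (j ≫ f) ⁻¹ᵁ t.1.1) haff (chart3_cover f j) (fun t => (key t).1)

include hφ₁ hφ₂ in
/-- **the conormal sequence of `Y' → Y → X` is short exact for `Y' → Y` `H_1`-regular** -/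
theorem conormal3_shortExact (hreg : RegImm.IsRegularImmersion RegImm.Kind.h1 j)
    (w : φ₁ ≫ ((Scheme.Modules.pullbackId Y').inv.app (Omega.conormal (j ≫ f)) ≫ φ₂) = 0) :
    (ShortComplex.mk φ₁
      ((Scheme.Modules.pullbackId Y').inv.app (Omega.conormal (j ≫ f)) ≫ φ₂) w).ShortExact := by
  obtain ⟨_, hex, hepi⟩ := conormal3_exact' f j φ₁ hφ₁ φ₂ hφ₂
  haveI := mono_conormalMap3 f j φ₁ hφ₁ hreg
  haveI := hepi
  exact ShortComplex.ShortExact.mk' hex inferInstance inferInstance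

end Seq

end Groth.Agent.Lib.helper7.OmegaSeq7
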