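import Groth.Agent.Lib.Helper7.ConormalZeroAlg
import Groth.Agent.Lib.Helper7.OmegaSeq7
import Groth.Agent.Lib.Helper16.CohStalk

/-!
# The conormal sheaf of an immersion vanishes at `y` iff `j` is an open immersion near `y` (helper7)
-/

set_option autoImplicit false
set_option linter.style.haveILetI false
set_option linter.unusedSectionVars false
universe u
open CategoryTheory CategoryTheory.Limits AlgebraicGeometry TopologicalSpace Opposite
open Scheme.Modules

namespace Groth.Agent.Lib.helper7.ConormalZero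

open Groth.Agent.Lib.helper8.PullbackUnit OmegaChart OmegaSeq4 OmegaSeq5
  Groth.Agent.Lib.helper16.CohStalk

theorem mem_basicOpen_iff {X : Scheme.{u}} {U : X.Opens} (hU : IsAffineOpen U) (x : U)
    (f : Γ(X, U)) : (x : X) ∈ X.basicOpen f ↔ f ∉ (hU.primeIdealOf x).asIdeal := by
  have h1 := hU.fromSpec_preimage_basicOpen f
  have h2 := hU.fromSpec_primeIdealOf x
  rw [← h2]
  change hU.primeIdealOf x ∈ hU.fromSpec ⁻¹ᵁ X.basicOpen f ↔ _
  rw [h1]
  rfl

theorem isIso_of_isAffine_of_isIso_appTop {X Y : Scheme.{u}} (f : X ⟶ Y) [IsAffine X] [IsAffine Y]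
    (h : IsIso f.appTop) : IsIso f :=
  (HasAffineProperty.iff_of_isAffine (P := MorphismProperty.isomorphisms Scheme)).mpr
    ⟨inferInstance, h⟩

theorem isIso_app_of_eq {X Y : Scheme.{u}} (f : X ⟶ Y) {V W : Y.Opens} (e : W = V)
    (h : IsIso (f.app V)) : IsIso (f.app W) := by
  subst e; exact h

/-- if `f⁻¹V`, `V` are affine and `Γ(Y,V) → Γ(X,f⁻¹V)` is an isomorphism then `f⁻¹V → Y` is an
open immersion -/
theorem isOpenImmersion_of_isIso_app {X Y : Scheme.{u}} (f : X ⟶ Y) {V : Y.Opens}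
    (hV : IsAffineOpen V) (hT : IsAffineOpen (f ⁻¹ᵁ V)) (h : IsIso (f.app V)) :
    IsOpenImmersion ((f ⁻¹ᵁ V).ι ≫ f) := by
  haveI : IsAffine V.toScheme := hV
  haveI : IsAffine (f ⁻¹ᵁ V).toScheme := hT
  haveI : IsIso (f ∣_ V) := by
    apply isIso_of_isAffine_of_isIso_appTop
    rw [morphismRestrict_appTop]
    have h1 : IsIso (f.app (V.ι ''ᵁ ⊤)) := isIso_app_of_eq f (by simp) h
    have h2 : IsIso (X.presheaf.map (eqToHom (image_morphismRestrict_preimage f V ⊤)).op) := by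
      rw [eqToHom_op, eqToHom_map]; infer_instance
    exact @IsIso.comp_isIso _ _ _ _ _ _ _ h1 h2
  rw [← morphismRestrict_ι]
  infer_instance

variable {Y X : Scheme.{u}} (j : Y ⟶ X) [IsImmersion j] [QuasiCompact j]

theorem subsingleton_stalk_of_isOpenImmersion (y : Y) (U : Y.Opens) (hyU : y ∈ U)
    [IsOpenImmersion (U.ι ≫ j)] :
    Subsingleton ((Omega.conormal j).presheaf.stalk y) := by
  haveI : (Omega.conormal j).IsQuasicoherent := OmegaAffine.conormal_qcoh j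
  set g := U.ι ≫ j with hg
  have hyO : j y ∈ g.opensRange := ⟨⟨y, hyU⟩, rfl⟩
  obtain ⟨V, hV, hyV', hVO, hTaff, hsj⟩ := ImmChart.exists_chart j y g.opensRange hyO
  have hyV : y ∈ j ⁻¹ᵁ V := hyV'
  have hinj : Function.Injective (j.app V).hom := by
    have h1 : IsIso (g.app V) := g.isIso_app V hVO
    have h2 : g.app V = j.app V ≫ U.ι.app (j ⁻¹ᵁ V) := Scheme.Hom.comp_app ..
    intro a b hab
    apply (ConcreteCategory.bijective_of_isIso (g.app V)).1
    rw [h2]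
    change (U.ι.app (j ⁻¹ᵁ V)).hom ((j.app V).hom a) = (U.ι.app (j ⁻¹ᵁ V)).hom ((j.app V).hom b)
    rw [hab]
  have eT : j ⁻¹ᵁ V ≤ j ⁻¹ᵁ V := le_rfl
  have hq : IsBC (j.appLE V (j ⁻¹ᵁ V) eT).hom (ρ j eT (ClSub.idealMod j.ker)) :=
    isBC_ρ j hV hTaff eT (ClSub.idealMod j.ker)
  have happ : j.appLE V (j ⁻¹ᵁ V) eT = j.app V := (j.app_eq_appLE (U := V)).symm
  have hρs : Function.Surjective (ρ j eT (ClSub.idealMod j.ker)) := by
    refine surjective_of_isBC' ?_ hq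
    rw [happ]; exact hsj
  have hI0 : ∀ s : Γ(ClSub.idealMod j.ker, V), s = 0 := by
    intro s
    apply ConormalChart.idealSect_injective j.ker V
    have h1 : OmegaSh.idealSect j.ker V s ∈ Set.range (OmegaSh.idealSect j.ker V) := ⟨s, rfl⟩
    rw [OmegaSeq2.range_idealSect j.ker hV, Scheme.Hom.ker_apply] at h1
    have h2 : (j.app V).hom (OmegaSh.idealSect j.ker V s) = 0 := h1
    rw [map_zero]
    exact hinj (by rw [h2, map_zero])
  have hC0 : ∀ n : Γ(Omega.conormal j, j ⁻¹ᵁ V), n = 0 := by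
    intro n
    obtain ⟨s, rfl⟩ := hρs n
    rw [hI0 s]
    exact map_zero _
  letI := modStalk (Omega.conormal j) y hyV
  have hloc := isLocalizedModule_stalk (Omega.conormal j) hTaff y hyV
  refine ⟨fun t₁ t₂ => ?_⟩
  have key : ∀ t : (Omega.conormal j).presheaf.stalk y, t = 0 := by
    intro t
    obtain ⟨⟨n, c⟩, hc⟩ := hloc.surj t
    rw [hC0 n, map_zero] at hc
    have hu := hloc.map_units c
    rw [Module.End.isUnit_iff] at hu
    apply hu.1
    change (c : Γ(Y, j ⁻¹ᵁ V)) • t = (c : Γ(Y, j ⁻¹ᵁ V)) • (0 : (Omega.conormal j).presheaf.stalk y)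
    rw [smul_zero]
    exact hc
  rw [key t₁, key t₂]

theorem exists_isOpenImmersion_of_subsingleton_stalk [LocallyOfFinitePresentation j] (y : Y)
    (h : Subsingleton ((Omega.conormal j).presheaf.stalk y)) :
    ∃ U : Y.Opens, y ∈ U ∧ IsOpenImmersion (U.ι ≫ j) := by
  haveI : (Omega.conormal j).IsQuasicoherent := OmegaAffine.conormal_qcoh j
  obtain ⟨V, hV, hyV', -, hVc, -⟩ := ImmChart.exists_chart_pre j y ⊤ trivial ⊤ trivial
  have hyV : y ∈ j ⁻¹ᵁ V := hyV'
  obtain ⟨hTaff, hsj⟩ := ImmChart.of_le_coborder j hV hVc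
  have eT : j ⁻¹ᵁ V ≤ j ⁻¹ᵁ V := le_rfl
  have hq : IsBC (j.appLE V (j ⁻¹ᵁ V) eT).hom (ρ j eT (ClSub.idealMod j.ker)) :=
    isBC_ρ j hV hTaff eT (ClSub.idealMod j.ker)
  have happ : j.appLE V (j ⁻¹ᵁ V) eT = j.app V := (j.app_eq_appLE (U := V)).symm
  have hφs : Function.Surjective (j.appLE V (j ⁻¹ᵁ V) eT).hom := by rw [happ]; exact hsj
  have hι : Set.range (idealSectₗ j.ker V) =
      (RingHom.ker (j.appLE V (j ⁻¹ᵁ V) eT).hom : Set Γ(X, V)) := by
    change Set.range (OmegaSh.idealSect j.ker V) = _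
    rw [OmegaSeq2.range_idealSect j.ker hV, Scheme.Hom.ker_apply, happ]
  have hfg : (RingHom.ker (j.appLE V (j ⁻¹ᵁ V) eT).hom).FG := by
    have hfp : (j.appLE V (j ⁻¹ᵁ V) eT).hom.FinitePresentation :=
      HasRingHomProperty.appLE (P := @LocallyOfFinitePresentation) j inferInstance ⟨V, hV⟩
        ⟨j ⁻¹ᵁ V, hTaff⟩ eT
    letI := (j.appLE V (j ⁻¹ᵁ V) eT).hom.toAlgebra
    haveI : Algebra.FinitePresentation Γ(X, V) Γ(Y, j ⁻¹ᵁ V) := hfp
    exact Algebra.FinitePresentation.ker_fG_of_surjective (Algebra.ofId Γ(X, V) Γ(Y, j ⁻¹ᵁ V)) hφs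
  letI := modStalk (Omega.conormal j) y hyV
  have hloc := isLocalizedModule_stalk (Omega.conormal j) hTaff y hyV
  set 𝔭 := (hTaff.primeIdealOf ⟨y, hyV⟩).asIdeal with h𝔭
  have h0 : ∀ n : Γ(Omega.conormal j, j ⁻¹ᵁ V), ∃ s : Γ(Y, j ⁻¹ᵁ V), s ∉ 𝔭 ∧ s • n = 0 := by
    intro n
    have h1 : germLin (Omega.conormal j) y hyV n = germLin (Omega.conormal j) y hyV 0 :=
      Subsingleton.elim _ _
    obtain ⟨c, hc⟩ := hloc.exists_of_eq h1
    refine ⟨c.1, c.2, ?_⟩
    rw [smul_zero] at hc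
    exact hc
  obtain ⟨b, hb, hbI⟩ := ConormalZeroAlg.exists_annihilator hφs hq (idealSectₗ j.ker V) hι hfg 𝔭 h0
  -- the smaller chart
  have hV' : IsAffineOpen (X.basicOpen b) := hV.basicOpen b
  obtain ⟨hTaff', hsj'⟩ := ImmChart.of_le_coborder j hV' ((X.basicOpen_le b).trans hVc)
  have hinj' : Function.Injective (j.app (X.basicOpen b)).hom := by
    rw [RingHom.injective_iff_ker_eq_bot]
    have h1 := j.ker.map_ideal_basicOpen ⟨V, hV⟩ b
    rw [Scheme.Hom.ker_apply, Scheme.Hom.ker_apply] at h1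
    change Ideal.map _ (RingHom.ker (j.app V).hom) = RingHom.ker (j.app (X.basicOpen b)).hom at h1
    rw [← h1, ← happ, Ideal.map_eq_bot_iff_le_ker]
    intro x hx
    rw [RingHom.mem_ker]
    have h2 := hbI x hx
    have h3 : IsUnit ((X.presheaf.map (homOfLE (X.basicOpen_le b)).op).hom b) :=
      RingedSpace.isUnit_res_basicOpen _ b
    have h4 := congrArg (X.presheaf.map (homOfLE (X.basicOpen_le b)).op).hom h2
    rw [map_mul, map_zero] at h4
    exact (h3.mul_right_eq_zero).mp h4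
  have hiso : IsIso (j.app (X.basicOpen b)) := by
    rw [ConcreteCategory.isIso_iff_bijective]
    exact ⟨hinj', hsj'⟩
  refine ⟨j ⁻¹ᵁ X.basicOpen b, ?_, isOpenImmersion_of_isIso_app j hV' hTaff' hiso⟩
  rw [Scheme.preimage_basicOpen]
  have h5 : ((⟨y, hyV⟩ : (j ⁻¹ᵁ V : Y.Opens)) : Y) ∈ Y.basicOpen ((j.app V).hom b) := by
    rw [mem_basicOpen_iff hTaff]
    rw [← happ]
    exact hb
  exact h5

end Groth.Agent.Lib.helper7.ConormalZero
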