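import Groth.Agent.Lib.Helper7.KerSections
import Groth.Agent.Lib.Helper7.ModBasisHom

/-!
# Exactness of sequences of quasi-coherent modules can be checked on an affine cover (helper7)

* `eq_zero_of_cover` : a morphism into any module vanishing on all opens of a basis is zero.
* `exact_of_cover` : `A ⟶ B ⟶ C` (quasi-coherent) is exact if exact on sections over an affine cover.
* `image_eq_kernel_of_cover` : the same as `imageSubobject = kernelSubobject`.
-/

set_option autoImplicit false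
universe u
open CategoryTheory CategoryTheory.Limits AlgebraicGeometry TopologicalSpace Opposite
open Scheme.Modules Groth.Agent.Lib.helper7

namespace Groth.Agent.Lib.helper7.QCohExact

variable {X : Scheme.{u}}

/-- A morphism of quasi-coherent modules vanishing on sections over an affine cover is zero. -/
theorem eq_zero_of_cover {A B : X.Modules} [A.IsQuasicoherent] [B.IsQuasicoherent] (φ : A ⟶ B)
    {ι : Type*} (𝒰 : ι → X.Opens) (h𝒰 : ∀ i, IsAffineOpen (𝒰 i))
    (hcov : ∀ x : X, ∃ i, x ∈ 𝒰 i) (h : ∀ i (a : Γ(A, 𝒰 i)), (φ.app (𝒰 i)).hom a = 0) :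
    φ = 0 := by
  have : (kernel φ).IsQuasicoherent := CohKer.isQuasicoherent_kernel φ
  have : Epi (kernel.ι φ) := by
    refine KerSections.epi_of_surjective_cover (kernel.ι φ) 𝒰 h𝒰 hcov (fun i a => ?_)
    exact KerSections.exists_kernel_section φ (𝒰 i) a (h i a)
  rw [← cancel_epi (kernel.ι φ), kernel.condition, comp_zero]

variable {A B C : X.Modules} [A.IsQuasicoherent] [B.IsQuasicoherent] [C.IsQuasicoherent]
  (α : A ⟶ B) (β : B ⟶ C)

/-- Exactness on sections over an affine cover implies exactness. -/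
theorem exact_of_cover (w : α ≫ β = 0) {ι : Type*} (𝒰 : ι → X.Opens)
    (h𝒰 : ∀ i, IsAffineOpen (𝒰 i)) (hcov : ∀ x : X, ∃ i, x ∈ 𝒰 i)
    (h : ∀ i (b : Γ(B, 𝒰 i)), (β.app (𝒰 i)).hom b = 0 → ∃ a : Γ(A, 𝒰 i), (α.app (𝒰 i)).hom a = b) :
    (ShortComplex.mk α β w).Exact := by
  rw [ShortComplex.exact_iff_epi_kernel_lift]
  have : (kernel β).IsQuasicoherent := CohKer.isQuasicoherent_kernel β
  refine KerSections.epi_of_surjective_cover (kernel.lift β α w) 𝒰 h𝒰 hcov (fun i t => ?_)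
  obtain ⟨a, ha⟩ := h i (((kernel.ι β).app (𝒰 i)).hom t) (KerSections.kernel_ι_app_comp β (𝒰 i) t)
  refine ⟨a, KerSections.kernel_ι_app_injective β (𝒰 i) ?_⟩
  refine Eq.trans ?_ ha
  have h1 : kernel.lift β α w ≫ kernel.ι β = α := kernel.lift_ι _ _ _
  exact congrArg (fun ψ => (Scheme.Modules.Hom.app ψ (𝒰 i)).hom a) h1

/-- The composite vanishes if it does on sections over an affine cover. -/
theorem comp_eq_zero_of_cover {ι : Type*} (𝒰 : ι → X.Opens)
    (h𝒰 : ∀ i, IsAffineOpen (𝒰 i)) (hcov : ∀ x : X, ∃ i, x ∈ 𝒰 i)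
    (h : ∀ i (a : Γ(A, 𝒰 i)), (β.app (𝒰 i)).hom ((α.app (𝒰 i)).hom a) = 0) : α ≫ β = 0 :=
  eq_zero_of_cover (α ≫ β) 𝒰 h𝒰 hcov h

/-- `imageSubobject α = kernelSubobject β` from exactness on an affine cover. -/
theorem image_eq_kernel_of_cover {ι : Type*} (𝒰 : ι → X.Opens)
    (h𝒰 : ∀ i, IsAffineOpen (𝒰 i)) (hcov : ∀ x : X, ∃ i, x ∈ 𝒰 i)
    (h0 : ∀ i (a : Γ(A, 𝒰 i)), (β.app (𝒰 i)).hom ((α.app (𝒰 i)).hom a) = 0)
    (h : ∀ i (b : Γ(B, 𝒰 i)), (β.app (𝒰 i)).hom b = 0 → ∃ a : Γ(A, 𝒰 i), (α.app (𝒰 i)).hom a = b) :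
    imageSubobject α = kernelSubobject β := by
  have w := comp_eq_zero_of_cover α β 𝒰 h𝒰 hcov h0
  exact (ShortComplex.exact_iff_image_eq_kernel (ShortComplex.mk α β w)).mp
    (exact_of_cover α β w 𝒰 h𝒰 hcov h)

end Groth.Agent.Lib.helper7.QCohExact
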