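import Groth.Prelude.Def_AlgSp4
import Groth.Agent.Lib.Helper7.LfpOfComp

/-!
# Chart diagrams of representable morphisms of sheaves (helper7)

`exists_factor_of_charts`: for a representable morphism `f : X ⟶ Y` of fppf sheaves and a chart diagram
`a ≫ f = h_h ≫ b` with `a : h_U ⟶ X`, `b : h_V ⟶ Y` representable etale, the morphism `h : U ⟶ V` factors
as `φ ≫ j` where `j : W ⟶ V` represents the base change of `f` along `b` and `φ : U ⟶ W` is locally of
finite presentation.
-/

set_option autoImplicit false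
universe u

open CategoryTheory CategoryTheory.Limits AlgebraicGeometry Opposite

namespace Groth.Agent.Lib.helper7

variable {S : Scheme.{u}}

theorem exists_factor_of_charts {X Y : AlgSp.Sp S} {f : X ⟶ Y} (hf : AlgSp.Representable f)
    {U V : Over S} (a : (AlgSp.yon S).obj U ⟶ X) (b : (AlgSp.yon S).obj V ⟶ Y) (h : U ⟶ V)
    (ha : AlgSp.RepWith @Etale a) (hb : AlgSp.RepWith @Etale b)
    (comm : a ≫ f = (AlgSp.yon S).map h ≫ b) :
    ∃ (φ : U ⟶ hf.pullback b), φ ≫ hf.snd b = h ∧ (AlgSp.yon S).map φ ≫ hf.fst b = a ∧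
      LocallyOfFinitePresentation φ.left := by
  -- `fstW : h_W ⟶ X` is etale, as a base change of `b`
  have sqW := hf.isPullback b
  have hfstW : AlgSp.RepWith @Etale (hf.fst b) :=
    (AlgSp.repWith_isStableUnderBaseChange (S := S) @Etale).of_isPullback sqW.flip hb
  -- the induced map `φ : U ⟶ W`
  let φ : U ⟶ hf.pullback b := hf.lift a h comm
  have hφ1 : (AlgSp.yon S).map φ ≫ hf.fst b = a := hf.lift_fst a h comm
  have hφ2 : φ ≫ hf.snd b = h := hf.lift_snd a h comm
  refine ⟨φ, hφ2, hφ1, ?_⟩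
  -- the fibre product `Q = U ×_X W`
  have hrep := ha.rep
  have sqQ := hrep.isPullback (hf.fst b)
  have hπ2 : Etale (hrep.snd (hf.fst b)).left := ha.property_snd (hf.fst b)
  obtain ⟨π1, hπ1⟩ := (AlgSp.yon S).map_surjective (hrep.fst (hf.fst b))
  have hπ1e : Etale π1.left := by
    have sq' : IsPullback ((AlgSp.yon S).map (hrep.snd (hf.fst b))) ((AlgSp.yon S).map π1)
        (hf.fst b) a := by
      rw [hπ1]; exact sqQ.flip
    exact hfstW.2 a _ π1 sq'
  -- the section `σ : U ⟶ Q`
  let σ : U ⟶ hrep.pullback (hf.fst b) := hrep.lift (g := hf.fst b) (𝟙 _) φ (by rw [Category.id_comp, hφ1])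
  have hσ1 : σ ≫ π1 = 𝟙 U := by
    apply (AlgSp.yon S).map_injective
    rw [Functor.map_comp, hπ1, CategoryTheory.Functor.map_id]
    exact hrep.lift_fst _ _ _
  have hσ2 : σ ≫ hrep.snd (hf.fst b) = φ := hrep.lift_snd _ _ _
  have hσlfp : LocallyOfFinitePresentation σ.left := by
    have h1 : σ.left ≫ π1.left = 𝟙 U.left := by
      rw [← Over.comp_left, hσ1]; rfl
    have : LocallyOfFinitePresentation (σ.left ≫ π1.left) := by
      rw [h1]; infer_instance
    exact locallyOfFinitePresentation_of_comp σ.left π1.left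
  have : φ.left = σ.left ≫ (hrep.snd (hf.fst b)).left := by
    rw [← Over.comp_left, hσ2]
  rw [this]
  infer_instance

/-- Same as `exists_factor_of_charts`, with `φ` etale. -/
theorem exists_factor_of_charts_etale {X Y : AlgSp.Sp S} {f : X ⟶ Y} (hf : AlgSp.Representable f)
    {U V : Over S} (a : (AlgSp.yon S).obj U ⟶ X) (b : (AlgSp.yon S).obj V ⟶ Y) (h : U ⟶ V)
    (ha : AlgSp.RepWith @Etale a) (hb : AlgSp.RepWith @Etale b)
    (comm : a ≫ f = (AlgSp.yon S).map h ≫ b) :
    ∃ (φ : U ⟶ hf.pullback b), φ ≫ hf.snd b = h ∧ (AlgSp.yon S).map φ ≫ hf.fst b = a ∧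
      Etale φ.left := by
  have sqW := hf.isPullback b
  have hfstW : AlgSp.RepWith @Etale (hf.fst b) :=
    (AlgSp.repWith_isStableUnderBaseChange (S := S) @Etale).of_isPullback sqW.flip hb
  let φ : U ⟶ hf.pullback b := hf.lift a h comm
  have hφ1 : (AlgSp.yon S).map φ ≫ hf.fst b = a := hf.lift_fst a h comm
  have hφ2 : φ ≫ hf.snd b = h := hf.lift_snd a h comm
  refine ⟨φ, hφ2, hφ1, ?_⟩
  have hrep := ha.rep
  have sqQ := hrep.isPullback (hf.fst b)
  have hπ2 : Etale (hrep.snd (hf.fst b)).left := ha.property_snd (hf.fst b)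
  obtain ⟨π1, hπ1⟩ := (AlgSp.yon S).map_surjective (hrep.fst (hf.fst b))
  have hπ1e : Etale π1.left := by
    have sq' : IsPullback ((AlgSp.yon S).map (hrep.snd (hf.fst b))) ((AlgSp.yon S).map π1)
        (hf.fst b) a := by
      rw [hπ1]; exact sqQ.flip
    exact hfstW.2 a _ π1 sq'
  let σ : U ⟶ hrep.pullback (hf.fst b) := hrep.lift (g := hf.fst b) (𝟙 _) φ (by rw [Category.id_comp, hφ1])
  have hσ1 : σ ≫ π1 = 𝟙 U := by
    apply (AlgSp.yon S).map_injective
    rw [Functor.map_comp, hπ1, CategoryTheory.Functor.map_id]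
    exact hrep.lift_fst _ _ _
  have hσ2 : σ ≫ hrep.snd (hf.fst b) = φ := hrep.lift_snd _ _ _
  have hσe : Etale σ.left := by
    have h1 : σ.left ≫ π1.left = 𝟙 U.left := by
      rw [← Over.comp_left, hσ1]; rfl
    have : Etale (σ.left ≫ π1.left) := by
      rw [h1]; infer_instance
    exact Etale.of_comp σ.left π1.left
  have : φ.left = σ.left ≫ (hrep.snd (hf.fst b)).left := by
    rw [← Over.comp_left, hσ2]
  rw [this]
  infer_instance

end Groth.Agent.Lib.helper7
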