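import Groth.Prelude.Def_AlgSp4
import Groth.Agent.Lib.Helper7.AlgSpFibre
import Groth.Agent.Lib.Helper5.AlgSpUniv

/-!
# Chart squares for base changes of arbitrary morphisms of sheaves with atlases (helper7)
-/

set_option autoImplicit false
universe u

open CategoryTheory CategoryTheory.Limits AlgebraicGeometry Opposite

namespace Groth.Agent.Lib.helper7.AlgSpChartSq

open AlgSp Groth.Agent.Lib.helper7.AlgSpFibre Groth.Agent.Lib.helper11 Groth.Agent.Lib.helper5

variable {S : Scheme.{u}}

/-- For a fibre product `P = X ×_H Y` over a sheaf with representable diagonal and charts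
`a : h_A ⟶ X`, `b : h_B ⟶ Y`, the scheme `V = A ×_H B` is a chart of `P`, compatible with the
projections, and `|V| ⟶ |P| ×_{|Y|} |B|` is surjective. -/
theorem exists_chart_of_isPullback {H X Y P : Sp S} (hH : Representable (Limits.diag H))
    {A B : Over S} (a : (yon S).obj A ⟶ X) (hae : RepWith @Etale a) (has : RepWith @Surjective a)
    (b : (yon S).obj B ⟶ Y) (hbe : RepWith @Etale b) (hbs : RepWith @Surjective b)
    {f : X ⟶ H} {g : Y ⟶ H} {fst : P ⟶ X} {snd : P ⟶ Y} (h : IsPullback fst snd f g) :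
    ∃ (V : Over S) (s : V ⟶ A) (t : V ⟶ B) (c : (yon S).obj V ⟶ P),
      RepWith @Etale c ∧ RepWith @Surjective c ∧
      IsPullback ((yon S).map s) ((yon S).map t) (a ≫ f) (b ≫ g) ∧
      c ≫ fst = (yon S).map s ≫ a ∧ c ≫ snd = (yon S).map t ≫ b ∧
      (∀ (y : Points P) (β : ↥B.left), Points.map snd y = Points.ofPt b β →
        ∃ v : ↥V.left, Points.ofPt c v = y ∧ t.left v = β) := by
  -- `R = P ×_Y h_B`
  have sqR : IsPullback (pullback.fst snd b) (pullback.snd snd b) snd b :=
    IsPullback.of_hasPullback snd b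
  have hRe : RepWith @Etale (pullback.fst snd b) := MorphismProperty.of_isPullback sqR.flip hbe
  have hRs : RepWith @Surjective (pullback.fst snd b) :=
    MorphismProperty.of_isPullback sqR.flip hbs
  have sqR' : IsPullback (pullback.fst snd b ≫ fst) (pullback.snd snd b) f (b ≫ g) :=
    sqR.paste_horiz h
  -- `Q = h_A ×_X R`
  have sqQ : IsPullback (pullback.fst a (pullback.fst snd b ≫ fst))
      (pullback.snd a (pullback.fst snd b ≫ fst)) a (pullback.fst snd b ≫ fst) :=
    IsPullback.of_hasPullback _ _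
  have hQe : RepWith @Etale (pullback.snd a (pullback.fst snd b ≫ fst)) :=
    MorphismProperty.of_isPullback sqQ hae
  have hQs : RepWith @Surjective (pullback.snd a (pullback.fst snd b ≫ fst)) :=
    MorphismProperty.of_isPullback sqQ has
  have sqQ' : IsPullback (pullback.fst a (pullback.fst snd b ≫ fst))
      (pullback.snd a (pullback.fst snd b ≫ fst) ≫ pullback.snd snd b) (a ≫ f) (b ≫ g) :=
    sqQ.paste_vert sqR'
  -- representability
  have hrep : Representable (a ≫ f) := Functor.relativelyRepresentable.of_diag hH (a ≫ f)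
  obtain ⟨V, t, s', sqV⟩ := hrep (b ≫ g)
  obtain ⟨s, rfl⟩ := (yon S).map_surjective s'
  let e : (yon S).obj V ≅ pullback a (pullback.fst snd b ≫ fst) := sqV.isoIsPullback _ _ sqQ'
  have he1 : e.hom ≫ pullback.fst a (pullback.fst snd b ≫ fst) = (yon S).map s :=
    IsPullback.isoIsPullback_hom_fst _ _ sqV sqQ'
  have he2 : e.hom ≫ pullback.snd a (pullback.fst snd b ≫ fst) ≫ pullback.snd snd b =
      (yon S).map t := IsPullback.isoIsPullback_hom_snd _ _ sqV sqQ'
  have hc'e : RepWith @Etale (e.hom ≫ pullback.snd a (pullback.fst snd b ≫ fst)) :=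
    MorphismProperty.RespectsIso.precomp _ _ _ hQe
  have hc's : RepWith @Surjective (e.hom ≫ pullback.snd a (pullback.fst snd b ≫ fst)) :=
    MorphismProperty.RespectsIso.precomp _ _ _ hQs
  refine ⟨V, s, t, (e.hom ≫ pullback.snd a (pullback.fst snd b ≫ fst)) ≫ pullback.fst snd b,
    (repWith_isMultiplicative (S := S) @Etale).comp_mem _ _ hc'e hRe,
    (repWith_isMultiplicative (S := S) @Surjective).comp_mem _ _ hc's hRs, sqV, ?_, ?_, ?_⟩
  · rw [← he1, Category.assoc, Category.assoc, Category.assoc, sqQ.w]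
  · rw [← he2]
    simp only [Category.assoc]
    rw [sqR.w]
  · intro y β hy
    rw [Points.ofPt_eq_map_ofScheme] at hy
    obtain ⟨r, hr1, hr2⟩ := Groth.Agent.Lib.helper10.exists_point_of_isPullback sqR y _ hy
    obtain ⟨v, hv⟩ := surjective_ofPt _ hc's r
    refine ⟨v, ?_, ?_⟩
    · rw [← Points.map_ofPt, hv, hr1]
    · have h1 : Points.ofPt ((e.hom ≫ pullback.snd a (pullback.fst snd b ≫ fst)) ≫
          pullback.snd snd b) v = Points.ofScheme B β := by
        rw [← Points.map_ofPt, hv, hr2]
      rw [Category.assoc, he2, ofPt_yon_map] at h1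
      exact (Points.schemeEquiv B).injective h1

/-- The chart square associated with `exists_chart_of_isPullback`. -/
theorem exists_chartSq_of_isPullback {H X Y P : Sp S} (hH : Representable (Limits.diag H))
    {A B : Over S} (a : (yon S).obj A ⟶ X) (hae : RepWith @Etale a) (has : RepWith @Surjective a)
    (b : (yon S).obj B ⟶ Y) (hbe : RepWith @Etale b) (hbs : RepWith @Surjective b)
    {f : X ⟶ H} {g : Y ⟶ H} {fst : P ⟶ X} {snd : P ⟶ Y} (h : IsPullback fst snd f g) :
    ∃ (V : Over S) (s : V ⟶ A) (t : V ⟶ B) (c : (yon S).obj V ⟶ P),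
      RepWith @Etale c ∧ RepWith @Surjective c ∧
      IsPullback ((yon S).map s) ((yon S).map t) (a ≫ f) (b ≫ g) ∧
      c ≫ fst = (yon S).map s ≫ a ∧ c ≫ snd = (yon S).map t ≫ b ∧
      ChartSq (Points.ofPt c) (fun v => t.left v) (Points.map snd) (Points.ofPt b) := by
  obtain ⟨V, s, t, c, hce, hcs, sqV, h1, h2, hfib⟩ :=
    exists_chart_of_isPullback hH a hae has b hbe hbs h
  refine ⟨V, s, t, c, hce, hcs, sqV, h1, h2, ?_⟩
  refine ⟨fun v => ?_, hfib, Points.continuous_ofPt _, Points.continuous_map _,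
    isQuotientMap_ofPt b hbe hbs⟩
  rw [Points.map_ofPt, h2, ofPt_yon_map_comp]

/-- A pullback square of representable sheaves comes from a pullback square of schemes. -/
theorem isPullback_left_of_yon {A B V K : Over S} {s : V ⟶ A} {t : V ⟶ B} {φ : A ⟶ K} {ψ : B ⟶ K}
    (sq : IsPullback ((yon S).map s) ((yon S).map t) ((yon S).map φ) ((yon S).map ψ)) :
    IsPullback s.left t.left φ.left ψ.left :=
  (IsPullback.of_map (yon S) ((yon S).map_injective (by
    rw [Functor.map_comp, Functor.map_comp]; exact sq.w)) sq).map (Over.forget S)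

end Groth.Agent.Lib.helper7.AlgSpChartSq
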