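import Mathlib
import Groth.Agent.Lib.Helper18.ProjFormulaLF
import Groth.Agent.Lib.Helper21.PicFibre
import Groth.Agent.Lib.Helper7.BCUnit

/-!
# The unit `N ⟶ p_* p^* N` for finite locally free `N` (helper7)

* `isIso_app_of_isFinLocFree`: zigzag principle: a natural transformation between local functors
  which is an isomorphism at free modules is an isomorphism at finite locally free modules.
* `isIso_unit_of_isFinLocFree`: if `O_T ⟶ p_* O_Y` is an isomorphism (on all opens), then
  `N ⟶ p_* p^* N` is an isomorphism for `N` finite locally free.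
* `isIso_counit_pullback`: then the counit at `p^* N` is an isomorphism.
-/

set_option autoImplicit false
set_option linter.style.haveILetI false
universe u
open CategoryTheory AlgebraicGeometry Opposite TopologicalSpace
open Scheme.Modules

namespace Groth.Agent.Lib.helper7.UnitFLF

open Groth.Agent.Lib.helper11.IsoLocus Groth.Agent.Lib.helper11.InvPullback
  Groth.Agent.Lib.helper11.InvMod
  Groth.Agent.Lib.helper12.PullTensor Groth.Agent.Lib.Helper18.ProjFormulaLF

variable {Y T : Scheme.{u}}

/-- **zigzag principle** -/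
theorem isIso_app_of_isFinLocFree {F G : T.Modules ⥤ T.Modules}
    (hF : ∀ {A B : T.Modules} (ψ : A ⟶ B), isoLocus ψ ≤ isoLocus (F.map ψ))
    (hG : ∀ {A B : T.Modules} (ψ : A ⟶ B), isoLocus ψ ≤ isoLocus (G.map ψ))
    (θ : F ⟶ G) (hfree : ∀ n, IsIso (θ.app (FlatMod.freeMod T n)))
    (N : T.Modules) (hN : FlatMod.IsFinLocFree N) : IsIso (θ.app N) := by
  rw [isIso_iff_stalk]
  intro x
  obtain ⟨U, n, hxU, ⟨e⟩⟩ := hN x
  let Nt : T.Modules := (Scheme.Modules.pushforward U.ι).obj ((restrictFunctor U.ι).obj N)
  let a : N ⟶ Nt := (restrictAdjunction U.ι).unit.app N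
  let c : (restrictFunctor U.ι).obj (FlatMod.freeMod T n) ⟶ (restrictFunctor U.ι).obj N :=
    (Groth.Agent.Lib.helper16.FLF.restrictFreeModIso U.ι n).hom ≫ e.inv
  let b : FlatMod.freeMod T n ⟶ Nt :=
    (restrictAdjunction U.ι).unit.app (FlatMod.freeMod T n) ≫
      (Scheme.Modules.pushforward U.ι).map c
  have ha : U ≤ isoLocus a := le_isoLocus_restrictAdjunction_unit N U
  have hb : U ≤ isoLocus b := by
    rw [le_isoLocus_iff]
    have h1 : IsIso ((restrictFunctor U.ι).map
        ((restrictAdjunction U.ι).unit.app (FlatMod.freeMod T n))) :=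
      (le_isoLocus_iff _ _).mp (le_isoLocus_restrictAdjunction_unit (FlatMod.freeMod T n) U)
    change IsIso ((restrictFunctor U.ι).map (_ ≫ _))
    rw [Functor.map_comp]
    infer_instance
  haveI := hfree n
  have h1 : IsIso (stalkMap (θ.app Nt) x) :=
    isIso_stalkMap_of_square' _ _ _ _ (θ.naturality b) x
      (isIso_stalkMap_of_le _ (le_trans hb (hF b)) hxU) inferInstance
      (isIso_stalkMap_of_le _ (le_trans hb (hG b)) hxU)
  exact isIso_stalkMap_of_square _ _ _ _ (θ.naturality a) x
    (isIso_stalkMap_of_le _ (le_trans ha (hF a)) hxU) h1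
    (isIso_stalkMap_of_le _ (le_trans ha (hG a)) hxU)

/-- `p_* p^*` is a local functor -/
theorem isoLocus_le_push_pull (p : Y ⟶ T) {A B : T.Modules} (ψ : A ⟶ B) :
    isoLocus ψ ≤ isoLocus ((Scheme.Modules.pullback p ⋙ pushforward p).map ψ) :=
  le_isoLocus_pushforward p _ _ (preimage_isoLocus_le p ψ)

/-- the unit at `O_T` is an isomorphism if `O_T ⟶ p_* O_Y` is -/
theorem isIso_unit_structureModule (p : Y ⟶ T) (hO : ∀ V : T.Opens, IsIso (p.app V)) :
    IsIso ((pullbackPushforwardAdjunction p).unit.app (Coh.structureModule T)) := by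
  have h1 : IsIso (unitToPush p) := Groth.Agent.Lib.helper21.PicFibre.isIso_unitToPush p hO
  have h2 : unitToPush p = (pullbackPushforwardAdjunction p).unit.app (Coh.structureModule T) ≫
      (pushforward p).map (pullbackUnitHom p) := by
    have h3 := congrArg ((pullbackPushforwardAdjunction p).homEquiv _ _) (pullbackUnitHom_eq p)
    rw [Equiv.apply_symm_apply] at h3
    exact h3.symm.trans ((pullbackPushforwardAdjunction p).homEquiv_unit _ _ _)
  rw [h2] at h1
  exact IsIso.of_isIso_comp_right _ ((pushforward p).map (pullbackUnitHom p))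

/-- **the unit `N ⟶ p_* p^* N` is an isomorphism for `N` finite locally free**, if `O_T = p_* O_Y` -/
theorem isIso_unit_of_isFinLocFree (p : Y ⟶ T) (hO : ∀ V : T.Opens, IsIso (p.app V))
    (N : T.Modules) (hN : FlatMod.IsFinLocFree N) :
    IsIso ((pullbackPushforwardAdjunction p).unit.app N) := by
  refine isIso_app_of_isFinLocFree (F := 𝟭 _) (G := Scheme.Modules.pullback p ⋙ pushforward p)
    (fun ψ => le_rfl) (fun ψ => isoLocus_le_push_pull p ψ)
    (pullbackPushforwardAdjunction p).unit (fun n => ?_) N hN
  haveI := isIso_unit_structureModule p hO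
  exact isIso_app_sigma (pullbackPushforwardAdjunction p).unit (Coh.structureModule T) n

/-- if the unit at `N` is an isomorphism, so is the counit at `p^* N` -/
theorem isIso_counit_pullback (p : Y ⟶ T) (N : T.Modules)
    [IsIso ((pullbackPushforwardAdjunction p).unit.app N)] :
    IsIso ((pullbackPushforwardAdjunction p).counit.app ((Scheme.Modules.pullback p).obj N)) := by
  have h := (pullbackPushforwardAdjunction p).left_triangle_components N
  have h2 : IsIso ((Scheme.Modules.pullback p).map ((pullbackPushforwardAdjunction p).unit.app N) ≫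
      (pullbackPushforwardAdjunction p).counit.app ((Scheme.Modules.pullback p).obj N)) := by
    rw [h]; infer_instance
  exact IsIso.of_isIso_comp_left
    ((Scheme.Modules.pullback p).map ((pullbackPushforwardAdjunction p).unit.app N)) _

end Groth.Agent.Lib.helper7.UnitFLF
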