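import Mathlib
import Groth.Agent.Lib.Helper7.UnitFLF

/-!
# Modules pulled back from the base: direct image, base change and counit (helper7)

For `f : X ⟶ S` with `O_S = f_* O_X` and `E ≅ f^* N` with `N` finite locally free:
`f_* E ≅ N`, the counit `f^* f_* E ⟶ E` is an isomorphism and the base change maps `bc0` of `E` are
isomorphisms for squares whose other vertical arrow `f'` also satisfies `O = f'_* O`.
-/

set_option autoImplicit false
set_option linter.style.haveILetI false
universe u
open CategoryTheory AlgebraicGeometry Opposite TopologicalSpace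
open Scheme.Modules

namespace Groth.Agent.Lib.helper7.DescBC

open Groth.Agent.Lib.helper7.UnitFLF Groth.Agent.Lib.helper7.BCUnit

variable {X S X' S' : Scheme.{u}} (f : X ⟶ S)

section single

variable (hO : ∀ V : S.Opens, IsIso (f.app V)) (N : S.Modules) (hN : FlatMod.IsFinLocFree N)
  (E : X.Modules) (e : (Scheme.Modules.pullback f).obj N ≅ E)

include hO hN e in
/-- `N ≅ f_* E` when `E ≅ f^* N` -/
noncomputable def pushIso : N ≅ (pushforward f).obj E :=
  haveI := isIso_unit_of_isFinLocFree f hO N hN
  asIso ((pullbackPushforwardAdjunction f).unit.app N) ≪≫ (pushforward f).mapIso e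

include hO hN e in
theorem isIso_counit_of_iso :
    IsIso ((pullbackPushforwardAdjunction f).counit.app E) := by
  haveI := isIso_unit_of_isFinLocFree f hO N hN
  haveI := isIso_counit_pullback f N
  have h := (pullbackPushforwardAdjunction f).counit.naturality e.hom
  have h2 : (pullbackPushforwardAdjunction f).counit.app E =
      inv ((pushforward f ⋙ Scheme.Modules.pullback f).map e.hom) ≫
        (pullbackPushforwardAdjunction f).counit.app ((Scheme.Modules.pullback f).obj N) ≫
          (𝟭 _).map e.hom := by
    rw [IsIso.eq_inv_comp]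
    exact h
  rw [h2]
  infer_instance

end single

section square

variable (g : S' ⟶ S) (f' : X' ⟶ S') (g' : X' ⟶ X) (w : g' ≫ f = f' ≫ g)
  (hO : ∀ V : S.Opens, IsIso (f.app V)) (hO' : ∀ V : S'.Opens, IsIso (f'.app V))
  (N : S.Modules) (hN : FlatMod.IsFinLocFree N)

include hO hO' hN in
theorem isIso_bc0_pullback :
    IsIso (CohBC.bc0 f g f' g' w ((Scheme.Modules.pullback f).obj N)) := by
  haveI := isIso_unit_of_isFinLocFree f hO N hN
  haveI := isIso_unit_of_isFinLocFree f' hO' _
    (Groth.Agent.Lib.helper16.FLF.isFinLocFree_pullback g hN)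
  have h := bc0_unit f g f' g' w N
  have h2 : IsIso ((Scheme.Modules.pullback g).map ((pullbackPushforwardAdjunction f).unit.app N) ≫
      CohBC.bc0 f g f' g' w ((Scheme.Modules.pullback f).obj N)) := by
    rw [h]; infer_instance
  exact IsIso.of_isIso_comp_left
    ((Scheme.Modules.pullback g).map ((pullbackPushforwardAdjunction f).unit.app N)) _

include hO hO' hN in
theorem isIso_bc0_of_iso (E : X.Modules) (e : (Scheme.Modules.pullback f).obj N ≅ E) :
    IsIso (CohBC.bc0 f g f' g' w E) := by
  haveI := isIso_bc0_pullback f g f' g' w hO hO' N hN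
  have h := bc0_naturality f g f' g' w e.hom
  have h2 : CohBC.bc0 f g f' g' w E =
      inv ((Scheme.Modules.pullback g).map ((pushforward f).map e.hom)) ≫
        CohBC.bc0 f g f' g' w ((Scheme.Modules.pullback f).obj N) ≫
          (pushforward f').map ((Scheme.Modules.pullback g').map e.hom) := by
    rw [IsIso.eq_inv_comp]
    exact h
  rw [h2]
  infer_instance

end square

end Groth.Agent.Lib.helper7.DescBC
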