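import Mathlib
import Groth.Agent.Lib.Helper7.DescBC

/-!
# Base change along open immersions in degree zero (helper7)

`isIso_bc0_morphismRestrict`: for `p : Y ⟶ T`, `V ⊆ T` open and any `O_Y`-module `F` the base change
map `(p_* F)|_V ⟶ (p|_V)_* (F|_{p⁻¹V})` (`CohBC.bc0` of the restriction square) is an isomorphism.
-/

set_option autoImplicit false
set_option linter.style.haveILetI false
universe u
open CategoryTheory AlgebraicGeometry Opposite TopologicalSpace
open Scheme.Modules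

namespace Groth.Agent.Lib.helper7.OpenBC0

open Groth.Agent.Lib.helper11.IsoLocus Groth.Agent.Lib.helper12.PullTensor
  Groth.Agent.Lib.Helper18.ProjFormulaLF Groth.Agent.Lib.helper7.BCUnit

variable {Y T : Scheme.{u}}

/-- the unit of `j^* ⊣ j_*` is an isomorphism over `U` for `j : U ⟶ Y` the inclusion -/
theorem le_isoLocus_pullback_unit (F : Y.Modules) (U : Y.Opens) :
    U ≤ isoLocus ((pullbackPushforwardAdjunction U.ι).unit.app F) := by
  have h := Adjunction.unit_leftAdjointUniq_hom_app (restrictAdjunction U.ι)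
    (pullbackPushforwardAdjunction U.ι) F
  rw [← h]
  haveI : IsIso ((pushforward U.ι).map
      (((restrictAdjunction U.ι).leftAdjointUniq (pullbackPushforwardAdjunction U.ι)).hom.app F)) :=
    inferInstance
  rw [isoLocus_comp_of_isIso_right]
  exact le_isoLocus_restrictAdjunction_unit F U

theorem isIso_bc0_morphismRestrict (p : Y ⟶ T) (V : T.Opens) (F : Y.Modules) :
    IsIso (CohBC.bc0 p V.ι (p ∣_ V) (p ⁻¹ᵁ V).ι (morphismRestrict_ι p V).symm F) := by
  set w := (morphismRestrict_ι p V).symm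
  -- `R_ι (bc0Adj)` is an isomorphism
  have h1 : V ≤ isoLocus (CohBC.bc0Adj p V.ι (p ∣_ V) (p ⁻¹ᵁ V).ι w F) := by
    unfold CohBC.bc0Adj
    have h2 : V ≤ isoLocus ((pushforward p).map
        ((pullbackPushforwardAdjunction (p ⁻¹ᵁ V).ι).unit.app F)) :=
      le_isoLocus_pushforward p _ V (le_isoLocus_pullback_unit F (p ⁻¹ᵁ V))
    haveI : IsIso ((pushforwardComp (p ⁻¹ᵁ V).ι p).hom.app
        ((Scheme.Modules.pullback (p ⁻¹ᵁ V).ι).obj F) ≫
      (pushforwardCongr w).hom.app ((Scheme.Modules.pullback (p ⁻¹ᵁ V).ι).obj F) ≫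
      (pushforwardComp (p ∣_ V) V.ι).inv.app ((Scheme.Modules.pullback (p ⁻¹ᵁ V).ι).obj F)) :=
      inferInstance
    rw [isoLocus_comp_of_isIso_right]
    exact h2
  have h3 : IsIso ((restrictFunctor V.ι).map (CohBC.bc0Adj p V.ι (p ∣_ V) (p ⁻¹ᵁ V).ι w F)) :=
    (le_isoLocus_iff _ _).mp h1
  -- compare with the pullback
  let τ := (restrictAdjunction V.ι).leftAdjointUniq (pullbackPushforwardAdjunction V.ι)
  have h4 : τ.hom.app _ ≫ CohBC.bc0 p V.ι (p ∣_ V) (p ⁻¹ᵁ V).ι w F =
      (restrictFunctor V.ι).map (CohBC.bc0Adj p V.ι (p ∣_ V) (p ⁻¹ᵁ V).ι w F) ≫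
        (restrictAdjunction V.ι).counit.app _ := by
    rw [bc0_eq]
    have n := τ.hom.naturality (CohBC.bc0Adj p V.ι (p ∣_ V) (p ⁻¹ᵁ V).ι w F)
    rw [← Category.assoc, ← n, Category.assoc]
    congr 1
    exact Adjunction.leftAdjointUniq_hom_app_counit (restrictAdjunction V.ι)
      (pullbackPushforwardAdjunction V.ι) _
  have h5 : IsIso (τ.hom.app _ ≫ CohBC.bc0 p V.ι (p ∣_ V) (p ⁻¹ᵁ V).ι w F) := by
    rw [h4]; infer_instance
  exact IsIso.of_isIso_comp_left (τ.hom.app _) _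

end Groth.Agent.Lib.helper7.OpenBC0
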