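import Mathlib
import Groth.Agent.Lib.Helper7.OpenBC0
import Groth.Agent.Lib.Helper16.FLF6

/-!
# Modules which descend to the base (helper7)

`Desc p F`: `F ≅ p^* N` for some finite locally free `N`; `QS p F`: `p_* F` is finite locally free and
the counit `p^* p_* F ⟶ F` is an isomorphism.  `QS → Desc` always, `Desc → QS` if `O = p_* O`,
`QS` is local on the base, `Desc` is stable under base change and independent of the model of the
pullback square.
-/

set_option autoImplicit false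
set_option linter.style.haveILetI false
universe u
open CategoryTheory AlgebraicGeometry Opposite TopologicalSpace
open Scheme.Modules

namespace Groth.Agent.Lib.helper7.DescQS

open Groth.Agent.Lib.helper11.IsoLocus Groth.Agent.Lib.helper7.BCUnit
  Groth.Agent.Lib.helper7.DescBC Groth.Agent.Lib.helper7.OpenBC0
  Groth.Agent.Lib.helper16.FLF

variable {Y T : Scheme.{u}}

/-- `F` is the pullback of a finite locally free module on the base -/
def Desc (p : Y ⟶ T) (F : Y.Modules) : Prop :=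
  ∃ N : T.Modules, FlatMod.IsFinLocFree N ∧ Nonempty ((Scheme.Modules.pullback p).obj N ≅ F)

/-- `p_* F` is finite locally free and `p^* p_* F ≅ F` -/
def QS (p : Y ⟶ T) (F : Y.Modules) : Prop :=
  FlatMod.IsFinLocFree ((pushforward p).obj F) ∧
    IsIso ((pullbackPushforwardAdjunction p).counit.app F)

theorem desc_of_QS {p : Y ⟶ T} {F : Y.Modules} (h : QS p F) : Desc p F :=
  haveI := h.2
  ⟨_, h.1, ⟨asIso ((pullbackPushforwardAdjunction p).counit.app F)⟩⟩

theorem QS_of_desc {p : Y ⟶ T} {F : Y.Modules} (hO : ∀ V : T.Opens, IsIso (p.app V))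
    (h : Desc p F) : QS p F := by
  obtain ⟨N, hN, ⟨e⟩⟩ := h
  exact ⟨isFinLocFree_of_iso (pushIso p hO N hN F e) hN, isIso_counit_of_iso p hO N hN F e⟩

theorem desc_of_iso {p : Y ⟶ T} {F F' : Y.Modules} (e : F ≅ F') (h : Desc p F) : Desc p F' := by
  obtain ⟨N, hN, ⟨i⟩⟩ := h
  exact ⟨N, hN, ⟨i ≪≫ e⟩⟩

/-- **`QS` is local on the base** -/
theorem QS_local (p : Y ⟶ T) (F : Y.Modules)
    (h : ∀ t : T, ∃ V : T.Opens, t ∈ V ∧
      QS (p ∣_ V) ((Scheme.Modules.pullback (p ⁻¹ᵁ V).ι).obj F)) : QS p F := by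
  constructor
  · refine isFinLocFree_of_forall_restrict _ (fun t => ?_)
    obtain ⟨V, htV, hV, -⟩ := h t
    refine ⟨V, htV, ?_⟩
    haveI := isIso_bc0_morphismRestrict p V F
    exact isFinLocFree_of_iso
      (((restrictFunctorIsoPullback V.ι).app _ ≪≫
        asIso (CohBC.bc0 p V.ι (p ∣_ V) (p ⁻¹ᵁ V).ι (morphismRestrict_ι p V).symm F)).symm) hV
  · refine isIso_of_forall_restrict _ (fun y => ?_)
    obtain ⟨V, htV, -, hV⟩ := h (p y)
    refine ⟨p ⁻¹ᵁ V, htV, ?_⟩
    rw [NatIso.isIso_map_iff (restrictFunctorIsoPullback (p ⁻¹ᵁ V).ι)]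
    haveI := isIso_bc0_morphismRestrict p V F
    have h1 := bc0_counit p V.ι (p ∣_ V) (p ⁻¹ᵁ V).ι (morphismRestrict_ι p V).symm F
    have h2 : IsIso ((sqIso p V.ι (p ∣_ V) (p ⁻¹ᵁ V).ι (morphismRestrict_ι p V).symm).hom.app
        ((pushforward p).obj F) ≫
        (Scheme.Modules.pullback (p ⁻¹ᵁ V).ι).map
          ((pullbackPushforwardAdjunction p).counit.app F)) := by
      rw [← h1]; infer_instance
    exact IsIso.of_isIso_comp_left ((sqIso p V.ι (p ∣_ V) (p ⁻¹ᵁ V).ι
      (morphismRestrict_ι p V).symm).hom.app ((pushforward p).obj F)) _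

/-- `Desc` is stable under base change (any commutative square) -/
theorem desc_base_change {Y' T' : Scheme.{u}} {p : Y ⟶ T} {F : Y.Modules}
    (h : T' ⟶ T) (p' : Y' ⟶ T') (v : Y' ⟶ Y) (w : v ≫ p = p' ≫ h) (hd : Desc p F) :
    Desc p' ((Scheme.Modules.pullback v).obj F) := by
  obtain ⟨N, hN, ⟨e⟩⟩ := hd
  exact ⟨(Scheme.Modules.pullback h).obj N, isFinLocFree_pullback h hN,
    ⟨(sqIso p h p' v w).app N ≪≫ (Scheme.Modules.pullback v).mapIso e⟩⟩

end Groth.Agent.Lib.helper7.DescQS
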