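import Mathlib
import Groth.Agent.Lib.Helper7.DescQS
import Groth.Agent.Lib.Helper11.InvMod
import Groth.Agent.Lib.Helper16.FLF5

/-!
# From local triviality over the base to triviality (helper7)

`p : W ⟶ Y` with `O_Y → p_* O_W` an isomorphism (on every open), `v` a section of `p`, `L` a module on `W` which is trivial
over `p⁻¹ V` for `V` ranging over an open cover of `Y`, and `v^* L` trivial.  Then `L` is trivial.
-/

set_option autoImplicit false
universe u
open CategoryTheory CategoryTheory.Limits AlgebraicGeometry TopologicalSpace Opposite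

namespace Groth.Agent.Lib.helper7.CubeFin

open Groth.Agent.Lib.helper7.DescQS Groth.Agent.Lib.helper11.InvMod

theorem isFinLocFree_structureModule (Y : Scheme.{u}) : FlatMod.IsFinLocFree (Coh.structureModule Y) :=
  Groth.Agent.Lib.helper16.FLF.isFinLocFree_of_isInvertible (isInvertible_structureModule Y)

theorem nonempty_iso_of_isTrivOn_preimage {W Y : Scheme.{u}} (p : W ⟶ Y)
    (hOp : ∀ V : Y.Opens, IsIso (p.app V)) (L : W.Modules)
    (htriv : ∀ y : Y, ∃ V : Y.Opens, y ∈ V ∧ IsTrivOn L (p ⁻¹ᵁ V))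
    (v : Y ⟶ W) (hv : v ≫ p = 𝟙 Y)
    (h2 : Nonempty ((Scheme.Modules.pullback v).obj L ≅ Coh.structureModule Y)) :
    Nonempty (L ≅ Coh.structureModule W) := by
  have hQS : QS p L := by
    refine QS_local p L (fun y => ?_)
    obtain ⟨V, hy, ⟨e⟩⟩ := htriv y
    refine ⟨V, hy, QS_of_desc (fun V' => ?_) ⟨Coh.structureModule (↑V : Scheme.{u}),
      isFinLocFree_structureModule _, ⟨pullbackUnitIso (p ∣_ V) ≪≫ e.symm ≪≫
        (Scheme.Modules.restrictFunctorIsoPullback (p ⁻¹ᵁ V).ι).app L⟩⟩⟩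
    rw [morphismRestrict_app]
    have h1 : IsIso (W.presheaf.map (eqToHom (image_morphismRestrict_preimage p V V')).op) :=
      Functor.map_isIso _ _
    exact @IsIso.comp_isIso _ _ _ _ _ _ _ (hOp _) h1
  obtain ⟨N, -, ⟨e⟩⟩ := desc_of_QS hQS
  obtain ⟨e2⟩ := h2
  have eN : N ≅ Coh.structureModule Y :=
    ((Scheme.Modules.pullbackId Y).app N).symm ≪≫ (Scheme.Modules.pullbackCongr hv.symm).app N ≪≫
      ((Scheme.Modules.pullbackComp v p).app N).symm ≪≫
      (Scheme.Modules.pullback v).mapIso e ≪≫ e2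
  exact ⟨e.symm ≪≫ (Scheme.Modules.pullback p).mapIso eN ≪≫ pullbackUnitIso p⟩

end Groth.Agent.Lib.helper7.CubeFin
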