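import Mathlib
import Groth.Agent.Lib.Helper11.Thick2
import Groth.Agent.Lib.Helper12.ProjUP4
import Groth.Agent.Lib.Helper18.InvGen
import Groth.Agent.Lib.Helper18.SemiLocalGen
import Groth.Agent.Lib.Helper2.ModSec

/-!
# Lifting a generator through a square-zero thickening (helper7)

`X` over `Spec A`, `t : A` with `t * t = 0`, `j : X₁ ⟶ X` the base change along `A → A/(t)`, `L` an invertible
module on `X`, `e₁` a (stalkwise) generator of `j^* L`.
* `IsLift O σ` : the section `σ` of `L` over `O` restricts to `e₁` on `j⁻¹ O`;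
* `exists_isLift` (on affine opens), `IsLift.res`, `isGen_of_isLift` (a lift over an affine open is a generator),
  `exists_eq_smul_of_isLift` (two lifts differ by a unit `1 + t c`).
-/

set_option autoImplicit false
universe u
open CategoryTheory CategoryTheory.Limits AlgebraicGeometry TopologicalSpace Opposite
open Scheme.Modules

namespace Groth.Agent.Lib.helper7.CubeLift

open Groth.Agent.Lib.helper8.FlatCohBC Groth.Agent.Lib.helper12.PullTensor
open Groth.Agent.Lib.Helper18.InvGen Groth.Agent.Lib.helper11.Thick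

section general

variable {X : Scheme.{u}}

theorem map_refl (L : X.Modules) {O : X.Opens} (x : Γ(L, O)) :
    L.presheaf.map (homOfLE (le_refl O)).op x = x := by
  have : (homOfLE (le_refl O)).op = 𝟙 (op O) := rfl
  rw [this, L.presheaf.map_id]
  rfl

/-- a section generating freely over all smaller opens is a stalkwise generator -/
theorem isGen_of_forall_bijective (L : X.Modules) (O : X.Opens) (s : Γ(L, O))
    (hs : ∀ (V : X.Opens) (hV : V ≤ O),
      Function.Bijective (fun a : Γ(X, V) => a • L.presheaf.map (homOfLE hV).op s)) :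
    IsGen L O s := by
  intro x hx
  constructor
  · intro a b hab
    obtain ⟨Va, hxa, a', rfl⟩ := X.presheaf.exists_germ_eq a
    obtain ⟨Vb, hxb, b', rfl⟩ := X.presheaf.exists_germ_eq b
    let V : X.Opens := Va ⊓ Vb ⊓ O
    have hxV : x ∈ V := ⟨⟨hxa, hxb⟩, hx⟩
    have hVO : V ≤ O := inf_le_right
    let a'' : Γ(X, V) := X.presheaf.map (homOfLE (inf_le_left.trans inf_le_left : V ≤ Va)).op a'
    let b'' : Γ(X, V) := X.presheaf.map (homOfLE (inf_le_left.trans inf_le_right : V ≤ Vb)).op b'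
    have ha'' : X.presheaf.germ V x hxV a'' = X.presheaf.germ Va x hxa a' :=
      TopCat.Presheaf.germ_res_apply X.presheaf (homOfLE _) x hxV a'
    have hb'' : X.presheaf.germ V x hxV b'' = X.presheaf.germ Vb x hxb b' :=
      TopCat.Presheaf.germ_res_apply X.presheaf (homOfLE _) x hxV b'
    have h1 : L.presheaf.germ V x hxV (a'' • L.presheaf.map (homOfLE hVO).op s) =
        L.presheaf.germ V x hxV (b'' • L.presheaf.map (homOfLE hVO).op s) := by
      rw [germ_smul_res, germ_smul_res, ha'', hb'']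
      exact hab
    obtain ⟨V', hxV', i₁, i₂, h2⟩ := TopCat.Presheaf.germ_eq L.presheaf x hxV hxV _ _ h1
    have hV'V : V' ≤ V := i₁.le
    have h3 : L.presheaf.map (homOfLE hV'V).op (a'' • L.presheaf.map (homOfLE hVO).op s) =
        L.presheaf.map (homOfLE hV'V).op (b'' • L.presheaf.map (homOfLE hVO).op s) := h2
    rw [Scheme.Modules.map_smul, Scheme.Modules.map_smul, map_map] at h3
    have h4 := (hs V' (hV'V.trans hVO)).1 h3
    rw [← ha'', ← hb'']
    have e1 : X.presheaf.germ V' x hxV' (X.presheaf.map (homOfLE hV'V).op a'') =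
        X.presheaf.germ V x hxV a'' :=
      TopCat.Presheaf.germ_res_apply X.presheaf (homOfLE hV'V) x hxV' a''
    have e2 : X.presheaf.germ V' x hxV' (X.presheaf.map (homOfLE hV'V).op b'') =
        X.presheaf.germ V x hxV b'' :=
      TopCat.Presheaf.germ_res_apply X.presheaf (homOfLE hV'V) x hxV' b''
    rw [← e1, ← e2, h4]
  · intro m
    obtain ⟨V₀, hxV₀, m', rfl⟩ := L.presheaf.exists_germ_eq m
    let V : X.Opens := V₀ ⊓ O
    have hxV : x ∈ V := ⟨hxV₀, hx⟩
    obtain ⟨a, ha⟩ := (hs V inf_le_right).2 (L.presheaf.map (homOfLE (inf_le_left : V ≤ V₀)).op m')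
    refine ⟨X.presheaf.germ V x hxV a, ?_⟩
    have h1 := congrArg (L.presheaf.germ V x hxV) ha
    rw [germ_smul_res] at h1
    refine h1.trans ?_
    exact TopCat.Presheaf.germ_res_apply L.presheaf (homOfLE _) x hxV m'

/-- a unit multiple of a stalkwise generator is a stalkwise generator -/
theorem isGen_smul_of_isUnit {L : X.Modules} {O : X.Opens} {ℓ : Γ(L, O)} (hℓ : IsGen L O ℓ)
    (a : Γ(X, O)) (ha : IsUnit a) : IsGen L O (a • ℓ) := by
  intro x hx
  have h1 : L.presheaf.germ O x hx (a • ℓ) =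
      X.presheaf.germ O x hx a • L.presheaf.germ O x hx ℓ := Mero.germ_smul L O x hx a ℓ
  rw [h1]
  exact Groth.Agent.Lib.Helper18.SemiLocalGen.bijective_smul_of_isUnit _ (hℓ x hx) _
    (ha.map (X.presheaf.germ O x hx).hom)

end general

section lift

variable {A : Type u} [CommRing A] {X X₁ : Scheme.{u}} (fX : X ⟶ Spec (CommRingCat.of A)) (t : A)
  (fX₁ : X₁ ⟶ Spec (CommRingCat.of (A ⧸ Ideal.span {t}))) (j : X₁ ⟶ X)
  (hj : IsPullback j fX₁ fX
    (Spec.map (CommRingCat.ofHom (algebraMap A (A ⧸ Ideal.span {t})))))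
  (L : X.Modules) [L.IsQuasicoherent]
  (e₁ : Γ((Scheme.Modules.pullback j).obj L, ⊤))

/-- the image of `t` in the functions over `O` -/
noncomputable def tS (O : X.Opens) : Γ(X, O) := secAlg fX O t

theorem tS_res {O O' : X.Opens} (h : O' ≤ O) :
    X.presheaf.map (homOfLE h).op (tS fX t O) = tS fX t O' :=
  Coh.resTop_comp (op O) (op O') (homOfLE h).op (Coh.toGlobal fX t)

theorem tS_mul_tS (htt : t * t = 0) (O : X.Opens) : tS fX t O * tS fX t O = 0 := by
  unfold tS
  rw [← map_mul, htt, map_zero]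

/-- `σ` restricts to `e₁` on `j⁻¹ O` -/
def IsLift (O : X.Opens) (σ : Γ(L, O)) : Prop :=
  unitSec j L O σ =
    ((Scheme.Modules.pullback j).obj L).presheaf.map (homOfLE (le_top : j ⁻¹ᵁ O ≤ ⊤)).op e₁

omit [L.IsQuasicoherent] in
theorem unitSec_map_res {O O' : X.Opens} (h : O' ≤ O) (σ : Γ(L, O)) :
    unitSec j L O' (L.presheaf.map (homOfLE h).op σ) =
      ((Scheme.Modules.pullback j).obj L).presheaf.map
        (homOfLE (show j ⁻¹ᵁ O' ≤ j ⁻¹ᵁ O from fun _ hz => h hz)).op (unitSec j L O σ) :=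
  (Groth.Agent.Lib.helper2.ModSec.map_app_apply ((pbAdj j).unit.app L) (homOfLE h) σ).symm

omit [L.IsQuasicoherent] in
theorem unitSec_sub (O : X.Opens) (a b : Γ(L, O)) :
    unitSec j L O (a - b) = unitSec j L O a - unitSec j L O b :=
  map_sub (((pbAdj j).unit.app L).val.app (op O)).hom a b

variable {j L e₁}

omit [L.IsQuasicoherent] in
theorem IsLift.res {O O' : X.Opens} {σ : Γ(L, O)} (hσ : IsLift j L e₁ O σ) (h : O' ≤ O) :
    IsLift j L e₁ O' (L.presheaf.map (homOfLE h).op σ) := by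
  unfold IsLift at hσ ⊢
  rw [unitSec_map_res, hσ, map_map]

variable (j L e₁)

include hj in
theorem exists_isLift (O : X.Opens) (hO : IsAffineOpen O) : ∃ σ : Γ(L, O), IsLift j L e₁ O σ :=
  unit_app_surjective fX fX₁ j hj Ideal.Quotient.mk_surjective L O hO _

include hj in
/-- a section killed by `j^*` over an affine open is a multiple of `t` -/
theorem exists_eq_tS_smul (O : X.Opens) (hO : IsAffineOpen O) (n : Γ(L, O))
    (hn : unitSec j L O n = 0) : ∃ n' : Γ(L, O), n = tS fX t O • n' := by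
  have h1 := (unit_app_eq_zero_iff fX fX₁ j hj (Ideal.span {t}) Ideal.Quotient.mk_surjective
    (Ideal.mk_ker) L O hO n).mp hn
  obtain ⟨n', hn'⟩ := @exists_smul_of_mem_span_smul_top A _ t _ _
    (Groth.Agent.Lib.helper11.FibMono.modSecA fX L O) n h1
  exact ⟨n', hn'⟩

include hj in
theorem isClosedImmersion_j : IsClosedImmersion j :=
  MorphismProperty.of_isPullback (P := @IsClosedImmersion) hj.flip
    (IsClosedImmersion.spec_of_surjective _ Ideal.Quotient.mk_surjective)

variable (he₁ : IsGen ((Scheme.Modules.pullback j).obj L) ⊤ e₁) (htt : t * t = 0)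

include hj he₁ in
theorem exists_eq_add_of_isLift (N : X.Opens) (hN : IsAffineOpen N) (σ : Γ(L, N))
    (hσ : IsLift j L e₁ N σ) (n : Γ(L, N)) :
    ∃ (c : Γ(X, N)) (n' : Γ(L, N)), n = c • σ + tS fX t N • n' := by
  haveI := isClosedImmersion_j fX t fX₁ j hj
  obtain ⟨c₁, hc₁⟩ := he₁.exists_smul_eq (le_top : j ⁻¹ᵁ N ≤ ⊤) (unitSec j L N n)
  obtain ⟨c, hc⟩ := Scheme.Hom.app_surjective j N hN c₁
  have h1 : unitSec j L N (n - c • σ) = 0 := by
    rw [unitSec_sub, Groth.Agent.Lib.helper12.ProjUP4.unitSec_smul,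
      hσ, ← hc₁, sub_eq_zero]
    congr 1
    exact hc.symm
  obtain ⟨n', hn'⟩ := exists_eq_tS_smul fX t fX₁ j hj L N hN _ h1
  exact ⟨c, n', by rw [← hn']; abel⟩

include hj he₁ htt in
/-- on an affine open, a lift generates the sections -/
theorem exists_smul_eq_of_isLift (N : X.Opens) (hN : IsAffineOpen N) (σ : Γ(L, N))
    (hσ : IsLift j L e₁ N σ) (n : Γ(L, N)) : ∃ c : Γ(X, N), c • σ = n := by
  obtain ⟨c, n', h1⟩ := exists_eq_add_of_isLift fX t fX₁ j hj L e₁ he₁ N hN σ hσ n
  obtain ⟨c', n'', h2⟩ := exists_eq_add_of_isLift fX t fX₁ j hj L e₁ he₁ N hN σ hσ n'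
  refine ⟨c + tS fX t N * c', ?_⟩
  rw [h1, h2, smul_add, add_smul, mul_smul, smul_smul (tS fX t N) (tS fX t N), tS_mul_tS fX t htt,
    zero_smul, add_zero]

include hj he₁ htt in
/-- **a lift of the generator over an affine open is a generator** -/
theorem isGen_of_isLift (hL : PicF.IsInvertible L) (O : X.Opens) (hO : IsAffineOpen O)
    (σ : Γ(L, O)) (hσ : IsLift j L e₁ O σ) : IsGen L O σ := by
  intro x hx
  obtain ⟨N, ℓ, hN, hxN, hNO, hℓ⟩ := exists_isGen hL x O hx
  have hσN : IsLift j L e₁ N (L.presheaf.map (homOfLE hNO).op σ) := hσ.res hNO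
  obtain ⟨c, hc⟩ := exists_smul_eq_of_isLift fX t fX₁ j hj L e₁ he₁ htt N hN _ hσN ℓ
  obtain ⟨a, ha⟩ := hℓ.exists_smul_eq (le_refl N) (L.presheaf.map (homOfLE hNO).op σ)
  rw [map_refl] at ha
  have h1 : (c * a) • L.presheaf.map (homOfLE (le_refl N)).op ℓ =
      (1 : Γ(X, N)) • L.presheaf.map (homOfLE (le_refl N)).op ℓ := by
    rw [map_refl, mul_smul, ha, hc, one_smul]
  have h2 : c * a = 1 := hℓ.smul_injective (le_refl N) _ _ h1
  have hau : IsUnit a := IsUnit.of_mul_eq_one c (by rw [mul_comm]; exact h2)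
  have hgen : IsGen L N (L.presheaf.map (homOfLE hNO).op σ) := by
    rw [← ha]
    exact isGen_smul_of_isUnit hℓ a hau
  have h3 := hgen x hxN
  have h4 : L.presheaf.germ N x hxN (L.presheaf.map (homOfLE hNO).op σ) =
      L.presheaf.germ O x hx σ :=
    TopCat.Presheaf.germ_res_apply L.presheaf (homOfLE hNO) x hxN σ
  rw [h4] at h3
  exact h3

include hj he₁ htt in
/-- **two lifts over an affine open differ by a unit `1 + t c`** -/
theorem exists_eq_smul_of_isLift (O : X.Opens) (hO : IsAffineOpen O)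
    (σ σ' : Γ(L, O)) (hσ : IsLift j L e₁ O σ) (hσ' : IsLift j L e₁ O σ') :
    ∃ c : Γ(X, O), σ' = (1 + tS fX t O * c) • σ := by
  have h1 : unitSec j L O (σ' - σ) = 0 := by
    rw [unitSec_sub, hσ, hσ', sub_self]
  obtain ⟨n', hn'⟩ := exists_eq_tS_smul fX t fX₁ j hj L O hO _ h1
  obtain ⟨c, hc⟩ := exists_smul_eq_of_isLift fX t fX₁ j hj L e₁ he₁ htt O hO σ hσ n'
  refine ⟨c, ?_⟩
  rw [add_smul, one_smul, mul_smul, hc, ← hn']
  abel

end lift

end Groth.Agent.Lib.helper7.CubeLift
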