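import Mathlib

/-!
# Linear algebra for the theorem of the cube (helper7)

`R` a ring, `m` a maximal ideal, `t : R` with `ann t = m`.
* `theta` : `R/m → R`, `ā ↦ a t` (injective).
* `eq_zero_of_forall_lTensor` : an element of `B ⊗ Q` (`B` flat, `Q` killed by `m`) killed by all
  functionals `Q → R` is zero.
* `exists_sub_of_forall_lTensor`, `exists_sub_of_isBaseChange` : an element `x` of `B ⊗ D¹` killed by
  all functionals `D¹ → R` which are killed by `m` and vanish on `d D⁰` satisfies
  `t • (x - (B ⊗ d) k) = 0` for some `k`.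
-/

set_option autoImplicit false
universe u
open TensorProduct

namespace Groth.Agent.Lib.helper7.CubeAlg

section theta

variable {R : Type u} [CommRing R] (m : Ideal R) (t : R) (ht : ∀ a : R, a * t = 0 ↔ a ∈ m)

/-- `R/m → R`, `ā ↦ a t`. -/
noncomputable def theta : (R ⧸ m) →ₗ[R] R :=
  Submodule.liftQ m (LinearMap.toSpanSingleton R R t) (by
    intro a ha
    rw [LinearMap.mem_ker, LinearMap.toSpanSingleton_apply, smul_eq_mul]
    exact (ht a).mpr ha)

theorem theta_mk (a : R) : theta m t ht (Ideal.Quotient.mk m a) = a * t := by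
  change Submodule.liftQ m (LinearMap.toSpanSingleton R R t) _ (Submodule.Quotient.mk a) = _
  rw [Submodule.liftQ_apply, LinearMap.toSpanSingleton_apply, smul_eq_mul]

theorem theta_injective : Function.Injective (theta m t ht) := by
  rw [← LinearMap.ker_eq_bot, LinearMap.ker_eq_bot']
  intro x hx
  obtain ⟨a, rfl⟩ := Ideal.Quotient.mk_surjective x
  rw [theta_mk] at hx
  exact Ideal.Quotient.eq_zero_iff_mem.mpr ((ht a).mp hx)

theorem smul_theta (a : R) (ha : a ∈ m) (x : R ⧸ m) : a • theta m t ht x = 0 := by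
  obtain ⟨b, rfl⟩ := Ideal.Quotient.mk_surjective x
  rw [theta_mk, smul_eq_mul, ← mul_assoc, mul_comm a b, mul_assoc, (ht a).mpr ha, mul_zero]

end theta

section main

variable {R : Type u} [CommRing R] (m : Ideal R) [hm : m.IsMaximal] (t : R)
  (ht : ∀ a : R, a * t = 0 ↔ a ∈ m)

include hm ht in
/-- joint injectivity of the functionals on a module killed by `m`, after a flat base change -/
theorem eq_zero_of_forall_lTensor (B : Type u) [AddCommGroup B] [Module R B] [Module.Flat R B]
    (Q : Type u) [AddCommGroup Q] [Module R Q] (hQ : ∀ a ∈ m, ∀ x : Q, a • x = 0)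
    (z : B ⊗[R] Q)
    (hz : ∀ ψ : Q →ₗ[R] R, (∀ a ∈ m, ∀ x, a • ψ x = 0) → LinearMap.lTensor B ψ z = 0) :
    z = 0 := by
  classical
  have htors : Module.IsTorsionBySet R Q (m : Set R) := by
    intro x a
    exact hQ a.1 a.2 x
  letI : Module (R ⧸ m) Q := htors.module
  haveI : IsScalarTower R (R ⧸ m) Q := htors.isScalarTower
  letI : Field (R ⧸ m) := Ideal.Quotient.field m
  let b := Module.Free.chooseBasis (R ⧸ m) Q
  let K := Module.Free.ChooseBasisIndex (R ⧸ m) Q
  let e : Q ≃ₗ[R] (K →₀ (R ⧸ m)) := b.repr.restrictScalars R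
  let z' : K →₀ B ⊗[R] (R ⧸ m) :=
    TensorProduct.finsuppRight R R B (R ⧸ m) K (LinearMap.lTensor B e.toLinearMap z)
  have hθ : Function.Injective (LinearMap.lTensor B (theta m t ht)) :=
    Module.Flat.lTensor_preserves_injective_linearMap _ (theta_injective m t ht)
  have hz' : z' = 0 := by
    ext1 k
    apply hθ
    rw [Finsupp.zero_apply, map_zero]
    change LinearMap.lTensor B (theta m t ht)
      (TensorProduct.finsuppRight R R B (R ⧸ m) K (LinearMap.lTensor B e.toLinearMap z) k) = 0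
    rw [TensorProduct.finsuppRight_apply, ← LinearMap.comp_apply, ← LinearMap.comp_apply,
      ← LinearMap.lTensor_comp, ← LinearMap.lTensor_comp]
    exact hz _ (fun a ha x => smul_theta m t ht a ha _)
  have h1 : LinearMap.lTensor B e.toLinearMap z = 0 :=
    (TensorProduct.finsuppRight R R B (R ⧸ m) K).injective (hz'.trans (map_zero _).symm)
  have h2 : (LinearEquiv.lTensor B e) z = 0 := h1
  exact (LinearEquiv.lTensor B e).injective (h2.trans (map_zero _).symm)

include hm ht in
theorem exists_sub_of_forall_lTensor (B : Type u) [AddCommGroup B] [Module R B] [Module.Flat R B]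
    {D0 D1 : Type u} [AddCommGroup D0] [Module R D0] [AddCommGroup D1] [Module R D1]
    (d : D0 →ₗ[R] D1) (x : B ⊗[R] D1)
    (hx : ∀ ψ : D1 →ₗ[R] R, (∀ a ∈ m, ∀ y, a • ψ y = 0) → ψ ∘ₗ d = 0 →
      LinearMap.lTensor B ψ x = 0) :
    ∃ k : B ⊗[R] D0, t • (x - LinearMap.lTensor B d k) = 0 := by
  let N : Submodule R D1 := LinearMap.range d ⊔ m • (⊤ : Submodule R D1)
  have hQ : ∀ a ∈ m, ∀ q : D1 ⧸ N, a • q = 0 := by
    intro a ha q
    obtain ⟨y, rfl⟩ := Submodule.Quotient.mk_surjective N q
    rw [← Submodule.Quotient.mk_smul, Submodule.Quotient.mk_eq_zero]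
    exact Submodule.mem_sup_right (Submodule.smul_mem_smul ha Submodule.mem_top)
  have h0 : LinearMap.lTensor B N.mkQ x = 0 := by
    refine eq_zero_of_forall_lTensor m t ht B (D1 ⧸ N) hQ _ (fun ψ hψ => ?_)
    rw [← LinearMap.comp_apply, ← LinearMap.lTensor_comp]
    refine hx _ (fun a ha y => hψ a ha _) ?_
    ext y
    change ψ (N.mkQ (d y)) = 0
    rw [Submodule.mkQ_apply, (Submodule.Quotient.mk_eq_zero N).mpr
      (Submodule.mem_sup_left (LinearMap.mem_range_self d y)), map_zero]
  have hex : Function.Exact (LinearMap.lTensor B N.subtype) (LinearMap.lTensor B N.mkQ) :=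
    lTensor_exact B (LinearMap.exact_subtype_mkQ N) (Submodule.mkQ_surjective N)
  obtain ⟨w, rfl⟩ := (hex x).mp h0
  have key : ∀ w : B ⊗[R] N,
      ∃ k : B ⊗[R] D0, t • (LinearMap.lTensor B N.subtype w - LinearMap.lTensor B d k) = 0 := by
    intro w
    induction w using TensorProduct.induction_on with
    | zero => exact ⟨0, by simp⟩
    | add w₁ w₂ h₁ h₂ =>
      obtain ⟨k₁, hk₁⟩ := h₁
      obtain ⟨k₂, hk₂⟩ := h₂
      refine ⟨k₁ + k₂, ?_⟩
      rw [map_add, map_add, add_sub_add_comm, smul_add, hk₁, hk₂, add_zero]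
    | tmul b n =>
      obtain ⟨n, hn⟩ := n
      obtain ⟨_, ⟨y, rfl⟩, n', hn', rfl⟩ := Submodule.mem_sup.mp hn
      refine ⟨b ⊗ₜ y, ?_⟩
      rw [LinearMap.lTensor_tmul, LinearMap.lTensor_tmul, Submodule.subtype_apply,
        TensorProduct.tmul_add, add_sub_cancel_left, ← TensorProduct.tmul_smul]
      have : t • n' = 0 := by
        refine Submodule.smul_induction_on hn' (fun a ha y' _ => ?_) (fun y₁ y₂ h₁ h₂ => ?_)
        · rw [smul_smul, mul_comm, (ht a).mpr ha, zero_smul]
        · rw [smul_add, h₁, h₂, add_zero]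
      rw [this, TensorProduct.tmul_zero]
  exact key w

include hm ht in
/-- **The linear algebra lemma**, base-change form. -/
theorem exists_sub_of_isBaseChange (B : Type u) [CommRing B] [Algebra R B] [Module.Flat R B]
    {D0 D1 E0 E1 : Type u} [AddCommGroup D0] [Module R D0] [AddCommGroup D1] [Module R D1]
    [AddCommGroup E0] [Module R E0] [Module B E0] [IsScalarTower R B E0]
    [AddCommGroup E1] [Module R E1] [Module B E1] [IsScalarTower R B E1]
    (i0 : D0 →ₗ[R] E0) (h0 : IsBaseChange B i0) (i1 : D1 →ₗ[R] E1) (h1 : IsBaseChange B i1)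
    (d : D0 →ₗ[R] D1) (dB : E0 →ₗ[B] E1) (hd : ∀ y, dB (i0 y) = i1 (d y)) (x : E1)
    (hx : ∀ ψ : D1 →ₗ[R] R, (∀ a ∈ m, ∀ y, a • ψ y = 0) → ψ ∘ₗ d = 0 →
      h1.lift ((Algebra.linearMap R B) ∘ₗ ψ) x = 0) :
    ∃ k : E0, t • (x - dB k) = 0 := by
  have hlift : ∀ (ψ : D1 →ₗ[R] R) (w : B ⊗[R] D1),
      h1.lift ((Algebra.linearMap R B) ∘ₗ ψ) (h1.equiv w) =
        TensorProduct.rid R B (LinearMap.lTensor B ψ w) := by
    intro ψ w
    induction w using TensorProduct.induction_on with
    | zero => simp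
    | add w₁ w₂ h₁ h₂ => rw [map_add, map_add, h₁, h₂, map_add, map_add]
    | tmul b y =>
      rw [IsBaseChange.equiv_tmul, map_smul, IsBaseChange.lift_eq, LinearMap.lTensor_tmul,
        TensorProduct.rid_tmul, LinearMap.comp_apply, Algebra.linearMap_apply, smul_eq_mul,
        Algebra.smul_def, mul_comm]
  have hdB : ∀ k' : B ⊗[R] D0, dB (h0.equiv k') = h1.equiv (LinearMap.lTensor B d k') := by
    intro k'
    induction k' using TensorProduct.induction_on with
    | zero => simp
    | add w₁ w₂ h₁ h₂ => rw [map_add, map_add, h₁, h₂, map_add, map_add]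
    | tmul b y =>
      rw [IsBaseChange.equiv_tmul, map_smul, hd, LinearMap.lTensor_tmul, IsBaseChange.equiv_tmul]
  obtain ⟨k', hk'⟩ := exists_sub_of_forall_lTensor m t ht B d (h1.equiv.symm x) (by
    intro ψ hψ1 hψ2
    have := hlift ψ (h1.equiv.symm x)
    rw [LinearEquiv.apply_symm_apply, hx ψ hψ1 hψ2] at this
    exact (TensorProduct.rid R B).injective (this.symm.trans (map_zero _).symm))
  refine ⟨h0.equiv k', ?_⟩
  rw [hdB]
  have h3 : x - h1.equiv (LinearMap.lTensor B d k') =
      h1.equiv (h1.equiv.symm x - LinearMap.lTensor B d k') := by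
    rw [map_sub, LinearEquiv.apply_symm_apply]
  rw [h3, ← algebraMap_smul B t, ← map_smul, algebraMap_smul, hk', map_zero]

end main

end Groth.Agent.Lib.helper7.CubeAlg
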