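import Mathlib
import Groth.Agent.Lib.Helper7.CubeAlg
import Groth.Agent.Lib.Helper8.FlatCohBC4
import Groth.Agent.Lib.Helper11.Thick2

/-!
# Sections of the structure sheaf on product opens (helper7)

`f : X ⟶ Spec R`, `g : Y ⟶ Spec R`, `W = X ×_R Y` with projections `q`, `p`.
For opens `U ⊆ X`, `V ⊆ Y` the sections `Γ(W, q⁻¹U ∩ p⁻¹V)` as an algebra over `Γ(Y, V)`; when `U`, `V`
are affine it is the base change of `Γ(X, U)` (`isBaseChange_qHom`).
-/

set_option autoImplicit false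
universe u
open CategoryTheory CategoryTheory.Limits AlgebraicGeometry TopologicalSpace Opposite

namespace Groth.Agent.Lib.helper7.CubeSec

open Groth.Agent.Lib.helper8.FlatCohBC

variable {R : Type u} [CommRing R] {X Y W : Scheme.{u}}

/-- compatibility of `secAlg` with a morphism -/
theorem appLE_secAlg (φ : W ⟶ X) (f : X ⟶ Spec (CommRingCat.of R)) (U : X.Opens) (O : W.Opens)
    (h : O ≤ φ ⁻¹ᵁ U) (r : R) :
    (φ.appLE U O h).hom (secAlg f U r) = secAlg (φ ≫ f) O r := by
  have h1 : X.presheaf.map (homOfLE (le_top : U ≤ ⊤)).op ≫ φ.appLE U O h =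
      φ.appLE ⊤ O le_top := Scheme.Hom.map_appLE φ h (homOfLE (le_top : U ≤ ⊤)).op
  have h2 : φ.appLE ⊤ O le_top = φ.appTop ≫ W.presheaf.map (homOfLE (le_top : O ≤ ⊤)).op := rfl
  have h3 : (φ ≫ f).appTop = f.appTop ≫ φ.appTop := Scheme.Hom.comp_appTop φ f
  change (X.presheaf.map (homOfLE (le_top : U ≤ ⊤)).op ≫ φ.appLE U O h).hom
      (f.appTop.hom ((Scheme.ΓSpecIso (CommRingCat.of R)).inv.hom r)) =
    (W.presheaf.map (homOfLE (le_top : O ≤ ⊤)).op).hom
      ((φ ≫ f).appTop.hom ((Scheme.ΓSpecIso (CommRingCat.of R)).inv.hom r))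
  rw [h1, h2, h3]
  rfl

/-- `Γ(X, U)` as an `R`-algebra via `f`. -/
def SX (_f : X ⟶ Spec (CommRingCat.of R)) (U : X.Opens) : Type u := Γ(X, U)

section SX

variable (f : X ⟶ Spec (CommRingCat.of R)) (U : X.Opens)

noncomputable instance : CommRing (SX f U) := inferInstanceAs (CommRing Γ(X, U))

noncomputable instance : Algebra R (SX f U) := (secAlg f U).toAlgebra

theorem algebraMap_SX (r : R) : algebraMap R (SX f U) r = secAlg f U r := rfl

end SX

/-- the product open `q⁻¹U ∩ p⁻¹V` -/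
def PO (q : W ⟶ X) (p : W ⟶ Y) (U : X.Opens) (V : Y.Opens) : W.Opens := q ⁻¹ᵁ U ⊓ p ⁻¹ᵁ V

theorem PO_le_left (q : W ⟶ X) (p : W ⟶ Y) (U : X.Opens) (V : Y.Opens) :
    PO q p U V ≤ q ⁻¹ᵁ U := inf_le_left

theorem PO_le_right (q : W ⟶ X) (p : W ⟶ Y) (U : X.Opens) (V : Y.Opens) :
    PO q p U V ≤ p ⁻¹ᵁ V := inf_le_right

theorem PO_mono (q : W ⟶ X) (p : W ⟶ Y) {U U' : X.Opens} {V V' : Y.Opens} (hU : U' ≤ U)
    (hV : V' ≤ V) : PO q p U' V' ≤ PO q p U V :=
  inf_le_inf ((Opens.map q.base).monotone hU) ((Opens.map p.base).monotone hV)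

/-- `Γ(W, q⁻¹U ∩ p⁻¹V)` as an algebra over `Γ(Y, V)` and `R` (through `g`). -/
def SW (_g : Y ⟶ Spec (CommRingCat.of R)) (q : W ⟶ X) (p : W ⟶ Y) (U : X.Opens) (V : Y.Opens) :
    Type u := Γ(W, PO q p U V)

section SW

variable (f : X ⟶ Spec (CommRingCat.of R)) (g : Y ⟶ Spec (CommRingCat.of R)) (q : W ⟶ X) (p : W ⟶ Y)
  (U : X.Opens) (V : Y.Opens)

noncomputable instance : CommRing (SW g q p U V) := inferInstanceAs (CommRing Γ(W, PO q p U V))

/-- `p^♯` -/
noncomputable def pHom : SX g V →+* SW g q p U V := (p.appLE V (PO q p U V) inf_le_right).hom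

noncomputable instance : Algebra (SX g V) (SW g q p U V) := (pHom g q p U V).toAlgebra

noncomputable instance : Algebra R (SW g q p U V) :=
  ((pHom g q p U V).comp (algebraMap R (SX g V))).toAlgebra

instance : IsScalarTower R (SX g V) (SW g q p U V) := IsScalarTower.of_algebraMap_eq (fun _ => rfl)

theorem algebraMap_SW (r : R) :
    algebraMap R (SW g q p U V) r = secAlg (p ≫ g) (PO q p U V) r :=
  appLE_secAlg p g V (PO q p U V) inf_le_right r

/-- `q^♯` as an `R`-algebra map -/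
noncomputable def qHom (hw : q ≫ f = p ≫ g) : SX f U →ₐ[R] SW g q p U V :=
  { (q.appLE U (PO q p U V) inf_le_left).hom with
    commutes' := fun r => by
      refine (appLE_secAlg q f U (PO q p U V) inf_le_left r).trans ?_
      rw [algebraMap_SW, hw] }

theorem qHom_apply (hw : q ≫ f = p ≫ g) (x : SX f U) :
    qHom f g q p U V hw x = (q.appLE U (PO q p U V) inf_le_left).hom x := rfl

end SW

section BC

variable (f : X ⟶ Spec (CommRingCat.of R)) (g : Y ⟶ Spec (CommRingCat.of R)) (q : W ⟶ X) (p : W ⟶ Y)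
  (hW : IsPullback q p f g) (U : X.Opens) (V : Y.Opens)

include hW in
theorem isPushout_sections_prod (hU : IsAffineOpen U) (hV : IsAffineOpen V) :
    IsPushout (CommRingCat.ofHom (secAlg g V)) (CommRingCat.ofHom (secAlg f U))
      (p.appLE V (PO q p U V) inf_le_right) (q.appLE U (PO q p U V) inf_le_left) := by
  have h1 := (isIso_pushoutSection_iff hW (US := ⊤) (UT := V) (UX := U) (UY := PO q p U V)
    le_top le_top rfl).mp
    (isIso_pushoutSection_of_isAffineOpen hW le_top le_top rfl (isAffineOpen_top _) hV hU)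
  refine IsPushout.of_iso h1.flip (Scheme.ΓSpecIso (CommRingCat.of R)) (Iso.refl _) (Iso.refl _)
    (Iso.refl _) ?_ ?_ ?_ ?_
  · rw [Iso.refl_hom, Category.comp_id]
    have : CommRingCat.ofHom (secAlg g V) = (Scheme.ΓSpecIso (CommRingCat.of R)).inv ≫
        g.appTop ≫ Y.presheaf.map (homOfLE (le_top : V ≤ ⊤)).op := rfl
    rw [this, Iso.hom_inv_id_assoc]
    rfl
  · rw [Iso.refl_hom, Category.comp_id]
    have : CommRingCat.ofHom (secAlg f U) = (Scheme.ΓSpecIso (CommRingCat.of R)).inv ≫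
        f.appTop ≫ X.presheaf.map (homOfLE (le_top : U ≤ ⊤)).op := rfl
    rw [this, Iso.hom_inv_id_assoc]
    rfl
  · rw [Iso.refl_hom, Iso.refl_hom, Category.comp_id, Category.id_comp]
  · rw [Iso.refl_hom, Iso.refl_hom, Category.comp_id, Category.id_comp]

include hW in
/-- **`Γ(W, q⁻¹U ∩ p⁻¹V) = Γ(Y, V) ⊗_R Γ(X, U)`** for `U`, `V` affine -/
theorem isBaseChange_qHom (hU : IsAffineOpen U) (hV : IsAffineOpen V) :
    IsBaseChange (SX g V) (qHom f g q p U V hW.w).toLinearMap := by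
  letI : Algebra (SX f U) (SW g q p U V) := (qHom f g q p U V hW.w).toRingHom.toAlgebra
  haveI : IsScalarTower R (SX f U) (SW g q p U V) :=
    IsScalarTower.of_algebraMap_eq (fun r => ((qHom f g q p U V hW.w).commutes r).symm)
  have hP : Algebra.IsPushout R (SX g V) (SX f U) (SW g q p U V) :=
    CommRingCat.isPushout_iff_isPushout.mp (isPushout_sections_prod f g q p hW U V hU hV)
  exact hP.out

end BC

section Flat

variable (f : X ⟶ Spec (CommRingCat.of R)) (g : Y ⟶ Spec (CommRingCat.of R)) (q : W ⟶ X) (p : W ⟶ Y)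
  (hW : IsPullback q p f g) (U : X.Opens) (V : Y.Opens)

theorem flat_SX [Flat f] (hU : IsAffineOpen U) : Module.Flat R (SX f U) := by
  have h1 : RingHom.Flat (f.appLE ⊤ U le_top).hom :=
    HasRingHomProperty.appLE (P := @Flat) f inferInstance ⟨⊤, isAffineOpen_top _⟩ ⟨U, hU⟩ le_top
  have h2 : RingHom.Flat (Scheme.ΓSpecIso (CommRingCat.of R)).inv.hom :=
    RingHom.Flat.of_bijective
      (ConcreteCategory.bijective_of_isIso (Scheme.ΓSpecIso (CommRingCat.of R)).inv)
  have h3 : RingHom.Flat (algebraMap R (SX f U)) := by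
    have h4 : RingHom.Flat ((f.appLE ⊤ U le_top).hom.comp
        (Scheme.ΓSpecIso (CommRingCat.of R)).inv.hom) := RingHom.Flat.comp h2 h1
    exact h4
  exact (RingHom.flat_algebraMap_iff).mp h3

include hW in
theorem flat_SW [Flat f] [Flat g] (hU : IsAffineOpen U) (hV : IsAffineOpen V) :
    Module.Flat R (SW g q p U V) := by
  haveI := flat_SX f U hU
  haveI := flat_SX g V hV
  haveI : Module.Flat (SX g V) (SW g q p U V) :=
    Module.Flat.isBaseChange R (SX g V) (SX f U) (SW g q p U V)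
      (isBaseChange_qHom f g q p hW U V hU hV)
  exact Module.Flat.trans R (SX g V) (SW g q p U V)

end Flat

section Res

variable (f : X ⟶ Spec (CommRingCat.of R)) (g : Y ⟶ Spec (CommRingCat.of R)) (q : W ⟶ X) (p : W ⟶ Y)

/-- restriction on `X` as an `R`-algebra map -/
noncomputable def resX {U U' : X.Opens} (h : U' ≤ U) : SX f U →ₐ[R] SX f U' :=
  { (X.presheaf.map (homOfLE h).op).hom with
    commutes' := fun r => Coh.resTop_comp (op U) (op U') (homOfLE h).op (Coh.toGlobal f r) }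

theorem resX_apply {U U' : X.Opens} (h : U' ≤ U) (x : SX f U) :
    resX f h x = (X.presheaf.map (homOfLE h).op).hom x := rfl

theorem resX_comp {U U' U'' : X.Opens} (h : U' ≤ U) (h' : U'' ≤ U') (x : SX f U) :
    resX f h' (resX f h x) = resX f (h'.trans h) x := by
  change (X.presheaf.map (homOfLE h).op ≫ X.presheaf.map (homOfLE h').op).hom x = _
  rw [← Functor.map_comp]
  rfl

theorem resX_refl {U : X.Opens} (x : SX f U) : resX f (le_refl U) x = x := by
  change (X.presheaf.map (𝟙 (op U))).hom x = x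
  rw [X.presheaf.map_id]
  rfl

variable {U U' : X.Opens} {V V' : Y.Opens}

/-- restriction on `W` -/
noncomputable def resW (hU : U' ≤ U) (hV : V' ≤ V) : SW g q p U V →+* SW g q p U' V' :=
  (W.presheaf.map (homOfLE (PO_mono q p hU hV)).op).hom

theorem resW_qHom (hw : q ≫ f = p ≫ g) (hU : U' ≤ U) (hV : V' ≤ V) (x : SX f U) :
    resW g q p hU hV (qHom f g q p U V hw x) = qHom f g q p U' V' hw (resX f hU x) := by
  change (q.appLE U (PO q p U V) inf_le_left ≫
      W.presheaf.map (homOfLE (PO_mono q p hU hV)).op).hom x =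
    (X.presheaf.map (homOfLE hU).op ≫ q.appLE U' (PO q p U' V') inf_le_left).hom x
  rw [Scheme.Hom.appLE_map, Scheme.Hom.map_appLE]

theorem resW_algebraMap (hU : U' ≤ U) (hV : V' ≤ V) (y : SX g V) :
    resW g q p hU hV (algebraMap (SX g V) (SW g q p U V) y) =
      algebraMap (SX g V') (SW g q p U' V') (resX g hV y) := by
  change (p.appLE V (PO q p U V) inf_le_right ≫
      W.presheaf.map (homOfLE (PO_mono q p hU hV)).op).hom y =
    (Y.presheaf.map (homOfLE hV).op ≫ p.appLE V' (PO q p U' V') inf_le_right).hom y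
  rw [Scheme.Hom.appLE_map, Scheme.Hom.map_appLE]

theorem resW_smul (hU : U' ≤ U) (hV : V' ≤ V) (y : SX g V) (c : SW g q p U V) :
    resW g q p hU hV (y • c) = resX g hV y • resW g q p hU hV c := by
  rw [Algebra.smul_def, map_mul, resW_algebraMap, Algebra.smul_def]

theorem resW_comp {U'' : X.Opens} {V'' : Y.Opens} (hU : U' ≤ U) (hV : V' ≤ V) (hU' : U'' ≤ U')
    (hV' : V'' ≤ V') (c : SW g q p U V) :
    resW g q p hU' hV' (resW g q p hU hV c) = resW g q p (hU'.trans hU) (hV'.trans hV) c := by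
  change (W.presheaf.map (homOfLE (PO_mono q p hU hV)).op ≫
    W.presheaf.map (homOfLE (PO_mono q p hU' hV')).op).hom c = _
  rw [← Functor.map_comp]
  rfl

/-- restriction in the `X`-direction as a linear map -/
noncomputable def resWl (hU : U' ≤ U) (V : Y.Opens) :
    SW g q p U V →ₗ[SX g V] SW g q p U' V :=
  { toFun := resW g q p hU (le_refl V)
    map_add' := map_add _
    map_smul' := fun y c => by
      rw [resW_smul, resX_refl]
      rfl }

theorem resWl_apply (hU : U' ≤ U) (V : Y.Opens) (c : SW g q p U V) :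
    resWl g q p hU V c = resW g q p hU (le_refl V) c := rfl

end Res

section Lam

variable (f : X ⟶ Spec (CommRingCat.of R)) (g : Y ⟶ Spec (CommRingCat.of R)) (q : W ⟶ X) (p : W ⟶ Y)
  (hW : IsPullback q p f g) {U U' : X.Opens} {V V' : Y.Opens}

/-- the `Γ(Y,V)`-linear extension of a functional on `Γ(X, U)` -/
noncomputable def Lam (hU : IsAffineOpen U) (hV : IsAffineOpen V) (lam : SX f U →ₗ[R] R) :
    SW g q p U V →ₗ[SX g V] SX g V :=
  (isBaseChange_qHom f g q p hW U V hU hV).lift ((Algebra.linearMap R (SX g V)) ∘ₗ lam)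

theorem Lam_qHom (hU : IsAffineOpen U) (hV : IsAffineOpen V) (lam : SX f U →ₗ[R] R) (x : SX f U) :
    Lam f g q p hW hU hV lam (qHom f g q p U V hW.w x) = algebraMap R (SX g V) (lam x) :=
  IsBaseChange.lift_eq _ _ x

include hW in
theorem SW_ind (hU : IsAffineOpen U) (hV : IsAffineOpen V) (P : SW g q p U V → Prop) (h0 : P 0)
    (hq : ∀ x : SX f U, P (qHom f g q p U V hW.w x))
    (hs : ∀ (y : SX g V) (c : SW g q p U V), P c → P (y • c))
    (ha : ∀ c c' : SW g q p U V, P c → P c' → P (c + c')) (c : SW g q p U V) : P c :=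
  (isBaseChange_qHom f g q p hW U V hU hV).inductionOn c P h0 hq hs ha

include hW in
theorem SW_ext (hU : IsAffineOpen U) (hV : IsAffineOpen V)
    (F G : SW g q p U V →ₗ[SX g V] SX g V)
    (h : ∀ x : SX f U, F (qHom f g q p U V hW.w x) = G (qHom f g q p U V hW.w x)) : F = G :=
  (isBaseChange_qHom f g q p hW U V hU hV).algHom_ext F G h

theorem Lam_add (hU : IsAffineOpen U) (hV : IsAffineOpen V) (lam lam' : SX f U →ₗ[R] R) :
    Lam f g q p hW hU hV (lam + lam') = Lam f g q p hW hU hV lam + Lam f g q p hW hU hV lam' := by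
  refine SW_ext f g q p hW hU hV _ _ (fun x => ?_)
  rw [LinearMap.add_apply, Lam_qHom, Lam_qHom, Lam_qHom, LinearMap.add_apply, map_add]

theorem Lam_zero (hU : IsAffineOpen U) (hV : IsAffineOpen V) :
    Lam f g q p hW hU hV (0 : SX f U →ₗ[R] R) = 0 := by
  refine SW_ext f g q p hW hU hV _ _ (fun x => ?_)
  rw [Lam_qHom, LinearMap.zero_apply, LinearMap.zero_apply, map_zero]

theorem Lam_sum {ι : Type*} (s : Finset ι) (hU : IsAffineOpen U) (hV : IsAffineOpen V)
    (lam : ι → (SX f U →ₗ[R] R)) :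
    Lam f g q p hW hU hV (∑ i ∈ s, lam i) = ∑ i ∈ s, Lam f g q p hW hU hV (lam i) := by
  classical
  induction s using Finset.induction_on with
  | empty => simp [Lam_zero]
  | insert a s ha ih => rw [Finset.sum_insert ha, Finset.sum_insert ha, Lam_add, ih]

/-- compatibility with restriction in the `X`-direction -/
theorem Lam_resWl (hU : IsAffineOpen U) (hU' : IsAffineOpen U') (hV : IsAffineOpen V) (hle : U' ≤ U)
    (lam : SX f U' →ₗ[R] R) (c : SW g q p U V) :
    Lam f g q p hW hU' hV lam (resW g q p hle (le_refl V) c) =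
      Lam f g q p hW hU hV (lam ∘ₗ (resX f hle).toLinearMap) c := by
  have h := SW_ext f g q p hW hU hV ((Lam f g q p hW hU' hV lam) ∘ₗ (resWl g q p hle V))
    (Lam f g q p hW hU hV (lam ∘ₗ (resX f hle).toLinearMap)) (fun x => by
      rw [LinearMap.comp_apply, resWl_apply, resW_qHom, Lam_qHom, Lam_qHom]
      rfl)
  exact congrArg (fun F => F c) h

/-- compatibility with restriction in the `Y`-direction -/
theorem Lam_resW (hU : IsAffineOpen U) (hV : IsAffineOpen V) (hV' : IsAffineOpen V') (hle : V' ≤ V)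
    (lam : SX f U →ₗ[R] R) (c : SW g q p U V) :
    Lam f g q p hW hU hV' lam (resW g q p (le_refl U) hle c) =
      resX g hle (Lam f g q p hW hU hV lam c) := by
  refine SW_ind f g q p hW hU hV
    (fun c => Lam f g q p hW hU hV' lam (resW g q p (le_refl U) hle c) =
      resX g hle (Lam f g q p hW hU hV lam c)) ?_ ?_ ?_ ?_ c
  · simp
  · intro x
    rw [resW_qHom, Lam_qHom, Lam_qHom, resX_refl, AlgHom.commutes]
  · intro y c hc
    rw [resW_smul, map_smul, map_smul, hc, smul_eq_mul, smul_eq_mul, map_mul]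
  · intro c c' hc hc'
    rw [map_add, map_add, map_add, map_add, hc, hc']

/-- functionals killed by `m` extend to functionals killed by `m` -/
theorem smul_Lam (hU : IsAffineOpen U) (hV : IsAffineOpen V) (lam : SX f U →ₗ[R] R) (a : R)
    (ha : ∀ x, a • lam x = 0) (c : SW g q p U V) : a • Lam f g q p hW hU hV lam c = 0 := by
  refine SW_ind f g q p hW hU hV (fun c => a • Lam f g q p hW hU hV lam c = 0) ?_ ?_ ?_ ?_ c
  · simp
  · intro x
    rw [Lam_qHom, Algebra.smul_def, ← map_mul, ← smul_eq_mul, ha, map_zero]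
  · intro y c hc
    rw [map_smul, smul_comm, hc, smul_zero]
  · intro c c' hc hc'
    rw [map_add, smul_add, hc, hc', add_zero]

include hW in
/-- the extended functional kills the kernel of `t` -/
theorem Lam_eq_zero_of_smul_eq_zero [Flat f] [Flat g] (hU : IsAffineOpen U) (hV : IsAffineOpen V)
    (m : Ideal R) (t : R) (ht : ∀ a : R, a * t = 0 ↔ a ∈ m) (lam : SX f U →ₗ[R] R)
    (hlam : ∀ a ∈ m, ∀ x, a • lam x = 0) (c : SW g q p U V) (hc : t • c = 0) :
    Lam f g q p hW hU hV lam c = 0 := by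
  haveI := flat_SW f g q p hW U V hU hV
  have h1 : c ∈ m • (⊤ : Submodule R (SW g q p U V)) :=
    Groth.Agent.Lib.helper11.Thick.mem_smul_top_of_smul_eq_zero t m ht c hc
  refine Submodule.smul_induction_on h1 (fun a ha c' _ => ?_) (fun c₁ c₂ h₁ h₂ => ?_)
  · rw [← algebraMap_smul (SX g V) a c', map_smul, algebraMap_smul]
    exact smul_Lam f g q p hW hU hV lam a (hlam a ha) c'
  · rw [map_add, h₁, h₂, add_zero]

/-- a functional killed by `m` kills the kernel of `t` -/
theorem lam_eq_zero_of_smul_eq_zero [Flat f] (hU : IsAffineOpen U)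
    (m : Ideal R) (t : R) (ht : ∀ a : R, a * t = 0 ↔ a ∈ m) (lam : SX f U →ₗ[R] R)
    (hlam : ∀ a ∈ m, ∀ x, a • lam x = 0) (c : SX f U) (hc : t • c = 0) : lam c = 0 := by
  haveI := flat_SX f U hU
  have h1 : c ∈ m • (⊤ : Submodule R (SX f U)) :=
    Groth.Agent.Lib.helper11.Thick.mem_smul_top_of_smul_eq_zero t m ht c hc
  refine Submodule.smul_induction_on h1 (fun a ha c' _ => ?_) (fun c₁ c₂ h₁ h₂ => ?_)
  · rw [map_smul]
    exact hlam a ha c'
  · rw [map_add, h₁, h₂, add_zero]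

end Lam

section Eval

variable (f : X ⟶ Spec (CommRingCat.of R)) (g : Y ⟶ Spec (CommRingCat.of R)) (q : W ⟶ X) (p : W ⟶ Y)
  (hW : IsPullback q p f g)
  (τ : Spec (CommRingCat.of R) ⟶ Y) (hτ : τ ≫ g = 𝟙 _) (u : X ⟶ W) (hu1 : u ≫ q = 𝟙 X)
  (hu2 : u ≫ p = f ≫ τ) {U : X.Opens} {V : Y.Opens} (hτV : τ ⁻¹ᵁ V = ⊤)

/-- evaluation along the section `τ` -/
noncomputable def tauHom : SX g V →+* R :=
  (Scheme.ΓSpecIso (CommRingCat.of R)).hom.hom.comp (τ.appLE V ⊤ (by rw [hτV])).hom

theorem secAlg_id_top (r : R) :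
    secAlg (𝟙 (Spec (CommRingCat.of R))) ⊤ r = (Scheme.ΓSpecIso (CommRingCat.of R)).inv.hom r := by
  change ((Spec (CommRingCat.of R)).presheaf.map (𝟙 (op ⊤))).hom
    ((𝟙 (Spec (CommRingCat.of R)) : Spec (CommRingCat.of R) ⟶ _).appTop.hom
      ((Scheme.ΓSpecIso (CommRingCat.of R)).inv.hom r)) = _
  rw [CategoryTheory.Functor.map_id]
  rfl

include hτ in
theorem tauHom_algebraMap (r : R) : tauHom g τ hτV (algebraMap R (SX g V) r) = r := by
  have h1 : (τ.appLE V ⊤ (by rw [hτV])).hom (secAlg g V r) = secAlg (τ ≫ g) ⊤ r :=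
    appLE_secAlg τ g V ⊤ (by rw [hτV]) r
  change (Scheme.ΓSpecIso (CommRingCat.of R)).hom.hom
    ((τ.appLE V ⊤ (by rw [hτV])).hom (secAlg g V r)) = r
  rw [h1, hτ, secAlg_id_top]
  exact congr($((Scheme.ΓSpecIso (CommRingCat.of R)).inv_hom_id).hom r)

include hu1 hu2 hτV in
theorem le_preimage_PO : U ≤ u ⁻¹ᵁ (PO q p U V) := by
  intro x hx
  refine ⟨?_, ?_⟩
  · change q (u x) ∈ U
    have : q (u x) = x := congr($(hu1) x)
    rw [this]
    exact hx
  · change p (u x) ∈ V
    have : p (u x) = τ (f x) := congr($(hu2) x)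
    rw [this]
    have : f x ∈ τ ⁻¹ᵁ V := by rw [hτV]; trivial
    exact this

/-- restriction along `u = (id, τ f)` -/
noncomputable def uHom : SW g q p U V →+* SX f U :=
  (u.appLE (PO q p U V) U (le_preimage_PO f q p τ u hu1 hu2 hτV)).hom

theorem appLE_of_eq_id (φ : X ⟶ X) (hφ : φ = 𝟙 X) (U : X.Opens) (e : U ≤ φ ⁻¹ᵁ U) :
    φ.appLE U U e = 𝟙 _ := by
  subst hφ
  change (𝟙 X : X ⟶ X).app U ≫ X.presheaf.map (homOfLE e).op = 𝟙 _
  rw [Scheme.Hom.id_app]
  exact (Category.id_comp _).trans (X.presheaf.map_id (op U))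

theorem uHom_qHom (x : SX f U) :
    uHom f g q p τ u hu1 hu2 hτV (qHom f g q p U V hW.w x) = x := by
  change (q.appLE U (PO q p U V) inf_le_left ≫
    u.appLE (PO q p U V) U (le_preimage_PO f q p τ u hu1 hu2 hτV)).hom x = x
  rw [Scheme.Hom.appLE_comp_appLE, appLE_of_eq_id _ hu1]
  rfl

theorem appLE_congr_hom {A B : Scheme.{u}} (φ ψ : A ⟶ B) (h : φ = ψ) (U : B.Opens) (O : A.Opens)
    (e : O ≤ φ ⁻¹ᵁ U) : φ.appLE U O e = ψ.appLE U O (by subst h; exact e) := by
  subst h
  rfl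

theorem uHom_algebraMap (y : SX g V) :
    uHom f g q p τ u hu1 hu2 hτV (algebraMap (SX g V) (SW g q p U V) y) =
      algebraMap R (SX f U) (tauHom g τ hτV y) := by
  change (p.appLE V (PO q p U V) inf_le_right ≫
    u.appLE (PO q p U V) U (le_preimage_PO f q p τ u hu1 hu2 hτV)).hom y = _
  rw [Scheme.Hom.appLE_comp_appLE, appLE_congr_hom _ _ hu2,
    ← Scheme.Hom.appLE_comp_appLE f τ V ⊤ U (by rw [hτV]) le_top]
  change (f.appLE ⊤ U le_top).hom ((τ.appLE V ⊤ (by rw [hτV])).hom y) =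
    (X.presheaf.map (homOfLE (le_top : U ≤ ⊤)).op).hom (f.appTop.hom
      ((Scheme.ΓSpecIso (CommRingCat.of R)).inv.hom ((Scheme.ΓSpecIso (CommRingCat.of R)).hom.hom
        ((τ.appLE V ⊤ (by rw [hτV])).hom y))))
  have h1 : (Scheme.ΓSpecIso (CommRingCat.of R)).inv.hom
      ((Scheme.ΓSpecIso (CommRingCat.of R)).hom.hom ((τ.appLE V ⊤ (by rw [hτV])).hom y)) =
      (τ.appLE V ⊤ (by rw [hτV])).hom y :=
    congr($((Scheme.ΓSpecIso (CommRingCat.of R)).hom_inv_id).hom _)
  rw [h1]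
  rfl

theorem uHom_smul (y : SX g V) (c : SW g q p U V) :
    uHom f g q p τ u hu1 hu2 hτV (y • c) =
      tauHom g τ hτV y • uHom f g q p τ u hu1 hu2 hτV c := by
  rw [Algebra.smul_def, map_mul, uHom_algebraMap, Algebra.smul_def]

include hτ in
/-- evaluating the extended functional along `τ` -/
theorem Lam_eval (hU : IsAffineOpen U) (hV : IsAffineOpen V) (lam : SX f U →ₗ[R] R)
    (c : SW g q p U V) :
    tauHom g τ hτV (Lam f g q p hW hU hV lam c) = lam (uHom f g q p τ u hu1 hu2 hτV c) := by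
  refine SW_ind f g q p hW hU hV
    (fun c => tauHom g τ hτV (Lam f g q p hW hU hV lam c) =
      lam (uHom f g q p τ u hu1 hu2 hτV c)) ?_ ?_ ?_ ?_ c
  · simp
  · intro x
    rw [Lam_qHom, tauHom_algebraMap g τ hτ, uHom_qHom f g q p hW]
  · intro y c hc
    rw [map_smul, smul_eq_mul, map_mul, hc, uHom_smul, map_smul, smul_eq_mul]
  · intro c c' hc hc'
    rw [map_add, map_add, map_add, map_add, hc, hc']

end Eval

end Groth.Agent.Lib.helper7.CubeSec
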