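import Mathlib
import Groth.Agent.Lib.Helper7.CubeSec
import Groth.Agent.Lib.Helper7.CubeLift

/-!
# The obstruction values (helper7)

`f : X ⟶ Spec R`, `g : Y ⟶ Spec R` flat, `W = X ×_R Y`, `t : R` with `ann t = m`, `j : W₁ ⟶ W` the base change
along `R → R/(t)`, `L` invertible on `W` with a generator `e₁` of `j^* L`.  For an affine cover `U i` of `X`
with affine pairwise intersections, an affine open `V` of `Y` and functionals `lam i i' : Γ(X, U i ∩ U i') → R`
killed by `m` and vanishing on coboundaries, `IsOb V lam r` says that `r : Γ(Y, V)` is the value of the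
extended functionals on the cochain of transition functions of lifts of `e₁`.
-/

set_option autoImplicit false
universe u
open CategoryTheory CategoryTheory.Limits AlgebraicGeometry TopologicalSpace Opposite
open Scheme.Modules

namespace Groth.Agent.Lib.helper7.CubeOb

open Groth.Agent.Lib.helper8.FlatCohBC Groth.Agent.Lib.helper12.PullTensor
open Groth.Agent.Lib.Helper18.InvGen Groth.Agent.Lib.helper7.CubeSec
open Groth.Agent.Lib.helper7.CubeLift

variable {R : Type u} [CommRing R] {X Y W W₁ : Scheme.{u}}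
  (f : X ⟶ Spec (CommRingCat.of R)) (g : Y ⟶ Spec (CommRingCat.of R)) (q : W ⟶ X) (p : W ⟶ Y)
  (hW : IsPullback q p f g)

include hW in
theorem isAffineOpen_PO {U : X.Opens} {V : Y.Opens} (hU : IsAffineOpen U) (hV : IsAffineOpen V) :
    IsAffineOpen (PO q p U V) := by
  have : IsAffine (↑(⊤ : (Spec (CommRingCat.of R)).Opens) : Scheme.{u}) := isAffineOpen_top _
  have : IsAffine (↑U : Scheme.{u}) := hU
  have : IsAffine (↑V : Scheme.{u}) := hV
  exact .of_isIso (Scheme.Hom.isPullback_resLE hW (US := ⊤) (UT := V) (UX := U)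
    (UY := PO q p U V) le_top le_top rfl).isoPullback.hom

variable (m : Ideal R) (t : R)
  (h₁ : W₁ ⟶ Spec (CommRingCat.of (R ⧸ Ideal.span {t}))) (j : W₁ ⟶ W)
  (hj : IsPullback j h₁ (p ≫ g)
    (Spec.map (CommRingCat.ofHom (algebraMap R (R ⧸ Ideal.span {t})))))
  (L : W.Modules) [L.IsQuasicoherent]
  (e₁ : Γ((Scheme.Modules.pullback j).obj L, ⊤))
  {I : Type u} [Fintype I] (U : I → X.Opens)

/-- the functionals are killed by `m` -/
def P1 (lam : ∀ i i', SX f (U i ⊓ U i') →ₗ[R] R) : Prop :=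
  ∀ i i', ∀ a ∈ m, ∀ x, a • lam i i' x = 0

/-- the functionals vanish on coboundaries -/
def P2 (lam : ∀ i i', SX f (U i ⊓ U i') →ₗ[R] R) : Prop :=
  ∀ i, (∑ i', (lam i i') ∘ₗ (resX f (inf_le_left : U i ⊓ U i' ≤ U i)).toLinearMap) =
    ∑ i', (lam i' i) ∘ₗ (resX f (inf_le_right : U i' ⊓ U i ≤ U i)).toLinearMap

/-- the image of `t` in `Γ(W, q⁻¹U ∩ p⁻¹V)` -/
noncomputable abbrev tW (U' : X.Opens) (V : Y.Opens) : Γ(W, PO q p U' V) := tS (p ≫ g) t (PO q p U' V)

/-- lifts over the `U i × V` with their transition functions -/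
structure Datum (V : Y.Opens) where
  σ : ∀ i, Γ(L, PO q p (U i) V)
  a : ∀ i i', Γ(W, PO q p (U i ⊓ U i') V)
  lift : ∀ i, IsLift j L e₁ (PO q p (U i) V) (σ i)
  rel : ∀ i i', L.presheaf.map (homOfLE (PO_mono q p (inf_le_left : U i ⊓ U i' ≤ U i) (le_refl V))).op
      (σ i) = (1 + tW g q p t (U i ⊓ U i') V * a i i') •
        L.presheaf.map (homOfLE (PO_mono q p (inf_le_right : U i ⊓ U i' ≤ U i') (le_refl V))).op (σ i')

variable {f g q p t j L e₁ U}

/-- the value of the functionals on a datum -/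
noncomputable def Datum.val {V : Y.Opens} (D : Datum g q p t j L e₁ U V)
    (hUU : ∀ i i', IsAffineOpen (U i ⊓ U i')) (hV : IsAffineOpen V)
    (lam : ∀ i i', SX f (U i ⊓ U i') →ₗ[R] R) : SX g V :=
  ∑ i, ∑ i', Lam f g q p hW (hUU i i') hV (lam i i') (D.a i i')

theorem res_one_add {U' U'' : X.Opens} {V V' : Y.Opens} (hU : U'' ≤ U') (hV : V' ≤ V)
    (a : Γ(W, PO q p U' V)) :
    W.presheaf.map (homOfLE (PO_mono q p hU hV)).op (1 + tW g q p t U' V * a) =
      1 + tW g q p t U'' V' * W.presheaf.map (homOfLE (PO_mono q p hU hV)).op a := by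
  rw [map_add, map_one, map_mul]
  congr 2
  exact tS_res (p ≫ g) t (PO_mono q p hU hV)

/-- restriction of a datum to a smaller open of `Y` -/
noncomputable def Datum.res {V V' : Y.Opens} (D : Datum g q p t j L e₁ U V) (hle : V' ≤ V) :
    Datum g q p t j L e₁ U V' where
  σ i := L.presheaf.map (homOfLE (PO_mono q p (le_refl (U i)) hle)).op (D.σ i)
  a i i' := W.presheaf.map (homOfLE (PO_mono q p (le_refl (U i ⊓ U i')) hle)).op (D.a i i')
  lift i := (D.lift i).res _
  rel i i' := by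
    have h := congrArg (L.presheaf.map
      (homOfLE (PO_mono q p (le_refl (U i ⊓ U i')) hle)).op) (D.rel i i')
    rw [Scheme.Modules.map_smul, map_map, map_map, res_one_add (le_refl (U i ⊓ U i')) hle] at h
    rw [map_map, map_map]
    exact h

omit [L.IsQuasicoherent] in
theorem Datum.res_val {V V' : Y.Opens} (D : Datum g q p t j L e₁ U V) (hle : V' ≤ V)
    (hUU : ∀ i i', IsAffineOpen (U i ⊓ U i')) (hV : IsAffineOpen V) (hV' : IsAffineOpen V')
    (lam : ∀ i i', SX f (U i ⊓ U i') →ₗ[R] R) :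
    (D.res hle).val hW hUU hV' lam = resX g hle (D.val hW hUU hV lam) := by
  unfold Datum.val
  rw [map_sum]
  refine Finset.sum_congr rfl (fun i _ => ?_)
  rw [map_sum]
  refine Finset.sum_congr rfl (fun i' _ => ?_)
  exact Lam_resW f g q p hW (hUU i i') hV hV' hle (lam i i') (D.a i i')

theorem IsGen.smul_inj {Z : Scheme.{u}} {M : Z.Modules} {O : Z.Opens} {ℓ : Γ(M, O)}
    (hℓ : IsGen M O ℓ) (a b : Γ(Z, O)) (h : a • ℓ = b • ℓ) : a = b := by
  refine hℓ.smul_injective (le_refl O) a b ?_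
  rw [map_refl]
  exact h

variable (f) in
omit [Fintype I] in
include hW hj in
theorem exists_datum (hU : ∀ i, IsAffineOpen (U i)) (hUU : ∀ i i', IsAffineOpen (U i ⊓ U i'))
    {V : Y.Opens} (hV : IsAffineOpen V)
    (he₁ : IsGen ((Scheme.Modules.pullback j).obj L) ⊤ e₁) (htt : t * t = 0) :
    Nonempty (Datum g q p t j L e₁ U V) := by
  choose σ hσ using fun i => exists_isLift (p ≫ g) t h₁ j hj L e₁ (PO q p (U i) V)
    (isAffineOpen_PO f g q p hW (hU i) hV)
  have key : ∀ i i', ∃ c : Γ(W, PO q p (U i ⊓ U i') V),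
      L.presheaf.map (homOfLE (PO_mono q p (inf_le_left : U i ⊓ U i' ≤ U i) (le_refl V))).op
        (σ i) = (1 + tW g q p t (U i ⊓ U i') V * c) •
        L.presheaf.map (homOfLE (PO_mono q p (inf_le_right : U i ⊓ U i' ≤ U i') (le_refl V))).op
          (σ i') := fun i i' =>
    exists_eq_smul_of_isLift (p ≫ g) t h₁ j hj L e₁ he₁ htt _
      (isAffineOpen_PO f g q p hW (hUU i i') hV) _ _ ((hσ i').res _) ((hσ i).res _)
  choose a ha using key
  exact ⟨⟨σ, a, hσ, ha⟩⟩

theorem ring_key {C : Type*} [CommRing C] (T a a' βL βR : C) (hT : T * T = 0)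
    (h : (1 + T * βL) * (1 + T * a) = (1 + T * a') * (1 + T * βR)) :
    T * (a' + βR - βL - a) = 0 := by
  have e : T * (a' + βR - βL - a) =
      (1 + T * a') * (1 + T * βR) - (1 + T * βL) * (1 + T * a) - T * T * (a' * βR - βL * a) := by
    ring
  rw [e, h, hT, sub_self, zero_mul, sub_zero]

include hj in
/-- **the value does not depend on the datum** -/
theorem Datum.val_eq [Flat f] [Flat g] (ht : ∀ a : R, a * t = 0 ↔ a ∈ m) (htt : t * t = 0)
    (he₁ : IsGen ((Scheme.Modules.pullback j).obj L) ⊤ e₁) (hL : PicF.IsInvertible L)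
    (hU : ∀ i, IsAffineOpen (U i)) (hUU : ∀ i i', IsAffineOpen (U i ⊓ U i'))
    {V : Y.Opens} (hV : IsAffineOpen V) (D D' : Datum g q p t j L e₁ U V)
    (lam : ∀ i i', SX f (U i ⊓ U i') →ₗ[R] R) (hl1 : P1 f m U lam) (hl2 : P2 f U lam) :
    D'.val hW hUU hV lam = D.val hW hUU hV lam := by
  have hb : ∀ i, ∃ b : Γ(W, PO q p (U i) V), D'.σ i = (1 + tW g q p t (U i) V * b) • D.σ i :=
    fun i => exists_eq_smul_of_isLift (p ≫ g) t h₁ j hj L e₁ he₁ htt _
      (isAffineOpen_PO f g q p hW (hU i) hV) _ _ (D.lift i) (D'.lift i)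
  choose b hb using hb
  have key : ∀ i i', Lam f g q p hW (hUU i i') hV (lam i i') (D'.a i i') =
      Lam f g q p hW (hUU i i') hV (lam i i') (D.a i i') +
      Lam f g q p hW (hUU i i') hV (lam i i')
        (resW g q p (inf_le_left : U i ⊓ U i' ≤ U i) (le_refl V) (b i)) -
      Lam f g q p hW (hUU i i') hV (lam i i')
        (resW g q p (inf_le_right : U i ⊓ U i' ≤ U i') (le_refl V) (b i')) := by
    intro i i'
    have hO := isAffineOpen_PO f g q p hW (hUU i i') hV
    have hgen : IsGen L _ (L.presheaf.map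
        (homOfLE (PO_mono q p (inf_le_right : U i ⊓ U i' ≤ U i') (le_refl V))).op (D.σ i')) :=
      isGen_of_isLift (p ≫ g) t h₁ j hj L e₁ he₁ htt hL _ hO _ ((D.lift i').res _)
    have e1 := D'.rel i i'
    rw [hb i, hb i', Scheme.Modules.map_smul, Scheme.Modules.map_smul,
      res_one_add (inf_le_left : U i ⊓ U i' ≤ U i) (le_refl V),
      res_one_add (inf_le_right : U i ⊓ U i' ≤ U i') (le_refl V), D.rel i i', smul_smul,
      smul_smul] at e1
    have e2 := IsGen.smul_inj hgen _ _ e1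
    have e3 := ring_key _ _ _ _ _ (tS_mul_tS (p ≫ g) t htt _) e2
    have e4 : t • ((show SW g q p (U i ⊓ U i') V from D'.a i i') +
        resW g q p (inf_le_right : U i ⊓ U i' ≤ U i') (le_refl V) (b i') -
        resW g q p (inf_le_left : U i ⊓ U i' ≤ U i) (le_refl V) (b i) -
        (show SW g q p (U i ⊓ U i') V from D.a i i')) = 0 := by
      rw [Algebra.smul_def, algebraMap_SW]
      exact e3
    have e5 : Lam f g q p hW (hUU i i') hV (lam i i') (D'.a i i') +
        Lam f g q p hW (hUU i i') hV (lam i i')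
          (resW g q p (inf_le_right : U i ⊓ U i' ≤ U i') (le_refl V) (b i')) -
        Lam f g q p hW (hUU i i') hV (lam i i')
          (resW g q p (inf_le_left : U i ⊓ U i' ≤ U i) (le_refl V) (b i)) -
        Lam f g q p hW (hUU i i') hV (lam i i') (D.a i i') = 0 := by
      have e := Lam_eq_zero_of_smul_eq_zero f g q p hW (hUU i i') hV m t ht (lam i i')
        (hl1 i i') _ e4
      rw [map_sub, map_sub, map_add] at e
      exact e
    rw [sub_eq_zero] at e5
    rw [← e5]
    abel
  unfold Datum.val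
  simp_rw [key]
  rw [Finset.sum_congr rfl (fun i _ => Finset.sum_sub_distrib _ _),
    Finset.sum_congr rfl (fun i _ => congrArg₂ (· - ·) Finset.sum_add_distrib rfl),
    Finset.sum_sub_distrib, Finset.sum_add_distrib, add_sub_assoc, add_eq_left, sub_eq_zero]
  have hL1 : ∀ i, ∑ i', Lam f g q p hW (hUU i i') hV (lam i i')
      (resW g q p (inf_le_left : U i ⊓ U i' ≤ U i) (le_refl V) (b i)) =
      Lam f g q p hW (hU i) hV (∑ i', (lam i i') ∘ₗ
        (resX f (inf_le_left : U i ⊓ U i' ≤ U i)).toLinearMap) (b i) := by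
    intro i
    rw [Lam_sum, LinearMap.sum_apply]
    exact Finset.sum_congr rfl (fun i' _ => Lam_resWl f g q p hW (hU i) (hUU i i') hV _ _ _)
  have hL2 : ∀ i, ∑ i', Lam f g q p hW (hUU i' i) hV (lam i' i)
      (resW g q p (inf_le_right : U i' ⊓ U i ≤ U i) (le_refl V) (b i)) =
      Lam f g q p hW (hU i) hV (∑ i', (lam i' i) ∘ₗ
        (resX f (inf_le_right : U i' ⊓ U i ≤ U i)).toLinearMap) (b i) := by
    intro i
    rw [Lam_sum, LinearMap.sum_apply]
    exact Finset.sum_congr rfl (fun i' _ => Lam_resWl f g q p hW (hU i) (hUU i' i) hV _ _ _)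
  rw [Finset.sum_congr rfl (fun i _ => hL1 i), Finset.sum_comm,
    Finset.sum_congr rfl (fun i _ => hL2 i)]
  exact Finset.sum_congr rfl (fun i _ => by rw [hl2 i])

end Groth.Agent.Lib.helper7.CubeOb
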