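import Mathlib
import Groth.Agent.Lib.Helper7.CubeLift
import Groth.Agent.Lib.Helper7.CubeSec
import Groth.Agent.Lib.Helper11.UnitsK2

/-!
# A Čech form of `Γ(X₁, O) = R/(t)` (helper7)

`X` over `Spec R`, `jX : X₁ ⟶ X` the base change along `R → R/(t)`, and every global function on `X₁` comes from
`R`.  If functions `w i` on an affine cover `U i` agree modulo `t` on the overlaps, then there is `ε : R` with
`w i ≡ ε` modulo `t`.
-/

set_option autoImplicit false
universe u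
open CategoryTheory CategoryTheory.Limits AlgebraicGeometry TopologicalSpace Opposite

namespace Groth.Agent.Lib.helper7.CubeStein

open Groth.Agent.Lib.helper8.FlatCohBC Groth.Agent.Lib.helper7.CubeSec
open Groth.Agent.Lib.helper7.CubeLift

variable {R : Type u} [CommRing R] {X X₁ : Scheme.{u}} (f : X ⟶ Spec (CommRingCat.of R)) (t : R)
  (fX₁ : X₁ ⟶ Spec (CommRingCat.of (R ⧸ Ideal.span {t}))) (jX : X₁ ⟶ X)
  (hjX : IsPullback jX fX₁ f
    (Spec.map (CommRingCat.ofHom (algebraMap R (R ⧸ Ideal.span {t})))))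

theorem app_secAlg (O : X.Opens) (r : R) :
    (jX.app O).hom (secAlg f O r) = secAlg (jX ≫ f) (jX ⁻¹ᵁ O) r := by
  rw [← Scheme.Hom.appLE_eq_app]
  exact appLE_secAlg jX f O (jX ⁻¹ᵁ O) le_rfl r

include hjX in
theorem secAlg_comp_t (O : X₁.Opens) : secAlg (jX ≫ f) O t = 0 := by
  rw [hjX.w]
  have h1 := appLE_secAlg fX₁
    (Spec.map (CommRingCat.ofHom (algebraMap R (R ⧸ Ideal.span {t})))) ⊤ O le_top t
  rw [← h1]
  have h2 : secAlg (Spec.map (CommRingCat.ofHom (algebraMap R (R ⧸ Ideal.span {t})))) ⊤ t = 0 := by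
    change ((Spec (CommRingCat.of (R ⧸ Ideal.span {t}))).presheaf.map (𝟙 (op ⊤))).hom
      ((Spec.map (CommRingCat.ofHom (algebraMap R (R ⧸ Ideal.span {t})))).appTop.hom
        ((Scheme.ΓSpecIso (CommRingCat.of R)).inv.hom t)) = 0
    rw [CategoryTheory.Functor.map_id]
    have h3 := Scheme.ΓSpecIso_inv_naturality
      (CommRingCat.ofHom (algebraMap R (R ⧸ Ideal.span {t})))
    have h4 := congr($(h3).hom t)
    change (Scheme.ΓSpecIso (CommRingCat.of (R ⧸ Ideal.span {t}))).inv.hom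
      (algebraMap R (R ⧸ Ideal.span {t}) t) = _ at h4
    change (Spec.map (CommRingCat.ofHom (algebraMap R (R ⧸ Ideal.span {t})))).appTop.hom
        ((Scheme.ΓSpecIso (CommRingCat.of R)).inv.hom t) = 0
    refine h4.symm.trans ?_
    have h5 : algebraMap R (R ⧸ Ideal.span {t}) t = 0 :=
      Ideal.Quotient.eq_zero_iff_mem.mpr (Ideal.mem_span_singleton_self t)
    rw [h5, map_zero]
  rw [h2, map_zero]

include hjX in
theorem app_tS (O : X.Opens) : (jX.app O).hom (tS f t O) = 0 := by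
  unfold tS
  rw [app_secAlg, secAlg_comp_t f t fX₁ jX hjX]

include hjX in
/-- a function killed by `jX^♯` over an affine open is a multiple of `t` -/
theorem exists_eq_tS_mul (O : X.Opens) (hO : IsAffineOpen O) (x : Γ(X, O))
    (hx : (jX.app O).hom x = 0) : ∃ β : Γ(X, O), x = tS f t O * β := by
  have h2 := (Groth.Agent.Lib.helper11.UnitsK.app_eq_zero_iff_inJ f fX₁ jX hjX (Ideal.span {t})
    Ideal.Quotient.mk_surjective Ideal.mk_ker O hO x).mp hx
  obtain ⟨n', hn'⟩ := @Groth.Agent.Lib.helper11.Thick.exists_smul_of_mem_span_smul_top R _ t _ _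
    (Groth.Agent.Lib.helper11.FibMono.modSecA f (Coh.structureModule X) O)
    (Groth.Agent.Lib.helper11.UnitsK.ofFn O x) h2
  exact ⟨Groth.Agent.Lib.helper11.UnitsK.toFn O n', hn'⟩

include hjX in
theorem exists_const {I : Type u} (U : I → X.Opens) (hU : ∀ i, IsAffineOpen (U i))
    (hcov : ∀ x : X, ∃ i, x ∈ U i)
    (hO1 : ∀ ω : Γ(X₁, ⊤), ∃ ε : R, ω = secAlg (jX ≫ f) ⊤ ε)
    (w : ∀ i, Γ(X, U i))
    (hw : ∀ i i', ∃ x : Γ(X, U i ⊓ U i'),
      X.presheaf.map (homOfLE (inf_le_left : U i ⊓ U i' ≤ U i)).op (w i) -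
        X.presheaf.map (homOfLE (inf_le_right : U i ⊓ U i' ≤ U i')).op (w i') =
          tS f t (U i ⊓ U i') * x) :
    ∃ ε : R, ∀ i, ∃ β : Γ(X, U i), w i = secAlg f (U i) ε + tS f t (U i) * β := by
  let Uc : I → X₁.Opens := fun i => jX ⁻¹ᵁ (U i)
  let ω' : ∀ i, Γ(X₁, Uc i) := fun i => (jX.app (U i)).hom (w i)
  have hcompat : TopCat.Presheaf.IsCompatible X₁.presheaf Uc ω' := by
    intro i i'
    have e1 := Groth.Agent.Lib.helper11.UnitsK.app_res jX (U i) (U i ⊓ U i') inf_le_left (w i)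
    have e2 := Groth.Agent.Lib.helper11.UnitsK.app_res jX (U i') (U i ⊓ U i') inf_le_right (w i')
    obtain ⟨x, hx⟩ := hw i i'
    have e3 := congrArg (jX.app (U i ⊓ U i')).hom hx
    rw [map_sub, map_mul, app_tS f t fX₁ jX hjX, zero_mul, sub_eq_zero, e1, e2] at e3
    exact e3
  have hcovT : (⊤ : X₁.Opens) ≤ iSup Uc := by
    intro x _
    obtain ⟨i, hi⟩ := hcov (jX x)
    exact Opens.mem_iSup.mpr ⟨i, hi⟩
  obtain ⟨ω, hω, -⟩ := X₁.sheaf.existsUnique_gluing' Uc ⊤ (fun i => homOfLE le_top) hcovT ω'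
    hcompat
  obtain ⟨ε, hε⟩ := hO1 ω
  refine ⟨ε, fun i => ?_⟩
  have h1 : (jX.app (U i)).hom (w i - secAlg f (U i) ε) = 0 := by
    rw [map_sub, app_secAlg, sub_eq_zero]
    have h2 : ω' i = X₁.presheaf.map (homOfLE (le_top : Uc i ≤ ⊤)).op ω := (hω i).symm
    change ω' i = _
    rw [h2, hε]
    exact Coh.resTop_comp (op ⊤) (op (Uc i)) (homOfLE (le_top : Uc i ≤ ⊤)).op
      (Coh.toGlobal (jX ≫ f) ε)
  obtain ⟨β, hβ⟩ := exists_eq_tS_mul f t fX₁ jX hjX (U i) (hU i) _ h1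
  exact ⟨β, by rw [← hβ]; ring⟩

end Groth.Agent.Lib.helper7.CubeStein
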