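import Mathlib
import Groth.Agent.Lib.Helper7.CubeOb
import Groth.Agent.Lib.Helper7.CubeStein

/-!
# Evaluating the obstruction along the section `τ` (helper7)

If `u^* L` is trivial, where `u = (id, τ f) : X ⟶ W`, then the obstruction values over an affine open `V₀`
with `τ⁻¹ V₀ = ⊤` are killed by evaluation along `τ`.
-/

set_option autoImplicit false
universe u
open CategoryTheory CategoryTheory.Limits AlgebraicGeometry TopologicalSpace Opposite
open Scheme.Modules

namespace Groth.Agent.Lib.helper7.CubeEval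

open Groth.Agent.Lib.helper8.FlatCohBC Groth.Agent.Lib.helper12.PullTensor
open Groth.Agent.Lib.Helper18.InvGen Groth.Agent.Lib.helper7.CubeSec
open Groth.Agent.Lib.helper7.CubeLift Groth.Agent.Lib.helper7.CubeOb
open Groth.Agent.Lib.helper8.PullbackUnit

variable {R : Type u} [CommRing R] {X Y W : Scheme.{u}}
  {f : X ⟶ Spec (CommRingCat.of R)} {g : Y ⟶ Spec (CommRingCat.of R)} {q : W ⟶ X} {p : W ⟶ Y}
  (hW : IsPullback q p f g)
  {τ : Spec (CommRingCat.of R) ⟶ Y} (hτ : τ ≫ g = 𝟙 _) {u : X ⟶ W} (hu1 : u ≫ q = 𝟙 X)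
  (hu2 : u ≫ p = f ≫ τ) {V : Y.Opens} (hτV : τ ⁻¹ᵁ V = ⊤)
  (L : W.Modules) [L.IsQuasicoherent]

/-- pulling back sections over `q⁻¹U' ∩ p⁻¹V` along `u` -/
noncomputable def pullSec (U' : X.Opens) :
    Γ(L, PO q p U' V) →+ Γ((Scheme.Modules.pullback u).obj L, U') :=
  ρ u (le_preimage_PO f q p τ u hu1 hu2 hτV) L

omit [L.IsQuasicoherent] in
theorem pullSec_smul (U' : X.Opens) (c : Γ(W, PO q p U' V)) (n : Γ(L, PO q p U' V)) :
    pullSec hu1 hu2 hτV L U' (c • n) =
      (u.appLE (PO q p U' V) U' (le_preimage_PO f q p τ u hu1 hu2 hτV)).hom c •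
        pullSec hu1 hu2 hτV L U' n := by
  change ((Scheme.Modules.pullback u).obj L).presheaf.map (homOfLE _).op
      (unitSec u L (PO q p U' V) (c • n)) = _
  rw [Groth.Agent.Lib.helper12.ProjUP4.unitSec_smul]
  exact Scheme.Modules.map_smul ((Scheme.Modules.pullback u).obj L)
    (homOfLE (le_preimage_PO f q p τ u hu1 hu2 hτV)) _ _

omit [L.IsQuasicoherent] in
theorem pullSec_res {U' U'' : X.Opens} (h : U'' ≤ U') (n : Γ(L, PO q p U' V)) :
    pullSec hu1 hu2 hτV L U'' (L.presheaf.map (homOfLE (PO_mono q p h (le_refl V))).op n) =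
      ((Scheme.Modules.pullback u).obj L).presheaf.map (homOfLE h).op
        (pullSec hu1 hu2 hτV L U' n) := by
  change ((Scheme.Modules.pullback u).obj L).presheaf.map (homOfLE _).op
      (unitSec u L (PO q p U'' V) (L.presheaf.map (homOfLE (PO_mono q p h (le_refl V))).op n)) =
    ((Scheme.Modules.pullback u).obj L).presheaf.map (homOfLE h).op
      (((Scheme.Modules.pullback u).obj L).presheaf.map (homOfLE _).op
        (unitSec u L (PO q p U' V) n))
  rw [unitSec_map_res, map_map, map_map]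

include hτ in
theorem uHom_tW (t : R) (U' : X.Opens) :
    uHom f g q p τ u hu1 hu2 hτV (tW g q p t U' V) = tS f t U' := by
  have h1 := appLE_secAlg u (p ≫ g) (PO q p U' V) U'
    (le_preimage_PO f q p τ u hu1 hu2 hτV) t
  have h2 : u ≫ p ≫ g = f := by
    rw [← Category.assoc, hu2, Category.assoc, hτ, Category.comp_id]
  rw [h2] at h1
  exact h1

include hW in
/-- sections of `u^* L` over an affine `U'` come from sections of `L` -/
theorem pullSec_surjective {U' : X.Opens} (hU' : IsAffineOpen U') (hV : IsAffineOpen V) :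
    Function.Surjective (pullSec hu1 hu2 hτV L U') := by
  letI : Algebra Γ(W, PO q p U' V) Γ(X, U') :=
    (u.appLE (PO q p U' V) U' (le_preimage_PO f q p τ u hu1 hu2 hτV)).hom.toAlgebra
  have hsurj : Function.Surjective (algebraMap Γ(W, PO q p U' V) Γ(X, U')) := by
    intro x
    exact ⟨qHom f g q p U' V hW.w x, uHom_qHom f g q p hW τ u hu1 hu2 hτV x⟩
  exact Groth.Agent.Lib.helper11.Thick.surjective_of_isBC hsurj _
    (isBC_ρ u (isAffineOpen_PO f g q p hW hU' hV) hU'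
      (le_preimage_PO f q p τ u hu1 hu2 hτV) L)

section main

variable {t : R} {W₁ X₁ : Scheme.{u}}
  (h₁ : W₁ ⟶ Spec (CommRingCat.of (R ⧸ Ideal.span {t}))) {j : W₁ ⟶ W}
  (hj : IsPullback j h₁ (p ≫ g)
    (Spec.map (CommRingCat.ofHom (algebraMap R (R ⧸ Ideal.span {t})))))
  {e₁ : Γ((Scheme.Modules.pullback j).obj L, ⊤)}
  {I : Type u} [Fintype I] {U : I → X.Opens}
  (fX₁ : X₁ ⟶ Spec (CommRingCat.of (R ⧸ Ideal.span {t}))) {jX : X₁ ⟶ X}
  (hjX : IsPullback jX fX₁ f
    (Spec.map (CommRingCat.ofHom (algebraMap R (R ⧸ Ideal.span {t})))))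

theorem ring_key3 {C : Type*} [CommRing C] (T E E' α βL βR : C) (hT : T * T = 0) (hE : E' * E = 1)
    (h : E + T * βL = (1 + T * α) * (E + T * βR)) :
    T * (α - (E' * βL - E' * βR)) = 0 := by
  linear_combination (-E') * h + (-(T * α)) * hE + (-(E' * α * βR)) * hT

omit [Fintype I] in
include hW hτ hj hjX in
/-- the pulled-back transition cochain is a coboundary modulo the kernel of `t` -/
theorem exists_coboundary_pull [IsLocalRing R] (htt : t * t = 0)
    (htm : t ∈ IsLocalRing.maximalIdeal R)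
    (he₁ : IsGen ((Scheme.Modules.pullback j).obj L) ⊤ e₁)
    (hU : ∀ i, IsAffineOpen (U i)) (hcov : ∀ x : X, ∃ i, x ∈ U i)
    (hV : IsAffineOpen V) (D : Datum g q p t j L e₁ U V)
    (hO1 : ∀ ω : Γ(X₁, ⊤), ∃ ε : R, ω = secAlg (jX ≫ f) ⊤ ε)
    (eM : Γ((Scheme.Modules.pullback u).obj L, ⊤))
    (heM : IsGen ((Scheme.Modules.pullback u).obj L) ⊤ eM)
    (sX : Spec (CommRingCat.of R) ⟶ X) (hsX : sX ≫ f = 𝟙 _) :
    ∃ β : ∀ i, SX f (U i), ∀ i i',
      t • (uHom f g q p τ u hu1 hu2 hτV (D.a i i') -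
        (resX f (inf_le_left : U i ⊓ U i' ≤ U i) (β i) -
          resX f (inf_le_right : U i ⊓ U i' ≤ U i') (β i'))) = 0 := by
  classical
  let M := (Scheme.Modules.pullback u).obj L
  let s : ∀ i, Γ(M, U i) := fun i => pullSec hu1 hu2 hτV L (U i) (D.σ i)
  have hw : ∀ i, ∃ w : Γ(X, U i),
      w • M.presheaf.map (homOfLE (le_top : U i ≤ ⊤)).op eM = s i :=
    fun i => heM.exists_smul_eq le_top (s i)
  choose w hw using hw
  have hv : ∀ i, ∃ v : Γ(X, U i), v * w i = 1 := by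
    intro i
    obtain ⟨n, hn⟩ := pullSec_surjective hW hu1 hu2 hτV L (hU i) hV
      (M.presheaf.map (homOfLE (le_top : U i ≤ ⊤)).op eM)
    obtain ⟨c, hc⟩ := exists_smul_eq_of_isLift (p ≫ g) t h₁ j hj L e₁ he₁ htt _
      (isAffineOpen_PO f g q p hW (hU i) hV) (D.σ i) (D.lift i) n
    refine ⟨(u.appLE (PO q p (U i) V) (U i) (le_preimage_PO f q p τ u hu1 hu2 hτV)).hom c, ?_⟩
    have h1 : ((u.appLE (PO q p (U i) V) (U i) (le_preimage_PO f q p τ u hu1 hu2 hτV)).hom c *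
        w i) • M.presheaf.map (homOfLE (le_top : U i ≤ ⊤)).op eM =
        (1 : Γ(X, U i)) • M.presheaf.map (homOfLE (le_top : U i ≤ ⊤)).op eM := by
      rw [mul_smul, hw i, one_smul, ← hn, ← hc]
      exact (pullSec_smul hu1 hu2 hτV L (U i) c (D.σ i)).symm
    exact heM.smul_injective le_top _ _ h1
  choose v hv using hv
  let α : ∀ i i', Γ(X, U i ⊓ U i') := fun i i' =>
    (u.appLE (PO q p (U i ⊓ U i') V) (U i ⊓ U i')
      (le_preimage_PO f q p τ u hu1 hu2 hτV)).hom (D.a i i')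
  have hrel : ∀ i i',
      X.presheaf.map (homOfLE (inf_le_left : U i ⊓ U i' ≤ U i)).op (w i) =
      (1 + tS f t (U i ⊓ U i') * α i i') *
        X.presheaf.map (homOfLE (inf_le_right : U i ⊓ U i' ≤ U i')).op (w i') := by
    intro i i'
    have h1 := congrArg (pullSec hu1 hu2 hτV L (U i ⊓ U i')) (D.rel i i')
    rw [pullSec_res hu1 hu2 hτV L (inf_le_left : U i ⊓ U i' ≤ U i), pullSec_smul,
      pullSec_res hu1 hu2 hτV L (inf_le_right : U i ⊓ U i' ≤ U i')] at h1
    change M.presheaf.map _ (s i) = _ • M.presheaf.map _ (s i') at h1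
    rw [← hw i, ← hw i', Scheme.Modules.map_smul, Scheme.Modules.map_smul, map_map, map_map,
      smul_smul] at h1
    have h2 := heM.smul_injective le_top _ _ h1
    rw [h2]
    congr 1
    rw [map_add, map_one, map_mul]
    congr 2
    exact uHom_tW hτ hu1 hu2 hτV t (U i ⊓ U i')
  -- the Stein property
  obtain ⟨ε, hε⟩ := Groth.Agent.Lib.helper7.CubeStein.exists_const f t fX₁ jX hjX U hU hcov hO1 w
    (fun i i' => ⟨α i i' *
      X.presheaf.map (homOfLE (inf_le_right : U i ⊓ U i' ≤ U i')).op (w i'), by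
        rw [hrel i i']; ring⟩)
  choose β' hβ' using hε
  -- `ε` is a unit
  have hεu : IsUnit ε := by
    obtain ⟨i₀, hi₀⟩ := hcov (sX (IsLocalRing.closedPoint R))
    have hs : sX ⁻¹ᵁ (U i₀) = ⊤ := (IsLocalRing.closed_point_mem_iff (R := R)).mp hi₀
    let ev : Γ(X, U i₀) →+* R := tauHom f sX hs
    have h1 := congrArg ev (hv i₀)
    rw [map_mul, map_one, hβ' i₀, map_add, map_mul] at h1
    have h2 : ev (secAlg f (U i₀) ε) = ε := tauHom_algebraMap f sX hsX hs ε
    have h3 : ev (tS f t (U i₀)) = t := tauHom_algebraMap f sX hsX hs t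
    rw [h2, h3] at h1
    have h4 : IsUnit (ε + t * ev (β' i₀)) := IsUnit.of_mul_eq_one _ (by
      rw [mul_comm]; exact h1)
    by_contra hcon
    have h5 : ε ∈ IsLocalRing.maximalIdeal R := (IsLocalRing.mem_maximalIdeal ε).mpr hcon
    have h6 : ε + t * ev (β' i₀) ∈ IsLocalRing.maximalIdeal R :=
      Ideal.add_mem _ h5 (Ideal.mul_mem_right _ _ htm)
    exact (IsLocalRing.mem_maximalIdeal _).mp h6 h4
  obtain ⟨ε', hε'⟩ := hεu.exists_left_inv
  refine ⟨fun i => secAlg f (U i) ε' * β' i, fun i i' => ?_⟩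
  have hres : ∀ {O O' : X.Opens} (h : O' ≤ O) (r : R),
      X.presheaf.map (homOfLE h).op (secAlg f O r) = secAlg f O' r := fun h r =>
    Coh.resTop_comp (op _) (op _) (homOfLE h).op (Coh.toGlobal f r)
  have h1 := hrel i i'
  rw [hβ' i, hβ' i', map_add, map_add, map_mul, map_mul, hres, hres, tS_res, tS_res] at h1
  have h2 := ring_key3 (tS f t (U i ⊓ U i')) (secAlg f (U i ⊓ U i') ε) (secAlg f (U i ⊓ U i') ε')
    (α i i')
    (X.presheaf.map (homOfLE (inf_le_left : U i ⊓ U i' ≤ U i)).op (β' i))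
    (X.presheaf.map (homOfLE (inf_le_right : U i ⊓ U i' ≤ U i')).op (β' i'))
    (tS_mul_tS f t htt _) (by rw [← map_mul, hε', map_one]) h1
  rw [Algebra.smul_def]
  change tS f t (U i ⊓ U i') * (α i i' -
    (X.presheaf.map (homOfLE (inf_le_left : U i ⊓ U i' ≤ U i)).op (secAlg f (U i) ε' * β' i) -
      X.presheaf.map (homOfLE (inf_le_right : U i ⊓ U i' ≤ U i')).op
        (secAlg f (U i') ε' * β' i'))) = 0
  rw [map_mul, map_mul, hres, hres]
  exact h2

include hτ hu1 hu2 hj hjX in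
/-- **the obstruction values die along `τ`** -/
theorem tauHom_val_eq_zero [Flat f] [IsLocalRing R]
    (ht : ∀ a : R, a * t = 0 ↔ a ∈ IsLocalRing.maximalIdeal R) (htt : t * t = 0)
    (htm : t ∈ IsLocalRing.maximalIdeal R)
    (he₁ : IsGen ((Scheme.Modules.pullback j).obj L) ⊤ e₁)
    (hU : ∀ i, IsAffineOpen (U i)) (hUU : ∀ i i', IsAffineOpen (U i ⊓ U i'))
    (hcov : ∀ x : X, ∃ i, x ∈ U i)
    (hV : IsAffineOpen V) (D : Datum g q p t j L e₁ U V)
    (hO1 : ∀ ω : Γ(X₁, ⊤), ∃ ε : R, ω = secAlg (jX ≫ f) ⊤ ε)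
    (eM : Γ((Scheme.Modules.pullback u).obj L, ⊤))
    (heM : IsGen ((Scheme.Modules.pullback u).obj L) ⊤ eM)
    (sX : Spec (CommRingCat.of R) ⟶ X) (hsX : sX ≫ f = 𝟙 _)
    (lam : ∀ i i', SX f (U i ⊓ U i') →ₗ[R] R)
    (hl1 : P1 f (IsLocalRing.maximalIdeal R) U lam) (hl2 : P2 f U lam) :
    tauHom g τ hτV (D.val hW hUU hV lam) = 0 := by
  obtain ⟨β, hβ⟩ := exists_coboundary_pull hW hτ hu1 hu2 hτV L h₁ hj fX₁ hjX htt htm he₁ hU hcov
    hV D hO1 eM heM sX hsX
  have key : ∀ i i', tauHom g τ hτV (Lam f g q p hW (hUU i i') hV (lam i i') (D.a i i')) =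
      lam i i' (resX f (inf_le_left : U i ⊓ U i' ≤ U i) (β i)) -
        lam i i' (resX f (inf_le_right : U i ⊓ U i' ≤ U i') (β i')) := by
    intro i i'
    rw [Lam_eval f g q p hW τ hτ u hu1 hu2 hτV]
    have h1 := lam_eq_zero_of_smul_eq_zero f (hUU i i') (IsLocalRing.maximalIdeal R) t ht
      (lam i i') (hl1 i i') _ (hβ i i')
    rw [map_sub, map_sub, sub_eq_zero] at h1
    exact h1
  unfold Datum.val
  rw [map_sum]
  simp_rw [map_sum, key]
  rw [Finset.sum_congr rfl (fun i _ => Finset.sum_sub_distrib _ _), Finset.sum_sub_distrib,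
    sub_eq_zero]
  have e1 : ∀ i, ∑ i', lam i i' (resX f (inf_le_left : U i ⊓ U i' ≤ U i) (β i)) =
      (∑ i', (lam i i') ∘ₗ (resX f (inf_le_left : U i ⊓ U i' ≤ U i)).toLinearMap) (β i) := by
    intro i
    rw [LinearMap.sum_apply]
    rfl
  have e2 : ∀ i, ∑ i', lam i' i (resX f (inf_le_right : U i' ⊓ U i ≤ U i) (β i)) =
      (∑ i', (lam i' i) ∘ₗ (resX f (inf_le_right : U i' ⊓ U i ≤ U i)).toLinearMap) (β i) := by
    intro i
    rw [LinearMap.sum_apply]
    rfl
  rw [Finset.sum_congr rfl (fun i _ => e1 i), Finset.sum_comm,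
    Finset.sum_congr rfl (fun i _ => e2 i)]
  exact Finset.sum_congr rfl (fun i _ => by rw [hl2 i])

end main

end Groth.Agent.Lib.helper7.CubeEval
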