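import Mathlib
import Groth.Agent.Lib.Helper7.CubeOb
import Groth.Agent.Lib.Helper18.PicGlue1

/-!
# Vanishing of all obstruction values gives triviality over `p⁻¹ V` (helper7)
-/

set_option autoImplicit false
universe u
open CategoryTheory CategoryTheory.Limits AlgebraicGeometry TopologicalSpace Opposite
open Scheme.Modules

namespace Groth.Agent.Lib.helper7.CubeTriv

open Groth.Agent.Lib.helper8.FlatCohBC Groth.Agent.Lib.helper12.PullTensor
open Groth.Agent.Lib.Helper18.InvGen Groth.Agent.Lib.helper7.CubeSec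
open Groth.Agent.Lib.helper7.CubeLift Groth.Agent.Lib.helper7.CubeOb
open Groth.Agent.Lib.helper11.InvMod

variable {R : Type u} [CommRing R] {X Y W W₁ : Scheme.{u}}
  {f : X ⟶ Spec (CommRingCat.of R)} {g : Y ⟶ Spec (CommRingCat.of R)} {q : W ⟶ X} {p : W ⟶ Y}
  (hW : IsPullback q p f g)
  (m : Ideal R) {t : R}
  (h₁ : W₁ ⟶ Spec (CommRingCat.of (R ⧸ Ideal.span {t}))) {j : W₁ ⟶ W}
  (hj : IsPullback j h₁ (p ≫ g)
    (Spec.map (CommRingCat.ofHom (algebraMap R (R ⧸ Ideal.span {t})))))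
  {L : W.Modules} [L.IsQuasicoherent]
  {e₁ : Γ((Scheme.Modules.pullback j).obj L, ⊤)}
  {I : Type u} [Fintype I] {U : I → X.Opens}

theorem ring_key2 {C : Type*} [CommRing C] (T a x y : C) (hT : T * T = 0)
    (h : T * (a - (x - y)) = 0) : (1 + T * (-x)) * (1 + T * a) = 1 + T * (-y) := by
  have e : (1 + T * (-x)) * (1 + T * a) - (1 + T * (-y)) =
      T * (a - (x - y)) - T * T * (x * a) := by ring
  rw [h, hT, zero_mul, sub_zero, sub_eq_zero] at e
  exact e

theorem isUnit_one_add {C : Type*} [CommRing C] (T x : C) (hT : T * T = 0) :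
    IsUnit (1 + T * x) := by
  refine IsUnit.of_mul_eq_one (1 + T * (-x)) ?_
  have e : (1 + T * x) * (1 + T * (-x)) = 1 - T * T * (x * x) := by ring
  rw [e, hT, zero_mul, sub_zero]

omit [L.IsQuasicoherent] in
/-- the linear-algebra input: the cochain `a` is a coboundary modulo the kernel of `t` -/
theorem exists_coboundary [Flat f] [Flat g] [hm : m.IsMaximal] (ht : ∀ a : R, a * t = 0 ↔ a ∈ m)
    (hU : ∀ i, IsAffineOpen (U i)) (hUU : ∀ i i', IsAffineOpen (U i ⊓ U i'))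
    {V : Y.Opens} (hV : IsAffineOpen V) (D : Datum g q p t j L e₁ U V)
    (hD : ∀ lam : ∀ i i', SX f (U i ⊓ U i') →ₗ[R] R, P1 f m U lam → P2 f U lam →
      D.val hW hUU hV lam = 0) :
    ∃ β : ∀ i, SW g q p (U i) V, ∀ i i',
      t • ((show SW g q p (U i ⊓ U i') V from D.a i i') -
        (resW g q p (inf_le_left : U i ⊓ U i' ≤ U i) (le_refl V) (β i) -
          resW g q p (inf_le_right : U i ⊓ U i' ≤ U i') (le_refl V) (β i'))) = 0 := by
  classical
  haveI := flat_SX g V hV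
  let φ1 : I × I → Type u := fun k => SX f (U k.1 ⊓ U k.2)
  let i0 : (∀ i, SX f (U i)) →ₗ[R] (∀ i, SW g q p (U i) V) :=
    LinearMap.pi fun i => (qHom f g q p (U i) V hW.w).toLinearMap ∘ₗ LinearMap.proj i
  have h0 : IsBaseChange (SX g V) i0 :=
    IsBaseChange.pi _ (fun i => isBaseChange_qHom f g q p hW (U i) V (hU i) hV)
  let i1 : (∀ k : I × I, SX f (U k.1 ⊓ U k.2)) →ₗ[R] (∀ k : I × I, SW g q p (U k.1 ⊓ U k.2) V) :=
    LinearMap.pi fun k => (qHom f g q p (U k.1 ⊓ U k.2) V hW.w).toLinearMap ∘ₗ LinearMap.proj k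
  have h1 : IsBaseChange (SX g V) i1 :=
    IsBaseChange.pi _ (fun k => isBaseChange_qHom f g q p hW (U k.1 ⊓ U k.2) V (hUU k.1 k.2) hV)
  let d : (∀ i, SX f (U i)) →ₗ[R] (∀ k : I × I, SX f (U k.1 ⊓ U k.2)) :=
    LinearMap.pi fun k =>
      (resX f (inf_le_left : U k.1 ⊓ U k.2 ≤ U k.1)).toLinearMap ∘ₗ LinearMap.proj k.1 -
      (resX f (inf_le_right : U k.1 ⊓ U k.2 ≤ U k.2)).toLinearMap ∘ₗ LinearMap.proj k.2
  let dB : (∀ i, SW g q p (U i) V) →ₗ[SX g V] (∀ k : I × I, SW g q p (U k.1 ⊓ U k.2) V) :=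
    LinearMap.pi fun k =>
      (resWl g q p (inf_le_left : U k.1 ⊓ U k.2 ≤ U k.1) V) ∘ₗ LinearMap.proj k.1 -
      (resWl g q p (inf_le_right : U k.1 ⊓ U k.2 ≤ U k.2) V) ∘ₗ LinearMap.proj k.2
  have hd : ∀ y, dB (i0 y) = i1 (d y) := by
    intro y
    funext k
    change resW g q p _ (le_refl V) (qHom f g q p (U k.1) V hW.w (y k.1)) -
      resW g q p _ (le_refl V) (qHom f g q p (U k.2) V hW.w (y k.2)) =
      qHom f g q p (U k.1 ⊓ U k.2) V hW.w (resX f _ (y k.1) - resX f _ (y k.2))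
    rw [resW_qHom, resW_qHom, map_sub]
  let x : ∀ k : I × I, SW g q p (U k.1 ⊓ U k.2) V := fun k => D.a k.1 k.2
  obtain ⟨β, hβ⟩ := Groth.Agent.Lib.helper7.CubeAlg.exists_sub_of_isBaseChange m t ht (SX g V)
    i0 h0 i1 h1 d dB hd x (by
    intro ψ hψ1 hψ2
    let lam : ∀ i i', SX f (U i ⊓ U i') →ₗ[R] R := fun i i' =>
      ψ ∘ₗ LinearMap.single R φ1 (i, i')
    have hl1 : P1 f m U lam := fun i i' a ha x => hψ1 a ha _
    have hdecomp : ∀ y : (∀ k : I × I, SX f (U k.1 ⊓ U k.2)),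
        ψ y = ∑ k : I × I, lam k.1 k.2 (y k) := by
      intro y
      conv_lhs => rw [← Finset.univ_sum_single y]
      rw [map_sum]
      rfl
    have hl2 : P2 f U lam := by
      intro i
      ext z
      have h3 : ψ (d (Pi.single i z)) = 0 := congrArg (fun F => F (Pi.single i z)) hψ2
      rw [hdecomp, Fintype.sum_prod_type] at h3
      have h4 : ∀ a b : I, lam a b (d (Pi.single i z) (a, b)) =
          lam a b (resX f (inf_le_left : U a ⊓ U b ≤ U a) ((Pi.single i z : ∀ i, SX f (U i)) a)) -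
          lam a b (resX f (inf_le_right : U a ⊓ U b ≤ U b) ((Pi.single i z : ∀ i, SX f (U i)) b)) := by
        intro a b
        rw [← map_sub]
        rfl
      simp_rw [h4] at h3
      rw [Finset.sum_congr rfl (fun a _ => Finset.sum_sub_distrib _ _), Finset.sum_sub_distrib,
        sub_eq_zero] at h3
      have hA1 : ∑ a : I, ∑ b : I, lam a b (resX f (inf_le_left : U a ⊓ U b ≤ U a)
          ((Pi.single i z : ∀ i, SX f (U i)) a)) =
          ∑ b : I, lam i b (resX f (inf_le_left : U i ⊓ U b ≤ U i) z) := by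
        rw [Finset.sum_eq_single i (fun a _ ha => by
            refine Finset.sum_eq_zero (fun b _ => ?_)
            rw [Pi.single_eq_of_ne ha, map_zero, map_zero])
          (fun hi => absurd (Finset.mem_univ i) hi)]
        refine Finset.sum_congr rfl (fun b _ => ?_)
        rw [Pi.single_eq_same]
      have hA2 : ∑ a : I, ∑ b : I, lam a b (resX f (inf_le_right : U a ⊓ U b ≤ U b)
          ((Pi.single i z : ∀ i, SX f (U i)) b)) =
          ∑ a : I, lam a i (resX f (inf_le_right : U a ⊓ U i ≤ U i) z) := by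
        refine Finset.sum_congr rfl (fun a _ => ?_)
        rw [Finset.sum_eq_single i (fun b _ hb => by
            rw [Pi.single_eq_of_ne hb, map_zero, map_zero])
          (fun hi => absurd (Finset.mem_univ i) hi), Pi.single_eq_same]
      rw [hA1, hA2] at h3
      rw [LinearMap.sum_apply, LinearMap.sum_apply]
      exact h3
    have hA : h1.lift ((Algebra.linearMap R (SX g V)) ∘ₗ ψ) =
        ∑ k : I × I, (Lam f g q p hW (hUU k.1 k.2) hV (lam k.1 k.2)) ∘ₗ LinearMap.proj k := by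
      refine h1.algHom_ext _ _ (fun y => ?_)
      rw [IsBaseChange.lift_eq, LinearMap.sum_apply, LinearMap.comp_apply,
        Algebra.linearMap_apply, hdecomp, map_sum]
      refine Finset.sum_congr rfl (fun k _ => ?_)
      exact (Lam_qHom f g q p hW (hUU k.1 k.2) hV (lam k.1 k.2) (y k)).symm
    rw [hA, LinearMap.sum_apply, Fintype.sum_prod_type]
    exact hD lam hl1 hl2)
  refine ⟨β, fun i i' => ?_⟩
  have := congrFun hβ (i, i')
  exact this

include hj in
/-- **if all obstruction values vanish, `L` is trivial over `p⁻¹ V`** -/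
theorem isTrivOn_of_val_eq_zero [Flat f] [Flat g] [hm : m.IsMaximal]
    (ht : ∀ a : R, a * t = 0 ↔ a ∈ m) (htt : t * t = 0)
    (he₁ : IsGen ((Scheme.Modules.pullback j).obj L) ⊤ e₁) (hL : PicF.IsInvertible L)
    (hU : ∀ i, IsAffineOpen (U i)) (hUU : ∀ i i', IsAffineOpen (U i ⊓ U i'))
    (hcov : ∀ x : X, ∃ i, x ∈ U i)
    {V : Y.Opens} (hV : IsAffineOpen V) (D : Datum g q p t j L e₁ U V)
    (hD : ∀ lam : ∀ i i', SX f (U i ⊓ U i') →ₗ[R] R, P1 f m U lam → P2 f U lam →
      D.val hW hUU hV lam = 0) :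
    IsTrivOn L (p ⁻¹ᵁ V) := by
  obtain ⟨β', hβ⟩ := exists_coboundary hW m ht hU hUU hV D hD
  let β : ∀ i, Γ(W, PO q p (U i) V) := β'
  have hβ' : ∀ i i', tW g q p t (U i ⊓ U i') V * (D.a i i' -
      (W.presheaf.map (homOfLE (PO_mono q p (inf_le_left : U i ⊓ U i' ≤ U i) (le_refl V))).op (β i) -
        W.presheaf.map (homOfLE (PO_mono q p (inf_le_right : U i ⊓ U i' ≤ U i') (le_refl V))).op
          (β i'))) = 0 := by
    intro i i'
    have := hβ i i'
    rw [Algebra.smul_def, algebraMap_SW] at this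
    exact this
  have hTT : ∀ (U' : X.Opens), tW g q p t U' V * tW g q p t U' V = 0 :=
    fun U' => tS_mul_tS (p ≫ g) t htt _
  -- the corrected lifts
  let σ' : ∀ i, Γ(L, PO q p (U i) V) := fun i =>
    (1 + tW g q p t (U i) V * (-(β i))) • D.σ i
  have hσ'gen : ∀ i, IsGen L (PO q p (U i) V) (σ' i) := fun i =>
    isGen_smul_of_isUnit
      (isGen_of_isLift (p ≫ g) t h₁ j hj L e₁ he₁ htt hL _
        (isAffineOpen_PO f g q p hW (hU i) hV) _ (D.lift i)) _
      (isUnit_one_add _ _ (hTT (U i)))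
  have hrel : ∀ i i',
      L.presheaf.map (homOfLE (PO_mono q p (inf_le_left : U i ⊓ U i' ≤ U i) (le_refl V))).op
        (σ' i) =
      L.presheaf.map (homOfLE (PO_mono q p (inf_le_right : U i ⊓ U i' ≤ U i') (le_refl V))).op
        (σ' i') := by
    intro i i'
    change L.presheaf.map _ ((1 + tW g q p t (U i) V * (-(β i))) • D.σ i) =
      L.presheaf.map _ ((1 + tW g q p t (U i') V * (-(β i'))) • D.σ i')
    rw [Scheme.Modules.map_smul, Scheme.Modules.map_smul,
      res_one_add (inf_le_left : U i ⊓ U i' ≤ U i) (le_refl V),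
      res_one_add (inf_le_right : U i ⊓ U i' ≤ U i') (le_refl V), D.rel i i', smul_smul,
      map_neg, map_neg]
    congr 1
    exact ring_key2 _ _ _ _ (hTT _) (hβ' i i')
  -- glue
  let F : TopCat.Sheaf Ab W := ⟨L.presheaf, L.isSheaf⟩
  let Uc : I → W.Opens := fun i => PO q p (U i) V
  have hle : ∀ i, Uc i ≤ p ⁻¹ᵁ V := fun i => inf_le_right
  have hcovP : p ⁻¹ᵁ V ≤ iSup Uc := by
    intro x hx
    obtain ⟨i, hi⟩ := hcov (q x)
    exact Opens.mem_iSup.mpr ⟨i, ⟨hi, hx⟩⟩
  have hcompat : TopCat.Presheaf.IsCompatible F.1 Uc σ' := by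
    intro i i'
    have hle' : Uc i ⊓ Uc i' ≤ PO q p (U i ⊓ U i') V := fun x hx => ⟨⟨hx.1.1, hx.2.1⟩, hx.1.2⟩
    have h := congrArg (L.presheaf.map (homOfLE hle').op) (hrel i i')
    rw [map_map, map_map] at h
    exact h
  obtain ⟨σ, hσ, -⟩ := F.existsUnique_gluing' Uc (p ⁻¹ᵁ V) (fun i => homOfLE (hle i)) hcovP σ'
    hcompat
  have hgen : IsGen L (p ⁻¹ᵁ V) σ := by
    intro x hx
    obtain ⟨i, hi⟩ := hcov (q x)
    have hxi : x ∈ Uc i := ⟨hi, hx⟩
    have h3 := hσ'gen i x hxi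
    have h4 : L.presheaf.germ (Uc i) x hxi (σ' i) = L.presheaf.germ (p ⁻¹ᵁ V) x hx σ := by
      rw [← hσ i]
      exact TopCat.Presheaf.germ_res_apply L.presheaf (homOfLE (hle i)) x hxi σ
    rw [h4] at h3
    exact h3
  exact Groth.Agent.Lib.Helper18.PicGlue.isTrivOn_of_isGen hgen

end Groth.Agent.Lib.helper7.CubeTriv
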