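import Mathlib
import Groth.Agent.Lib.Helper7.CubeTriv
import Groth.Agent.Lib.Helper7.CubeEval
import Groth.Agent.Lib.Helper21.GCMain

/-!
# The local crux of the theorem of the cube (helper7)

`R` a local ring, `t : R` with `ann t = m`, `f : X ⟶ Spec R`, `g : Y ⟶ Spec R` flat separated, `X` quasi-compact,
`W = X ×_R Y`, `L` invertible on `W`, trivial modulo `t` and along `u = (id, τ f)`; the global functions of
`X ⊗ R/(t)` and of `Y` are constants.  Then `L` is trivial over `p⁻¹ V` for every affine open `V` of `Y`.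
-/

set_option autoImplicit false
universe u
open CategoryTheory CategoryTheory.Limits AlgebraicGeometry TopologicalSpace Opposite
open Scheme.Modules

namespace Groth.Agent.Lib.helper7.CubeK

open Groth.Agent.Lib.helper8.FlatCohBC Groth.Agent.Lib.helper12.PullTensor
open Groth.Agent.Lib.Helper18.InvGen Groth.Agent.Lib.helper7.CubeSec
open Groth.Agent.Lib.helper7.CubeLift Groth.Agent.Lib.helper7.CubeOb
open Groth.Agent.Lib.helper7.CubeTriv Groth.Agent.Lib.helper7.CubeEval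
open Groth.Agent.Lib.helper11.InvMod

variable {R : Type u} [CommRing R] {X Y W W₁ X₁ : Scheme.{u}}
  {f : X ⟶ Spec (CommRingCat.of R)} {g : Y ⟶ Spec (CommRingCat.of R)} {q : W ⟶ X} {p : W ⟶ Y}
  (hW : IsPullback q p f g)
  {τ : Spec (CommRingCat.of R) ⟶ Y} (hτ : τ ≫ g = 𝟙 _) {u : X ⟶ W} (hu1 : u ≫ q = 𝟙 X)
  (hu2 : u ≫ p = f ≫ τ)
  (L : W.Modules) [L.IsQuasicoherent] {t : R}
  (h₁ : W₁ ⟶ Spec (CommRingCat.of (R ⧸ Ideal.span {t}))) {j : W₁ ⟶ W}
  (hj : IsPullback j h₁ (p ≫ g)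
    (Spec.map (CommRingCat.ofHom (algebraMap R (R ⧸ Ideal.span {t})))))
  {e₁ : Γ((Scheme.Modules.pullback j).obj L, ⊤)}
  (fX₁ : X₁ ⟶ Spec (CommRingCat.of (R ⧸ Ideal.span {t}))) {jX : X₁ ⟶ X}
  (hjX : IsPullback jX fX₁ f
    (Spec.map (CommRingCat.ofHom (algebraMap R (R ⧸ Ideal.span {t})))))

include hW hτ hu1 hu2 hj hjX in
theorem isTrivOn_preimage [IsLocalRing R] [Flat f] [Flat g] [IsSeparated f] [IsSeparated g]
    [CompactSpace X]
    (ht : ∀ a : R, a * t = 0 ↔ a ∈ IsLocalRing.maximalIdeal R)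
    (htm : t ∈ IsLocalRing.maximalIdeal R)
    (hL : PicF.IsInvertible L)
    (he₁ : IsGen ((Scheme.Modules.pullback j).obj L) ⊤ e₁)
    (hO1 : ∀ ω : Γ(X₁, ⊤), ∃ ε : R, ω = secAlg (jX ≫ f) ⊤ ε)
    (hOg : ∀ r : Γ(Y, ⊤), ∃ ρ : R, r = secAlg g ⊤ ρ)
    (eM : Γ((Scheme.Modules.pullback u).obj L, ⊤))
    (heM : IsGen ((Scheme.Modules.pullback u).obj L) ⊤ eM)
    (sX : Spec (CommRingCat.of R) ⟶ X) (hsX : sX ≫ f = 𝟙 _)
    (V : Y.Opens) (hV : IsAffineOpen V) : IsTrivOn L (p ⁻¹ᵁ V) := by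
  classical
  have htt : t * t = 0 := (ht t).mpr htm
  obtain ⟨I, hfin, U, hU, hUtop⟩ := Groth.Agent.Lib.helper21.GCCech.exists_finite_affine_cover X
  haveI : Fintype I := Fintype.ofFinite I
  have hUU : ∀ i i', IsAffineOpen (U i ⊓ U i') := fun i i' =>
    Groth.Agent.Lib.helper21.GCCech.affine_inf_of_isSeparated f _ _ (hU i) (hU i')
  have hcov : ∀ x : X, ∃ i, x ∈ U i := fun x =>
    Opens.mem_iSup.mp (by rw [hUtop]; trivial)
  let Dat : ∀ V' : Y.affineOpens, Datum g q p t j L e₁ U V'.1 := fun V' =>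
    (exists_datum f hW h₁ hj hU hUU V'.2 he₁ htt).some
  have hzero : ∀ lam : ∀ i i', SX f (U i ⊓ U i') →ₗ[R] R,
      P1 f (IsLocalRing.maximalIdeal R) U lam → P2 f U lam →
      ∀ V' : Y.affineOpens, (Dat V').val hW hUU V'.2 lam = 0 := by
    intro lam hl1 hl2
    let r' : ∀ V' : Y.affineOpens, Γ(Y, V'.1) := fun V' => (Dat V').val hW hUU V'.2 lam
    have hres : ∀ (V' V'' : Y.affineOpens) (hle : V''.1 ≤ V'.1),
        Y.presheaf.map (homOfLE hle).op (r' V') = r' V'' := by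
      intro V' V'' hle
      have e1 := (Dat V').res_val hW hle hUU V'.2 V''.2 lam
      have e2 := Datum.val_eq hW (IsLocalRing.maximalIdeal R) h₁ hj ht htt he₁ hL hU hUU V''.2
        (Dat V'') ((Dat V').res hle) lam hl1 hl2
      exact e1.symm.trans e2
    have hcompat : TopCat.Presheaf.IsCompatible Y.presheaf (fun V' : Y.affineOpens => V'.1) r' := by
      intro V' V''
      have haff : IsAffineOpen (V'.1 ⊓ V''.1) :=
        Groth.Agent.Lib.helper21.GCCech.affine_inf_of_isSeparated g _ _ V'.2 V''.2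
      exact (hres V' ⟨V'.1 ⊓ V''.1, haff⟩ inf_le_left).trans
        (hres V'' ⟨V'.1 ⊓ V''.1, haff⟩ inf_le_right).symm
    have hcovY : (⊤ : Y.Opens) ≤ ⨆ V' : Y.affineOpens, V'.1 := by
      rw [iSup_affineOpens_eq_top]
    obtain ⟨r, hr, -⟩ := Y.sheaf.existsUnique_gluing' (fun V' : Y.affineOpens => V'.1) ⊤
      (fun V' => homOfLE le_top) hcovY r' hcompat
    obtain ⟨ρ, hρ⟩ := hOg r
    -- an affine open around the image of the closed point
    obtain ⟨_, ⟨V₀, hV₀, rfl⟩, hτV₀, -⟩ := Y.isBasis_affineOpens.exists_subset_of_mem_open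
      (Set.mem_univ (τ (IsLocalRing.closedPoint R))) isOpen_univ
    have hτV : τ ⁻¹ᵁ V₀ = ⊤ := (IsLocalRing.closed_point_mem_iff (R := R)).mp hτV₀
    have h0 := tauHom_val_eq_zero hW hτ hu1 hu2 hτV L h₁ hj fX₁ hjX ht htt htm he₁ hU hUU hcov
      hV₀ (Dat ⟨V₀, hV₀⟩) hO1 eM heM sX hsX lam hl1 hl2
    have h1 : r' ⟨V₀, hV₀⟩ = secAlg g V₀ ρ := by
      rw [← hr ⟨V₀, hV₀⟩, hρ]
      exact Coh.resTop_comp (op ⊤) (op V₀) (homOfLE (le_top : V₀ ≤ ⊤)).op (Coh.toGlobal g ρ)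
    have h2 : ρ = 0 := by
      have h3 : tauHom g τ hτV (r' ⟨V₀, hV₀⟩) = 0 := h0
      rw [h1] at h3
      exact (tauHom_algebraMap g τ hτ hτV ρ).symm.trans h3
    intro V'
    change r' V' = 0
    rw [← hr V', hρ, h2, map_zero]
    exact map_zero (Y.presheaf.map (homOfLE (le_top : V'.1 ≤ ⊤)).op).hom
  exact isTrivOn_of_val_eq_zero hW (IsLocalRing.maximalIdeal R) h₁ hj ht htt he₁ hL hU hUU hcov hV
    (Dat ⟨V, hV⟩) (fun lam hl1 hl2 => hzero lam hl1 hl2 ⟨V, hV⟩)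

end Groth.Agent.Lib.helper7.CubeK
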