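import Mathlib
import Groth.Agent.Lib.Helper11.FibLift4
import Groth.Agent.Lib.Helper16.FLF6

/-!
# Epimorphisms between finite locally free modules of the same rank, and pullbacks (helper7)

* `isIso_of_epi_of_isFinLocFreeOfRank`: an epimorphism between finite locally free modules of the
  same rank is an isomorphism.
* `epi_pullback_iff`: for `φ : A ⟶ B` with coherent cokernel, `v^* φ` is an epimorphism iff the
  image of `v` misses the support of the cokernel.
* `isIso_pullback_iff`: the combination.
-/

set_option autoImplicit false
set_option linter.style.haveILetI false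
universe u
open CategoryTheory CategoryTheory.Limits AlgebraicGeometry Opposite TopologicalSpace
open Scheme.Modules

namespace Groth.Agent.Lib.helper7.EpiLocus

open Groth.Agent.Lib.helper11.IsoLocus Groth.Agent.Lib.helper11.FibLift
  Groth.Agent.Lib.helper16.FLF

variable {Y Y' : Scheme.{u}}

/-- a surjective linear map between free modules of the same finite rank is injective -/
theorem injective_of_surjective_of_finrank_eq {R : Type*} [CommRing R] [Nontrivial R]
    {M N : Type*} [AddCommGroup M] [Module R M] [AddCommGroup N] [Module R N]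
    [Module.Free R M] [Module.Finite R M] [Module.Free R N] [Module.Finite R N]
    (h : Module.finrank R M = Module.finrank R N) (f : M →ₗ[R] N) (hf : Function.Surjective f) :
    Function.Injective f := by
  obtain ⟨e⟩ := FiniteDimensional.nonempty_linearEquiv_of_finrank_eq h.symm
  have h1 : Function.Surjective (e.toLinearMap ∘ₗ f) := e.surjective.comp hf
  have h2 := OrzechProperty.injective_of_surjective_endomorphism _ h1
  intro a b hab
  exact h2 (by simp [hab])

theorem isZero_of_support_eq_empty (F : Y.Modules) (h : CohB1.support F = ∅) : IsZero F := by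
  apply Groth.Agent.Lib.Helper25.StalkExact.isZero_of_forall_stalk
  intro x
  have h1 : Subsingleton (F.presheaf.stalk x) := by
    by_contra hn
    have hmem : x ∈ CohB1.support F := hn
    rw [h] at hmem
    exact hmem
  have h2 : Subsingleton ((DerSch.stalkFunctor Y x).obj F) := h1
  exact ModuleCat.isZero_of_subsingleton _

/-- **an epimorphism between finite locally free modules of the same rank is an isomorphism** -/
theorem isIso_of_epi_of_isFinLocFreeOfRank {A B : Y.Modules} {r : ℕ}
    (hA : FlatMod.IsFinLocFreeOfRank r A) (hB : FlatMod.IsFinLocFreeOfRank r B)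
    (φ : A ⟶ B) [Epi φ] : IsIso φ := by
  haveI : Mono φ := by
    apply Groth.Agent.Lib.Helper25.StalkExact.mono_of_forall_stalk
    intro x
    let S := DerSch.stalkFunctor Y x
    have h2 : Epi (S.map φ) := inferInstance
    have h3 : Function.Surjective (S.map φ).hom := (ModuleCat.epi_iff_surjective _).1 h2
    have hfA := free_stalk_of_isFinLocFree A (isFinLocFree_of_isFinLocFreeOfRank hA) x
    have hfB := free_stalk_of_isFinLocFree B (isFinLocFree_of_isFinLocFreeOfRank hB) x
    haveI : Module.Free (Y.presheaf.stalk x) (S.obj A) := hfA.1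
    haveI : Module.Finite (Y.presheaf.stalk x) (S.obj A) := hfA.2
    haveI : Module.Free (Y.presheaf.stalk x) (S.obj B) := hfB.1
    haveI : Module.Finite (Y.presheaf.stalk x) (S.obj B) := hfB.2
    have hr : Module.finrank (Y.presheaf.stalk x) (S.obj A) =
        Module.finrank (Y.presheaf.stalk x) (S.obj B) :=
      (finrank_stalk_of_isFinLocFreeOfRank A hA x).trans
        (finrank_stalk_of_isFinLocFreeOfRank B hB x).symm
    rw [ModuleCat.mono_iff_injective]
    exact injective_of_surjective_of_finrank_eq hr (S.map φ).hom h3
  exact isIso_of_mono_of_epi φ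

/-- the pullback of `φ` is an epimorphism iff the image misses the support of the cokernel -/
theorem epi_pullback_iff (v : Y' ⟶ Y) {A B : Y.Modules} (hA : Coh.IsCoh A) (hB : Coh.IsCoh B)
    (φ : A ⟶ B) :
    Epi ((Scheme.Modules.pullback v).map φ) ↔
      Disjoint (Set.range v) (CohB1.support (cokernel φ)) := by
  have hQ : Coh.IsCoh (cokernel φ) := Groth.Agent.Lib.helper7.CohKer.isCoh_cokernel hA hB φ
  haveI : (cokernel φ).IsQuasicoherent := hQ.1
  have h1 := Groth.Agent.Lib.helper2.TensorSupp.support_pullback v (cokernel φ) hQ.2
  constructor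
  · intro hw
    have h2 : IsZero ((Scheme.Modules.pullback v).obj (cokernel φ)) := by
      have h3 : IsZero (cokernel ((Scheme.Modules.pullback v).map φ)) :=
        isZero_cokernel_of_epi _
      exact h3.of_iso (PreservesCokernel.iso (Scheme.Modules.pullback v) φ)
    rw [support_eq_empty_of_isZero _ h2] at h1
    rw [Set.disjoint_left]
    rintro _ ⟨y', rfl⟩ hy
    have : y' ∈ v ⁻¹' CohB1.support (cokernel φ) := hy
    rw [← h1] at this
    exact this
  · intro hd
    have h2 : CohB1.support ((Scheme.Modules.pullback v).obj (cokernel φ)) = ∅ := by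
      rw [h1]
      ext y'
      simp only [Set.mem_preimage, Set.mem_empty_iff_false, iff_false]
      intro hy
      exact Set.disjoint_left.mp hd ⟨y', rfl⟩ hy
    have h3 : IsZero (cokernel ((Scheme.Modules.pullback v).map φ)) :=
      (isZero_of_support_eq_empty _ h2).of_iso
        (PreservesCokernel.iso (Scheme.Modules.pullback v) φ).symm
    exact Preadditive.epi_of_isZero_cokernel _ h3

theorem isCoh_of_isFinLocFree {A : Y.Modules} (hA : FlatMod.IsFinLocFree A) : Coh.IsCoh A :=
  ⟨isQuasicoherent_of_isFinLocFree A hA,
    Groth.Agent.Lib.helper16.FLF.isFiniteType_of_isFinLocFree A hA⟩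

/-- **the locus where a map of finite locally free modules of the same rank pulls back to an
isomorphism** -/
theorem isIso_pullback_iff (v : Y' ⟶ Y) {A B : Y.Modules} {r : ℕ}
    (hA : FlatMod.IsFinLocFreeOfRank r A) (hB : FlatMod.IsFinLocFreeOfRank r B) (φ : A ⟶ B) :
    IsIso ((Scheme.Modules.pullback v).map φ) ↔
      Disjoint (Set.range v) (CohB1.support (cokernel φ)) := by
  rw [← epi_pullback_iff v (isCoh_of_isFinLocFree (isFinLocFree_of_isFinLocFreeOfRank hA))
    (isCoh_of_isFinLocFree (isFinLocFree_of_isFinLocFreeOfRank hB)) φ]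
  constructor
  · intro h; infer_instance
  · intro h
    exact isIso_of_epi_of_isFinLocFreeOfRank (isFinLocFreeOfRank_pullback v hA)
      (isFinLocFreeOfRank_pullback v hB) _

theorem isClosed_support_cokernel {A B : Y.Modules} (hA : FlatMod.IsFinLocFree A)
    (hB : FlatMod.IsFinLocFree B) (φ : A ⟶ B) : IsClosed (CohB1.support (cokernel φ)) :=
  Groth.Agent.Lib.helper8.Dev.isClosed_support_of_isCoh _
    (Groth.Agent.Lib.helper7.CohKer.isCoh_cokernel (isCoh_of_isFinLocFree hA)
      (isCoh_of_isFinLocFree hB) φ)

end Groth.Agent.Lib.helper7.EpiLocus
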