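import Mathlib
import Groth.Agent.Lib.Helper16.FLF6
import Groth.Agent.Lib.Helper25.StalkExact

/-!
# The pointwise rank of a finite locally free module (helper7)
-/

set_option autoImplicit false
set_option linter.style.haveILetI false
universe u
open CategoryTheory CategoryTheory.Limits AlgebraicGeometry Opposite TopologicalSpace
open Scheme.Modules

namespace Groth.Agent.Lib.helper7.RankPt

open Groth.Agent.Lib.helper16.FLF Groth.Agent.Lib.helper11.InvMod

variable {Y Y' : Scheme.{u}}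

/-- the rank of the stalk -/
noncomputable def rk (B : Y.Modules) (y : Y) : ℕ :=
  Module.finrank (Y.presheaf.stalk y) (B.presheaf.stalk y)

theorem rk_eq_of_restrict_iso (B : Y.Modules) (hB : FlatMod.IsFinLocFree B) {U : Y.Opens} (n : ℕ)
    (iso : B.restrict U.ι ≅ FlatMod.freeMod (↑U) n) (y : Y) (hy : y ∈ U) : rk B y = n := by
  haveI := isQuasicoherent_of_isFinLocFree B hB
  exact (free_stalk_of_restrict_iso_freeMod B n iso y hy).2

theorem isLocallyConstant_rk (B : Y.Modules) (hB : FlatMod.IsFinLocFree B) :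
    IsLocallyConstant (rk B) := by
  rw [IsLocallyConstant.iff_exists_open]
  intro y
  obtain ⟨U, n, hyU, ⟨iso⟩⟩ := hB y
  refine ⟨U, U.2, hyU, fun z hz => ?_⟩
  rw [rk_eq_of_restrict_iso B hB n iso z hz, rk_eq_of_restrict_iso B hB n iso y hyU]

theorem isFinLocFreeOfRank_iff_rk (B : Y.Modules) (hB : FlatMod.IsFinLocFree B) (r : ℕ) :
    FlatMod.IsFinLocFreeOfRank r B ↔ ∀ y : Y, rk B y = r :=
  isFinLocFreeOfRank_iff_finrank_stalk B hB

theorem rk_pullback (v : Y' ⟶ Y) (B : Y.Modules) (hB : FlatMod.IsFinLocFree B) (y' : Y') :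
    rk ((Scheme.Modules.pullback v).obj B) y' = rk B (v y') := by
  obtain ⟨U, n, hyU, ⟨iso⟩⟩ := hB (v y')
  rw [rk_eq_of_restrict_iso B hB n iso (v y') hyU]
  exact rk_eq_of_restrict_iso _ (isFinLocFree_pullback v hB) (U := v ⁻¹ᵁ U) n
    (pullbackRestrictIso v B U ≪≫ (Scheme.Modules.pullback (v ∣_ U)).mapIso iso ≪≫
      pullbackFreeModIso (v ∣_ U) n) y' hyU

theorem rk_of_iso {B B' : Y.Modules} (e : B ≅ B') (y : Y) : rk B y = rk B' y :=
  LinearEquiv.finrank_eq ((DerSch.stalkFunctor Y y).mapIso e).toLinearEquiv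

end Groth.Agent.Lib.helper7.RankPt
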