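import Mathlib
import Groth.Agent.Lib.Helper7.EpiLocus
import Groth.Agent.Lib.Helper7.RankPt

/-!
# The locus where a map from a rank `r` bundle to a bundle pulls back to an isomorphism (helper7)
-/

set_option autoImplicit false
set_option linter.style.haveILetI false
universe u
open CategoryTheory CategoryTheory.Limits AlgebraicGeometry Opposite TopologicalSpace
open Scheme.Modules

namespace Groth.Agent.Lib.helper7.EpiLocus

open Groth.Agent.Lib.helper16.FLF Groth.Agent.Lib.helper7.RankPt

variable {Y Y' : Scheme.{u}}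

/-- the locus where `φ` is not surjective or the target has rank different from `r` -/
def badLocus (r : ℕ) {A B : Y.Modules} (φ : A ⟶ B) : Set Y :=
  CohB1.support (cokernel φ) ∪ {y | rk B y ≠ r}

theorem isClosed_badLocus (r : ℕ) {A B : Y.Modules} (hA : FlatMod.IsFinLocFree A)
    (hB : FlatMod.IsFinLocFree B) (φ : A ⟶ B) : IsClosed (badLocus r φ) := by
  refine (isClosed_support_cokernel hA hB φ).union ?_
  have : {y | rk B y ≠ r} = (rk B ⁻¹' {r})ᶜ := rfl
  rw [this]
  exact ((isLocallyConstant_rk B hB) {r}).isClosed_compl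

theorem isIso_pullback_iff' (v : Y' ⟶ Y) {A B : Y.Modules} {r : ℕ}
    (hA : FlatMod.IsFinLocFreeOfRank r A) (hB : FlatMod.IsFinLocFree B) (φ : A ⟶ B) :
    IsIso ((Scheme.Modules.pullback v).map φ) ↔ Disjoint (Set.range v) (badLocus r φ) := by
  have hA' := isFinLocFree_of_isFinLocFreeOfRank hA
  have hepi := epi_pullback_iff v (isCoh_of_isFinLocFree hA') (isCoh_of_isFinLocFree hB) φ
  have hvA := isFinLocFreeOfRank_pullback v hA
  have hvB := isFinLocFree_pullback v hB
  unfold badLocus
  rw [Set.disjoint_union_right]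
  constructor
  · intro h
    refine ⟨hepi.mp inferInstance, ?_⟩
    rw [Set.disjoint_left]
    rintro _ ⟨y', rfl⟩ hy
    apply hy
    rw [← rk_pullback v B hB y', ← rk_of_iso (asIso ((Scheme.Modules.pullback v).map φ)) y']
    exact (isFinLocFreeOfRank_iff_rk _ (isFinLocFree_of_isFinLocFreeOfRank hvA) r).mp hvA y'
  · rintro ⟨h1, h2⟩
    haveI : Epi ((Scheme.Modules.pullback v).map φ) := hepi.mpr h1
    have hvB' : FlatMod.IsFinLocFreeOfRank r ((Scheme.Modules.pullback v).obj B) := by
      rw [isFinLocFreeOfRank_iff_rk _ hvB]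
      intro y'
      rw [rk_pullback v B hB y']
      by_contra hne
      exact Set.disjoint_left.mp h2 ⟨y', rfl⟩ hne
    exact isIso_of_epi_of_isFinLocFreeOfRank hvA hvB' _

end Groth.Agent.Lib.helper7.EpiLocus
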