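import Mathlib
import Groth.Agent.Lib.Helper7.DescQS
import Groth.Agent.Lib.Helper7.EpiLocus2

/-!
# The locus where a vector bundle descends to a rank `r` bundle on the base (helper7)
-/

set_option autoImplicit false
set_option linter.style.haveILetI false
universe u
open CategoryTheory CategoryTheory.Limits AlgebraicGeometry Opposite TopologicalSpace

namespace Groth.Agent.Lib.helper7.DescRank

open Groth.Agent.Lib.helper16.FLF Groth.Agent.Lib.helper7.RankPt
  Groth.Agent.Lib.helper7.EpiLocus Groth.Agent.Lib.helper7.DescQS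
  Groth.Agent.Lib.helper7.DescBC Groth.Agent.Lib.helper7.BCUnit

variable {X S : Scheme.{u}} (f : X ⟶ S)

theorem isIso_app_comp_iso {A B C : Scheme.{u}} (i : A ⟶ B) [IsIso i] (q : B ⟶ C) (W : C.Opens)
    [hq : IsIso (q.app W)] : IsIso ((i ≫ q).app W) := by
  rw [Scheme.Hom.comp_app]
  have hi : IsIso (i.app (q ⁻¹ᵁ W)) := inferInstance
  exact @IsIso.comp_isIso _ _ _ _ _ _ _ hq hi

/-- `O = p_* O` for every model of a base change of `f` -/
theorem isIso_app_of_isPullback
    (hO : ∀ (T : Scheme.{u}) (g : T ⟶ S) (U : T.Opens), IsIso ((pullback.snd f g).app U))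
    {Y T : Scheme.{u}} {v : Y ⟶ X} {p : Y ⟶ T} {u : T ⟶ S} (sq : IsPullback v p f u)
    (W : T.Opens) : IsIso (p.app W) := by
  have h1 : p = sq.isoPullback.hom ≫ pullback.snd f u := (sq.isoPullback_hom_snd).symm
  rw [h1]
  haveI := hO T u W
  exact isIso_app_comp_iso _ _ W

/-- the comparison square for `h : T ⟶ Z` -/
theorem exists_square {Z T : Scheme.{u}} (ι : Z ⟶ S) (h : T ⟶ Z) :
    ∃ v' : pullback f (h ≫ ι) ⟶ pullback f ι,
      IsPullback v' (pullback.snd f (h ≫ ι)) (pullback.snd f ι) h ∧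
        v' ≫ pullback.fst f ι = pullback.fst f (h ≫ ι) := by
  have hc : pullback.fst f (h ≫ ι) ≫ f = (pullback.snd f (h ≫ ι) ≫ h) ≫ ι := by
    rw [pullback.condition, Category.assoc]
  refine ⟨pullback.lift (pullback.fst f (h ≫ ι)) (pullback.snd f (h ≫ ι) ≫ h) hc, ?_,
    pullback.lift_fst _ _ _⟩
  refine IsPullback.of_right ?_ (pullback.lift_snd _ _ _) (IsPullback.of_hasPullback f ι)
  rw [pullback.lift_fst]
  exact IsPullback.of_hasPullback f (h ≫ ι)

/-- surjectivity on points of a cartesian square -/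
theorem exists_preimage_of_isPullback {A B C D : Scheme.{u}} {a : A ⟶ B} {b : A ⟶ C} {c : B ⟶ D}
    {d : C ⟶ D} (sq : IsPullback a b c d) (x : B) (y : C) (hxy : c x = d y) :
    ∃ z : A, a z = x ∧ b z = y := by
  obtain ⟨z, hz1, hz2⟩ := Scheme.Pullback.exists_preimage_pullback x y hxy
  refine ⟨sq.isoPullback.inv z, ?_, ?_⟩
  · rw [← Scheme.Hom.comp_apply, sq.isoPullback_inv_fst]; exact hz1
  · rw [← Scheme.Hom.comp_apply, sq.isoPullback_inv_snd]; exact hz2

/-- a set-theoretic fact on cartesian squares -/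
theorem disjoint_range_iff {A B C D : Scheme.{u}} {a : A ⟶ B} {b : A ⟶ C} {c : B ⟶ D}
    {d : C ⟶ D} (sq : IsPullback a b c d) (W : Set B) :
    Disjoint (Set.range a) W ↔ Set.range d ⊆ (c '' W)ᶜ := by
  constructor
  · rintro hd _ ⟨t, rfl⟩ ⟨y, hyW, hy⟩
    obtain ⟨z, hz1, -⟩ := exists_preimage_of_isPullback sq y t hy
    exact Set.disjoint_left.mp hd ⟨z, hz1⟩ hyW
  · intro hr
    rw [Set.disjoint_left]
    rintro _ ⟨z, rfl⟩ hW
    have h1 : c (a z) = d (b z) := by
      rw [← Scheme.Hom.comp_apply, ← Scheme.Hom.comp_apply, sq.w]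
    exact hr ⟨b z, rfl⟩ ⟨a z, hW, h1⟩

section main

variable (hO : ∀ (T : Scheme.{u}) (g : T ⟶ S) (U : T.Opens), IsIso ((pullback.snd f g).app U))
  (E : X.Modules) (hE : FlatMod.IsFinLocFree E) (r : ℕ)

/-- the pullback of `E` to `X_T` is the pullback of a bundle of rank `r` on `T` -/
def PR (T : Scheme.{u}) (u : T ⟶ S) : Prop :=
  ∃ N : T.Modules, FlatMod.IsFinLocFreeOfRank r N ∧
    Nonempty ((Scheme.Modules.pullback (pullback.snd f u)).obj N ≅
      (Scheme.Modules.pullback (pullback.fst f u)).obj E)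

/-- the direct image of the pullback of `E` to `X_T` is a bundle of rank `r`, universally -/
def AR (T : Scheme.{u}) (u : T ⟶ S) : Prop :=
  FlatMod.IsFinLocFreeOfRank r
      ((Scheme.Modules.pushforward (pullback.snd f u)).obj
        ((Scheme.Modules.pullback (pullback.fst f u)).obj E)) ∧
    ∀ ⦃X'' T' : Scheme.{u}⦄ (v' : X'' ⟶ pullback f u) (f'' : X'' ⟶ T') (u' : T' ⟶ T)
      (h : IsPullback v' f'' (pullback.snd f u) u'),
      IsIso (CohBC.bc0 (pullback.snd f u) u' f'' v' h.w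
        ((Scheme.Modules.pullback (pullback.fst f u)).obj E))

include hO in
theorem AR_of_PR {T : Scheme.{u}} {u : T ⟶ S} (hP : PR f E r T u) : AR f E r T u := by
  obtain ⟨N, hN, ⟨e⟩⟩ := hP
  have hN' := isFinLocFree_of_isFinLocFreeOfRank hN
  refine ⟨isFinLocFreeOfRank_of_iso (pushIso (pullback.snd f u) (hO T u) N hN' _ e) hN, ?_⟩
  intro X'' T' v' f'' u' h
  have sq'' : IsPullback (v' ≫ pullback.fst f u) f'' f (u' ≫ u) :=
    h.paste_horiz (IsPullback.of_hasPullback f u)
  exact isIso_bc0_of_iso (pullback.snd f u) u' f'' v' h.w (hO T u)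
    (fun W => isIso_app_of_isPullback f hO sq'' W) N hN' _ e

include hO hE in
/-- **the open part of the rank `r` stratum of `f_* E` over which `E` descends** -/
theorem exists_open_rank [IsProper f] {Z : Scheme.{u}} (ι : Z ⟶ S)
    (hZ : ∀ (T : Scheme.{u}) (u : T ⟶ S), (∃ u' : T ⟶ Z, u' ≫ ι = u) ↔ AR f E r T u) :
    ∃ V : Z.Opens, ∀ (T : Scheme.{u}) (u : T ⟶ S),
      (∃ u' : T ⟶ V, u' ≫ (V.ι ≫ ι) = u) ↔ PR f E r T u := by
  have hA : AR f E r Z ι := (hZ Z ι).mp ⟨𝟙 Z, Category.id_comp ι⟩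
  set p := pullback.snd f ι with hp
  set EZ := (Scheme.Modules.pullback (pullback.fst f ι)).obj E with hEZdef
  set NZ := (Scheme.Modules.pushforward p).obj EZ with hNZdef
  have hNZ : FlatMod.IsFinLocFreeOfRank r NZ := hA.1
  let φ : (Scheme.Modules.pullback p).obj NZ ⟶ EZ :=
    (Scheme.Modules.pullbackPushforwardAdjunction p).counit.app EZ
  have hEZ : FlatMod.IsFinLocFree EZ := isFinLocFree_pullback _ hE
  have hpN : FlatMod.IsFinLocFreeOfRank r ((Scheme.Modules.pullback p).obj NZ) :=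
    isFinLocFreeOfRank_pullback p hNZ
  have hW : IsClosed (badLocus r φ) :=
    isClosed_badLocus r (isFinLocFree_of_isFinLocFreeOfRank hpN) hEZ φ
  have hcl : IsClosedMap p := p.isClosedMap
  refine ⟨⟨(p '' badLocus r φ)ᶜ, (hcl _ hW).isOpen_compl⟩, fun T u => ?_⟩
  -- the key equivalence for `h : T ⟶ Z`
  have key : ∀ (h : T ⟶ Z) (v' : pullback f (h ≫ ι) ⟶ pullback f ι)
      (sq : IsPullback v' (pullback.snd f (h ≫ ι)) p h),
      IsIso ((Scheme.Modules.pullback v').map φ) ↔ Set.range h ⊆ (p '' badLocus r φ)ᶜ := by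
    intro h v' sq
    rw [isIso_pullback_iff' v' hpN hEZ φ]
    exact disjoint_range_iff sq _
  constructor
  · rintro ⟨u', hu'⟩
    have hu : (u' ≫ Scheme.Opens.ι _) ≫ ι = u := by rw [Category.assoc]; exact hu'
    subst hu
    set h := u' ≫ Scheme.Opens.ι _ with hh
    obtain ⟨v', sq, hv'⟩ := exists_square f ι h
    have hr : Set.range h ⊆ (p '' badLocus r φ)ᶜ := by
      rintro _ ⟨t, rfl⟩
      exact (u' t).2
    haveI := (key h v' sq).mpr hr
    refine ⟨(Scheme.Modules.pullback h).obj NZ, isFinLocFreeOfRank_pullback h hNZ, ⟨?_⟩⟩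
    exact (sqIso p h (pullback.snd f (h ≫ ι)) v' sq.w).app NZ ≪≫
      asIso ((Scheme.Modules.pullback v').map φ) ≪≫
      (Scheme.Modules.pullbackComp v' (pullback.fst f ι)).app E ≪≫
      (Scheme.Modules.pullbackCongr hv').app E
  · intro hP
    obtain ⟨h, hh⟩ := (hZ T u).mpr (AR_of_PR f hO E r hP)
    subst hh
    obtain ⟨v', sq, hv'⟩ := exists_square f ι h
    haveI hbc := hA.2 v' (pullback.snd f (h ≫ ι)) h sq
    obtain ⟨N, hN, ⟨e⟩⟩ := hP
    have hd : Desc (pullback.snd f (h ≫ ι)) ((Scheme.Modules.pullback v').obj EZ) :=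
      ⟨N, isFinLocFree_of_isFinLocFreeOfRank hN, ⟨e ≪≫
        ((Scheme.Modules.pullbackComp v' (pullback.fst f ι)).app E ≪≫
          (Scheme.Modules.pullbackCongr hv').app E).symm⟩⟩
    haveI := (QS_of_desc (hO T (h ≫ ι)) hd).2
    have h1 := bc0_counit p h (pullback.snd f (h ≫ ι)) v' sq.w EZ
    have h2 : IsIso ((sqIso p h (pullback.snd f (h ≫ ι)) v' sq.w).hom.app
        ((Scheme.Modules.pushforward p).obj EZ) ≫ (Scheme.Modules.pullback v').map φ) := by
      rw [← h1]; infer_instance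
    have h3 : IsIso ((Scheme.Modules.pullback v').map φ) :=
      IsIso.of_isIso_comp_left ((sqIso p h (pullback.snd f (h ≫ ι)) v' sq.w).hom.app
        ((Scheme.Modules.pushforward p).obj EZ)) _
    have hr := (key h v' sq).mp h3
    have hr' : Set.range h ⊆ Set.range (Scheme.Opens.ι
        (⟨(p '' badLocus r φ)ᶜ, (hcl _ hW).isOpen_compl⟩ : Z.Opens)) := by
      rw [Scheme.Opens.range_ι]
      exact hr
    exact ⟨IsOpenImmersion.lift _ h hr', by rw [← Category.assoc, IsOpenImmersion.lift_fac]⟩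

end main

end Groth.Agent.Lib.helper7.DescRank
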