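import Mathlib
import Groth.Agent.Lib.Helper7.CubeK
import Groth.Agent.Lib.Helper7.CubeFin
import Groth.Agent.Lib.Helper7.DescRank
import Groth.Agent.Lib.Helper21.UfdPic2

/-!
# The local crux of the theorem of the cube, assembled (helper7)

`claimK`: `R` local, `t : R` with `ann t = m`; `f : X ⟶ Spec R`, `g : Y ⟶ Spec R` flat, separated, `X` quasi-compact,
with `O_T → (·_T)_* O` universally an isomorphism, sections `sX`, `τ`; `W = X ×_R Y`; `L` invertible on `W`, trivial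
along `u = (id, τ f)` and `v` (a section of `p`), and trivial on `W ⊗ R/(t)`.  Then `L` is trivial.
-/

set_option autoImplicit false
universe u
open CategoryTheory CategoryTheory.Limits AlgebraicGeometry TopologicalSpace Opposite
open Scheme.Modules

namespace Groth.Agent.Lib.helper7.CubeMain

open Groth.Agent.Lib.helper8.FlatCohBC Groth.Agent.Lib.Helper18.InvGen
open Groth.Agent.Lib.helper7.CubeLift Groth.Agent.Lib.helper11.InvMod

/-- a trivialisation gives a stalkwise generator -/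
theorem exists_isGen_of_iso {Z : Scheme.{u}} (M : Z.Modules)
    (h : Nonempty (M ≅ Coh.structureModule Z)) : ∃ e : Γ(M, ⊤), IsGen M ⊤ e := by
  obtain ⟨s, hs⟩ := Groth.Agent.Lib.helper21.UfdPic.exists_generator_of_isTrivOn M ⊤
    (isTrivOn_top_iff.mpr h)
  exact ⟨s, isGen_of_forall_bijective M ⊤ s hs⟩

/-- global functions are constants, from the universal Stein property -/
theorem exists_eq_secAlg {R : Type u} [CommRing R] {Y : Scheme.{u}}
    (g : Y ⟶ Spec (CommRingCat.of R)) (h : IsIso (g.app ⊤)) (r : Γ(Y, ⊤)) :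
    ∃ ρ : R, r = secAlg g ⊤ ρ := by
  have hb : Function.Bijective (g.app ⊤).hom := ConcreteCategory.bijective_of_isIso (g.app ⊤)
  obtain ⟨x, hx⟩ := hb.2 r
  refine ⟨(Scheme.ΓSpecIso (CommRingCat.of R)).hom.hom x, ?_⟩
  have h1 : (Scheme.ΓSpecIso (CommRingCat.of R)).inv.hom
      ((Scheme.ΓSpecIso (CommRingCat.of R)).hom.hom x) = x :=
    congr($((Scheme.ΓSpecIso (CommRingCat.of R)).hom_inv_id).hom x)
  change r = (Y.presheaf.map (𝟙 (op ⊤))).hom (g.appTop.hom
    ((Scheme.ΓSpecIso (CommRingCat.of R)).inv.hom ((Scheme.ΓSpecIso (CommRingCat.of R)).hom.hom x)))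
  rw [h1, CategoryTheory.Functor.map_id]
  exact hx.symm

/-- **The local crux of the theorem of the cube.** -/
theorem claimK {R : Type u} [CommRing R] [IsLocalRing R] (t : R)
    (ht : ∀ a : R, a * t = 0 ↔ a ∈ IsLocalRing.maximalIdeal R)
    (htm : t ∈ IsLocalRing.maximalIdeal R)
    {X Y W W₁ : Scheme.{u}} (f : X ⟶ Spec (CommRingCat.of R)) (g : Y ⟶ Spec (CommRingCat.of R))
    (q : W ⟶ X) (p : W ⟶ Y) (hW : IsPullback q p f g)
    [Flat f] [Flat g] [IsSeparated f] [IsSeparated g] [CompactSpace X]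
    (hOf : ∀ (T : Scheme.{u}) (c : T ⟶ Spec (CommRingCat.of R)) (U : T.Opens),
      IsIso ((pullback.snd f c).app U))
    (hOg : ∀ (T : Scheme.{u}) (c : T ⟶ Spec (CommRingCat.of R)) (U : T.Opens),
      IsIso ((pullback.snd g c).app U))
    (sX : Spec (CommRingCat.of R) ⟶ X) (hsX : sX ≫ f = 𝟙 _)
    (τ : Spec (CommRingCat.of R) ⟶ Y) (hτ : τ ≫ g = 𝟙 _)
    (u : X ⟶ W) (hu1 : u ≫ q = 𝟙 X) (hu2 : u ≫ p = f ≫ τ)
    (v : Y ⟶ W) (hv2 : v ≫ p = 𝟙 Y)
    (L : W.Modules) (hL : PicF.IsInvertible L)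
    (hu : Nonempty ((Scheme.Modules.pullback u).obj L ≅ Coh.structureModule X))
    (hv : Nonempty ((Scheme.Modules.pullback v).obj L ≅ Coh.structureModule Y))
    (h₁ : W₁ ⟶ Spec (CommRingCat.of (R ⧸ Ideal.span {t}))) (j : W₁ ⟶ W)
    (hj : IsPullback j h₁ (p ≫ g)
      (Spec.map (CommRingCat.ofHom (algebraMap R (R ⧸ Ideal.span {t})))))
    (h1 : Nonempty ((Scheme.Modules.pullback j).obj L ≅ Coh.structureModule W₁)) :
    Nonempty (L ≅ Coh.structureModule W) := by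
  haveI : L.IsQuasicoherent := Groth.Agent.Lib.helper16.FLF.isQuasicoherent_of_isFinLocFree L
    (Groth.Agent.Lib.helper16.FLF.isFinLocFree_of_isInvertible hL)
  obtain ⟨e₁, he₁⟩ := exists_isGen_of_iso _ h1
  obtain ⟨eM, heM⟩ := exists_isGen_of_iso _ hu
  -- the thickening of `X`
  let φ := Spec.map (CommRingCat.ofHom (algebraMap R (R ⧸ Ideal.span {t})))
  have hjX : IsPullback (pullback.fst f φ) (pullback.snd f φ) f φ := IsPullback.of_hasPullback f φ
  have hO1 : ∀ ω : Γ(pullback f φ, ⊤), ∃ ε : R, ω = secAlg (pullback.fst f φ ≫ f) ⊤ ε := by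
    intro ω
    obtain ⟨ρ, hρ⟩ := exists_eq_secAlg (pullback.snd f φ) (hOf _ φ ⊤) ω
    obtain ⟨ε, rfl⟩ := Ideal.Quotient.mk_surjective ρ
    refine ⟨ε, ?_⟩
    rw [hρ, hjX.w]
    -- `secAlg (snd ≫ φ) ⊤ ε = secAlg snd ⊤ (mk ε)`
    have h3 := Scheme.ΓSpecIso_inv_naturality
      (CommRingCat.ofHom (algebraMap R (R ⧸ Ideal.span {t})))
    have h4 := congr($(h3).hom ε)
    change (pullback f φ).presheaf.map (𝟙 (op ⊤)) ((pullback.snd f φ).appTop.hom
      ((Scheme.ΓSpecIso (CommRingCat.of (R ⧸ Ideal.span {t}))).inv.hom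
        (algebraMap R (R ⧸ Ideal.span {t}) ε))) =
      (pullback f φ).presheaf.map (𝟙 (op ⊤)) ((pullback.snd f φ ≫ φ).appTop.hom
        ((Scheme.ΓSpecIso (CommRingCat.of R)).inv.hom ε))
    rw [Scheme.Hom.comp_appTop]
    exact congrArg (fun z => ((pullback f φ).presheaf.map (𝟙 (op ⊤))).hom
      ((pullback.snd f φ).appTop.hom z)) h4
  have hOg' : ∀ r : Γ(Y, ⊤), ∃ ρ : R, r = secAlg g ⊤ ρ := fun r =>
    exists_eq_secAlg g (Groth.Agent.Lib.helper7.DescRank.isIso_app_of_isPullback g hOg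
      (IsPullback.id_horiz g) ⊤) r
  have hOp : ∀ V : Y.Opens, IsIso (p.app V) := fun V =>
    Groth.Agent.Lib.helper7.DescRank.isIso_app_of_isPullback f hOf hW V
  have htriv : ∀ y : Y, ∃ V : Y.Opens, y ∈ V ∧ IsTrivOn L (p ⁻¹ᵁ V) := by
    intro y
    obtain ⟨_, ⟨V, hV, rfl⟩, hyV, -⟩ := Y.isBasis_affineOpens.exists_subset_of_mem_open
      (Set.mem_univ y) isOpen_univ
    exact ⟨V, hyV, Groth.Agent.Lib.helper7.CubeK.isTrivOn_preimage hW hτ hu1 hu2 L h₁ hj
      (pullback.snd f φ) hjX ht htm hL he₁ hO1 hOg' eM heM sX hsX V hV⟩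
  exact Groth.Agent.Lib.helper7.CubeFin.nonempty_iso_of_isTrivOn_preimage p hOp L htriv v hv2 hv

end Groth.Agent.Lib.helper7.CubeMain
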