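import Mathlib
import Groth.Agent.Lib.Helper7.DescRank
import Groth.Agent.Lib.Helper14.ConnDomain

/-!
# Fibres and ranks for the descent locus (helper7)
-/

set_option autoImplicit false
set_option linter.style.haveILetI false
universe u
open CategoryTheory CategoryTheory.Limits AlgebraicGeometry Opposite TopologicalSpace

namespace Groth.Agent.Lib.helper7.DescFib

open Groth.Agent.Lib.helper16.FLF Groth.Agent.Lib.helper7.RankPt
  Groth.Agent.Lib.helper7.DescRank

variable {X S : Scheme.{u}} (f : X ⟶ S)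
  (hO : ∀ (T : Scheme.{u}) (g : T ⟶ S) (U : T.Opens), IsIso ((pullback.snd f g).app U))
  (E : X.Modules) (hE : FlatMod.IsFinLocFree E)

include hO in
/-- the fibres of `f` are connected -/
theorem connectedSpace_fiber (s : S) : ConnectedSpace (f.fiber s) := by
  haveI h1 : IsIso ((pullback.snd f (S.fromSpecResidueField s)).app ⊤) := hO _ _ ⊤
  let e1 : Γ(Spec (S.residueField s), ⊤) ≅ Γ(f.fiber s, ⊤) :=
    @asIso _ _ _ _ ((pullback.snd f (S.fromSpecResidueField s)).app ⊤) h1
  let e2 := (Scheme.ΓSpecIso (S.residueField s)).symm ≪≫ e1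
  haveI : IsDomain Γ(f.fiber s, ⊤) :=
    MulEquiv.isDomain (S.residueField s) e2.commRingCatIsoToRingEquiv.symm.toMulEquiv
  exact Groth.Agent.Lib.Helper14.ConnDomain.connectedSpace_of_isDomain _

include hO in
theorem surjective_of_hO (s : S) : ∃ x : X, f x = s := by
  haveI := connectedSpace_fiber f hO s
  obtain ⟨z⟩ : Nonempty (f.fiber s) := inferInstance
  have h : f.fiberι s z ∈ Set.range (f.fiberι s) := ⟨z, rfl⟩
  rw [Scheme.Hom.range_fiberι] at h
  exact ⟨_, h⟩

include hO hE in
/-- the rank of `E` is constant along the fibres of `f` -/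
theorem rk_eq_of_eq {x x' : X} (h : f x = f x') : rk E x = rk E x' := by
  haveI := connectedSpace_fiber f hO (f x')
  have hx : x ∈ Set.range (f.fiberι (f x')) := by
    rw [Scheme.Hom.range_fiberι]; exact h
  have hx' : x' ∈ Set.range (f.fiberι (f x')) := by
    rw [Scheme.Hom.range_fiberι]; rfl
  obtain ⟨z, rfl⟩ := hx
  obtain ⟨z', hz'⟩ := hx'
  have hlc : IsLocallyConstant (rk E ∘ (f.fiberι (f x'))) :=
    (isLocallyConstant_rk E hE).comp_continuous (f.fiberι (f x')).continuous
  have := hlc.apply_eq_of_preconnectedSpace z z'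
  exact this.trans (congrArg (rk E) hz')

/-- the open set of points over which `E` has rank `r` -/
def rankOpen [IsProper f] (hE : FlatMod.IsFinLocFree E) (r : ℕ) : S.Opens :=
  ⟨(f '' {x | rk E x ≠ r})ᶜ, by
    have h1 : IsClosed {x | rk E x ≠ r} := by
      have : {x | rk E x ≠ r} = (rk E ⁻¹' {r})ᶜ := rfl
      rw [this]
      exact ((isLocallyConstant_rk E hE) {r}).isClosed_compl
    exact (f.isClosedMap _ h1).isOpen_compl⟩

theorem mem_rankOpen_iff [IsProper f] (r : ℕ) (s : S) :
    s ∈ rankOpen f E hE r ↔ ∀ x : X, f x = s → rk E x = r := by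
  change s ∉ f '' {x | rk E x ≠ r} ↔ _
  constructor
  · intro h x hx
    by_contra hne
    exact h ⟨x, hne, hx⟩
  · rintro h ⟨x, hne, hx⟩
    exact hne (h x hx)

include hO in
theorem iSup_rankOpen [IsProper f] : ⨆ r, rankOpen f E hE r = ⊤ := by
  rw [eq_top_iff]
  intro s _
  obtain ⟨x₀, hx₀⟩ := surjective_of_hO f hO s
  rw [Opens.mem_iSup]
  refine ⟨rk E x₀, (mem_rankOpen_iff f E hE _ s).mpr fun x hx => ?_⟩
  exact rk_eq_of_eq f hO E hE (hx.trans hx₀.symm)

include hO in
theorem disjoint_rankOpen [IsProper f] {r r' : ℕ} (h : r ≠ r') :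
    Disjoint (rankOpen f E hE r) (rankOpen f E hE r') := by
  rw [disjoint_iff, eq_bot_iff]
  rintro s ⟨h1, h2⟩
  obtain ⟨x₀, hx₀⟩ := surjective_of_hO f hO s
  exact h (((mem_rankOpen_iff f E hE r s).mp h1 x₀ hx₀).symm.trans
    ((mem_rankOpen_iff f E hE r' s).mp h2 x₀ hx₀))

include hE in
/-- if the pullback of `E` descends to a bundle of rank `r` on `T`, then `E` has rank `r` over
the image of `T` -/
theorem PR_rank {r : ℕ} {T : Scheme.{u}} {u : T ⟶ S} (hP : PR f E r T u) (t : T) (x : X)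
    (hx : f x = u t) : rk E x = r := by
  obtain ⟨N, hN, ⟨e⟩⟩ := hP
  obtain ⟨y, hy1, hy2⟩ := Scheme.Pullback.exists_preimage_pullback x t hx
  have hN' := isFinLocFree_of_isFinLocFreeOfRank hN
  rw [← hy1, ← rk_pullback (pullback.fst f u) E hE y, ← rk_of_iso e y,
    rk_pullback (pullback.snd f u) N hN' y]
  exact (isFinLocFreeOfRank_iff_rk N hN' r).mp hN _

include hE in
theorem PR_range_subset [IsProper f] {r : ℕ} {T : Scheme.{u}} {u : T ⟶ S} (hP : PR f E r T u) :
    Set.range u ⊆ rankOpen f E hE r := by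
  rintro _ ⟨t, rfl⟩
  exact (mem_rankOpen_iff f E hE r _).mpr fun x hx => PR_rank f E hE hP t x hx

end Groth.Agent.Lib.helper7.DescFib
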