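import Mathlib

/-!
# Disjoint unions of immersions with separated images (helper7)

For a family of morphisms `js i : Zs i ⟶ S` whose images lie in pairwise disjoint opens `U i`
covering `S`, the induced morphism `∐ Zs ⟶ S` is an immersion (resp. quasi-compact) if every `js i`
is; and a morphism `g : T ⟶ S` factors through it as soon as it does so locally on an open cover.
-/

set_option autoImplicit false
universe u
open CategoryTheory CategoryTheory.Limits AlgebraicGeometry Opposite TopologicalSpace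

namespace Groth.Agent.Lib.helper7.SigmaImm

variable {S : Scheme.{u}} {σ : Type} [Small.{u} σ] (Zs : σ → Scheme.{u}) (js : ∀ i, Zs i ⟶ S)
  (U : σ → S.Opens)

theorem exists_sigmaι_eq (w : ↑(∐ Zs)) : ∃ (i : σ) (z : Zs i), Sigma.ι Zs i z = w := by
  obtain ⟨i, z, h⟩ := (AlgebraicGeometry.sigmaOpenCover Zs).exists_eq w
  exact ⟨i, z, h⟩

theorem sigmaDesc_ι_apply (i : σ) (z : Zs i) : Sigma.desc js (Sigma.ι Zs i z) = js i z := by
  rw [← Scheme.Hom.comp_apply, Sigma.ι_desc]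

variable (hdisj : ∀ i i', i ≠ i' → Disjoint (U i) (U i'))
  (hr : ∀ i, Set.range (js i) ⊆ U i)

include hdisj hr in
theorem range_sigmaι_eq (i : σ) :
    Set.range (Sigma.ι Zs i) = Set.range ((Sigma.desc js) ⁻¹ᵁ (U i)).ι := by
  rw [Scheme.Opens.range_ι]
  ext w
  constructor
  · rintro ⟨z, rfl⟩
    change Sigma.desc js (Sigma.ι Zs i z) ∈ U i
    rw [sigmaDesc_ι_apply]
    exact hr i ⟨z, rfl⟩
  · intro hw
    obtain ⟨i', z, rfl⟩ := exists_sigmaι_eq Zs w
    have h1 : Sigma.desc js (Sigma.ι Zs i' z) ∈ U i := hw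
    rw [sigmaDesc_ι_apply] at h1
    have h2 : js i' z ∈ U i' := hr i' ⟨z, rfl⟩
    by_cases hii : i = i'
    · subst hii; exact ⟨z, rfl⟩
    · exact absurd h2 (Set.disjoint_left.mp
        ((Opens.coe_disjoint).mpr (hdisj i i' hii)) h1)

include hdisj hr in
/-- the restriction of `∐ Zs ⟶ S` over `U i` is `js i` -/
theorem exists_iso_restrict (i : σ) :
    ∃ a : Zs i ≅ ↑((Sigma.desc js) ⁻¹ᵁ (U i)),
      ((Sigma.desc js) ⁻¹ᵁ (U i)).ι ≫ Sigma.desc js = a.inv ≫ js i := by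
  let a := IsOpenImmersion.isoOfRangeEq (Sigma.ι Zs i) ((Sigma.desc js) ⁻¹ᵁ (U i)).ι
    (range_sigmaι_eq Zs js U hdisj hr i)
  refine ⟨a, ?_⟩
  rw [← IsOpenImmersion.isoOfRangeEq_inv_fac (Sigma.ι Zs i) ((Sigma.desc js) ⁻¹ᵁ (U i)).ι
    (range_sigmaι_eq Zs js U hdisj hr i), Category.assoc, Sigma.ι_desc]

include hdisj hr in
theorem isImmersion_sigmaDesc (hU : ⨆ i, U i = ⊤) [∀ i, IsImmersion (js i)] :
    IsImmersion (Sigma.desc js) := by
  rw [IsZariskiLocalAtTarget.iff_of_iSup_eq_top (P := @IsImmersion) U hU]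
  intro i
  obtain ⟨a, ha⟩ := exists_iso_restrict Zs js U hdisj hr i
  haveI : IsImmersion ((Sigma.desc js ∣_ U i) ≫ (U i).ι) := by
    rw [morphismRestrict_ι, ha]
    infer_instance
  exact IsImmersion.of_comp (Sigma.desc js ∣_ U i) (U i).ι

include hdisj hr in
theorem quasiCompact_sigmaDesc (hU : ⨆ i, U i = ⊤) [∀ i, QuasiCompact (js i)] :
    QuasiCompact (Sigma.desc js) := by
  rw [IsZariskiLocalAtTarget.iff_of_iSup_eq_top (P := @QuasiCompact) U hU]
  intro i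
  obtain ⟨a, ha⟩ := exists_iso_restrict Zs js U hdisj hr i
  haveI : QuasiCompact ((Sigma.desc js ∣_ U i) ≫ (U i).ι) := by
    rw [morphismRestrict_ι, ha]
    infer_instance
  exact QuasiCompact.of_comp (Sigma.desc js ∣_ U i) (U i).ι

/-- gluing local factorizations -/
theorem exists_lift_of_cover [Mono (Sigma.desc js)] {T : Scheme.{u}} (g : T ⟶ S)
    (Tr : σ → T.Opens) (hT : ⨆ i, Tr i = ⊤) (a : ∀ i, ↑(Tr i) ⟶ Zs i)
    (ha : ∀ i, a i ≫ js i = (Tr i).ι ≫ g) : ∃ g' : T ⟶ ∐ Zs, g' ≫ Sigma.desc js = g := by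
  let 𝒰 := T.openCoverOfIsOpenCover Tr hT
  have hf : ∀ x y : σ, pullback.fst (𝒰.f x) (𝒰.f y) ≫ (a x ≫ Sigma.ι Zs x) =
      pullback.snd (𝒰.f x) (𝒰.f y) ≫ (a y ≫ Sigma.ι Zs y) := by
    intro x y
    rw [← cancel_mono (Sigma.desc js)]
    simp only [Category.assoc, Sigma.ι_desc]
    have e1 : pullback.fst (𝒰.f x) (𝒰.f y) ≫ a x ≫ js x =
        pullback.fst (𝒰.f x) (𝒰.f y) ≫ (Tr x).ι ≫ g := congrArg _ (ha x)
    have e2 : pullback.snd (𝒰.f x) (𝒰.f y) ≫ a y ≫ js y =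
        pullback.snd (𝒰.f x) (𝒰.f y) ≫ (Tr y).ι ≫ g := congrArg _ (ha y)
    rw [e1, e2]
    exact pullback.condition_assoc _
  refine ⟨𝒰.glueMorphisms (fun i => a i ≫ Sigma.ι Zs i) hf, ?_⟩
  refine 𝒰.hom_ext _ _ (fun i => ?_)
  rw [Scheme.Cover.ι_glueMorphisms_assoc, Category.assoc, Sigma.ι_desc]
  exact ha i

end Groth.Agent.Lib.helper7.SigmaImm
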