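import Mathlib
import Groth.Agent.Lib.Helper7.DescFib
import Groth.Agent.Lib.Helper7.SigmaImm

/-!
# The locus where a vector bundle descends to the base: assembly over the ranks (helper7)
-/

set_option autoImplicit false
set_option linter.style.haveILetI false
universe u
open CategoryTheory CategoryTheory.Limits AlgebraicGeometry Opposite TopologicalSpace

namespace Groth.Agent.Lib.helper7.DescFinal

open Groth.Agent.Lib.helper16.FLF Groth.Agent.Lib.helper7.RankPt
  Groth.Agent.Lib.helper7.DescRank Groth.Agent.Lib.helper7.DescFib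
  Groth.Agent.Lib.helper7.DescQS Groth.Agent.Lib.helper7.BCUnit
  Groth.Agent.Lib.helper7.SigmaImm

variable {X S : Scheme.{u}} (f : X ⟶ S)

/-- `Desc` does not depend on the model of the fibre product -/
theorem desc_transport (E : X.Modules) {T YA YB : Scheme.{u}} {u : T ⟶ S}
    {vA : YA ⟶ X} {pA : YA ⟶ T} {vB : YB ⟶ X} {pB : YB ⟶ T}
    (sqA : IsPullback vA pA f u) (sqB : IsPullback vB pB f u)
    (hd : Desc pA ((Scheme.Modules.pullback vA).obj E)) :
    Desc pB ((Scheme.Modules.pullback vB).obj E) := by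
  let i := sqB.isoIsPullback _ _ sqA
  have h1 : i.hom ≫ vA = vB := sqB.isoIsPullback_hom_fst _ _ sqA
  have h2 : i.hom ≫ pA = pB ≫ 𝟙 T := by
    rw [Category.comp_id]; exact sqB.isoIsPullback_hom_snd _ _ sqA
  have h3 := desc_base_change (𝟙 T) pB i.hom h2 hd
  exact desc_of_iso ((Scheme.Modules.pullbackComp i.hom vA).app E ≪≫
    (Scheme.Modules.pullbackCongr h1).app E) h3

/-- restricting a descent datum to an open of the base on which the rank is `r` -/
theorem PR_restrict (E : X.Modules) {T : Scheme.{u}} (g : T ⟶ S) (N : T.Modules)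
    (hN : FlatMod.IsFinLocFree N)
    (e : (Scheme.Modules.pullback (pullback.snd f g)).obj N ≅
      (Scheme.Modules.pullback (pullback.fst f g)).obj E)
    (W : T.Opens) (r : ℕ) (hW : ∀ t ∈ W, rk N t = r) : PR f E r W (W.ι ≫ g) := by
  obtain ⟨v', sq, hv'⟩ := exists_square f g W.ι
  refine ⟨(Scheme.Modules.pullback W.ι).obj N, ?_, ⟨?_⟩⟩
  · rw [isFinLocFreeOfRank_iff_rk _ (isFinLocFree_pullback W.ι hN)]
    intro t'
    rw [rk_pullback W.ι N hN t']
    exact hW _ t'.2
  · exact (sqIso (pullback.snd f g) W.ι (pullback.snd f (W.ι ≫ g)) v' sq.w).app N ≪≫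
      (Scheme.Modules.pullback v').mapIso e ≪≫
      (Scheme.Modules.pullbackComp v' (pullback.fst f g)).app E ≪≫
      (Scheme.Modules.pullbackCongr hv').app E

theorem desc_of_PR {E : X.Modules} {r : ℕ} {T : Scheme.{u}} {u : T ⟶ S} (h : PR f E r T u) :
    Desc (pullback.snd f u) ((Scheme.Modules.pullback (pullback.fst f u)).obj E) := by
  obtain ⟨N, hN, he⟩ := h
  exact ⟨N, isFinLocFree_of_isFinLocFreeOfRank hN, he⟩

/-- descent over an open of the base gives `QS` for the restricted morphism -/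
theorem QS_restrict_of_desc
    (hO : ∀ (T : Scheme.{u}) (g : T ⟶ S) (U : T.Opens), IsIso ((pullback.snd f g).app U))
    (E : X.Modules) {T : Scheme.{u}} (g : T ⟶ S) (W : T.Opens)
    (hd : Desc (pullback.snd f (W.ι ≫ g))
      ((Scheme.Modules.pullback (pullback.fst f (W.ι ≫ g))).obj E)) :
    QS (pullback.snd f g ∣_ W) ((Scheme.Modules.pullback ((pullback.snd f g) ⁻¹ᵁ W).ι).obj
      ((Scheme.Modules.pullback (pullback.fst f g)).obj E)) := by
  have sqB : IsPullback (((pullback.snd f g) ⁻¹ᵁ W).ι ≫ pullback.fst f g)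
      (pullback.snd f g ∣_ W) f (W.ι ≫ g) :=
    (isPullback_morphismRestrict (pullback.snd f g) W).flip.paste_horiz
      (IsPullback.of_hasPullback f g)
  have h1 := desc_transport f E (IsPullback.of_hasPullback f (W.ι ≫ g)) sqB hd
  have h2 := desc_of_iso
    ((Scheme.Modules.pullbackComp ((pullback.snd f g) ⁻¹ᵁ W).ι (pullback.fst f g)).app E).symm h1
  exact QS_of_desc (fun V => isIso_app_of_isPullback f hO sqB V) h2

/-- **the descent locus of a vector bundle, assembled from the rank strata of its direct image** -/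
theorem exists_immersion_desc [IsProper f]
    (hO : ∀ (T : Scheme.{u}) (g : T ⟶ S) (U : T.Opens), IsIso ((pullback.snd f g).app U))
    (E : X.Modules) (hE : FlatMod.IsFinLocFree E)
    (Zr : ℕ → Scheme.{u}) (ιr : ∀ r, Zr r ⟶ S) [∀ r, IsImmersion (ιr r)]
    [∀ r, LocallyOfFinitePresentation (ιr r)]
    (hZ : ∀ (r : ℕ) (T : Scheme.{u}) (u : T ⟶ S), (∃ u' : T ⟶ Zr r, u' ≫ ιr r = u) ↔
      AR f E r T u) :
    ∃ (V : ∀ r, (Zr r).Opens),
      IsImmersion (Sigma.desc (fun r => (V r).ι ≫ ιr r)) ∧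
      LocallyOfFinitePresentation (Sigma.desc (fun r => (V r).ι ≫ ιr r)) ∧
      (∀ r, Set.range ((V r).ι ≫ ιr r) ⊆ rankOpen f E hE r) ∧
      ∀ (T : Scheme.{u}) (g : T ⟶ S),
        (∃ g' : T ⟶ ∐ (fun r => ((V r : (Zr r).Opens) : Scheme.{u})),
          g' ≫ Sigma.desc (fun r => (V r).ι ≫ ιr r) = g) ↔
        Desc (pullback.snd f g) ((Scheme.Modules.pullback (pullback.fst f g)).obj E) := by
  choose V hV using fun r => exists_open_rank f hO E hE r (ιr r) (hZ r)
  let Zs : ℕ → Scheme.{u} := fun r => ((V r : (Zr r).Opens) : Scheme.{u})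
  let js : ∀ r, Zs r ⟶ S := fun r => (V r).ι ≫ ιr r
  have hPR : ∀ r, PR f E r (Zs r) (js r) := fun r =>
    (hV r (Zs r) (js r)).mp ⟨𝟙 _, Category.id_comp _⟩
  have hr : ∀ r, Set.range (js r) ⊆ rankOpen f E hE r := fun r =>
    PR_range_subset f E hE (hPR r)
  have hdisj : ∀ r r', r ≠ r' → Disjoint (rankOpen f E hE r) (rankOpen f E hE r') :=
    fun r r' h => disjoint_rankOpen f hO E hE h
  haveI : ∀ r, IsImmersion (js r) := fun r => inferInstanceAs (IsImmersion ((V r).ι ≫ ιr r))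
  haveI : ∀ r, LocallyOfFinitePresentation (js r) := fun r =>
    inferInstanceAs (LocallyOfFinitePresentation ((V r).ι ≫ ιr r))
  haveI hImm : IsImmersion (Sigma.desc js) :=
    isImmersion_sigmaDesc Zs js (rankOpen f E hE) hdisj hr (iSup_rankOpen f hO E hE)
  have hlfp : LocallyOfFinitePresentation (Sigma.desc js) :=
    IsZariskiLocalAtSource.sigmaDesc (fun r => inferInstance)
  refine ⟨V, hImm, hlfp, hr, fun T g => ?_⟩
  constructor
  · rintro ⟨g', rfl⟩
    -- descent holds locally on `T`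
    refine desc_of_QS (QS_local _ _ (fun t => ?_))
    obtain ⟨r, z, hz⟩ := exists_sigmaι_eq Zs (g' t)
    let W : T.Opens := g' ⁻¹ᵁ (Sigma.ι Zs r).opensRange
    have htW : t ∈ W := ⟨z, hz⟩
    have hrange : Set.range (W.ι ≫ g') ⊆ Set.range (Sigma.ι Zs r) := by
      rintro _ ⟨w, rfl⟩
      exact w.2
    let b : (W : Scheme.{u}) ⟶ Zs r := IsOpenImmersion.lift (Sigma.ι Zs r) (W.ι ≫ g') hrange
    have hb : b ≫ Sigma.ι Zs r = W.ι ≫ g' := IsOpenImmersion.lift_fac _ _ _
    have hb' : b ≫ js r = W.ι ≫ g' ≫ Sigma.desc js := by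
      rw [← Category.assoc W.ι, ← hb, Category.assoc, Sigma.ι_desc]
    have hP : PR f E r W (W.ι ≫ g' ≫ Sigma.desc js) := (hV r W _).mp ⟨b, hb'⟩
    exact ⟨W, htW, QS_restrict_of_desc f hO E (g' ≫ Sigma.desc js) W (desc_of_PR f hP)⟩
  · rintro ⟨N, hN, ⟨e⟩⟩
    let Tr : ℕ → T.Opens := fun r => ⟨rk N ⁻¹' {r}, isLocallyConstant_rk N hN {r}⟩
    have hT : ⨆ r, Tr r = ⊤ := by
      rw [eq_top_iff]
      intro t _
      rw [Opens.mem_iSup]
      exact ⟨rk N t, rfl⟩
    have ha : ∀ r, ∃ a : (Tr r : Scheme.{u}) ⟶ Zs r, a ≫ js r = (Tr r).ι ≫ g := fun r =>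
      (hV r (Tr r) ((Tr r).ι ≫ g)).mpr (PR_restrict f E g N hN e (Tr r) r (fun t ht => ht))
    choose a ha' using ha
    exact exists_lift_of_cover Zs js g Tr hT a ha'

end Groth.Agent.Lib.helper7.DescFinal
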