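import Mathlib

/-!
# Open subschemes with locally constructible complement are retrocompact (helper7)
-/

set_option autoImplicit false
universe u
open CategoryTheory CategoryTheory.Limits AlgebraicGeometry Opposite TopologicalSpace Topology

namespace Groth.Agent.Lib.helper7.RetroCompl

/-- constructible subsets of a prime spectrum are compact -/
theorem isCompact_of_isConstructible {R : Type u} [CommRing R] {s : Set (PrimeSpectrum R)}
    (hs : IsConstructible s) : IsCompact s := by
  obtain ⟨S, _, f, rfl⟩ := PrimeSpectrum.exists_range_eq_of_isConstructible hs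
  exact isCompact_range (PrimeSpectrum.continuous_comap f)

/-- an open subscheme whose underlying set is locally constructible is retrocompact -/
theorem quasiCompact_ι_of_isLocallyConstructible {Z : Scheme.{u}} (V : Z.Opens)
    (h : IsLocallyConstructible (V : Set Z)) : QuasiCompact V.ι := by
  rw [quasiCompact_iff_forall_isAffineOpen]
  intro W hW
  -- `V ∩ W` is compact
  have h1 : IsCompact ((V : Set Z) ∩ W) := by
    have hopen : Topology.IsOpenEmbedding hW.fromSpec := hW.fromSpec.isOpenEmbedding
    have h2 : IsLocallyConstructible (hW.fromSpec ⁻¹' (V : Set Z)) :=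
      h.preimage_of_isOpenEmbedding hopen
    have h3 : IsConstructible (hW.fromSpec ⁻¹' (V : Set Z)) := h2.isConstructible
    have h4 : IsCompact (hW.fromSpec ⁻¹' (V : Set Z)) := isCompact_of_isConstructible h3
    have h5 := h4.image hW.fromSpec.continuous
    rw [Set.image_preimage_eq_inter_range, hW.range_fromSpec] at h5
    exact h5
  have h6 : (V.ι '' ((V.ι ⁻¹ᵁ W : V.toScheme.Opens) : Set V.toScheme)) = (V : Set Z) ∩ W := by
    change V.ι '' (V.ι ⁻¹' (W : Set Z)) = _
    rw [Set.image_preimage_eq_inter_range, Scheme.Opens.range_ι, Set.inter_comm]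
  rw [V.ι.isOpenEmbedding.isInducing.isCompact_iff, h6]
  exact h1

end Groth.Agent.Lib.helper7.RetroCompl
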