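import Mathlib
import Groth.Agent.Lib.Helper7.EpiLocus2
import Groth.Agent.Lib.Helper7.RetroCompl
import Groth.Agent.Lib.Helper11.ConsFLF3
import Groth.Agent.Lib.Helper25.FLFCycles
import Groth.Agent.Lib.Helper25.DCohRestrict

/-!
# Retrocompactness of the locus where a map of bundles is fibrewise an isomorphism (helper7)
-/

set_option autoImplicit false
set_option linter.style.haveILetI false
universe u
open CategoryTheory CategoryTheory.Limits AlgebraicGeometry Opposite TopologicalSpace Topology
open Scheme.Modules

namespace Groth.Agent.Lib.helper7.DescQC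

open Groth.Agent.Lib.helper16.FLF Groth.Agent.Lib.helper7.RankPt
  Groth.Agent.Lib.helper7.EpiLocus Groth.Agent.Lib.helper11.FibLift

variable {Y Z : Scheme.{u}}

theorem isFinLocFreeOfRank_zero_iff (M : Y.Modules) :
    FlatMod.IsFinLocFreeOfRank 0 M ↔ IsZero M := by
  constructor
  · intro h
    apply isZero_of_support_eq_empty
    ext x
    simp only [Set.mem_empty_iff_false, iff_false]
    intro hx
    apply hx
    have hM := isFinLocFree_of_isFinLocFreeOfRank h
    obtain ⟨hfree, hfin⟩ := free_stalk_of_isFinLocFree M hM x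
    exact (Module.finrank_eq_zero_iff_of_free (R := Y.presheaf.stalk x)
      (M := M.presheaf.stalk x)).mp (finrank_stalk_of_isFinLocFreeOfRank M h x)
  · intro h
    exact isFinLocFreeOfRank_of_iso
      ((Groth.Agent.Lib.helper25.DCohRestrict.isZero_freeMod_zero Y).iso h)
      (isFinLocFreeOfRank_freeMod Y 0)

/-- the complement of the image of the bad locus, fibrewise -/
theorem compl_image_badLocus_eq (p : Y ⟶ Z) {A B : Y.Modules} (r : ℕ)
    (hA : FlatMod.IsFinLocFree A) (hB : FlatMod.IsFinLocFree B) (φ : A ⟶ B) :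
    (p '' badLocus r φ)ᶜ =
      {z : Z | FlatMod.IsFinLocFreeOfRank 0
        ((Scheme.Modules.pullback (p.fiberι z)).obj (cokernel φ))} ∩
      {z : Z | FlatMod.IsFinLocFreeOfRank r ((Scheme.Modules.pullback (p.fiberι z)).obj B)} := by
  have hQ : Coh.IsCoh (cokernel φ) :=
    Groth.Agent.Lib.helper7.CohKer.isCoh_cokernel (isCoh_of_isFinLocFree hA)
      (isCoh_of_isFinLocFree hB) φ
  haveI : (cokernel φ).IsQuasicoherent := hQ.1
  ext z
  have hsupp := Groth.Agent.Lib.helper2.TensorSupp.support_pullback (p.fiberι z) (cokernel φ) hQ.2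
  have hrange : Set.range (p.fiberι z) = p ⁻¹' {z} := Scheme.Hom.range_fiberι p z
  simp only [Set.mem_compl_iff, Set.mem_image, not_exists, not_and, Set.mem_inter_iff,
    Set.mem_ofPred_eq]
  rw [isFinLocFreeOfRank_zero_iff, isFinLocFreeOfRank_iff_rk _ (isFinLocFree_pullback _ hB)]
  constructor
  · intro h
    constructor
    · apply isZero_of_support_eq_empty
      rw [hsupp]
      ext y'
      simp only [Set.mem_preimage, Set.mem_empty_iff_false, iff_false]
      intro hy'
      have h1 : p (p.fiberι z y') = z := by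
        have : p.fiberι z y' ∈ Set.range (p.fiberι z) := ⟨y', rfl⟩
        rw [hrange] at this; exact this
      exact h _ (Or.inl hy') h1
    · intro y'
      rw [rk_pullback _ B hB y']
      by_contra hne
      have h1 : p (p.fiberι z y') = z := by
        have : p.fiberι z y' ∈ Set.range (p.fiberι z) := ⟨y', rfl⟩
        rw [hrange] at this; exact this
      exact h _ (Or.inr hne) h1
  · rintro ⟨h1, h2⟩ y hy hpy
    have hy' : y ∈ Set.range (p.fiberι z) := by rw [hrange]; exact hpy
    obtain ⟨y', rfl⟩ := hy'
    rcases hy with hy | hy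
    · have h3 := support_eq_empty_of_isZero _ h1
      rw [hsupp] at h3
      have : y' ∈ (p.fiberι z) ⁻¹' CohB1.support (cokernel φ) := hy
      rw [h3] at this
      exact this
    · apply hy
      rw [← rk_pullback _ B hB y']
      exact h2 y'

/-- **the complement of the image of the bad locus is locally constructible** -/
theorem isLocallyConstructible_compl_image_badLocus (p : Y ⟶ Z) [LocallyOfFinitePresentation p]
    [QuasiCompact p] [QuasiSeparated p] {A B : Y.Modules} (r : ℕ)
    (hA : FlatMod.IsFinLocFree A) (hB : FlatMod.IsFinLocFree B) (φ : A ⟶ B) :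
    IsLocallyConstructible (p '' badLocus r φ)ᶜ := by
  rw [compl_image_badLocus_eq p r hA hB φ]
  have hQ : Coh.IsCoh (cokernel φ) :=
    Groth.Agent.Lib.helper7.CohKer.isCoh_cokernel (isCoh_of_isFinLocFree hA)
      (isCoh_of_isFinLocFree hB) φ
  haveI : (cokernel φ).IsQuasicoherent := hQ.1
  haveI : B.IsQuasicoherent := isQuasicoherent_of_isFinLocFree B hB
  exact (Groth.Agent.Lib.helper11.ConsFLF.isLocallyConstructible_isFinLocFreeOfRank p
      (cokernel φ) (Groth.Agent.Lib.helper25.FLFCycles.isFP_cokernel_of_isFinLocFree φ hA hB) 0).inter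
    (Groth.Agent.Lib.helper11.ConsFLF.isLocallyConstructible_isFinLocFreeOfRank p B
      (isFinitePresentation_of_isFinLocFree B hB) r)

end Groth.Agent.Lib.helper7.DescQC
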