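import Mathlib
import Groth.Agent.Lib.Helper7.DescRank
import Groth.Agent.Lib.Helper7.DescQC

/-!
# The rank `r` descent locus is retrocompact in the rank `r` stratum (helper7)
-/

set_option autoImplicit false
set_option linter.style.haveILetI false
universe u
open CategoryTheory CategoryTheory.Limits AlgebraicGeometry Opposite TopologicalSpace

namespace Groth.Agent.Lib.helper7.DescRank

open Groth.Agent.Lib.helper16.FLF Groth.Agent.Lib.helper7.RankPt
  Groth.Agent.Lib.helper7.EpiLocus Groth.Agent.Lib.helper7.DescQS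
  Groth.Agent.Lib.helper7.DescBC Groth.Agent.Lib.helper7.BCUnit

variable {X S : Scheme.{u}} (f : X ⟶ S)

section main

variable (hO : ∀ (T : Scheme.{u}) (g : T ⟶ S) (U : T.Opens), IsIso ((pullback.snd f g).app U))
  (E : X.Modules) (hE : FlatMod.IsFinLocFree E) (r : ℕ)

include hO hE in
/-- **the open part of the rank `r` stratum of `f_* E` over which `E` descends** -/
theorem exists_open_rank_qc [IsProper f] [LocallyOfFinitePresentation f] {Z : Scheme.{u}} (ι : Z ⟶ S)
    (hZ : ∀ (T : Scheme.{u}) (u : T ⟶ S), (∃ u' : T ⟶ Z, u' ≫ ι = u) ↔ AR f E r T u) :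
    ∃ V : Z.Opens, QuasiCompact V.ι ∧ ∀ (T : Scheme.{u}) (u : T ⟶ S),
      (∃ u' : T ⟶ V, u' ≫ (V.ι ≫ ι) = u) ↔ PR f E r T u := by
  have hA : AR f E r Z ι := (hZ Z ι).mp ⟨𝟙 Z, Category.id_comp ι⟩
  set p := pullback.snd f ι with hp
  set EZ := (Scheme.Modules.pullback (pullback.fst f ι)).obj E with hEZdef
  set NZ := (Scheme.Modules.pushforward p).obj EZ with hNZdef
  have hNZ : FlatMod.IsFinLocFreeOfRank r NZ := hA.1
  let φ : (Scheme.Modules.pullback p).obj NZ ⟶ EZ :=
    (Scheme.Modules.pullbackPushforwardAdjunction p).counit.app EZ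
  have hEZ : FlatMod.IsFinLocFree EZ := isFinLocFree_pullback _ hE
  have hpN : FlatMod.IsFinLocFreeOfRank r ((Scheme.Modules.pullback p).obj NZ) :=
    isFinLocFreeOfRank_pullback p hNZ
  have hW : IsClosed (badLocus r φ) :=
    isClosed_badLocus r (isFinLocFree_of_isFinLocFreeOfRank hpN) hEZ φ
  have hcl : IsClosedMap p := p.isClosedMap
  refine ⟨⟨(p '' badLocus r φ)ᶜ, (hcl _ hW).isOpen_compl⟩,
    Groth.Agent.Lib.helper7.RetroCompl.quasiCompact_ι_of_isLocallyConstructible _
      (Groth.Agent.Lib.helper7.DescQC.isLocallyConstructible_compl_image_badLocus p r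
        (isFinLocFree_of_isFinLocFreeOfRank hpN) hEZ φ), fun T u => ?_⟩
  -- the key equivalence for `h : T ⟶ Z`
  have key : ∀ (h : T ⟶ Z) (v' : pullback f (h ≫ ι) ⟶ pullback f ι)
      (sq : IsPullback v' (pullback.snd f (h ≫ ι)) p h),
      IsIso ((Scheme.Modules.pullback v').map φ) ↔ Set.range h ⊆ (p '' badLocus r φ)ᶜ := by
    intro h v' sq
    rw [isIso_pullback_iff' v' hpN hEZ φ]
    exact disjoint_range_iff sq _
  constructor
  · rintro ⟨u', hu'⟩
    have hu : (u' ≫ Scheme.Opens.ι _) ≫ ι = u := by rw [Category.assoc]; exact hu'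
    subst hu
    set h := u' ≫ Scheme.Opens.ι _ with hh
    obtain ⟨v', sq, hv'⟩ := exists_square f ι h
    have hr : Set.range h ⊆ (p '' badLocus r φ)ᶜ := by
      rintro _ ⟨t, rfl⟩
      exact (u' t).2
    haveI := (key h v' sq).mpr hr
    refine ⟨(Scheme.Modules.pullback h).obj NZ, isFinLocFreeOfRank_pullback h hNZ, ⟨?_⟩⟩
    exact (sqIso p h (pullback.snd f (h ≫ ι)) v' sq.w).app NZ ≪≫
      asIso ((Scheme.Modules.pullback v').map φ) ≪≫
      (Scheme.Modules.pullbackComp v' (pullback.fst f ι)).app E ≪≫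
      (Scheme.Modules.pullbackCongr hv').app E
  · intro hP
    obtain ⟨h, hh⟩ := (hZ T u).mpr (AR_of_PR f hO E r hP)
    subst hh
    obtain ⟨v', sq, hv'⟩ := exists_square f ι h
    haveI hbc := hA.2 v' (pullback.snd f (h ≫ ι)) h sq
    obtain ⟨N, hN, ⟨e⟩⟩ := hP
    have hd : Desc (pullback.snd f (h ≫ ι)) ((Scheme.Modules.pullback v').obj EZ) :=
      ⟨N, isFinLocFree_of_isFinLocFreeOfRank hN, ⟨e ≪≫
        ((Scheme.Modules.pullbackComp v' (pullback.fst f ι)).app E ≪≫
          (Scheme.Modules.pullbackCongr hv').app E).symm⟩⟩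
    haveI := (QS_of_desc (hO T (h ≫ ι)) hd).2
    have h1 := bc0_counit p h (pullback.snd f (h ≫ ι)) v' sq.w EZ
    have h2 : IsIso ((sqIso p h (pullback.snd f (h ≫ ι)) v' sq.w).hom.app
        ((Scheme.Modules.pushforward p).obj EZ) ≫ (Scheme.Modules.pullback v').map φ) := by
      rw [← h1]; infer_instance
    have h3 : IsIso ((Scheme.Modules.pullback v').map φ) :=
      IsIso.of_isIso_comp_left ((sqIso p h (pullback.snd f (h ≫ ι)) v' sq.w).hom.app
        ((Scheme.Modules.pushforward p).obj EZ)) _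
    have hr := (key h v' sq).mp h3
    have hr' : Set.range h ⊆ Set.range (Scheme.Opens.ι
        (⟨(p '' badLocus r φ)ᶜ, (hcl _ hW).isOpen_compl⟩ : Z.Opens)) := by
      rw [Scheme.Opens.range_ι]
      exact hr
    exact ⟨IsOpenImmersion.lift _ h hr', by rw [← Category.assoc, IsOpenImmersion.lift_fac]⟩

end main

end Groth.Agent.Lib.helper7.DescRank
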