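import Mathlib
import Groth.Agent.Lib.Helper7.DescFinal
import Groth.Agent.Lib.Helper7.DescRank2

/-!
# The locus where a vector bundle descends to the base: quasi-compact version (helper7)
-/

set_option autoImplicit false
set_option linter.style.haveILetI false
universe u
open CategoryTheory CategoryTheory.Limits AlgebraicGeometry Opposite TopologicalSpace

namespace Groth.Agent.Lib.helper7.DescFinal

open Groth.Agent.Lib.helper16.FLF Groth.Agent.Lib.helper7.RankPt
  Groth.Agent.Lib.helper7.DescRank Groth.Agent.Lib.helper7.DescFib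
  Groth.Agent.Lib.helper7.DescQS Groth.Agent.Lib.helper7.BCUnit
  Groth.Agent.Lib.helper7.SigmaImm

variable {X S : Scheme.{u}} (f : X ⟶ S)

/-- **the descent locus of a vector bundle, assembled from the rank strata of its direct image** -/
theorem exists_immersion_desc_qc [IsProper f] [LocallyOfFinitePresentation f]
    (hO : ∀ (T : Scheme.{u}) (g : T ⟶ S) (U : T.Opens), IsIso ((pullback.snd f g).app U))
    (E : X.Modules) (hE : FlatMod.IsFinLocFree E)
    (Zr : ℕ → Scheme.{u}) (ιr : ∀ r, Zr r ⟶ S) [∀ r, IsImmersion (ιr r)]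
    [∀ r, LocallyOfFinitePresentation (ιr r)] [∀ r, QuasiCompact (ιr r)]
    (hZ : ∀ (r : ℕ) (T : Scheme.{u}) (u : T ⟶ S), (∃ u' : T ⟶ Zr r, u' ≫ ιr r = u) ↔
      AR f E r T u) :
    ∃ (V : ∀ r, (Zr r).Opens),
      IsImmersion (Sigma.desc (fun r => (V r).ι ≫ ιr r)) ∧
      LocallyOfFinitePresentation (Sigma.desc (fun r => (V r).ι ≫ ιr r)) ∧
      QuasiCompact (Sigma.desc (fun r => (V r).ι ≫ ιr r)) ∧
      (∀ r, Set.range ((V r).ι ≫ ιr r) ⊆ rankOpen f E hE r) ∧
      ∀ (T : Scheme.{u}) (g : T ⟶ S),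
        (∃ g' : T ⟶ ∐ (fun r => ((V r : (Zr r).Opens) : Scheme.{u})),
          g' ≫ Sigma.desc (fun r => (V r).ι ≫ ιr r) = g) ↔
        Desc (pullback.snd f g) ((Scheme.Modules.pullback (pullback.fst f g)).obj E) := by
  choose V hVqc hV using fun r => exists_open_rank_qc f hO E hE r (ιr r) (hZ r)
  let Zs : ℕ → Scheme.{u} := fun r => ((V r : (Zr r).Opens) : Scheme.{u})
  let js : ∀ r, Zs r ⟶ S := fun r => (V r).ι ≫ ιr r
  have hPR : ∀ r, PR f E r (Zs r) (js r) := fun r =>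
    (hV r (Zs r) (js r)).mp ⟨𝟙 _, Category.id_comp _⟩
  have hr : ∀ r, Set.range (js r) ⊆ rankOpen f E hE r := fun r =>
    PR_range_subset f E hE (hPR r)
  have hdisj : ∀ r r', r ≠ r' → Disjoint (rankOpen f E hE r) (rankOpen f E hE r') :=
    fun r r' h => disjoint_rankOpen f hO E hE h
  haveI : ∀ r, IsImmersion (js r) := fun r => inferInstanceAs (IsImmersion ((V r).ι ≫ ιr r))
  haveI : ∀ r, LocallyOfFinitePresentation (js r) := fun r =>
    inferInstanceAs (LocallyOfFinitePresentation ((V r).ι ≫ ιr r))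
  haveI : ∀ r, QuasiCompact (js r) := fun r => by
    haveI := hVqc r
    exact inferInstanceAs (QuasiCompact ((V r).ι ≫ ιr r))
  have hqc : QuasiCompact (Sigma.desc js) :=
    quasiCompact_sigmaDesc Zs js (rankOpen f E hE) hdisj hr (iSup_rankOpen f hO E hE)
  haveI hImm : IsImmersion (Sigma.desc js) :=
    isImmersion_sigmaDesc Zs js (rankOpen f E hE) hdisj hr (iSup_rankOpen f hO E hE)
  have hlfp : LocallyOfFinitePresentation (Sigma.desc js) :=
    IsZariskiLocalAtSource.sigmaDesc (fun r => inferInstance)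
  refine ⟨V, hImm, hlfp, hqc, hr, fun T g => ?_⟩
  constructor
  · rintro ⟨g', rfl⟩
    -- descent holds locally on `T`
    refine desc_of_QS (QS_local _ _ (fun t => ?_))
    obtain ⟨r, z, hz⟩ := exists_sigmaι_eq Zs (g' t)
    let W : T.Opens := g' ⁻¹ᵁ (Sigma.ι Zs r).opensRange
    have htW : t ∈ W := ⟨z, hz⟩
    have hrange : Set.range (W.ι ≫ g') ⊆ Set.range (Sigma.ι Zs r) := by
      rintro _ ⟨w, rfl⟩
      exact w.2
    let b : (W : Scheme.{u}) ⟶ Zs r := IsOpenImmersion.lift (Sigma.ι Zs r) (W.ι ≫ g') hrange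
    have hb : b ≫ Sigma.ι Zs r = W.ι ≫ g' := IsOpenImmersion.lift_fac _ _ _
    have hb' : b ≫ js r = W.ι ≫ g' ≫ Sigma.desc js := by
      rw [← Category.assoc W.ι, ← hb, Category.assoc, Sigma.ι_desc]
    have hP : PR f E r W (W.ι ≫ g' ≫ Sigma.desc js) := (hV r W _).mp ⟨b, hb'⟩
    exact ⟨W, htW, QS_restrict_of_desc f hO E (g' ≫ Sigma.desc js) W (desc_of_PR f hP)⟩
  · rintro ⟨N, hN, ⟨e⟩⟩
    let Tr : ℕ → T.Opens := fun r => ⟨rk N ⁻¹' {r}, isLocallyConstant_rk N hN {r}⟩
    have hT : ⨆ r, Tr r = ⊤ := by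
      rw [eq_top_iff]
      intro t _
      rw [Opens.mem_iSup]
      exact ⟨rk N t, rfl⟩
    have ha : ∀ r, ∃ a : (Tr r : Scheme.{u}) ⟶ Zs r, a ≫ js r = (Tr r).ι ≫ g := fun r =>
      (hV r (Tr r) ((Tr r).ι ≫ g)).mpr (PR_restrict f E g N hN e (Tr r) r (fun t ht => ht))
    choose a ha' using ha
    exact exists_lift_of_cover Zs js g Tr hT a ha'

end Groth.Agent.Lib.helper7.DescFinal
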