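import Mathlib
import Groth.Agent.Lib.Helper7.CubeMain
import Groth.Agent.Lib.Helper7.DescFinal2

/-!
# Base change plumbing for the theorem of the cube (helper7)

For `f : X ⟶ S`, `g : Y ⟶ S`, `W = X ×_S Y`, `h : W ⟶ S` and a base change `c : T ⟶ S`, the scheme
`W_T = W ×_S T` is the fibre product of `X_T` and `Y_T` over `T`; sections base change.
-/

set_option autoImplicit false
set_option linter.style.haveILetI false
universe u
open CategoryTheory CategoryTheory.Limits AlgebraicGeometry TopologicalSpace Opposite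

namespace Groth.Agent.Lib.helper7.CubeBC

open Groth.Agent.Lib.helper7.DescQS Groth.Agent.Lib.helper11.InvMod

variable {X Y S : Scheme.{u}} (f : X ⟶ S) (g : Y ⟶ S)

section BC

variable {T : Scheme.{u}} (c : T ⟶ S)

/-- `W_T ⟶ X_T` -/
noncomputable def qT : pullback (pullback.fst f g ≫ f) c ⟶ pullback f c :=
  pullback.lift (pullback.fst _ c ≫ pullback.fst f g) (pullback.snd _ c)
    (by rw [Category.assoc]; exact pullback.condition)

/-- `W_T ⟶ Y_T` -/
noncomputable def pT : pullback (pullback.fst f g ≫ f) c ⟶ pullback g c :=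
  pullback.lift (pullback.fst _ c ≫ pullback.snd f g) (pullback.snd _ c)
    (by rw [Category.assoc, ← pullback.condition (f := f) (g := g)]; exact pullback.condition)

@[reassoc (attr := simp)]
theorem qT_fst : qT f g c ≫ pullback.fst f c = pullback.fst _ c ≫ pullback.fst f g :=
  pullback.lift_fst _ _ _

@[reassoc (attr := simp)]
theorem qT_snd : qT f g c ≫ pullback.snd f c = pullback.snd _ c :=
  pullback.lift_snd _ _ _

@[reassoc (attr := simp)]
theorem pT_fst : pT f g c ≫ pullback.fst g c = pullback.fst _ c ≫ pullback.snd f g :=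
  pullback.lift_fst _ _ _

@[reassoc (attr := simp)]
theorem pT_snd : pT f g c ≫ pullback.snd g c = pullback.snd _ c :=
  pullback.lift_snd _ _ _

/-- `W_T = W ×_X X_T` -/
theorem isPullback_qT_fst :
    IsPullback (qT f g c) (pullback.fst (pullback.fst f g ≫ f) c) (pullback.fst f c)
      (pullback.fst f g) := by
  refine IsPullback.of_right ?_ (qT_fst f g c) (IsPullback.of_hasPullback f c).flip
  rw [qT_snd]
  exact (IsPullback.of_hasPullback (pullback.fst f g ≫ f) c).flip

/-- `W_T = X_T ×_S Y` -/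
theorem isPullback_qT_Y :
    IsPullback (qT f g c) (pullback.fst (pullback.fst f g ≫ f) c ≫ pullback.snd f g)
      (pullback.fst f c ≫ f) g :=
  (isPullback_qT_fst f g c).paste_vert (IsPullback.of_hasPullback f g)

/-- `W_T = X_T ×_T Y_T` -/
theorem isPullback_qT_pT :
    IsPullback (qT f g c) (pT f g c) (pullback.snd f c) (pullback.snd g c) := by
  refine IsPullback.of_bot ?_ ?_ (IsPullback.of_hasPullback g c).flip
  · rw [pT_fst, ← pullback.condition]
    exact isPullback_qT_Y f g c
  · rw [qT_snd, pT_snd]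

end BC

/-- the universal Stein property of `h : X ×_S Y ⟶ S` -/
theorem isIso_app_h
    (hOf : ∀ (T : Scheme.{u}) (t : T ⟶ S) (U : T.Opens), IsIso ((pullback.snd f t).app U))
    (hOg : ∀ (T : Scheme.{u}) (t : T ⟶ S) (U : T.Opens), IsIso ((pullback.snd g t).app U))
    (T : Scheme.{u}) (c : T ⟶ S) (U : T.Opens) :
    IsIso ((pullback.snd (pullback.fst f g ≫ f) c).app U) := by
  rw [← qT_snd f g c, Scheme.Hom.comp_app]
  have h1 : IsIso ((pullback.snd f c).app U) := hOf T c U
  have h2 : IsIso ((qT f g c).app ((pullback.snd f c) ⁻¹ᵁ U)) :=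
    Groth.Agent.Lib.helper7.DescRank.isIso_app_of_isPullback g hOg
      (isPullback_qT_Y f g c).flip _
  exact @IsIso.comp_isIso _ _ _ _ _ _ _ h1 h2

/-- triviality of a pullback is inherited through a commutative square -/
theorem triv_pullback_of_comp {A B C D : Scheme.{u}} (a : A ⟶ B) (b : B ⟶ D) (a' : A ⟶ C)
    (b' : C ⟶ D) (w : a ≫ b = a' ≫ b') (L : D.Modules)
    (h : Nonempty ((Scheme.Modules.pullback b').obj L ≅ Coh.structureModule C)) :
    Nonempty ((Scheme.Modules.pullback a).obj ((Scheme.Modules.pullback b).obj L) ≅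
      Coh.structureModule A) := by
  obtain ⟨e⟩ := h
  exact ⟨(Scheme.Modules.pullbackComp a b).app L ≪≫ (Scheme.Modules.pullbackCongr w).app L ≪≫
    ((Scheme.Modules.pullbackComp a' b').app L).symm ≪≫
    (Scheme.Modules.pullback a').mapIso e ≪≫ pullbackUnitIso a'⟩

section Sections

variable {T : Scheme.{u}} (c : T ⟶ S)

/-- base change of a section -/
noncomputable def secT (σ : S ⟶ X) (hσ : σ ≫ f = 𝟙 S) : T ⟶ pullback f c :=
  pullback.lift (c ≫ σ) (𝟙 T) (by rw [Category.assoc, hσ, Category.comp_id, Category.id_comp])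

@[reassoc (attr := simp)]
theorem secT_snd (σ : S ⟶ X) (hσ : σ ≫ f = 𝟙 S) : secT f c σ hσ ≫ pullback.snd f c = 𝟙 T :=
  pullback.lift_snd _ _ _

@[reassoc (attr := simp)]
theorem secT_fst (σ : S ⟶ X) (hσ : σ ≫ f = 𝟙 S) : secT f c σ hσ ≫ pullback.fst f c = c ≫ σ :=
  pullback.lift_fst _ _ _

variable (u : X ⟶ pullback f g) (hu1 : u ≫ pullback.fst f g = 𝟙 X)

/-- base change of `u : X ⟶ W` -/
noncomputable def uT : pullback f c ⟶ pullback (pullback.fst f g ≫ f) c :=
  pullback.lift (pullback.fst f c ≫ u) (pullback.snd f c)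
    (by rw [Category.assoc, ← Category.assoc u, hu1, Category.id_comp]; exact pullback.condition)

@[reassoc (attr := simp)]
theorem uT_fst : uT f g c u hu1 ≫ pullback.fst _ c = pullback.fst f c ≫ u :=
  pullback.lift_fst _ _ _

@[reassoc (attr := simp)]
theorem uT_snd : uT f g c u hu1 ≫ pullback.snd _ c = pullback.snd f c :=
  pullback.lift_snd _ _ _

theorem uT_qT : uT f g c u hu1 ≫ qT f g c = 𝟙 _ := by
  apply pullback.hom_ext
  · rw [Category.assoc, qT_fst, uT_fst_assoc, hu1, Category.comp_id, Category.id_comp]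
  · rw [Category.assoc, qT_snd, uT_snd, Category.id_comp]

theorem uT_pT (τ : S ⟶ Y) (hτ : τ ≫ g = 𝟙 S) (hu2 : u ≫ pullback.snd f g = f ≫ τ) :
    uT f g c u hu1 ≫ pT f g c = pullback.snd f c ≫ secT g c τ hτ := by
  apply pullback.hom_ext
  · rw [Category.assoc, pT_fst, uT_fst_assoc, hu2, Category.assoc, secT_fst,
      ← Category.assoc, pullback.condition, Category.assoc]
  · rw [Category.assoc, pT_snd, uT_snd, Category.assoc, secT_snd, Category.comp_id]

variable (σ : S ⟶ X) (hσ : σ ≫ f = 𝟙 S) (v : Y ⟶ pullback f g)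
  (hv1 : v ≫ pullback.fst f g = g ≫ σ)

/-- base change of `v : Y ⟶ W` -/
noncomputable def vT : pullback g c ⟶ pullback (pullback.fst f g ≫ f) c :=
  pullback.lift (pullback.fst g c ≫ v) (pullback.snd g c)
    (by rw [Category.assoc, ← Category.assoc v, hv1, Category.assoc, hσ, Category.comp_id]
        exact pullback.condition)

@[reassoc (attr := simp)]
theorem vT_fst : vT f g c σ hσ v hv1 ≫ pullback.fst _ c = pullback.fst g c ≫ v :=
  pullback.lift_fst _ _ _

@[reassoc (attr := simp)]
theorem vT_snd : vT f g c σ hσ v hv1 ≫ pullback.snd _ c = pullback.snd g c :=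
  pullback.lift_snd _ _ _

theorem vT_pT (hv2 : v ≫ pullback.snd f g = 𝟙 Y) : vT f g c σ hσ v hv1 ≫ pT f g c = 𝟙 _ := by
  apply pullback.hom_ext
  · rw [Category.assoc, pT_fst, vT_fst_assoc, hv2, Category.comp_id, Category.id_comp]
  · rw [Category.assoc, pT_snd, vT_snd, Category.id_comp]

end Sections

/-- **the infinitesimal step of the theorem of the cube, over an arbitrary base**: if `L` becomes
trivial over `R/(t)`, with `t` a socle element of the local ring `R`, it is trivial over `R` -/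
theorem main_local [Flat f] [IsProper f] [Flat g] [IsProper g]
    (hOf : ∀ (T : Scheme.{u}) (t : T ⟶ S) (U : T.Opens), IsIso ((pullback.snd f t).app U))
    (hOg : ∀ (T : Scheme.{u}) (t : T ⟶ S) (U : T.Opens), IsIso ((pullback.snd g t).app U))
    (σ : S ⟶ X) (hσ : σ ≫ f = 𝟙 S) (τ : S ⟶ Y) (hτ : τ ≫ g = 𝟙 S)
    (L : (pullback f g).Modules) (hL : PicF.IsInvertible L)
    (u : X ⟶ pullback f g) (hu1 : u ≫ pullback.fst f g = 𝟙 X)
    (hu2 : u ≫ pullback.snd f g = f ≫ τ)
    (v : Y ⟶ pullback f g) (hv1 : v ≫ pullback.fst f g = g ≫ σ)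
    (hv2 : v ≫ pullback.snd f g = 𝟙 Y)
    (h1 : Nonempty ((Scheme.Modules.pullback u).obj L ≅ Coh.structureModule X))
    (h2 : Nonempty ((Scheme.Modules.pullback v).obj L ≅ Coh.structureModule Y))
    {R : Type u} [CommRing R] [IsLocalRing R] (t : R)
    (ht : ∀ a : R, a * t = 0 ↔ a ∈ IsLocalRing.maximalIdeal R)
    (htm : t ∈ IsLocalRing.maximalIdeal R) (c : Spec (CommRingCat.of R) ⟶ S)
    (h0 : Nonempty ((Scheme.Modules.pullback (pullback.fst (pullback.fst f g ≫ f)
      (Spec.map (CommRingCat.ofHom (algebraMap R (R ⧸ Ideal.span {t}))) ≫ c))).obj L ≅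
        Coh.structureModule _)) :
    Nonempty ((Scheme.Modules.pullback (pullback.fst (pullback.fst f g ≫ f) c)).obj L ≅
      Coh.structureModule _) := by
  let φ := Spec.map (CommRingCat.ofHom (algebraMap R (R ⧸ Ideal.span {t})))
  haveI : CompactSpace ↥(pullback f c) :=
    QuasiCompact.compactSpace_of_compactSpace (pullback.snd f c)
  have hOfT : ∀ (T' : Scheme.{u}) (c' : T' ⟶ Spec (CommRingCat.of R)) (U : T'.Opens),
      IsIso ((pullback.snd (pullback.snd f c) c').app U) := fun T' c' U =>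
    Groth.Agent.Lib.helper7.DescRank.isIso_app_of_isPullback f hOf
      ((IsPullback.of_hasPullback (pullback.snd f c) c').paste_horiz
        (IsPullback.of_hasPullback f c)) U
  have hOgT : ∀ (T' : Scheme.{u}) (c' : T' ⟶ Spec (CommRingCat.of R)) (U : T'.Opens),
      IsIso ((pullback.snd (pullback.snd g c) c').app U) := fun T' c' U =>
    Groth.Agent.Lib.helper7.DescRank.isIso_app_of_isPullback g hOg
      ((IsPullback.of_hasPullback (pullback.snd g c) c').paste_horiz
        (IsPullback.of_hasPullback g c)) U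
  -- the special fibre
  let j := pullback.fst (pullback.snd (pullback.fst f g ≫ f) c) φ
  let h₁ := pullback.snd (pullback.snd (pullback.fst f g ≫ f) c) φ
  have hj' : IsPullback j h₁ (pullback.snd (pullback.fst f g ≫ f) c) φ :=
    IsPullback.of_hasPullback _ _
  have hj : IsPullback j h₁ (pT f g c ≫ pullback.snd g c) φ := by
    rw [pT_snd]; exact hj'
  have sqB : IsPullback (j ≫ pullback.fst (pullback.fst f g ≫ f) c) h₁
      (pullback.fst f g ≫ f) (φ ≫ c) :=
    hj'.paste_horiz (IsPullback.of_hasPullback (pullback.fst f g ≫ f) c)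
  let i := sqB.isoIsPullback _ _ (IsPullback.of_hasPullback (pullback.fst f g ≫ f) (φ ≫ c))
  have hi : i.hom ≫ pullback.fst (pullback.fst f g ≫ f) (φ ≫ c) =
      j ≫ pullback.fst (pullback.fst f g ≫ f) c :=
    sqB.isoIsPullback_hom_fst _ _ (IsPullback.of_hasPullback (pullback.fst f g ≫ f) (φ ≫ c))
  exact Groth.Agent.Lib.helper7.CubeMain.claimK t ht htm (pullback.snd f c) (pullback.snd g c)
    (qT f g c) (pT f g c) (isPullback_qT_pT f g c) hOfT hOgT
    (secT f c σ hσ) (secT_snd f c σ hσ) (secT g c τ hτ) (secT_snd g c τ hτ)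
    (uT f g c u hu1) (uT_qT f g c u hu1) (uT_pT f g c u hu1 τ hτ hu2)
    (vT f g c σ hσ v hv1) (vT_pT f g c σ hσ v hv1 hv2)
    ((Scheme.Modules.pullback (pullback.fst (pullback.fst f g ≫ f) c)).obj L)
    (isInvertible_pullback _ hL)
    (triv_pullback_of_comp _ _ _ _ (uT_fst f g c u hu1) L h1)
    (triv_pullback_of_comp _ _ _ _ (vT_fst f g c σ hσ v hv1) L h2)
    h₁ j hj
    (triv_pullback_of_comp _ _ _ _ hi.symm L h0)

end Groth.Agent.Lib.helper7.CubeBC
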