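import Mathlib

/-!
# An openness criterion for finitely generated ideals (helper7)

If a finitely generated ideal `𝔞 ≤ 𝔭` of a ring `A` dies in every local ring `R` under `A → R`
as soon as it dies modulo a socle element `t` of `R` (`ann t = 𝔪_R`), then `𝔞` dies in a principal
open neighbourhood of `𝔭`.
-/

set_option autoImplicit false
universe u

namespace Groth.Agent.Lib.helper7.CubeAlgOpen

open IsLocalRing

/-- a proper ideal `J < I` of a local ring maximal among the ideals strictly below the finitely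
generated ideal `I` -/
theorem exists_coatom_below {B : Type u} [CommRing B] [IsLocalRing B] (I : Ideal B) (hI : I.FG)
    (hne : I ≠ ⊥) :
    ∃ J : Ideal B, J ≤ I ∧ J ≠ I ∧ (∀ K : Ideal B, J ≤ K → K ≤ I → K = J ∨ K = I) ∧
      maximalIdeal B • I ≤ J := by
  haveI : Module.Finite B ↥I := Module.Finite.iff_fg.mpr hI
  haveI : Nontrivial ↥I := by
    rw [Submodule.nontrivial_iff_ne_bot]; exact hne
  obtain h | ⟨N, hN, -⟩ := IsCoatomic.eq_top_or_exists_le_coatom (⊥ : Submodule B ↥I)
  · exact absurd h bot_ne_top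
  have hJle : N.map I.subtype ≤ I := Submodule.map_subtype_le I N
  have hJne : N.map I.subtype ≠ I := by
    intro h
    apply hN.1
    have h1 : N.map I.subtype = (⊤ : Submodule B ↥I).map I.subtype := by
      rw [Submodule.map_subtype_top]; exact h
    exact Submodule.map_injective_of_injective I.injective_subtype h1
  have hmax : ∀ K : Ideal B, N.map I.subtype ≤ K → K ≤ I → K = N.map I.subtype ∨ K = I := by
    intro K hJK hKI
    have h1 : N ≤ Submodule.comap I.subtype K := by
      intro x hx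
      exact hJK (Submodule.mem_map_of_mem hx)
    have h2 : Submodule.map I.subtype (Submodule.comap I.subtype K) = K := by
      rw [Submodule.map_comap_eq, Submodule.range_subtype]
      exact inf_eq_right.mpr hKI
    rcases eq_or_lt_of_le h1 with h3 | h3
    · left; rw [← h2, ← h3]
    · right
      have h4 := hN.2 _ h3
      rw [← h2, h4, Submodule.map_subtype_top]
  refine ⟨N.map I.subtype, hJle, hJne, hmax, ?_⟩
  -- Nakayama
  have h5 : N.map I.subtype ≤ N.map I.subtype ⊔ maximalIdeal B • I := le_sup_left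
  have h6 : N.map I.subtype ⊔ maximalIdeal B • I ≤ I :=
    sup_le hJle Submodule.smul_le_right
  rcases hmax _ h5 h6 with h7 | h7
  · rw [← h7]; exact le_sup_right
  · exfalso
    apply hJne
    refine le_antisymm hJle ?_
    exact Submodule.le_of_le_smul_of_le_jacobson_bot hI
      (IsLocalRing.maximalIdeal_le_jacobson _) (le_of_eq h7.symm)

/-- the local criterion: a finitely generated ideal of a local ring vanishes if it vanishes in
every quotient as soon as it does modulo a socle element -/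
theorem eq_bot_of_forall_socle {B : Type u} [CommRing B] [IsLocalRing B] (I : Ideal B)
    (hI : I.FG) (hIm : I ≤ maximalIdeal B)
    (H : ∀ (R : Type u) [CommRing R] [IsLocalRing R] (φ : B →+* R) (t : R),
      (∀ a : R, a * t = 0 ↔ a ∈ maximalIdeal R) → t ∈ maximalIdeal R →
      (∀ x ∈ I, Ideal.Quotient.mk (Ideal.span {t}) (φ x) = 0) → ∀ x ∈ I, φ x = 0) :
    I = ⊥ := by
  by_contra hne
  obtain ⟨J, hJle, hJne, hmax, hmJ⟩ := exists_coatom_below I hI hne
  have hJtop : J ≠ ⊤ := by
    intro h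
    apply hJne
    exact le_antisymm hJle (h ▸ le_top)
  haveI : Nontrivial (B ⧸ J) := Ideal.Quotient.nontrivial_iff.mpr hJtop
  haveI : IsLocalRing (B ⧸ J) :=
    IsLocalRing.of_surjective' (Ideal.Quotient.mk J) Ideal.Quotient.mk_surjective
  haveI : IsLocalHom (Ideal.Quotient.mk J) :=
    IsLocalHom.of_surjective (Ideal.Quotient.mk J) Ideal.Quotient.mk_surjective
  -- an element of `I` outside `J`
  obtain ⟨x, hxI, hxJ⟩ : ∃ x ∈ I, x ∉ J := by
    by_contra h
    apply hJne
    refine le_antisymm hJle (fun y hy => ?_)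
    by_contra hyJ
    exact h ⟨y, hy, hyJ⟩
  have hmem : ∀ b : B, Ideal.Quotient.mk J b ∈ maximalIdeal (B ⧸ J) ↔ b ∈ maximalIdeal B := by
    intro b
    rw [IsLocalRing.mem_maximalIdeal, IsLocalRing.mem_maximalIdeal, mem_nonunits_iff,
      mem_nonunits_iff, isUnit_map_iff]
  have hsup : J ⊔ Ideal.span {x} = I := by
    have h1 : J ≤ J ⊔ Ideal.span {x} := le_sup_left
    have h2 : J ⊔ Ideal.span {x} ≤ I :=
      sup_le hJle ((Ideal.span_singleton_le_iff_mem _).mpr hxI)
    rcases hmax _ h1 h2 with h3 | h3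
    · exfalso
      apply hxJ
      rw [← h3]
      exact Ideal.mem_sup_right (Ideal.mem_span_singleton_self x)
    · exact h3
  have key := H (B ⧸ J) (Ideal.Quotient.mk J) (Ideal.Quotient.mk J x) ?_ ?_ ?_
  · -- contradiction: `I ≤ J`
    apply hJne
    refine le_antisymm hJle (fun y hy => ?_)
    exact Ideal.Quotient.eq_zero_iff_mem.mp (key y hy)
  · intro a
    obtain ⟨b, rfl⟩ := Ideal.Quotient.mk_surjective a
    rw [hmem, ← map_mul, Ideal.Quotient.eq_zero_iff_mem]
    constructor
    · intro h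
      by_contra hb
      have hb' : IsUnit b := by
        rwa [IsLocalRing.mem_maximalIdeal, mem_nonunits_iff, not_not] at hb
      apply hxJ
      obtain ⟨c, hc⟩ := hb'.exists_left_inv
      have : x = c * (b * x) := by rw [← mul_assoc, hc, one_mul]
      rw [this]
      exact J.mul_mem_left c h
    · intro hb
      exact hmJ (Submodule.smul_mem_smul hb hxI)
  · rw [hmem]; exact hIm hxI
  · intro y hy
    rw [Ideal.Quotient.eq_zero_iff_mem]
    have hy' : y ∈ J ⊔ Ideal.span {x} := hsup ▸ hy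
    obtain ⟨j, hj, z, hz, rfl⟩ := Submodule.mem_sup.mp hy'
    obtain ⟨c, rfl⟩ := Ideal.mem_span_singleton'.mp hz
    rw [map_add, Ideal.Quotient.eq_zero_iff_mem.mpr hj, zero_add, map_mul]
    exact Ideal.mul_mem_left _ _ (Ideal.mem_span_singleton_self _)

/-- **openness criterion**: a finitely generated ideal `𝔞 ≤ 𝔭` that dies in every local ring as
soon as it dies modulo a socle element is killed by an element outside `𝔭` -/
theorem exists_notMem_forall_mul_eq_zero {A : Type u} [CommRing A] (𝔞 : Ideal A) (h𝔞 : 𝔞.FG)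
    (𝔭 : Ideal A) [𝔭.IsPrime] (hle : 𝔞 ≤ 𝔭)
    (H : ∀ (R : Type u) [CommRing R] [IsLocalRing R] (φ : A →+* R) (t : R),
      (∀ a : R, a * t = 0 ↔ a ∈ maximalIdeal R) → t ∈ maximalIdeal R →
      (∀ x ∈ 𝔞, Ideal.Quotient.mk (Ideal.span {t}) (φ x) = 0) → ∀ x ∈ 𝔞, φ x = 0) :
    ∃ a : A, a ∉ 𝔭 ∧ ∀ x ∈ 𝔞, a * x = 0 := by
  let B := Localization.AtPrime 𝔭
  have hI : 𝔞.map (algebraMap A B) = ⊥ := by
    refine eq_bot_of_forall_socle _ (Ideal.FG.map h𝔞 _) ?_ ?_
    · rw [← Localization.AtPrime.map_eq_maximalIdeal]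
      exact Ideal.map_mono hle
    · intro R _ _ φ t ht htm h0
      have h1 := H R (φ.comp (algebraMap A B)) t ht htm
        (fun x hx => h0 _ (Ideal.mem_map_of_mem _ hx))
      intro y hy
      refine Submodule.span_induction (p := fun y _ => φ y = 0) ?_ ?_ ?_ ?_ hy
      · rintro _ ⟨x, hx, rfl⟩
        exact h1 x hx
      · exact map_zero φ
      · intro a b _ _ ha hb
        rw [map_add, ha, hb, add_zero]
      · intro c a _ ha
        rw [smul_eq_mul, map_mul, ha, mul_zero]
  have h0 : ∀ x ∈ 𝔞, ∃ a : A, a ∉ 𝔭 ∧ a * x = 0 := by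
    intro x hx
    have h1 : algebraMap A B x = 0 := by
      have : algebraMap A B x ∈ 𝔞.map (algebraMap A B) := Ideal.mem_map_of_mem _ hx
      rwa [hI, Ideal.mem_bot] at this
    obtain ⟨m, hm⟩ := (IsLocalization.map_eq_zero_iff 𝔭.primeCompl B x).mp h1
    exact ⟨m.1, m.2, hm⟩
  clear hI H hle
  revert h0
  refine Submodule.fg_induction
    (motive := fun (𝔟 : Ideal A) _ => (∀ x ∈ 𝔟, ∃ a : A, a ∉ 𝔭 ∧ a * x = 0) →
      ∃ a : A, a ∉ 𝔭 ∧ ∀ x ∈ 𝔟, a * x = 0) ?_ ?_ 𝔞 h𝔞
  · intro x h0
    obtain ⟨a, ha, hax⟩ := h0 x (Ideal.mem_span_singleton_self x)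
    refine ⟨a, ha, fun y hy => ?_⟩
    obtain ⟨c, rfl⟩ := Ideal.mem_span_singleton'.mp hy
    rw [mul_left_comm, hax, mul_zero]
  · intro M₁ M₂ _ _ h1 h2 h0
    obtain ⟨a₁, ha₁, h1'⟩ := h1 (fun x hx => h0 x (Ideal.mem_sup_left hx))
    obtain ⟨a₂, ha₂, h2'⟩ := h2 (fun x hx => h0 x (Ideal.mem_sup_right hx))
    refine ⟨a₁ * a₂, fun h => ?_, fun y hy => ?_⟩
    · rcases Ideal.IsPrime.mem_or_mem inferInstance h with h | h
      · exact ha₁ h
      · exact ha₂ h
    · obtain ⟨y₁, hy₁, y₂, hy₂, rfl⟩ := Submodule.mem_sup.mp hy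
      rw [mul_add, mul_right_comm, h1' y₁ hy₁, zero_mul, mul_assoc, h2' y₂ hy₂, mul_zero,
        add_zero]

end Groth.Agent.Lib.helper7.CubeAlgOpen
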