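import Mathlib
import Groth.Agent.Lib.Helper7.CubeAlgOpen

/-!
# An immersion of finite presentation is open near a point if it is "socle-closed" (helper7)
-/

set_option autoImplicit false
set_option linter.style.haveILetI false
universe u
open CategoryTheory CategoryTheory.Limits AlgebraicGeometry Opposite TopologicalSpace

namespace Groth.Agent.Lib.helper7.CubeOpen

open IsLocalRing

/-- factoring `Spec.map φ` through `Spec (A ⧸ I)` -/
theorem specMap_factors_iff {A R : Type u} [CommRing A] [CommRing R] (I : Ideal A) (φ : A →+* R) :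
    (∃ c : Spec (CommRingCat.of R) ⟶ Spec (CommRingCat.of (A ⧸ I)),
      c ≫ Spec.map (CommRingCat.ofHom (Ideal.Quotient.mk I)) = Spec.map (CommRingCat.ofHom φ)) ↔
      ∀ x ∈ I, φ x = 0 := by
  constructor
  · rintro ⟨c, hc⟩ x hx
    rw [← Spec.map_preimage c, ← Spec.map_comp] at hc
    have h1 := Spec.map_injective hc
    have h2 : (Spec.preimage c).hom (Ideal.Quotient.mk I x) = φ x := congr($(h1).hom x)
    rw [← h2, Ideal.Quotient.eq_zero_iff_mem.mpr hx, map_zero]
  · intro h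
    refine ⟨Spec.map (CommRingCat.ofHom (Ideal.Quotient.lift I φ h)), ?_⟩
    rw [← Spec.map_comp]
    congr 1

/-- **affine form**: a closed immersion of finite presentation into `Spec A` which is
"socle-closed" is an isomorphism over a principal open neighbourhood of any of its points -/
theorem exists_away_factor {A : Type u} [CommRing A] {Z' : Scheme.{u}}
    (k' : Z' ⟶ Spec (CommRingCat.of A)) [IsClosedImmersion k'] [LocallyOfFinitePresentation k']
    (𝔭 : PrimeSpectrum A) (h𝔭 : (𝔭 : ↥(Spec (CommRingCat.of A))) ∈ Set.range k')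
    (H : ∀ (R : Type u) [CommRing R] [IsLocalRing R] (φ : A →+* R) (t : R),
      (∀ a : R, a * t = 0 ↔ a ∈ maximalIdeal R) → t ∈ maximalIdeal R →
      (∃ c₁, c₁ ≫ k' = Spec.map (CommRingCat.ofHom
        ((algebraMap R (R ⧸ Ideal.span {t})).comp φ))) →
      ∃ c', c' ≫ k' = Spec.map (CommRingCat.ofHom φ)) :
    ∃ a : A, a ∉ 𝔭.asIdeal ∧ ∃ c' : Spec (CommRingCat.of (Localization.Away a)) ⟶ Z',
      c' ≫ k' = Spec.map (CommRingCat.ofHom (algebraMap A (Localization.Away a))) := by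
  obtain ⟨I, e, he⟩ := IsClosedImmersion.Spec_iff.mp ‹IsClosedImmersion k'›
  -- factoring through `k'` is factoring through `Spec (A ⧸ I)`
  have hfac : ∀ {R : Type u} [CommRing R] (φ : A →+* R),
      (∃ c, c ≫ k' = Spec.map (CommRingCat.ofHom φ)) ↔ ∀ x ∈ I, φ x = 0 := by
    intro R _ φ
    rw [← specMap_factors_iff I φ]
    constructor
    · rintro ⟨c, hc⟩
      exact ⟨c ≫ e.hom, by rw [Category.assoc, ← he, hc]⟩
    · rintro ⟨c, hc⟩
      exact ⟨c ≫ e.inv, by rw [he, Category.assoc, Iso.inv_hom_id_assoc, hc]⟩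
  -- `I` is finitely generated
  have hIfg : I.FG := by
    have h1 : LocallyOfFinitePresentation
        (Spec.map (CommRingCat.ofHom (Ideal.Quotient.mk I))) := by
      have : Spec.map (CommRingCat.ofHom (Ideal.Quotient.mk I)) = e.inv ≫ k' := by
        rw [he, Iso.inv_hom_id_assoc]
      rw [this]; infer_instance
    rw [LocallyOfFinitePresentation.SpecMap_iff] at h1
    letI : Algebra A (A ⧸ I) := (Ideal.Quotient.mk I).toAlgebra
    haveI : Algebra.FinitePresentation A (A ⧸ I) := h1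
    let f : A →ₐ[A] A ⧸ I := { toRingHom := Ideal.Quotient.mk I, commutes' := fun _ => rfl }
    have h2 := Algebra.FinitePresentation.ker_fG_of_surjective f Ideal.Quotient.mk_surjective
    have h3 : RingHom.ker f.toRingHom = I := Ideal.mk_ker
    rwa [h3] at h2
  -- `I ≤ 𝔭`
  have hI𝔭 : I ≤ 𝔭.asIdeal := by
    obtain ⟨z, hz⟩ := h𝔭
    intro x hx
    have h1 : (Spec.map (CommRingCat.ofHom (Ideal.Quotient.mk I))) (e.hom z) = 𝔭 := by
      rw [← Scheme.Hom.comp_apply, ← he]; exact hz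
    rw [← h1]
    change Ideal.Quotient.mk I x ∈ (e.hom z).asIdeal
    rw [Ideal.Quotient.eq_zero_iff_mem.mpr hx]
    exact Ideal.zero_mem _
  obtain ⟨a, ha, hax⟩ := Groth.Agent.Lib.helper7.CubeAlgOpen.exists_notMem_forall_mul_eq_zero
    I hIfg 𝔭.asIdeal hI𝔭 (fun R _ _ φ t ht htm h0 => by
      have h1 := H R φ t ht htm ((hfac _).mpr (fun x hx => by
        have := h0 x hx
        simpa using this))
      exact (hfac φ).mp h1)
  refine ⟨a, ha, (hfac _).mpr (fun x hx => ?_)⟩
  rw [IsLocalization.map_eq_zero_iff (Submonoid.powers a)]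
  exact ⟨⟨a, 1, pow_one a⟩, hax x hx⟩

/-- **an immersion of finite presentation that is socle-closed is open near each of its points** -/
theorem exists_open_factor {Z S : Scheme.{u}} (ι : Z ⟶ S) [IsImmersion ι]
    [LocallyOfFinitePresentation ι] (s : S) (hs : s ∈ Set.range ι)
    (H : ∀ (R : Type u) [CommRing R] [IsLocalRing R] (t : R),
      (∀ a : R, a * t = 0 ↔ a ∈ maximalIdeal R) → t ∈ maximalIdeal R →
      ∀ c : Spec (CommRingCat.of R) ⟶ S,
      (∃ c₁, c₁ ≫ ι = Spec.map (CommRingCat.ofHom (algebraMap R (R ⧸ Ideal.span {t}))) ≫ c) →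
      ∃ c', c' ≫ ι = c) :
    ∃ U : S.Opens, s ∈ U ∧ ∃ c' : (U : Scheme.{u}) ⟶ Z, c' ≫ ι = U.ι := by
  obtain ⟨z, rfl⟩ := hs
  obtain ⟨C, k, hkcl, hk⟩ : ∃ (C : S.Opens) (k : Z ⟶ C), IsClosedImmersion k ∧ k ≫ C.ι = ι :=
    ⟨_, ι.liftCoborder, inferInstance, ι.liftCoborder_ι⟩
  haveI := hkcl
  have hsC : ι z ∈ C := by
    have : ι z = C.ι (k z) := by rw [← Scheme.Hom.comp_apply, hk]
    rw [this]; exact (k z).2
  obtain ⟨_, ⟨V, hV, rfl⟩, hsV, hVC⟩ := S.isBasis_affineOpens.exists_subset_of_mem_open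
    hsC C.2
  let A := Γ(S, V)
  let e : Spec (CommRingCat.of A) ⟶ S := hV.fromSpec
  have hrange : Set.range e ⊆ Set.range C.ι := by
    rw [IsAffineOpen.range_fromSpec, Scheme.Opens.range_ι]; exact hVC
  let l : Spec (CommRingCat.of A) ⟶ C := IsOpenImmersion.lift C.ι e hrange
  have hl : l ≫ C.ι = e := IsOpenImmersion.lift_fac _ _ _
  let k' := pullback.snd k l
  haveI : LocallyOfFinitePresentation (k ≫ C.ι) := by rw [hk]; infer_instance
  haveI : LocallyOfFinitePresentation k :=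
    MorphismProperty.of_postcomp (W := @LocallyOfFinitePresentation) (W' := @IsOpenImmersion)
      k C.ι inferInstance inferInstance
  -- factoring through `k'` is factoring through `ι`
  have hfac : ∀ {T : Scheme.{u}} (c₀ : T ⟶ Spec (CommRingCat.of A)),
      (∃ c, c ≫ k' = c₀) ↔ ∃ c, c ≫ ι = c₀ ≫ e := by
    intro T c₀
    constructor
    · rintro ⟨c, rfl⟩
      refine ⟨c ≫ pullback.fst k l, ?_⟩
      rw [Category.assoc, ← hk, ← Category.assoc (pullback.fst k l), pullback.condition,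
        Category.assoc, hl, Category.assoc]
    · rintro ⟨c, hc⟩
      refine ⟨pullback.lift c c₀ ?_, pullback.lift_snd _ _ _⟩
      rw [← cancel_mono C.ι, Category.assoc, hk, hc, Category.assoc, hl]
  let 𝔭 : PrimeSpectrum A := hV.primeIdealOf ⟨ι z, hsV⟩
  have h𝔭e : e 𝔭 = ι z := hV.fromSpec_primeIdealOf ⟨ι z, hsV⟩
  have h𝔭 : (𝔭 : ↥(Spec (CommRingCat.of A))) ∈ Set.range k' := by
    have h1 : k z = l 𝔭 := by
      apply C.ι.isOpenEmbedding.injective
      rw [← Scheme.Hom.comp_apply, ← Scheme.Hom.comp_apply, hk, hl]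
      exact h𝔭e.symm
    obtain ⟨w, -, hw⟩ := Scheme.Pullback.exists_preimage_pullback (f := k) (g := l) z 𝔭 h1
    exact ⟨w, hw⟩
  obtain ⟨a, ha, c', hc'⟩ := exists_away_factor k' 𝔭 h𝔭 (fun R _ _ φ t ht htm h0 => by
    rw [hfac] at h0 ⊢
    refine H R t ht htm _ ?_
    obtain ⟨c₁, hc₁⟩ := h0
    refine ⟨c₁, ?_⟩
    rw [hc₁, ← Category.assoc, ← Spec.map_comp]
    rfl)
  let jU : Spec (CommRingCat.of (Localization.Away a)) ⟶ S :=
    Spec.map (CommRingCat.ofHom (algebraMap A (Localization.Away a))) ≫ e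
  obtain ⟨c'', hc''⟩ := (hfac _).mp ⟨c', hc'⟩
  refine ⟨jU.opensRange, ?_, jU.isoOpensRange.inv ≫ c'', ?_⟩
  · have h1 : (𝔭 : PrimeSpectrum A) ∈ Set.range
        (PrimeSpectrum.comap (algebraMap A (Localization.Away a))) := by
      rw [PrimeSpectrum.localization_away_comap_range (Localization.Away a) a]
      exact ha
    obtain ⟨𝔮, h𝔮⟩ := h1
    refine ⟨𝔮, ?_⟩
    rw [Scheme.Hom.comp_apply]
    rw [← h𝔭e]
    congr 1
  · rw [Category.assoc, hc'']
    exact Scheme.Hom.isoOpensRange_inv_comp jU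

end Groth.Agent.Lib.helper7.CubeOpen
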