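import Mathlib
import Groth.Agent.Lib.Helper7.DescFinal

/-!
# The image of the descent locus (helper7)
-/

set_option autoImplicit false
set_option linter.style.haveILetI false
universe u
open CategoryTheory CategoryTheory.Limits AlgebraicGeometry Opposite TopologicalSpace

namespace Groth.Agent.Lib.helper7.DescRange

open Groth.Agent.Lib.helper16.FLF Groth.Agent.Lib.helper7.DescQS
open Scheme.Modules

/-- a finite locally free module on a one-point scheme is free -/
theorem free_of_subsingleton {Z : Scheme.{u}} [Subsingleton Z] [Nonempty Z]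
    (M : Z.Modules) (hM : FlatMod.IsFinLocFree M) :
    ∃ n : ℕ, Nonempty (M ≅ FlatMod.freeMod Z n) := by
  obtain ⟨pt⟩ : Nonempty Z := inferInstance
  obtain ⟨U, n, hU, ⟨e⟩⟩ := hM pt
  have hUtop : U = ⊤ := by
    ext q
    simp only [Opens.coe_top, Set.mem_univ, iff_true]
    rw [Subsingleton.elim q pt]
    exact hU
  subst hUtop
  have h1 : M ≅ (M.restrict (⊤ : Z.Opens).ι).restrict (Z.topIso.inv) :=
    (restrictFunctorId.app M).symm ≪≫
      (restrictFunctorCongr (f := 𝟙 Z) (g := Z.topIso.inv ≫ (⊤ : Z.Opens).ι) (by simp)).app M ≪≫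
      (restrictFunctorComp Z.topIso.inv (⊤ : Z.Opens).ι).app M
  exact ⟨n, ⟨h1 ≪≫ (restrictFunctor Z.topIso.inv).mapIso e ≪≫ restrictFreeModIso Z.topIso.inv n⟩⟩

/-- a preimmersion induces isomorphisms of residue fields -/
theorem isIso_residueFieldMap {Z S : Scheme.{u}} (j : Z ⟶ S) [IsPreimmersion j] (z : Z) :
    IsIso (j.residueFieldMap z) := by
  rw [ConcreteCategory.isIso_iff_bijective]
  refine ⟨(j.residueFieldMap z).hom.injective, ?_⟩
  have h1 := Scheme.residue_residueFieldMap j z
  have h2 : Function.Surjective (j.stalkMap z ≫ Z.residue z) :=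
    (Z.residue_surjective z).comp (j.stalkMap_surjective z)
  rw [← h1] at h2
  intro b
  obtain ⟨a, ha⟩ := h2 b
  exact ⟨S.residue (j z) a, ha⟩

variable {X S : Scheme.{u}} (f : X ⟶ S) (E : X.Modules)

/-- **the image of a universal descent locus is the set of points with free fibre** -/
theorem range_eq_of_universal {Z : Scheme.{u}} (j : Z ⟶ S) [IsPreimmersion j]
    (huniv : ∀ (T : Scheme.{u}) (g : T ⟶ S), (∃ g' : T ⟶ Z, g' ≫ j = g) ↔
      Desc (pullback.snd f g) ((Scheme.Modules.pullback (pullback.fst f g)).obj E)) :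
    Set.range j = {s : S | ∃ n : ℕ, Nonempty
      ((Scheme.Modules.pullback (f.fiberι s)).obj E ≅ FlatMod.freeMod (f.fiber s) n)} := by
  ext s
  constructor
  · rintro ⟨z, rfl⟩
    haveI := isIso_residueFieldMap j z
    have hfac : (Spec.map (inv (j.residueFieldMap z)) ≫ Z.fromSpecResidueField z) ≫ j =
        S.fromSpecResidueField (j z) := by
      rw [Category.assoc, ← Scheme.Hom.SpecMap_residueFieldMap_fromSpecResidueField,
        ← Spec.map_comp_assoc, IsIso.hom_inv_id, Spec.map_id, Category.id_comp]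
    obtain ⟨N, hN, ⟨e⟩⟩ := (huniv _ (S.fromSpecResidueField (j z))).mp ⟨_, hfac⟩
    haveI : Subsingleton ↥(Spec (S.residueField (j z))) :=
      inferInstanceAs (Subsingleton (PrimeSpectrum (S.residueField (j z))))
    obtain ⟨n, ⟨eN⟩⟩ := free_of_subsingleton N hN
    exact ⟨n, ⟨e.symm ≪≫ (Scheme.Modules.pullback _).mapIso eN ≪≫ pullbackFreeModIso _ n⟩⟩
  · rintro ⟨n, ⟨e⟩⟩
    obtain ⟨g', hg'⟩ := (huniv _ (S.fromSpecResidueField s)).mpr
      ⟨FlatMod.freeMod _ n, isFinLocFree_freeMod _ n, ⟨pullbackFreeModIso _ n ≪≫ e.symm⟩⟩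
    obtain ⟨pt⟩ : Nonempty ↥(Spec (S.residueField s)) := inferInstance
    refine ⟨g' pt, ?_⟩
    have h1 : (g' ≫ j) pt = s := by
      rw [hg']
      exact Scheme.fromSpecResidueField_apply s pt
    exact h1

end Groth.Agent.Lib.helper7.DescRange
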