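import Mathlib
import Groth.Agent.Lib.Helper21.GeomFibre
import Groth.Agent.Lib.Helper14.UnivPush



/-!
# helper7: `O_T → g_* O_X` is an isomorphism for proper flat finitely presented morphisms with
geometrically connected and geometrically reduced fibres over an ARBITRARY base

* `finrank_fiber_eq_one_of_point`: `h^0 = 1` at a point of a locally Noetherian base hit by a geometric point
  over which the base change is geometrically connected and reduced;
* `isIso_app_of_spec`: the affine case, by Noetherian approximation (helper9 `exists_flat_proper_model`) and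
  helper14 `UnivPush.isIso_app`;
* `isIso_app`: the general case.
-/

set_option autoImplicit false
universe u

open CategoryTheory CategoryTheory.Limits Opposite TopologicalSpace AlgebraicGeometry

namespace Groth.Agent.Lib.helper7.SteinU

open Groth.Agent.Lib.helper21.FibreH0 Groth.Agent.Lib.helper11.InvMod

theorem finrank_fiber_eq_one_of_point {X Y : Scheme.{u}} (f : X ⟶ Y) [IsProper f] [Flat f]
    [IsLocallyNoetherian Y] (Kb : Type u) [Field Kb] [IsAlgClosed Kb]
    (g : Spec (CommRingCat.of Kb) ⟶ Y)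
    [GeometricallyConnected (pullback.snd f g)] [GeometricallyReduced (pullback.snd f g)]
    (pt : ↥(Spec (CommRingCat.of Kb))) :
    Module.finrank (Y.residueField (g.base pt)) Γ(f.fiber (g.base pt), ⊤) = 1 := by
  have : IsAlgClosed ((Spec (CommRingCat.of Kb)).residueField pt) :=
    Groth.Agent.Lib.helper21.GeomFibre.isAlgClosed_residueField Kb pt
  have h1 := Groth.Agent.Lib.helper21.GeomFibre.finrank_globalSections_eq_one (pullback.snd f g) pt
  let e : CohIII.fiberMod (pullback.snd f g)
      ((Scheme.Modules.pullback (pullback.fst f g)).obj (Coh.structureModule X)) pt ≅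
      Coh.structureModule ((pullback.snd f g).fiber pt) :=
    (Scheme.Modules.pullback ((pullback.snd f g).fiberι pt)).mapIso
      (pullbackUnitIso (pullback.fst f g)) ≪≫ pullbackUnitIso ((pullback.snd f g).fiberι pt)
  have h2 := Groth.Agent.S4508.fiberRank_baseChange f g (Coh.structureModule X)
    (isCoh_structureModule X) (Groth.Agent.Lib.helper21.GCStein.isFlatOver_structureModule f) pt 0
  rw [Groth.Agent.Lib.helper21.PicFibre.fiberRank_zero_of_iso (pullback.snd f g) _ pt e, h1,
    fiberRank_structureModule f _] at h2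
  exact h2.symm

/-- `h^0 = 1` for the fibres of a Noetherian model at the images of the points of the original base -/
theorem finrank_fiber_model {X X₀ T Y₀ : Scheme.{u}} (f : X ⟶ T) (f₀ : X₀ ⟶ Y₀) (gX : X ⟶ X₀)
    (h : T ⟶ Y₀) (hpb : IsPullback gX f f₀ h) [IsProper f₀] [Flat f₀] [IsLocallyNoetherian Y₀]
    [GeometricallyConnected f] [GeometricallyReduced f] (y' : T) :
    Module.finrank (Y₀.residueField (h.base y')) Γ(f₀.fiber (h.base y'), ⊤) = 1 := by
  let K := T.residueField y'
  let Kb := AlgebraicClosure K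
  let g' : Spec (CommRingCat.of Kb) ⟶ T :=
    Spec.map (CommRingCat.ofHom (algebraMap K Kb)) ≫ T.fromSpecResidueField y'
  let pt : ↥(Spec (CommRingCat.of Kb)) := (⊥ : PrimeSpectrum Kb)
  have hpt : g'.base pt = y' := Scheme.fromSpecResidueField_apply y' _
  have hpaste : IsPullback (pullback.fst f g' ≫ gX) (pullback.snd f g') f₀ (g' ≫ h) :=
    (IsPullback.of_hasPullback f g').paste_horiz hpb
  have heq : pullback.snd f₀ (g' ≫ h) = hpaste.isoPullback.inv ≫ pullback.snd f g' := by
    rw [Iso.eq_inv_comp]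
    exact hpaste.isoPullback_hom_snd
  have hsq : IsPullback hpaste.isoPullback.inv (pullback.snd f₀ (g' ≫ h)) (pullback.snd f g')
      (𝟙 _) := IsPullback.of_horiz_isIso ⟨by rw [Category.comp_id, heq]⟩
  haveI : GeometricallyConnected (pullback.snd f₀ (g' ≫ h)) :=
    MorphismProperty.of_isPullback (P := @GeometricallyConnected) hsq inferInstance
  haveI : GeometricallyReduced (pullback.snd f₀ (g' ≫ h)) :=
    MorphismProperty.of_isPullback (P := @GeometricallyReduced) hsq inferInstance
  have h1 := finrank_fiber_eq_one_of_point f₀ Kb (g' ≫ h) pt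
  have h2 : (g' ≫ h).base pt = h.base y' := by
    rw [Scheme.Hom.comp_base, TopCat.comp_app, hpt]
  rw [h2] at h1
  exact h1

/-- **Stein property via a Noetherian model**: if `f : X ⟶ T` (geometrically connected and geometrically reduced
fibres) is the base change of a proper flat finitely presented `f₀ : X₀ ⟶ Y₀` over a locally Noetherian
base, then `O_T(U) → O_X(f⁻¹U)` is an isomorphism for every open `U`. -/
theorem isIso_app_of_model {X X₀ T Y₀ : Scheme.{u}} (f : X ⟶ T) (f₀ : X₀ ⟶ Y₀) (gX : X ⟶ X₀)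
    (h : T ⟶ Y₀) (hpb : IsPullback gX f f₀ h) [IsProper f₀] [Flat f₀]
    [LocallyOfFinitePresentation f₀] [IsLocallyNoetherian Y₀]
    [GeometricallyConnected f] [GeometricallyReduced f] (U : T.Opens) : IsIso (f.app U) := by
  have hO := isCoh_structureModule X₀
  have hfl := Groth.Agent.Lib.helper21.GCStein.isFlatOver_structureModule f₀
  -- the open locus where `h^0 = 1`
  have hopen1 : IsOpen {y : Y₀ | CohIII.fiberRank f₀ (Coh.structureModule X₀) 0 y < 2} :=
    (upperSemicontinuous_fiberRank f₀ _ hO hfl 0).isOpen_preimage 2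
  have hopen2 : IsOpen (Set.range f₀.base) := by
    have : UniversallyOpen f₀ := inferInstance
    exact f₀.isOpenMap.isOpen_range
  let U₀ : Y₀.Opens := ⟨{y : Y₀ | CohIII.fiberRank f₀ (Coh.structureModule X₀) 0 y < 2} ∩
    Set.range f₀.base, hopen1.inter hopen2⟩
  have hU₀ : ∀ y : Y₀, y ∈ U₀ → Module.finrank (Y₀.residueField y) Γ(f₀.fiber y, ⊤) = 1 := by
    rintro y ⟨hy1, x, hx⟩
    have hy1' : CohIII.fiberRank f₀ (Coh.structureModule X₀) 0 y < 2 := hy1
    rw [fiberRank_structureModule f₀ y] at hy1'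
    have hfin := finite_globalSections_fiber f₀ y
    have hne : Nonempty ↥(f₀.fiber y) := by
      have : x ∈ Set.range (f₀.fiberι y).base := by
        rw [f₀.range_fiberι y]
        exact hx
      obtain ⟨w, -⟩ := this
      exact ⟨w⟩
    haveI : Nonempty (⊤ : (f₀.fiber y).Opens) := by
      obtain ⟨w⟩ := hne
      exact ⟨⟨w, trivial⟩⟩
    haveI : Nontrivial Γ(f₀.fiber y, ⊤) := Scheme.component_nontrivial _ ⊤
    have hpos : 0 < Module.finrank (Y₀.residueField y) Γ(f₀.fiber y, ⊤) := Module.finrank_pos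
    omega
  have hle : Set.range h.base ⊆ Set.range U₀.ι.base := by
    rintro _ ⟨y', rfl⟩
    rw [Scheme.Opens.range_ι]
    have h1 := finrank_fiber_model f f₀ gX h hpb y'
    refine ⟨?_, ?_⟩
    · show CohIII.fiberRank f₀ (Coh.structureModule X₀) 0 (h.base y') < 2
      rw [fiberRank_structureModule f₀ _, h1]
      norm_num
    · obtain ⟨x, hx⟩ := f.surjective y'
      refine ⟨gX.base x, ?_⟩
      have := congrArg (fun φ => φ.base x) hpb.w
      simp only [Scheme.Hom.comp_base, TopCat.comp_app] at this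
      rw [this, hx]
  -- restrict the model over `U₀`
  let f₁ : pullback f₀ U₀.ι ⟶ (U₀ : Scheme.{u}) := pullback.snd f₀ U₀.ι
  have h0 : ∀ y : (U₀ : Scheme.{u}),
      Module.finrank ((U₀ : Scheme.{u}).residueField y) Γ(f₁.fiber y, ⊤) = 1 := by
    intro y
    let e : CohIII.fiberMod (pullback.snd f₀ U₀.ι)
        ((Scheme.Modules.pullback (pullback.fst f₀ U₀.ι)).obj (Coh.structureModule X₀)) y ≅
        Coh.structureModule ((pullback.snd f₀ U₀.ι).fiber y) :=
      (Scheme.Modules.pullback ((pullback.snd f₀ U₀.ι).fiberι y)).mapIso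
        (pullbackUnitIso (pullback.fst f₀ U₀.ι)) ≪≫ pullbackUnitIso ((pullback.snd f₀ U₀.ι).fiberι y)
    have h2 := Groth.Agent.S4508.fiberRank_baseChange f₀ U₀.ι (Coh.structureModule X₀) hO hfl y 0
    rw [Groth.Agent.Lib.helper21.PicFibre.fiberRank_zero_of_iso (pullback.snd f₀ U₀.ι) _ y e,
      fiberRank_structureModule f₀ _] at h2
    exact h2.trans (hU₀ _ y.2)
  let h₁ : T ⟶ (U₀ : Scheme.{u}) := IsOpenImmersion.lift U₀.ι h hle
  have hh₁ : h₁ ≫ U₀.ι = h := IsOpenImmersion.lift_fac _ _ _
  let gX₁ : X ⟶ pullback f₀ U₀.ι := pullback.lift gX (f ≫ h₁) (by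
    rw [Category.assoc, hh₁]; exact hpb.w)
  have hg1 : gX₁ ≫ pullback.fst f₀ U₀.ι = gX := pullback.lift_fst _ _ _
  have hg2 : gX₁ ≫ f₁ = f ≫ h₁ := pullback.lift_snd _ _ _
  have hpb₁ : IsPullback gX₁ f f₁ h₁ := by
    refine IsPullback.of_right ?_ hg2 (IsPullback.of_hasPullback f₀ U₀.ι)
    rw [hg1, hh₁]
    exact hpb
  haveI : IsLocallyNoetherian (U₀ : Scheme.{u}) := inferInstance
  have hmain := Groth.Agent.Lib.Helper14.UnivPush.isIso_app f₁ h0 h₁ U
  have hf : f = hpb₁.isoPullback.hom ≫ pullback.snd f₁ h₁ := hpb₁.isoPullback_hom_snd.symm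
  have key : ∀ φ : X ⟶ T, φ = hpb₁.isoPullback.hom ≫ pullback.snd f₁ h₁ → IsIso (φ.app U) := by
    rintro _ rfl
    rw [Scheme.Hom.comp_app]
    have h3 : IsIso (hpb₁.isoPullback.hom.app (pullback.snd f₁ h₁ ⁻¹ᵁ U)) := inferInstance
    exact @IsIso.comp_isIso _ _ _ _ _ _ _ hmain h3
  exact key f hf

end Groth.Agent.Lib.helper7.SteinU
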