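import Mathlib
import Groth.Agent.Lib.Helper7.SteinU1
import Groth.Agent.Lib.Helper14.Rigid1
import Groth.Agent.Lib.Helper9.GROpen3
import Groth.Agent.Lib.Helper1.SmoothReduced

/-!
# helper7: `O_T → g_* O_X` is an isomorphism (arbitrary base)

* `isIso_app_of_spec`: the affine case, by Noetherian approximation (helper9 `exists_flat_proper_model`);
* `isIso_app`: `g : X ⟶ T` proper, flat, locally of finite presentation with geometrically connected and
  geometrically reduced fibres over an arbitrary scheme `T`: `O_T(V) → O_X(g⁻¹V)` is an isomorphism for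
  every open `V`;
* `geometricallyReduced_of_smooth`: smooth morphisms are geometrically reduced.
-/

set_option autoImplicit false
universe u

open CategoryTheory CategoryTheory.Limits Opposite TopologicalSpace AlgebraicGeometry

namespace Groth.Agent.Lib.helper7.SteinU

theorem isIso_app_of_spec (A : Type u) [CommRing A] {X : Scheme.{u}}
    (f : X ⟶ Spec (CommRingCat.of A)) [IsProper f] [Flat f] [LocallyOfFinitePresentation f]
    [GeometricallyConnected f] [GeometricallyReduced f] (U : (Spec (CommRingCat.of A)).Opens) :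
    IsIso (f.app U) := by
  obtain ⟨A₀, hfg, X₀, f₀, g, hflat, hproper, hlfp, hpb⟩ :=
    Groth.Agent.Lib.helper9.GROpen.exists_flat_proper_model A f
  have : Algebra.FiniteType ℤ ↥A₀ := (Subalgebra.fg_iff_finiteType _).mp hfg
  have : IsNoetherianRing ↥A₀ := Algebra.FiniteType.isNoetherianRing ℤ ↥A₀
  exact isIso_app_of_model f f₀ g _ hpb U

theorem isIso_app_of_isAffineOpen {X T : Scheme.{u}} (g : X ⟶ T) [IsProper g] [Flat g]
    [LocallyOfFinitePresentation g] [GeometricallyConnected g] [GeometricallyReduced g]
    {V : T.Opens} (hV : IsAffineOpen V) : IsIso (g.app V) := by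
  let f' : ↑(g ⁻¹ᵁ V) ⟶ Spec (CommRingCat.of ↑Γ(T, V)) := (g ∣_ V) ≫ hV.isoSpec.hom
  have hsq : IsPullback (𝟙 _) (g ∣_ V) f' hV.isoSpec.hom :=
    IsPullback.of_horiz_isIso ⟨by simp [f']⟩
  have hsq' : IsPullback (𝟙 _) f' (g ∣_ V) hV.isoSpec.inv :=
    IsPullback.of_horiz_isIso ⟨by simp [f']⟩
  haveI : GeometricallyConnected f' :=
    MorphismProperty.of_isPullback (P := @GeometricallyConnected) hsq' inferInstance
  haveI : GeometricallyReduced f' :=
    MorphismProperty.of_isPullback (P := @GeometricallyReduced) hsq' inferInstance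
  have h1 : IsIso (f'.app ⊤) := isIso_app_of_spec ↑Γ(T, V) f' ⊤
  have h2 : IsIso f'.appTop := h1
  have h3 : f'.appTop = hV.isoSpec.hom.appTop ≫ (g ∣_ V).appTop := Scheme.Hom.comp_appTop _ _
  have hi : IsIso hV.isoSpec.hom.appTop := by
    show IsIso (hV.isoSpec.hom.app ⊤)
    infer_instance
  have h4 : IsIso (g ∣_ V).appTop := by
    have h5 : (g ∣_ V).appTop = inv hV.isoSpec.hom.appTop ≫ f'.appTop := by
      rw [h3, IsIso.inv_hom_id_assoc]
    rw [h5]
    infer_instance
  have h6 := Groth.Agent.Lib.Helper14.Rigid.restrict_appTop_eq g V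
  have h7 : g.app V = V.topIso.inv ≫ (g ∣_ V).appTop ≫ (g ⁻¹ᵁ V).topIso.hom := by
    rw [h6, Category.assoc, Category.assoc, Iso.inv_hom_id, Category.comp_id, Iso.inv_hom_id_assoc]
  rw [h7]
  infer_instance

/-- **Theorem U**: `O_T → g_* O_X` is an isomorphism for `g` proper, flat, locally of finite
presentation with geometrically connected and geometrically reduced fibres, over an arbitrary base. -/
theorem isIso_c {X T : Scheme.{u}} (g : X ⟶ T) [IsProper g] [Flat g]
    [LocallyOfFinitePresentation g] [GeometricallyConnected g] [GeometricallyReduced g] :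
    IsIso g.c := by
  let ι := {W : T.Opens // IsAffineOpen W}
  let Bs : ι → T.Opens := Subtype.val
  have hbasis : Opens.IsBasis (Set.range Bs) := by
    have := T.isBasis_affineOpens
    convert this using 1
    ext W
    constructor
    · rintro ⟨⟨W, hW⟩, rfl⟩
      exact hW
    · intro hW
      exact ⟨⟨W, hW⟩, rfl⟩
  let φ : T.sheaf ⟶ (TopCat.Sheaf.pushforward CommRingCat g.base).obj X.sheaf := ⟨g.c⟩
  haveI : IsIso φ := by
    refine TopCat.Sheaf.isIso_iff_isIso_basis (B := Bs) hbasis (fun i => ?_)
    obtain ⟨W, hW⟩ := i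
    exact isIso_app_of_isAffineOpen g hW
  have h4 : IsIso ((TopCat.Sheaf.forget CommRingCat _).map φ) := inferInstance
  exact h4

theorem isIso_app {X T : Scheme.{u}} (g : X ⟶ T) [IsProper g] [Flat g]
    [LocallyOfFinitePresentation g] [GeometricallyConnected g] [GeometricallyReduced g]
    (V : T.Opens) : IsIso (g.app V) := by
  have h5 : IsIso g.c := isIso_c g
  exact (NatIso.isIso_app_of_isIso g.c (op V))

/-- smooth morphisms are geometrically reduced -/
theorem geometricallyReduced_of_smooth {X Y : Scheme.{u}} (f : X ⟶ Y) [Smooth f] :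
    GeometricallyReduced f := by
  refine ⟨fun K _ y Z fst snd hpb => ?_⟩
  haveI : Smooth snd := MorphismProperty.of_isPullback (P := @Smooth) hpb inferInstance
  exact Groth.Agent.H1.SmoothReduced.isReduced_of_smooth snd

/-- `O_T → g_* O_X` as a morphism of modules is an isomorphism -/
theorem isIso_unitToPush {X T : Scheme.{u}} (g : X ⟶ T) [IsProper g] [Flat g]
    [LocallyOfFinitePresentation g] [GeometricallyConnected g] [GeometricallyReduced g] :
    IsIso (ClSub.unitToPush g) := by
  rw [Scheme.Modules.Hom.isIso_iff_isIso_app]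
  intro V
  rw [ConcreteCategory.isIso_iff_bijective]
  haveI := isIso_app g V
  exact ConcreteCategory.bijective_of_isIso (g.app V)

end Groth.Agent.Lib.helper7.SteinU
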