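import Mathlib
import Groth.Agent.S16956
import Groth.Agent.Lib.Helper7.CubeBC
import Groth.Agent.Lib.Helper7.CubeOpen
import Groth.Agent.Lib.Helper7.DescFinal2
import Groth.Agent.Lib.Helper7.DescRange
import Groth.Agent.Lib.Helper7.NNPicClosed
import Groth.Agent.Lib.Helper7.SteinU2
import Groth.Agent.Lib.Helper21.InvFibre
import Groth.Agent.Lib.Helper21.Seesaw
import Groth.Agent.Lib.Helper12.InvDual2

/-!
# The theorem of the cube over an arbitrary base: the open and closed locus (helper7)
-/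

set_option autoImplicit false
set_option linter.style.haveILetI false
universe u
open CategoryTheory CategoryTheory.Limits AlgebraicGeometry TopologicalSpace Opposite

namespace Groth.Agent.Lib.helper7.CubeLocus

open Groth.Agent.Lib.helper7.DescQS Groth.Agent.Lib.helper11.InvMod
  Groth.Agent.Lib.helper7.CubeBC

/-- a module which descends along a morphism with a section along which it is trivial is trivial -/
theorem iso_unit_of_desc {W S W' T : Scheme.{u}} (h : W ⟶ S) (L : W.Modules) (ρ : S ⟶ W)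
    (hρ : ρ ≫ h = 𝟙 S)
    (hρL : Nonempty ((Scheme.Modules.pullback ρ).obj L ≅ Coh.structureModule S))
    {v : W' ⟶ W} {p : W' ⟶ T} {c : T ⟶ S} (sq : IsPullback v p h c)
    (hd : Desc p ((Scheme.Modules.pullback v).obj L)) :
    Nonempty ((Scheme.Modules.pullback v).obj L ≅ Coh.structureModule W') := by
  obtain ⟨N, -, ⟨e⟩⟩ := hd
  let ρ' : T ⟶ W' := sq.lift (c ≫ ρ) (𝟙 T)
    (by rw [Category.assoc, hρ, Category.comp_id, Category.id_comp])
  have h1 : ρ' ≫ v = c ≫ ρ := sq.lift_fst _ _ _
  have h2 : ρ' ≫ p = 𝟙 T := sq.lift_snd _ _ _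
  obtain ⟨e'⟩ := triv_pullback_of_comp ρ' v c ρ h1 L hρL
  have eN : N ≅ Coh.structureModule T :=
    ((Scheme.Modules.pullbackId T).app N).symm ≪≫ (Scheme.Modules.pullbackCongr h2.symm).app N ≪≫
      ((Scheme.Modules.pullbackComp ρ' p).app N).symm ≪≫
      (Scheme.Modules.pullback ρ').mapIso e ≪≫ e'
  exact ⟨e.symm ≪≫ (Scheme.Modules.pullback p).mapIso eN ≪≫ pullbackUnitIso p⟩

/-- **the triviality locus** of an invertible module rigidified along a section -/
theorem exists_triv_locus {W S : Scheme.{u}} (h : W ⟶ S) [IsProper h] [Flat h]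
    [LocallyOfFinitePresentation h]
    (hO : ∀ (T : Scheme.{u}) (c : T ⟶ S) (U : T.Opens), IsIso ((pullback.snd h c).app U))
    (L : W.Modules) (hL : PicF.IsInvertible L) (ρ : S ⟶ W) (hρ : ρ ≫ h = 𝟙 S)
    (hρL : Nonempty ((Scheme.Modules.pullback ρ).obj L ≅ Coh.structureModule S)) :
    ∃ (Zd : Scheme.{u}) (ι : Zd ⟶ S), IsImmersion ι ∧ LocallyOfFinitePresentation ι ∧
      (∀ (T : Scheme.{u}) (c : T ⟶ S), (∃ c' : T ⟶ Zd, c' ≫ ι = c) ↔
        Desc (pullback.snd h c) ((Scheme.Modules.pullback (pullback.fst h c)).obj L)) ∧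
      (∀ (T : Scheme.{u}) (c : T ⟶ S), (∃ c' : T ⟶ Zd, c' ≫ ι = c) ↔
        Nonempty ((Scheme.Modules.pullback (pullback.fst h c)).obj L ≅
          Coh.structureModule _)) := by
  classical
  have hE : FlatMod.IsFinLocFree L :=
    Groth.Agent.Lib.helper16.FLF.isFinLocFree_of_isInvertible hL
  haveI : Coh.IsQCoh L := Groth.Agent.Lib.helper16.FLF.isQuasicoherent_of_isFinLocFree L hE
  have hfp : CohB1.IsFP L := Groth.Agent.Lib.helper16.FLF.isFinitePresentation_of_isFinLocFree L hE
  have hfl : FlatMod.IsFlatOver h L :=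
    Groth.Agent.Lib.helper21.InvFibre.isFlatOver_of_isFinLocFree h L hE
  choose Zr ιr z1 z2 z3 z4 z5 using
    fun r : ℕ => Groth.Agent.S16956.result h L hfp hfl r
  haveI := z1
  haveI := z2
  haveI := z3
  obtain ⟨V, hImm, hlfp, hqc, -, huniv⟩ :=
    Groth.Agent.Lib.helper7.DescFinal.exists_immersion_desc_qc h hO L hE Zr ιr
      (fun r T u => z4 r T u)
  refine ⟨_, _, hImm, hlfp, huniv, fun T c => ?_⟩
  rw [huniv T c]
  constructor
  · intro hd
    exact iso_unit_of_desc h L ρ hρ hρL (IsPullback.of_hasPullback _ c) hd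
  · rintro ⟨e⟩
    exact ⟨Coh.structureModule T,
      Groth.Agent.Lib.helper7.CubeFin.isFinLocFree_structureModule T,
      ⟨pullbackUnitIso _ ≪≫ e.symm⟩⟩

/-- a point lies in the image of a preimmersion iff its residue field point factors -/
theorem mem_range_iff_factors {Z S : Scheme.{u}} (j : Z ⟶ S) [IsPreimmersion j] (s : S) :
    s ∈ Set.range j ↔ ∃ c' : Spec (S.residueField s) ⟶ Z, c' ≫ j = S.fromSpecResidueField s := by
  constructor
  · rintro ⟨z, rfl⟩
    haveI := Groth.Agent.Lib.helper7.DescRange.isIso_residueFieldMap j z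
    refine ⟨Spec.map (inv (j.residueFieldMap z)) ≫ Z.fromSpecResidueField z, ?_⟩
    rw [Category.assoc, ← Scheme.Hom.SpecMap_residueFieldMap_fromSpecResidueField,
      ← Spec.map_comp_assoc, IsIso.hom_inv_id, Spec.map_id, Category.id_comp]
  · rintro ⟨g', hg'⟩
    obtain ⟨pt⟩ : Nonempty ↥(Spec (S.residueField s)) := inferInstance
    refine ⟨g' pt, ?_⟩
    have h1 : (g' ≫ j) pt = s := by
      rw [hg']
      exact Scheme.fromSpecResidueField_apply s pt
    exact h1

/-- **the product of two flat geometrically integral families is geometrically integral** -/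
theorem geometricallyIntegral_h {X Y S : Scheme.{u}} (f : X ⟶ S) (g : Y ⟶ S)
    [LocallyOfFinitePresentation f] [GeometricallyIntegral f]
    [Flat g] [LocallyOfFinitePresentation g] [GeometricallyIntegral g] :
    GeometricallyIntegral (pullback.fst f g ≫ f) := by
  refine ⟨fun K _ y Z' fst' snd' hp => ?_⟩
  haveI : IsIntegral (pullback f y) :=
    GeometricallyIntegral.geometrically_isIntegral y _ _ (IsPullback.of_hasPullback f y)
  haveI : IsLocallyNoetherian (pullback f y) := by
    haveI : LocallyOfFinitePresentation (pullback.snd f y) := inferInstance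
    haveI : LocallyOfFiniteType (pullback.snd f y) := inferInstance
    exact LocallyOfFiniteType.isLocallyNoetherian (pullback.snd f y)
  haveI : IsIntegral (pullback (pullback.fst f y ≫ f) g) := inferInstance
  let e₁ : Z' ≅ pullback (pullback.fst f g ≫ f) y := hp.isoPullback
  let e₂ : pullback (pullback.fst f g ≫ f) y ≅ pullback (pullback.fst f y ≫ f) g :=
    (isPullback_qT_Y f g y).isoPullback
  haveI : Nonempty Z' := ⟨(e₁ ≪≫ e₂).inv (Nonempty.some inferInstance)⟩
  exact isIntegral_of_isOpenImmersion (e₁ ≪≫ e₂).hom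

/-- **The theorem of the cube over an arbitrary base, open and closed locus.** -/
theorem exists_clopen_triv {X Y S : Scheme.{u}} (f : X ⟶ S) (g : Y ⟶ S)
    [Flat f] [IsProper f] [LocallyOfFinitePresentation f] [GeometricallyIntegral f]
    [Flat g] [IsProper g] [LocallyOfFinitePresentation g] [GeometricallyIntegral g]
    (σ : S ⟶ X) (hσ : σ ≫ f = 𝟙 S) (τ : S ⟶ Y) (hτ : τ ≫ g = 𝟙 S)
    (L : (pullback f g).Modules) (hL : PicF.IsInvertible L)
    (u : X ⟶ pullback f g) (hu1 : u ≫ pullback.fst f g = 𝟙 X)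
    (hu2 : u ≫ pullback.snd f g = f ≫ τ)
    (v : Y ⟶ pullback f g) (hv1 : v ≫ pullback.fst f g = g ≫ σ)
    (hv2 : v ≫ pullback.snd f g = 𝟙 Y)
    (h1 : Nonempty ((Scheme.Modules.pullback u).obj L ≅ Coh.structureModule X))
    (h2 : Nonempty ((Scheme.Modules.pullback v).obj L ≅ Coh.structureModule Y))
    (s : S)
    (h3 : Nonempty ((Scheme.Modules.pullback ((pullback.fst f g ≫ f).fiberι s)).obj L ≅
      Coh.structureModule ((pullback.fst f g ≫ f).fiber s))) :
    ∃ W : S.Opens, IsClosed (W : Set S) ∧ s ∈ W ∧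
      Nonempty ((Scheme.Modules.pullback ((pullback.fst f g ≫ f) ⁻¹ᵁ W).ι).obj L ≅
        Coh.structureModule _) := by
  classical
  haveI := geometricallyIntegral_h f g
  haveI : GeometricallyConnected f :=
    Groth.Agent.Lib.helper21.Seesaw.geometricallyConnected_of_geometricallyIntegral f
  haveI : GeometricallyConnected g :=
    Groth.Agent.Lib.helper21.Seesaw.geometricallyConnected_of_geometricallyIntegral g
  have hOf : ∀ (T : Scheme.{u}) (t : T ⟶ S) (U : T.Opens), IsIso ((pullback.snd f t).app U) := by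
    intro T t U
    haveI : GeometricallyConnected (pullback.snd f t) :=
      MorphismProperty.of_isPullback (P := @GeometricallyConnected)
        (IsPullback.of_hasPullback f t) inferInstance
    haveI : GeometricallyReduced (pullback.snd f t) :=
      MorphismProperty.of_isPullback (P := @GeometricallyReduced)
        (IsPullback.of_hasPullback f t) inferInstance
    exact Groth.Agent.Lib.helper7.SteinU.isIso_app (pullback.snd f t) U
  have hOg : ∀ (T : Scheme.{u}) (t : T ⟶ S) (U : T.Opens), IsIso ((pullback.snd g t).app U) := by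
    intro T t U
    haveI : GeometricallyConnected (pullback.snd g t) :=
      MorphismProperty.of_isPullback (P := @GeometricallyConnected)
        (IsPullback.of_hasPullback g t) inferInstance
    haveI : GeometricallyReduced (pullback.snd g t) :=
      MorphismProperty.of_isPullback (P := @GeometricallyReduced)
        (IsPullback.of_hasPullback g t) inferInstance
    exact Groth.Agent.Lib.helper7.SteinU.isIso_app (pullback.snd g t) U
  have hO := isIso_app_h f g hOf hOg
  have hρ : (σ ≫ u) ≫ pullback.fst f g ≫ f = 𝟙 S := by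
    rw [Category.assoc, ← Category.assoc u, hu1, Category.id_comp, hσ]
  have hρL : Nonempty ((Scheme.Modules.pullback (σ ≫ u)).obj L ≅ Coh.structureModule S) := by
    obtain ⟨e⟩ := h1
    exact ⟨((Scheme.Modules.pullbackComp σ u).app L).symm ≪≫
      (Scheme.Modules.pullback σ).mapIso e ≪≫ pullbackUnitIso σ⟩
  obtain ⟨Zd, ι, hImm, hlfp, huniv, huniv'⟩ :=
    exists_triv_locus (pullback.fst f g ≫ f) hO L hL (σ ≫ u) hρ hρL
  haveI := hImm
  haveI := hlfp
  have hrange : ∀ s' : S, s' ∈ Set.range ι ↔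
      Nonempty ((Scheme.Modules.pullback ((pullback.fst f g ≫ f).fiberι s')).obj L ≅
        Coh.structureModule ((pullback.fst f g ≫ f).fiber s')) := fun s' =>
    (mem_range_iff_factors ι s').trans (huniv' _ _)
  -- local factorisation
  have hloc : ∀ s' ∈ Set.range ι, ∃ U : S.Opens, s' ∈ U ∧
      ∃ c' : (U : Scheme.{u}) ⟶ Zd, c' ≫ ι = U.ι := fun s' hs' =>
    Groth.Agent.Lib.helper7.CubeOpen.exists_open_factor ι s' hs'
      (fun R _ _ t ht htm c hc₁ => by
        rw [huniv'] at hc₁ ⊢
        exact main_local f g hOf hOg σ hσ τ hτ L hL u hu1 hu2 v hv1 hv2 h1 h2 t ht htm c hc₁)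
  have hopen : IsOpen (Set.range ι) := by
    rw [isOpen_iff_forall_mem_open]
    intro s' hs'
    obtain ⟨U, hsU, c', hc'⟩ := hloc s' hs'
    refine ⟨U, ?_, U.2, hsU⟩
    intro x hx
    refine ⟨c' ⟨x, hx⟩, ?_⟩
    rw [← Scheme.Hom.comp_apply, hc']
    rfl
  have hclosed : IsClosed (Set.range ι) := by
    obtain ⟨M, hM, -, ⟨eML⟩⟩ := Groth.Agent.Lib.helper12.InvDual.exists_inverse hL
    have h0 := Groth.Agent.Lib.helper7.NNPicClosed.isClosed_setOf_fiber_trivial
      (pullback.fst f g ≫ f) L M hL hM eML (fun y => inferInstance)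
    convert h0 using 1
    ext s'
    exact hrange s'
  let W : S.Opens := ⟨Set.range ι, hopen⟩
  refine ⟨W, hclosed, (hrange s).mpr h3, ?_⟩
  -- `W.ι` factors through `ι`
  have hfacW : ∃ c' : (W : Scheme.{u}) ⟶ Zd, c' ≫ ι = W.ι := by
    rw [huniv]
    refine desc_of_QS (QS_local _ _ (fun t => ?_))
    obtain ⟨U, hsU, c', hc'⟩ := hloc (W.ι t) t.2
    refine ⟨W.ι ⁻¹ᵁ U, hsU, ?_⟩
    refine Groth.Agent.Lib.helper7.DescFinal.QS_restrict_of_desc (pullback.fst f g ≫ f) hO L W.ι
      (W.ι ⁻¹ᵁ U) ?_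
    rw [← huniv]
    have hr : Set.range ((W.ι ⁻¹ᵁ U).ι ≫ W.ι) ⊆ Set.range U.ι := by
      rintro _ ⟨w, rfl⟩
      rw [Scheme.Opens.range_ι]
      exact w.2
    refine ⟨IsOpenImmersion.lift U.ι ((W.ι ⁻¹ᵁ U).ι ≫ W.ι) hr ≫ c', ?_⟩
    rw [Category.assoc, hc', IsOpenImmersion.lift_fac]
  obtain ⟨e⟩ := (huniv' _ W.ι).mp hfacW
  let i := pullbackRestrictIsoRestrict (pullback.fst f g ≫ f) W
  have hi : i.inv ≫ pullback.fst (pullback.fst f g ≫ f) W.ι = ((pullback.fst f g ≫ f) ⁻¹ᵁ W).ι :=
    pullbackRestrictIsoRestrict_inv_fst _ W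
  exact ⟨(Scheme.Modules.pullbackCongr hi.symm).app L ≪≫
    ((Scheme.Modules.pullbackComp i.inv _).app L).symm ≪≫
    (Scheme.Modules.pullback i.inv).mapIso e ≪≫ pullbackUnitIso i.inv⟩

end Groth.Agent.Lib.helper7.CubeLocus
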