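import Mathlib
import Groth.Agent.Lib.Helper7.CubeLocus

/-!
# The theorem of the cube for `(X ×_S Y) ×_S Z` (helper7)

Transport of `CubeLocus.exists_clopen_triv` (for `X_Z ×_Z Y_Z`) to `(X ×_S Y) ×_S Z`.
-/

set_option autoImplicit false
set_option linter.style.haveILetI false
universe u
open CategoryTheory CategoryTheory.Limits AlgebraicGeometry TopologicalSpace Opposite

namespace Groth.Agent.Lib.helper7.CubeTransport

open Groth.Agent.Lib.helper11.InvMod Groth.Agent.Lib.helper7.CubeBC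
  Groth.Agent.Lib.helper7.CubeLocus

variable {S X Y Z : Scheme.{u}} (pX : X ⟶ S) (pY : Y ⟶ S) (pZ : Z ⟶ S)

/-- the inclusion `X ⟶ X ×_S Y`, `a ↦ (a, y)` -/
noncomputable def iX (y : S ⟶ Y) (hy : y ≫ pY = 𝟙 S) : X ⟶ pullback pX pY :=
  pullback.lift (𝟙 X) (pX ≫ y) (by rw [Category.id_comp, Category.assoc, hy, Category.comp_id])

/-- the inclusion `Y ⟶ X ×_S Y`, `b ↦ (x, b)` -/
noncomputable def iY (x : S ⟶ X) (hx : x ≫ pX = 𝟙 S) : Y ⟶ pullback pX pY :=
  pullback.lift (pY ≫ x) (𝟙 Y) (by rw [Category.id_comp, Category.assoc, hx, Category.comp_id])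

/-- **cube, clopen form** for `(X ×_S Y) ×_S Z` with abstract slice maps -/
theorem exists_clopen
    [Flat pX] [IsProper pX] [LocallyOfFinitePresentation pX] [GeometricallyIntegral pX]
    [Flat pY] [IsProper pY] [LocallyOfFinitePresentation pY] [GeometricallyIntegral pY]
    (x : S ⟶ X) (hx : x ≫ pX = 𝟙 S) (y : S ⟶ Y) (hy : y ≫ pY = 𝟙 S)
    (L : (pullback (pullback.fst pX pY ≫ pX) pZ).Modules) (hL : PicF.IsInvertible L)
    {D₁ D₂ : Scheme.{u}} (m₁ : D₁ ⟶ pullback (pullback.fst pX pY ≫ pX) pZ)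
    (k₁ : pullback pY pZ ⟶ D₁)
    (hk₁f : k₁ ≫ m₁ ≫ pullback.fst _ pZ = pullback.fst pY pZ ≫ iY pX pY x hx)
    (hk₁s : k₁ ≫ m₁ ≫ pullback.snd _ pZ = pullback.snd pY pZ)
    (m₂ : D₂ ⟶ pullback (pullback.fst pX pY ≫ pX) pZ)
    (k₂ : pullback pX pZ ⟶ D₂)
    (hk₂f : k₂ ≫ m₂ ≫ pullback.fst _ pZ = pullback.fst pX pZ ≫ iX pX pY y hy)
    (hk₂s : k₂ ≫ m₂ ≫ pullback.snd _ pZ = pullback.snd pX pZ)
    (h₁ : Nonempty ((Scheme.Modules.pullback m₁).obj L ≅ Coh.structureModule _))
    (h₂ : Nonempty ((Scheme.Modules.pullback m₂).obj L ≅ Coh.structureModule _))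
    (z : Z) (h₃ : Nonempty ((Scheme.Modules.pullback
      ((pullback.snd (pullback.fst pX pY ≫ pX) pZ).fiberι z)).obj L ≅ Coh.structureModule _)) :
    ∃ W : Z.Opens, IsClosed (W : Set Z) ∧ z ∈ W ∧
      Nonempty ((Scheme.Modules.pullback
        ((pullback.snd (pullback.fst pX pY ≫ pX) pZ) ⁻¹ᵁ W).ι).obj L ≅
          Coh.structureModule _) := by
  -- notation
  let f := pullback.snd pX pZ
  let g := pullback.snd pY pZ
  let q := qT pX pY pZ
  let p := pT pX pY pZ
  have sq : IsPullback q p f g := isPullback_qT_pT pX pY pZ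
  let e := sq.isoPullback
  have he1 : e.hom ≫ pullback.fst f g = q := sq.isoPullback_hom_fst
  have he2 : e.hom ≫ pullback.snd f g = p := sq.isoPullback_hom_snd
  have heh : e.hom ≫ pullback.fst f g ≫ f = pullback.snd (pullback.fst pX pY ≫ pX) pZ := by
    rw [← Category.assoc, he1]; exact qT_snd pX pY pZ
  have hσ : secT pX pZ x hx ≫ f = 𝟙 Z := secT_snd pX pZ x hx
  have hτ : secT pY pZ y hy ≫ g = 𝟙 Z := secT_snd pY pZ y hy
  let u : pullback pX pZ ⟶ pullback f g := pullback.lift (𝟙 _) (f ≫ secT pY pZ y hy)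
    (by rw [Category.id_comp, Category.assoc, hτ, Category.comp_id])
  let v : pullback pY pZ ⟶ pullback f g := pullback.lift (g ≫ secT pX pZ x hx) (𝟙 _)
    (by rw [Category.id_comp, Category.assoc, hσ, Category.comp_id])
  have hu1 : u ≫ pullback.fst f g = 𝟙 _ := pullback.lift_fst _ _ _
  have hu2 : u ≫ pullback.snd f g = f ≫ secT pY pZ y hy := pullback.lift_snd _ _ _
  have hv1 : v ≫ pullback.fst f g = g ≫ secT pX pZ x hx := pullback.lift_fst _ _ _
  have hv2 : v ≫ pullback.snd f g = 𝟙 _ := pullback.lift_snd _ _ _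
  -- the slices
  have hk₂f' : ∀ {A : Scheme.{u}} (w : pullback pX pY ⟶ A),
      k₂ ≫ m₂ ≫ pullback.fst _ pZ ≫ w = pullback.fst pX pZ ≫ iX pX pY y hy ≫ w := fun w => by
    have := hk₂f =≫ w
    simpa only [Category.assoc] using this
  have hk₁f' : ∀ {A : Scheme.{u}} (w : pullback pX pY ⟶ A),
      k₁ ≫ m₁ ≫ pullback.fst _ pZ ≫ w = pullback.fst pY pZ ≫ iY pX pY x hx ≫ w := fun w => by
    have := hk₁f =≫ w
    simpa only [Category.assoc] using this
  have hiX1 : iX pX pY y hy ≫ pullback.fst pX pY = 𝟙 X := pullback.lift_fst _ _ _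
  have hiX2 : iX pX pY y hy ≫ pullback.snd pX pY = pX ≫ y := pullback.lift_snd _ _ _
  have hiY1 : iY pX pY x hx ≫ pullback.fst pX pY = pY ≫ x := pullback.lift_fst _ _ _
  have hiY2 : iY pX pY x hx ≫ pullback.snd pX pY = 𝟙 Y := pullback.lift_snd _ _ _
  have w₂ : u ≫ e.inv = k₂ ≫ m₂ := by
    rw [← cancel_mono e.hom, Category.assoc, Iso.inv_hom_id, Category.comp_id]
    apply pullback.hom_ext
    · rw [hu1, Category.assoc, Category.assoc, he1]
      apply pullback.hom_ext
      · rw [Category.id_comp, Category.assoc, Category.assoc, qT_fst, hk₂f', hiX1,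
          Category.comp_id]
      · rw [Category.id_comp, Category.assoc, Category.assoc, qT_snd, hk₂s]
    · rw [hu2, Category.assoc, Category.assoc, he2]
      apply pullback.hom_ext
      · rw [Category.assoc, Category.assoc, Category.assoc, pT_fst, hk₂f', hiX2, secT_fst,
          ← Category.assoc, ← Category.assoc, pullback.condition]
      · rw [Category.assoc, Category.assoc, Category.assoc, pT_snd, hk₂s, secT_snd,
          Category.comp_id]
  have w₁ : v ≫ e.inv = k₁ ≫ m₁ := by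
    rw [← cancel_mono e.hom, Category.assoc, Iso.inv_hom_id, Category.comp_id]
    apply pullback.hom_ext
    · rw [hv1, Category.assoc, Category.assoc, he1]
      apply pullback.hom_ext
      · rw [Category.assoc, Category.assoc, Category.assoc, qT_fst, hk₁f', hiY1, secT_fst,
          ← Category.assoc, ← Category.assoc, pullback.condition]
      · rw [Category.assoc, Category.assoc, Category.assoc, qT_snd, hk₁s, secT_snd,
          Category.comp_id]
    · rw [hv2, Category.assoc, Category.assoc, he2]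
      apply pullback.hom_ext
      · rw [Category.id_comp, Category.assoc, Category.assoc, pT_fst, hk₁f', hiY2,
          Category.comp_id]
      · rw [Category.id_comp, Category.assoc, Category.assoc, pT_snd, hk₁s]
  have h1' := triv_pullback_of_comp u e.inv k₂ m₂ w₂ L h₂
  have h2' := triv_pullback_of_comp v e.inv k₁ m₁ w₁ L h₁
  -- the fibre
  let c := Z.fromSpecResidueField z
  have hē : (pullback.fst (pullback.fst f g ≫ f) c ≫ e.inv) ≫
      pullback.snd (pullback.fst pX pY ≫ pX) pZ = pullback.snd (pullback.fst f g ≫ f) c ≫ c := by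
    rw [← heh, Category.assoc, Iso.inv_hom_id_assoc]
    exact pullback.condition
  let ē : pullback (pullback.fst f g ≫ f) c ⟶
      pullback (pullback.snd (pullback.fst pX pY ≫ pX) pZ) c :=
    pullback.lift (pullback.fst _ c ≫ e.inv) (pullback.snd _ c) hē
  have h3' : Nonempty ((Scheme.Modules.pullback ((pullback.fst f g ≫ f).fiberι z)).obj
      ((Scheme.Modules.pullback e.inv).obj L) ≅
      Coh.structureModule ((pullback.fst f g ≫ f).fiber z)) :=
    triv_pullback_of_comp (pullback.fst (pullback.fst f g ≫ f) c) e.inv ē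
      (pullback.fst (pullback.snd (pullback.fst pX pY ≫ pX) pZ) c)
      (pullback.lift_fst _ _ _).symm L h₃
  obtain ⟨W, hWc, hzW, eW⟩ := exists_clopen_triv f g (secT pX pZ x hx) hσ (secT pY pZ y hy) hτ
    ((Scheme.Modules.pullback e.inv).obj L) (isInvertible_pullback _ hL) u hu1 hu2 v hv1 hv2
    h1' h2' z h3'
  refine ⟨W, hWc, hzW, ?_⟩
  -- transport back
  have hr : Set.range (((pullback.snd (pullback.fst pX pY ≫ pX) pZ) ⁻¹ᵁ W).ι ≫ e.hom) ⊆
      Set.range ((pullback.fst f g ≫ f) ⁻¹ᵁ W).ι := by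
    rintro _ ⟨w, rfl⟩
    rw [Scheme.Opens.range_ι]
    change (pullback.fst f g ≫ f) ((((pullback.snd (pullback.fst pX pY ≫ pX) pZ) ⁻¹ᵁ W).ι ≫
      e.hom) w) ∈ W
    rw [← Scheme.Hom.comp_apply, Category.assoc, heh]
    exact w.2
  let k := IsOpenImmersion.lift ((pullback.fst f g ≫ f) ⁻¹ᵁ W).ι
    (((pullback.snd (pullback.fst pX pY ≫ pX) pZ) ⁻¹ᵁ W).ι ≫ e.hom) hr
  have hk : k ≫ ((pullback.fst f g ≫ f) ⁻¹ᵁ W).ι =
      ((pullback.snd (pullback.fst pX pY ≫ pX) pZ) ⁻¹ᵁ W).ι ≫ e.hom :=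
    IsOpenImmersion.lift_fac _ _ _
  obtain ⟨e0⟩ := triv_pullback_of_comp
    ((pullback.snd (pullback.fst pX pY ≫ pX) pZ) ⁻¹ᵁ W).ι e.hom k _ hk.symm
    ((Scheme.Modules.pullback e.inv).obj L) eW
  have eL : L ≅ (Scheme.Modules.pullback e.hom).obj ((Scheme.Modules.pullback e.inv).obj L) :=
    ((Scheme.Modules.pullbackId _).app L).symm ≪≫
      (Scheme.Modules.pullbackCongr e.hom_inv_id.symm).app L ≪≫
      ((Scheme.Modules.pullbackComp e.hom e.inv).app L).symm
  exact ⟨(Scheme.Modules.pullback _).mapIso eL ≪≫ e0⟩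

/-- **cube, clopen form**, with the slice maps written as in the milestone statement -/
theorem exists_clopen'
    [Flat pX] [IsProper pX] [LocallyOfFinitePresentation pX] [GeometricallyIntegral pX]
    [Flat pY] [IsProper pY] [LocallyOfFinitePresentation pY] [GeometricallyIntegral pY]
    (x : S ⟶ X) (hx : x ≫ pX = 𝟙 S) (y : S ⟶ Y) (hy : y ≫ pY = 𝟙 S)
    (L : (pullback (pullback.fst pX pY ≫ pX) pZ).Modules) (hL : PicF.IsInvertible L)
    (h₁ : Nonempty ((Scheme.Modules.pullback (pullback.map ((pullback.lift (pY ≫ x) (𝟙 Y) ((Category.assoc pY x pX).trans ((congrArg (fun t => pY ≫ t) hx).trans ((Category.comp_id pY).trans (Category.id_comp pY).symm)))) ≫ (pullback.fst pX pY ≫ pX)) pZ (pullback.fst pX pY ≫ pX) pZ (pullback.lift (pY ≫ x) (𝟙 Y) ((Category.assoc pY x pX).trans ((congrArg (fun t => pY ≫ t) hx).trans ((Category.comp_id pY).trans (Category.id_comp pY).symm)))) (𝟙 Z) (𝟙 S) (Category.comp_id _) ((Category.comp_id pZ).trans (Category.id_comp pZ).symm))).obj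 L ≅ Coh.structureModule _))
    (h₂ : Nonempty ((Scheme.Modules.pullback (pullback.map ((pullback.lift (𝟙 X) (pX ≫ y) ((Category.id_comp pX).trans ((Category.comp_id pX).symm.trans ((congrArg (fun t => pX ≫ t) hy).symm.trans (Category.assoc pX y pY).symm)))) ≫ (pullback.fst pX pY ≫ pX)) pZ (pullback.fst pX pY ≫ pX) pZ (pullback.lift (𝟙 X) (pX ≫ y) ((Category.id_comp pX).trans ((Category.comp_id pX).symm.trans ((congrArg (fun t => pX ≫ t) hy).symm.trans (Category.assoc pX y pY).symm)))) (𝟙 Z) (𝟙 S) (Category.comp_id _) ((Category.comp_id pZ).trans (Category.id_comp pZ).symm))).obj L ≅ Coh.structureModule _))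
    (z : Z) (h₃ : Nonempty ((Scheme.Modules.pullback ((pullback.snd (pullback.fst pX pY ≫ pX) pZ).fiberι z)).obj L ≅ Coh.structureModule _)) :
    ∃ W : Z.Opens, IsClosed (W : Set Z) ∧ z ∈ W ∧
      Nonempty ((Scheme.Modules.pullback ((pullback.snd (pullback.fst pX pY ≫ pX) pZ) ⁻¹ᵁ W).ι).obj L ≅ Coh.structureModule _) := by
  have hiX1 : iX pX pY y hy ≫ pullback.fst pX pY = 𝟙 X := pullback.lift_fst _ _ _
  have hiY1 : iY pX pY x hx ≫ pullback.fst pX pY = pY ≫ x := pullback.lift_fst _ _ _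
  have hc₁ : pullback.fst pY pZ ≫ (iY pX pY x hx ≫ (pullback.fst pX pY ≫ pX)) =
      pullback.snd pY pZ ≫ pZ := by
    rw [← Category.assoc (iY pX pY x hx), hiY1, Category.assoc, hx, Category.comp_id]
    exact pullback.condition
  have hc₂ : pullback.fst pX pZ ≫ (iX pX pY y hy ≫ (pullback.fst pX pY ≫ pX)) =
      pullback.snd pX pZ ≫ pZ := by
    rw [← Category.assoc (iX pX pY y hy), hiX1, Category.id_comp]
    exact pullback.condition
  refine exists_clopen pX pY pZ x hx y hy L hL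
    (pullback.map (iY pX pY x hx ≫ (pullback.fst pX pY ≫ pX)) pZ (pullback.fst pX pY ≫ pX) pZ
      (iY pX pY x hx) (𝟙 Z) (𝟙 S) (Category.comp_id _)
      ((Category.comp_id pZ).trans (Category.id_comp pZ).symm))
    (pullback.lift (pullback.fst pY pZ) (pullback.snd pY pZ) hc₁) ?_ ?_
    (pullback.map (iX pX pY y hy ≫ (pullback.fst pX pY ≫ pX)) pZ (pullback.fst pX pY ≫ pX) pZ
      (iX pX pY y hy) (𝟙 Z) (𝟙 S) (Category.comp_id _)
      ((Category.comp_id pZ).trans (Category.id_comp pZ).symm))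
    (pullback.lift (pullback.fst pX pZ) (pullback.snd pX pZ) hc₂) ?_ ?_ h₁ h₂ z h₃
  · rw [pullback.lift_fst, pullback.lift_fst_assoc]
  · rw [pullback.lift_snd, pullback.lift_snd_assoc, Category.comp_id]
  · rw [pullback.lift_fst, pullback.lift_fst_assoc]
  · rw [pullback.lift_snd, pullback.lift_snd_assoc, Category.comp_id]

/-- **the theorem of the cube over a connected base** -/
theorem cube_connected
    [Flat pX] [IsProper pX] [LocallyOfFinitePresentation pX] [GeometricallyIntegral pX]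
    [Flat pY] [IsProper pY] [LocallyOfFinitePresentation pY] [GeometricallyIntegral pY]
    [ConnectedSpace ↑Z]
    (L : (pullback (pullback.fst pX pY ≫ pX) pZ).Modules)
    (h : ∃ W : Z.Opens, IsClosed (W : Set Z) ∧ (W : Set Z).Nonempty ∧
      Nonempty ((Scheme.Modules.pullback ((pullback.snd (pullback.fst pX pY ≫ pX) pZ) ⁻¹ᵁ W).ι).obj L ≅ Coh.structureModule _)) :
    Nonempty (L ≅ Coh.structureModule (pullback (pullback.fst pX pY ≫ pX) pZ)) := by
  obtain ⟨W, hWc, hne, ⟨e⟩⟩ := h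
  have hW : (W : Set Z) = Set.univ := IsClopen.eq_univ ⟨hWc, W.2⟩ hne
  have hWtop : W = ⊤ := TopologicalSpace.Opens.ext hW
  subst hWtop
  rw [← isTrivOn_top_iff]
  have h1 : IsTrivOn L ((pullback.snd (pullback.fst pX pY ≫ pX) pZ) ⁻¹ᵁ ⊤) :=
    ⟨(Scheme.Modules.restrictFunctorIsoPullback _).app L ≪≫ e⟩
  have hle : (⊤ : (pullback (pullback.fst pX pY ≫ pX) pZ).Opens) ≤
      (pullback.snd (pullback.fst pX pY ≫ pX) pZ) ⁻¹ᵁ ⊤ := fun _ _ => trivial
  exact IsTrivOn.of_le hle h1

end Groth.Agent.Lib.helper7.CubeTransport
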