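import Mathlib
import Groth.Agent.Lib.Helper7.CubeTransport

/-!
# The theorem of the cube over a connected base, rigidified along a `T`-point (helper7)
-/

set_option autoImplicit false
set_option linter.style.haveILetI false
universe u
open CategoryTheory CategoryTheory.Limits AlgebraicGeometry TopologicalSpace Opposite

namespace Groth.Agent.Lib.helper7.CubeTransport

open Groth.Agent.Lib.helper11.InvMod Groth.Agent.Lib.helper7.CubeBC
  Groth.Agent.Lib.helper7.CubeLocus

/-- the universal Stein property of a proper flat finitely presented geometrically integral map -/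
theorem hO_of_geometricallyIntegral {X S : Scheme.{u}} (f : X ⟶ S)
    [Flat f] [IsProper f] [LocallyOfFinitePresentation f] [GeometricallyIntegral f]
    (T : Scheme.{u}) (t : T ⟶ S) (U : T.Opens) : IsIso ((pullback.snd f t).app U) := by
  haveI : GeometricallyConnected f :=
    Groth.Agent.Lib.helper21.Seesaw.geometricallyConnected_of_geometricallyIntegral f
  haveI : GeometricallyConnected (pullback.snd f t) :=
    MorphismProperty.of_isPullback (P := @GeometricallyConnected)
      (IsPullback.of_hasPullback f t) inferInstance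
  haveI : GeometricallyReduced (pullback.snd f t) :=
    MorphismProperty.of_isPullback (P := @GeometricallyReduced)
      (IsPullback.of_hasPullback f t) inferInstance
  exact Groth.Agent.Lib.helper7.SteinU.isIso_app (pullback.snd f t) U

/-- triviality over a `T`-point implies triviality on the fibre over each point of its image -/
theorem fibre_triv_of_triv {W S : Scheme.{u}} (h : W ⟶ S) [IsProper h] [Flat h]
    [LocallyOfFinitePresentation h]
    (hO : ∀ (T : Scheme.{u}) (c : T ⟶ S) (U : T.Opens), IsIso ((pullback.snd h c).app U))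
    (L : W.Modules) (hL : PicF.IsInvertible L) (ρ : S ⟶ W) (hρ : ρ ≫ h = 𝟙 S)
    (hρL : Nonempty ((Scheme.Modules.pullback ρ).obj L ≅ Coh.structureModule S))
    {T : Scheme.{u}} (c : T ⟶ S) (t : T)
    (h3 : Nonempty ((Scheme.Modules.pullback (pullback.fst h c)).obj L ≅ Coh.structureModule _)) :
    Nonempty ((Scheme.Modules.pullback (h.fiberι (c t))).obj L ≅
      Coh.structureModule (h.fiber (c t))) := by
  obtain ⟨Zd, ι, hImm, -, -, huniv'⟩ := exists_triv_locus h hO L hL ρ hρ hρL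
  haveI := hImm
  obtain ⟨c', hc'⟩ := (huniv' T c).mpr h3
  have hmem : c t ∈ Set.range ι := ⟨c' t, by rw [← Scheme.Hom.comp_apply, hc']⟩
  exact (huniv' _ _).mp ((mem_range_iff_factors ι _).mp hmem)

variable {S X Y Z : Scheme.{u}} (pX : X ⟶ S) (pY : Y ⟶ S) (pZ : Z ⟶ S)

/-- **the theorem of the cube over a connected base**, third hypothesis along a `T`-point -/
theorem cube_of_point
    [Flat pX] [IsProper pX] [LocallyOfFinitePresentation pX] [GeometricallyIntegral pX]
    [Flat pY] [IsProper pY] [LocallyOfFinitePresentation pY] [GeometricallyIntegral pY]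
    [ConnectedSpace ↑Z]
    (x : S ⟶ X) (hx : x ≫ pX = 𝟙 S) (y : S ⟶ Y) (hy : y ≫ pY = 𝟙 S)
    (L : (pullback (pullback.fst pX pY ≫ pX) pZ).Modules) (hL : PicF.IsInvertible L)
    {D₁ D₂ : Scheme.{u}} (m₁ : D₁ ⟶ pullback (pullback.fst pX pY ≫ pX) pZ)
    (k₁ : pullback pY pZ ⟶ D₁)
    (hk₁f : k₁ ≫ m₁ ≫ pullback.fst _ pZ = pullback.fst pY pZ ≫ iY pX pY x hx)
    (hk₁s : k₁ ≫ m₁ ≫ pullback.snd _ pZ = pullback.snd pY pZ)
    (m₂ : D₂ ⟶ pullback (pullback.fst pX pY ≫ pX) pZ)
    (k₂ : pullback pX pZ ⟶ D₂)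
    (hk₂f : k₂ ≫ m₂ ≫ pullback.fst _ pZ = pullback.fst pX pZ ≫ iX pX pY y hy)
    (hk₂s : k₂ ≫ m₂ ≫ pullback.snd _ pZ = pullback.snd pX pZ)
    (h₁ : Nonempty ((Scheme.Modules.pullback m₁).obj L ≅ Coh.structureModule _))
    (h₂ : Nonempty ((Scheme.Modules.pullback m₂).obj L ≅ Coh.structureModule _))
    {T : Scheme.{u}} [Nonempty T] (c : T ⟶ Z)
    (h₃ : Nonempty ((Scheme.Modules.pullback
      (pullback.fst (pullback.snd (pullback.fst pX pY ≫ pX) pZ) c)).obj L ≅
        Coh.structureModule _)) :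
    Nonempty (L ≅ Coh.structureModule (pullback (pullback.fst pX pY ≫ pX) pZ)) := by
  obtain ⟨t⟩ : Nonempty T := inferInstance
  haveI := geometricallyIntegral_h pX pY
  haveI : GeometricallyIntegral (pullback.snd (pullback.fst pX pY ≫ pX) pZ) := inferInstance
  -- the section
  let r₁ : Z ⟶ pullback pY pZ := pullback.lift (pZ ≫ y) (𝟙 Z)
    (by rw [Category.assoc, hy, Category.comp_id, Category.id_comp])
  have hr₁ : r₁ ≫ pullback.snd pY pZ = 𝟙 Z := pullback.lift_snd _ _ _
  have hρ : (r₁ ≫ k₁ ≫ m₁) ≫ pullback.snd (pullback.fst pX pY ≫ pX) pZ = 𝟙 Z := by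
    rw [Category.assoc, Category.assoc, hk₁s, hr₁]
  have hρL : Nonempty ((Scheme.Modules.pullback (r₁ ≫ k₁ ≫ m₁)).obj L ≅
      Coh.structureModule Z) := by
    obtain ⟨e⟩ := h₁
    exact ⟨(Scheme.Modules.pullbackCongr (Category.assoc r₁ k₁ m₁).symm).app L ≪≫
      ((Scheme.Modules.pullbackComp (r₁ ≫ k₁) m₁).app L).symm ≪≫
      (Scheme.Modules.pullback (r₁ ≫ k₁)).mapIso e ≪≫ pullbackUnitIso (r₁ ≫ k₁)⟩
  have h₃' := fibre_triv_of_triv (pullback.snd (pullback.fst pX pY ≫ pX) pZ)
    (hO_of_geometricallyIntegral _) L hL (r₁ ≫ k₁ ≫ m₁) hρ hρL c t h₃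
  obtain ⟨W, hWc, hzW, hW⟩ := exists_clopen pX pY pZ x hx y hy L hL m₁ k₁ hk₁f hk₁s
    m₂ k₂ hk₂f hk₂s h₁ h₂ (c t) h₃'
  exact cube_connected pX pY pZ L ⟨W, hWc, ⟨c t, hzW⟩, hW⟩

end Groth.Agent.Lib.helper7.CubeTransport
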