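import Mathlib
import Groth.Agent.Lib.Lead.ModTensor
import Groth.Agent.Lib.Helper12.TensorInv
import Groth.Agent.Lib.Helper12.PullTensor
import Groth.Agent.Lib.Helper12.InvDual2
import Groth.Agent.Lib.Helper11.InvMod
import Groth.Agent.Lib.Helper21.PicFibre

/-!
# The Picard group of a scheme as a commutative group, with pullback homomorphisms (helper7)
-/

set_option autoImplicit false
universe u
open CategoryTheory CategoryTheory.Limits AlgebraicGeometry

namespace Groth.Agent.Lib.helper7.PicGrp

open Groth.Agent.Lib.Lead.ModTensor Groth.Agent.Lib.helper11.InvMod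

/-- an invertible module -/
structure Inv (X : Scheme.{u}) where
  /-- the module -/
  M : X.Modules
  /-- invertibility -/
  h : PicF.IsInvertible M

/-- isomorphism of invertible modules -/
instance setoid (X : Scheme.{u}) : Setoid (Inv X) where
  r A B := Nonempty (A.M ≅ B.M)
  iseqv := ⟨fun _ => ⟨Iso.refl _⟩, fun ⟨e⟩ => ⟨e.symm⟩, fun ⟨e⟩ ⟨e'⟩ => ⟨e ≪≫ e'⟩⟩

/-- the Picard group -/
def Pic (X : Scheme.{u}) : Type (u + 1) := Quotient (setoid X)

variable {X Y Z : Scheme.{u}}

/-- the class of an invertible module -/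
def mk (M : X.Modules) (h : PicF.IsInvertible M) : Pic X := Quotient.mk (setoid X) ⟨M, h⟩

theorem mk_eq_mk_iff {M N : X.Modules} (hM : PicF.IsInvertible M) (hN : PicF.IsInvertible N) :
    mk M hM = mk N hN ↔ Nonempty (M ≅ N) := Quotient.eq (r := setoid X)

theorem exists_mk (a : Pic X) : ∃ (M : X.Modules) (h : PicF.IsInvertible M), a = mk M h := by
  obtain ⟨⟨M, h⟩, rfl⟩ := Quotient.exists_rep a
  exact ⟨M, h, rfl⟩

/-- tensor product of classes -/
noncomputable def mul : Pic X → Pic X → Pic X :=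
  Quotient.map₂ (fun A B => ⟨CohB1.tensorMod A.M B.M,
    Groth.Agent.Lib.helper12.TensorInv.isInvertible_tensorMod A.h B.h⟩)
    (fun _ _ ⟨e⟩ _ _ ⟨e'⟩ => ⟨tensorIso e e'⟩)

/-- the commutative monoid structure -/
@[reducible] noncomputable def commMonoid (X : Scheme.{u}) : CommMonoid (Pic X) where
  mul := mul
  one := mk (Coh.structureModule X) (isInvertible_structureModule X)
  mul_assoc a b c := by
    obtain ⟨A, rfl⟩ := Quotient.exists_rep a
    obtain ⟨B, rfl⟩ := Quotient.exists_rep b
    obtain ⟨C, rfl⟩ := Quotient.exists_rep c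
    exact Quotient.sound (s := setoid X) ⟨assoc A.M B.M C.M⟩
  one_mul a := by
    obtain ⟨A, rfl⟩ := Quotient.exists_rep a
    exact Quotient.sound (s := setoid X) ⟨leftUnitor A.M⟩
  mul_one a := by
    obtain ⟨A, rfl⟩ := Quotient.exists_rep a
    exact Quotient.sound (s := setoid X) ⟨rightUnitor A.M⟩
  mul_comm a b := by
    obtain ⟨A, rfl⟩ := Quotient.exists_rep a
    obtain ⟨B, rfl⟩ := Quotient.exists_rep b
    exact Quotient.sound (s := setoid X) ⟨braid A.M B.M⟩

noncomputable instance commGroup (X : Scheme.{u}) : CommGroup (Pic X) :=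
  @commGroupOfIsUnit _ (commMonoid X) (fun a => by
    letI := commMonoid X
    obtain ⟨A, rfl⟩ := Quotient.exists_rep a
    obtain ⟨M, hM, -, ⟨e⟩⟩ := Groth.Agent.Lib.helper12.InvDual.exists_inverse A.h
    refine IsUnit.of_mul_eq_one (mk M hM) ?_
    rw [mul_comm]
    exact Quotient.sound (s := setoid X) ⟨e⟩)

theorem mk_mul_mk {M N : X.Modules} (hM : PicF.IsInvertible M) (hN : PicF.IsInvertible N) :
    mk M hM * mk N hN = mk (CohB1.tensorMod M N)
      (Groth.Agent.Lib.helper12.TensorInv.isInvertible_tensorMod hM hN) := rfl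

theorem one_def : (1 : Pic X) = mk (Coh.structureModule X) (isInvertible_structureModule X) := rfl

theorem mk_eq_one_iff {M : X.Modules} (hM : PicF.IsInvertible M) :
    mk M hM = 1 ↔ Nonempty (M ≅ Coh.structureModule X) := by
  rw [one_def, mk_eq_mk_iff]

/-- pullback of classes -/
noncomputable def map (f : X ⟶ Y) : Pic Y →* Pic X where
  toFun := Quotient.map (fun A => ⟨(Scheme.Modules.pullback f).obj A.M, isInvertible_pullback f A.h⟩)
    (fun _ _ ⟨e⟩ => ⟨(Scheme.Modules.pullback f).mapIso e⟩)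
  map_one' := Quotient.sound (s := setoid X) ⟨pullbackUnitIso f⟩
  map_mul' a b := by
    obtain ⟨A, rfl⟩ := Quotient.exists_rep a
    obtain ⟨B, rfl⟩ := Quotient.exists_rep b
    exact Quotient.sound (s := setoid X)
      ⟨Groth.Agent.Lib.helper12.PullTensor.pullTensorIso f A.M B.M B.h⟩

theorem map_mk (f : X ⟶ Y) {M : Y.Modules} (hM : PicF.IsInvertible M) :
    map f (mk M hM) = mk ((Scheme.Modules.pullback f).obj M) (isInvertible_pullback f hM) := rfl

theorem map_comp (f : X ⟶ Y) (g : Y ⟶ Z) (a : Pic Z) : map (f ≫ g) a = map f (map g a) := by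
  obtain ⟨A, rfl⟩ := Quotient.exists_rep a
  exact Quotient.sound (s := setoid X) ⟨((Scheme.Modules.pullbackComp f g).app A.M).symm⟩

theorem map_id (a : Pic X) : map (𝟙 X) a = a := by
  obtain ⟨A, rfl⟩ := Quotient.exists_rep a
  exact Quotient.sound (s := setoid X) ⟨(Scheme.Modules.pullbackId X).app A.M⟩

/-- the Picard group of a one-point scheme is trivial -/
theorem eq_one_of_unique [Unique X] (a : Pic X) : a = 1 := by
  obtain ⟨M, hM, rfl⟩ := exists_mk a
  rw [mk_eq_one_iff]
  exact Groth.Agent.Lib.helper21.PicFibre.nonempty_iso_structureModule_of_unique M hM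

/-- pullback along a morphism factoring through a one-point scheme is trivial -/
theorem map_eq_one_of_factors {T : Scheme.{u}} [Unique T] (f : X ⟶ Y) (a : X ⟶ T) (b : T ⟶ Y)
    (hf : f = a ≫ b) (c : Pic Y) : map f c = 1 := by
  rw [hf, map_comp, eq_one_of_unique (map b c), map_one]

end Groth.Agent.Lib.helper7.PicGrp
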