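import Mathlib
import Groth.Agent.Lib.Helper7.OverCube
import Groth.Agent.Lib.Helper5.OverField

/-!
# The theorem of the cube for abelian varieties, in Picard-group form (helper7)
-/

set_option autoImplicit false
set_option linter.style.haveILetI false
universe u
open CategoryTheory CategoryTheory.Limits MonoidalCategory CartesianMonoidalCategory MonObj GrpObj
  AlgebraicGeometry

namespace Groth.Agent.Lib.helper7.AbCube

open Groth.Agent.Lib.helper7.PicGrp Groth.Agent.Lib.helper7.OverCube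

variable {K : Type u} [Field K] {A : Over (Spec (CommRingCat.of K))}

/-- the pullback of a class along a morphism over `K` -/
noncomputable def P (ℓ : Pic A.left) {V : Over (Spec (CommRingCat.of K))} (φ : V ⟶ A) :
    Pic V.left := map φ.left ℓ

theorem map_P (ℓ : Pic A.left) {V V' : Over (Spec (CommRingCat.of K))} (ψ : V' ⟶ V) (φ : V ⟶ A) :
    map ψ.left (P ℓ φ) = P ℓ (ψ ≫ φ) := (map_comp ψ.left φ.left ℓ).symm

variable [GrpObj A]

theorem P_one (ℓ : Pic A.left) {V : Over (Spec (CommRingCat.of K))} :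
    P ℓ (1 : V ⟶ A) = 1 := by
  haveI : Unique ↥(Spec (CommRingCat.of K)) := inferInstanceAs (Unique (PrimeSpectrum K))
  exact map_eq_one_of_factors (T := Spec (CommRingCat.of K)) _ V.hom (η[A]).left rfl ℓ

/-- the cube class -/
noncomputable def Θ (ℓ : Pic A.left) {V : Over (Spec (CommRingCat.of K))} (a b c : V ⟶ A) :
    Pic V.left :=
  P ℓ (a * b * c) * P ℓ a * P ℓ b * P ℓ c * (P ℓ (a * b) * P ℓ (a * c) * P ℓ (b * c))⁻¹

theorem map_Θ (ℓ : Pic A.left) {V V' : Over (Spec (CommRingCat.of K))} (ψ : V' ⟶ V)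
    (a b c : V ⟶ A) : map ψ.left (Θ ℓ a b c) = Θ ℓ (ψ ≫ a) (ψ ≫ b) (ψ ≫ c) := by
  simp only [Θ, map_mul, map_inv, map_P, MonObj.comp_mul]

theorem Θ_one_left (ℓ : Pic A.left) {V : Over (Spec (CommRingCat.of K))} (b c : V ⟶ A) :
    Θ ℓ 1 b c = 1 := by
  simp only [Θ, _root_.one_mul, _root_.mul_one, P_one]
  rw [mul_inv_eq_one, _root_.mul_assoc, _root_.mul_comm]

theorem Θ_one_mid (ℓ : Pic A.left) {V : Over (Spec (CommRingCat.of K))} (a c : V ⟶ A) :
    Θ ℓ a 1 c = 1 := by
  simp only [Θ, _root_.one_mul, _root_.mul_one, P_one]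
  rw [mul_inv_eq_one, _root_.mul_comm (P ℓ (a * c)) (P ℓ a)]

theorem Θ_one_right (ℓ : Pic A.left) {V : Over (Spec (CommRingCat.of K))} (a b : V ⟶ A) :
    Θ ℓ a b 1 = 1 := by
  simp only [Θ, _root_.mul_one, P_one]
  exact _root_.mul_inv_cancel _

/-- **the theorem of the cube for an abelian variety** -/
theorem Θ_eq_one [IsProper A.hom] [GeometricallyIntegral A.hom] (ℓ : Pic A.left)
    {V : Over (Spec (CommRingCat.of K))} (a b c : V ⟶ A) : Θ ℓ a b c = 1 := by
  haveI : Flat A.hom := Groth.Agent.Lib.helper5.OverField.flat_of_field A.hom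
  haveI : LocallyOfFinitePresentation A.hom :=
    LocallyOfFinitePresentation.iff_locallyOfFiniteType.mpr inferInstance
  haveI : Subsingleton ↥(Spec (CommRingCat.of K)) :=
    Groth.Agent.Lib.helper5.OverField.subsingleton_spec_field K
  haveI : IsIntegral A.left := GeometricallyIntegral.isIntegral_of_subsingleton A.hom
  haveI : ConnectedSpace ↥A.left := inferInstance
  have huniv : Θ ℓ (fst (A ⊗ A) A ≫ fst A A) (fst (A ⊗ A) A ≫ snd A A) (snd (A ⊗ A) A) = 1 := by
    refine over_cube A A A η[A] η[A] η[A] _ ?_ ?_ ?_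
    · rw [map_Θ, lift_fst_assoc, lift_fst_assoc, lift_snd, lift_fst, lift_snd, ← Hom.one_def]
      exact Θ_one_left ℓ _ _
    · rw [map_Θ, lift_fst_assoc, lift_fst_assoc, lift_snd, lift_fst, lift_snd, ← Hom.one_def]
      exact Θ_one_mid ℓ _ _
    · rw [map_Θ, lift_fst_assoc, lift_fst_assoc, lift_snd, ← Hom.one_def]
      exact Θ_one_right ℓ _ _
  have h1 := congrArg (map (lift (lift a b) c).left) huniv
  rw [map_Θ, map_one, lift_fst_assoc, lift_fst_assoc, lift_snd, lift_fst, lift_snd] at h1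
  exact h1

/-- the cube relation -/
theorem cube_relation [IsProper A.hom] [GeometricallyIntegral A.hom] (ℓ : Pic A.left)
    {V : Over (Spec (CommRingCat.of K))} (a b c : V ⟶ A) :
    P ℓ (a * b * c) * P ℓ a * P ℓ b * P ℓ c = P ℓ (a * b) * P ℓ (a * c) * P ℓ (b * c) :=
  mul_inv_eq_one.mp (Θ_eq_one ℓ a b c)

end Groth.Agent.Lib.helper7.AbCube
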