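import Mathlib
import Groth.Agent.Lib.Helper7.AbProj
import Groth.Agent.Lib.Helper7.PicGrp
import Groth.Agent.Lib.Lead.AbMulN
import Groth.Agent.Lib.Helper14.IsogDim5
import Groth.Agent.Lib.Helper12.PullAmple
import Groth.Agent.Lib.Helper12.AmpleQAff
import Groth.Agent.Lib.Helper12.AmplePow
import Groth.Agent.Lib.Helper3.TopDim
import Groth.Agent.S8121

/-!
# Multiplication by `n ≥ 1` on an abelian variety is surjective (helper7)

* `discreteTopology_of_isProper_of_isQuasiAffine`: a proper quasi-affine scheme over a field is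
  discrete.
* `isQuasiAffine_fiber`: if an ample module on `X` is pulled back from `Y` along `f`, the fibres of
  `f` are quasi-affine.
* `exists_symmetric_ample`, `map_pow_symmetric`: `[n]^*ℓ = ℓ^(T(n+1) + T n)` for symmetric `ℓ`.
* `dim_fiber_mulN`: the fibres of `[n]` have dimension `0`.
* `surjective_mulN`: `[n]` is surjective.
-/

set_option autoImplicit false
set_option linter.style.haveILetI false
universe u
open CategoryTheory CategoryTheory.Limits MonoidalCategory CartesianMonoidalCategory MonObj GrpObj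
  AlgebraicGeometry

namespace Groth.Agent.Lib.helper7.AbMulSurj

open Groth.Agent.Lib.helper7.PicGrp

/-- a proper quasi-affine scheme over a field is discrete -/
theorem discreteTopology_of_isProper_of_isQuasiAffine {F S : Scheme.{u}} [IsAffine S]
    [IsLocallyArtinian S] (g : F ⟶ S) [IsProper g] [F.IsQuasiAffine] : DiscreteTopology F := by
  have hnat : F.toSpecΓ ≫ Spec.map g.appTop = g ≫ S.toSpecΓ :=
    (Scheme.toSpecΓ_naturality g).symm
  haveI : IsProper (F.toSpecΓ ≫ Spec.map g.appTop) := by rw [hnat]; infer_instance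
  haveI : IsProper F.toSpecΓ := IsProper.of_comp _ (Spec.map g.appTop)
  haveI : IsClosedImmersion F.toSpecΓ :=
    (IsClosedImmersion.iff_isProper_and_mono _).mpr ⟨inferInstance, inferInstance⟩
  haveI : IsAffine F := isAffine_of_isAffineHom F.toSpecΓ
  haveI : IsFinite g := IsFinite.iff_isProper_and_isAffineHom.mpr ⟨inferInstance, inferInstance⟩
  haveI : IsLocallyArtinian F := IsLocallyArtinian.of_locallyQuasiFinite g
  infer_instance

/-- if an ample module on `X` is a pullback along `f : X ⟶ Y`, the fibres of `f` are quasi-affine -/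
theorem isQuasiAffine_fiber {X Y : Scheme.{u}} (f : X ⟶ Y) (y : Y)
    [IsAffineHom (Y.fromSpecResidueField y)]
    {L : X.Modules} (hL : CohB1.IsAmple L) {M : Y.Modules} (hM : PicF.IsInvertible M)
    (e : map f (mk M hM) = mk L hL.1) : (f.fiber y).IsQuasiAffine := by
  haveI : IsAffineHom (f.fiberι y) :=
    MorphismProperty.pullback_fst (P := @IsAffineHom) f (Y.fromSpecResidueField y) inferInstance
  have h1 : CohB1.IsAmple ((Scheme.Modules.pullback (f.fiberι y)).obj L) :=
    Groth.Agent.Lib.helper12.PullAmple.isAmple_pullback_of_isAffineHom _ hL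
  obtain ⟨hU⟩ : Nonempty (Unique ↥(Spec (Y.residueField y))) :=
    ⟨(inferInstance : Unique (PrimeSpectrum (Y.residueField y)))⟩
  haveI := hU
  have h2 : mk _ h1.1 = 1 := by
    rw [← map_mk (f.fiberι y) hL.1, ← e, ← map_comp]
    exact map_eq_one_of_factors _ (f.fiberToSpecResidueField y) (Y.fromSpecResidueField y)
      (f.fiber_fac y) _
  obtain ⟨ε⟩ := (mk_eq_one_iff _).mp h2
  have h3 : CohB1.IsAmple (Coh.structureModule (f.fiber y)) :=
    Groth.Agent.Lib.helper12.AmplePow.isAmple_of_iso ε h1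
  haveI : CompactSpace ↥(f.fiber y) := h3.2.1
  exact Groth.Agent.Lib.helper12.AmpleQAff.isQuasiAffine_of_hasAffineCover_structureModule h3.2.2


section Ab

open Groth.Agent.Lib.helper7.AbCube Groth.Agent.Lib.Lead.AbMulN

variable {K : Type u} [Field K] {A : Over (Spec (CommRingCat.of K))} [GrpObj A]
  [IsProper A.hom] [GeometricallyIntegral A.hom]

theorem exists_symmetric_ample :
    ∃ (L : A.left.Modules) (hL : CohB1.IsAmple L), P (mk L hL.1) ((𝟙 A)⁻¹) = mk L hL.1 := by
  obtain ⟨L, hL, ⟨e⟩⟩ := Groth.Agent.S8121.result K A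
  refine ⟨L, hL, ?_⟩
  show map ((𝟙 A)⁻¹).left (mk L hL.1) = mk L hL.1
  rw [map_mk, mk_eq_mk_iff]
  exact ⟨e.symm⟩

omit [GrpObj A] [GeometricallyIntegral A.hom] in
theorem isProper_left (φ : A ⟶ A) : IsProper φ.left := by
  haveI : IsProper (φ.left ≫ A.hom) := by rw [Over.w φ]; infer_instance
  exact IsProper.of_comp φ.left A.hom

omit [GrpObj A] [GeometricallyIntegral A.hom] in
theorem isAffineHom_fromSpecResidueField (y : A.left) :
    IsAffineHom (A.left.fromSpecResidueField y) := by
  haveI : IsAffineHom (A.left.fromSpecResidueField y ≫ A.hom) := inferInstance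
  exact IsAffineHom.of_comp (A.left.fromSpecResidueField y) A.hom

/-- the fibres of `[n]`, `n ≥ 1`, are discrete -/
theorem discreteTopology_fiber_mulN (n : ℕ) (hn : 1 ≤ n) (y : A.left) :
    DiscreteTopology ↥((𝟙 A ^ n).left.fiber y) := by
  obtain ⟨L, hL, hsym⟩ := exists_symmetric_ample (A := A)
  have h1 := P_pow (mk L hL.1) n
  rw [hsym, ← pow_add] at h1
  have hN : 0 < T (n + 1) + T n := by
    rw [T_succ]; omega
  have hLN : CohB1.IsAmple (CohB1.tensorPow L (T (n + 1) + T n)) :=
    (Groth.Agent.Lib.helper12.AmplePow.isAmple_tensorPow_iff hL.1 _ hN).mp hL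
  have h2 : map (𝟙 A ^ n).left (mk L hL.1) = mk _ hLN.1 := by
    rw [mk_tensorPow hL.1]
    exact h1
  haveI := isAffineHom_fromSpecResidueField y
  haveI : ((𝟙 A ^ n).left.fiber y).IsQuasiAffine :=
    isQuasiAffine_fiber (𝟙 A ^ n).left y hLN hL.1 h2
  haveI := isProper_left (𝟙 A ^ n)
  haveI : IsProper ((𝟙 A ^ n).left.fiberToSpecResidueField y) :=
    MorphismProperty.pullback_snd (P := @IsProper) _ _ inferInstance
  exact discreteTopology_of_isProper_of_isQuasiAffine ((𝟙 A ^ n).left.fiberToSpecResidueField y)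

/-- the nonempty fibres of `[n]`, `n ≥ 1`, have dimension zero -/
theorem dim_fiber_mulN (n : ℕ) (hn : 1 ≤ n) (x : A.left) :
    topologicalKrullDim ↥((𝟙 A ^ n).left.fiber ((𝟙 A ^ n).left x)) = 0 := by
  haveI := discreteTopology_fiber_mulN n hn ((𝟙 A ^ n).left x)
  haveI : Nonempty ↥((𝟙 A ^ n).left.fiber ((𝟙 A ^ n).left x)) := ⟨(𝟙 A ^ n).left.asFiber x⟩
  exact le_antisymm (topologicalKrullDim_zero_of_discreteTopology _)
    Groth.Agent.Lib.helper3.TopDim.dim_nonneg

/-- **multiplication by `n ≥ 1` on an abelian variety is surjective** -/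
theorem surjective_mulN (n : ℕ) (hn : 1 ≤ n) : Surjective (𝟙 A ^ n).left := by
  haveI : IsIntegral A.left := GeometricallyIntegral.isIntegral_of_subsingleton A.hom
  obtain ⟨x⟩ : Nonempty A.left := inferInstance
  exact (Groth.Agent.Lib.Helper14.IsogDim.surjective_and_dim_eq K A.hom A.hom le_rfl
    (𝟙 A ^ n).left (Over.w _) _ (dim_fiber_mulN n hn x)).1

end Ab

end Groth.Agent.Lib.helper7.AbMulSurj
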