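import Mathlib
import Groth.Agent.Lib.Helper7.IntList2
import Groth.Agent.Lib.Helper18.PullEuler

/-!
# Intersection numbers and affine (finite) morphisms (helper7)

* `E_push_affine`: `∫_Y c(l) f_*G = ∫_X c(f^*l) G` for an affine morphism `f : X ⟶ Y` of proper
  `k`-schemes and `G` quasi-coherent.
-/

set_option autoImplicit false
set_option linter.unusedSectionVars false
set_option linter.style.haveILetI false
universe u

open CategoryTheory CategoryTheory.Limits AlgebraicGeometry Opposite TopologicalSpace

namespace Groth.Agent.Lib.helper7.IntList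

open Groth.Agent.Lib.Lead.ModTensor

variable (k : Type u) [Field k] {X Y : Scheme.{u}} [X.Over (Spec (CommRingCat.of k))]
  [Y.Over (Spec (CommRingCat.of k))] [IsProper (X ↘ Spec (CommRingCat.of k))]
  [IsProper (Y ↘ Spec (CommRingCat.of k))] (f : X ⟶ Y)
  (hf : f ≫ (Y ↘ Spec (CommRingCat.of k)) = X ↘ Spec (CommRingCat.of k)) [IsAffineHom f]

include hf in
/-- the projection formula for intersection numbers along an affine morphism -/
theorem E_push_affine : ∀ (l : List Y.Modules) (_ : ∀ A ∈ l, PicF.IsInvertible A)
    (G : X.Modules) [G.IsQuasicoherent],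
    E k Y l ((Scheme.Modules.pushforward f).obj G) =
      E k X (l.map (Scheme.Modules.pullback f).obj) G
  | [], _, G, _ => Groth.Agent.Lib.Helper18.PullEuler.euler_push k f hf G
  | A :: l, hl, G, hG => by
    have hA : PicF.IsInvertible A := hl A (List.mem_cons_self ..)
    have hl' : ∀ B ∈ l, PicF.IsInvertible B := fun B hB => hl B (List.mem_cons_of_mem _ hB)
    have hE : FlatMod.IsFinLocFree A :=
      Groth.Agent.Lib.helper16.FLF.isFinLocFree_of_isInvertible hA
    haveI hq : ((Scheme.Modules.pullback f).obj A).IsQuasicoherent :=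
      Groth.Agent.Lib.helper16.FLF.isQuasicoherent_of_isFinLocFree _
        (Groth.Agent.Lib.helper16.FLF.isFinLocFree_pullback f hE)
    haveI : (CohB1.tensorMod G ((Scheme.Modules.pullback f).obj A)).IsQuasicoherent :=
      Groth.Agent.Lib.helper2.TensorQCoh.isQuasicoherent_tensorMod _ _
    rw [List.map_cons, E_cons, E_cons, E_push_affine l hl' G,
      E_iso k Y l (Groth.Agent.Lib.Helper18.ProjFormulaLF.projIso f G A hE),
      E_push_affine l hl' (CohB1.tensorMod G ((Scheme.Modules.pullback f).obj A))]

end Groth.Agent.Lib.helper7.IntList
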