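import Mathlib
import Groth.Agent.Lib.Helper7.IntPushFin
import Groth.Agent.Lib.Helper7.RegInt
import Groth.Agent.Lib.Helper7.EpiLocus
import Groth.Agent.Lib.Helper8.EtaleEuler
import Groth.Agent.Lib.Helper14.IsogDim5
import Groth.Agent.Lib.Helper16.FLF6
import Groth.Agent.Lib.Helper15.PushO

/-!
# Intersection numbers under finite flat pullback (helper7)

* `mult_genericPoint_of_isFinLocFreeOfRank`: a finite locally free module of rank `r > 0` on an
  integral scheme has multiplicity `r` at the generic point.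
* `E_pullback_finite_flat`: `∫_X c(f^*l) O_X = r ∫_Y c(l) O_Y` for `f : X ⟶ Y` finite flat of
  constant rank `r > 0` onto an integral proper `k`-scheme of dimension `length l`.
-/

set_option autoImplicit false
set_option linter.unusedSectionVars false
set_option linter.style.haveILetI false
universe u

open CategoryTheory CategoryTheory.Limits AlgebraicGeometry Opposite TopologicalSpace

namespace Groth.Agent.Lib.helper7.IntList

open Groth.Agent.Lib.Lead.ModTensor Groth.Agent.Lib.helper7.SnapperMult

theorem mult_genericPoint_of_isFinLocFreeOfRank {Y : Scheme.{u}} [IsIntegral Y] (F : Y.Modules)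
    (r : ℕ) (hr : 0 < r) (hF : FlatMod.IsFinLocFreeOfRank r F) :
    mult F (genericPoint Y) = r := by
  have hF' : FlatMod.IsFinLocFree F := fun x => by
    obtain ⟨U, hU, i⟩ := hF x
    exact ⟨U, r, hU, i⟩
  haveI := Groth.Agent.Lib.helper16.FLF.isQuasicoherent_of_isFinLocFree F hF'
  obtain ⟨U, hU, ⟨iso⟩⟩ := hF (genericPoint Y)
  obtain ⟨hfree, hrk⟩ :=
    Groth.Agent.Lib.helper16.FLF.free_stalk_of_restrict_iso_freeMod F r iso (genericPoint Y) hU
  letI : Field (Y.presheaf.stalk (genericPoint Y)) := inferInstanceAs (Field Y.functionField)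
  haveI : Module.Finite (Y.presheaf.stalk (genericPoint Y)) (F.presheaf.stalk (genericPoint Y)) :=
    Module.finite_of_finrank_pos (by rw [hrk]; exact hr)
  unfold mult
  rw [Module.length_eq_finrank, hrk]
  rfl

variable (k : Type u) [Field k] {X Y : Scheme.{u}} [X.Over (Spec (CommRingCat.of k))]
  [Y.Over (Spec (CommRingCat.of k))] [IsProper (X ↘ Spec (CommRingCat.of k))]
  [IsProper (Y ↘ Spec (CommRingCat.of k))] (f : X ⟶ Y)
  (hf : f ≫ (Y ↘ Spec (CommRingCat.of k)) = X ↘ Spec (CommRingCat.of k))

include hf in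
/-- the degree formula for intersection numbers -/
theorem E_pullback_finite_flat [IsIntegral Y] [IsFinite f] [Flat f] (r : ℕ) (hr : 0 < r)
    (hrk : ∀ y, f.finrank y = r) (l : List Y.Modules) (hl : ∀ A ∈ l, PicF.IsInvertible A)
    (hdim : topologicalKrullDim Y = ((l.length : ℕ) : WithBot ℕ∞)) :
    E k X (l.map (Scheme.Modules.pullback f).obj) (Coh.structureModule X) =
      (r : ℤ) * E k Y l (Coh.structureModule Y) := by
  classical
  haveI := Groth.Agent.Lib.Lead.CurveEuler.isNoetherian k Y
  haveI : (Coh.structureModule X).IsQuasicoherent :=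
    Groth.Agent.Lib.helper15.PushO.structureModule_qcoh (X := X)
  rw [← E_push_affine k f hf l hl (Coh.structureModule X)]
  set F := (Scheme.Modules.pushforward f).obj (Coh.structureModule X) with hFdef
  have hFLF : FlatMod.IsFinLocFreeOfRank r F :=
    Groth.Agent.Lib.helper8.EtaleEuler.isFinLocFreeOfRank_pushO f r hrk
  have hFLF' : FlatMod.IsFinLocFree F := fun x => by
    obtain ⟨U, hU, i⟩ := hFLF x
    exact ⟨U, r, hU, i⟩
  have hFcoh : Coh.IsCoh F := Groth.Agent.Lib.helper7.EpiLocus.isCoh_of_isFinLocFree hFLF'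
  have hmult := mult_genericPoint_of_isFinLocFreeOfRank F r hr hFLF
  have hsupp : topologicalKrullDim (CohB1.support F) ≤ ((l.length : ℕ) : WithBot ℕ∞) := by
    rw [← hdim]
    exact topologicalKrullDim_subspace_le _ _
  have hη : genericPoint Y ∈ CohB1.support F := by
    by_contra hcon
    have := mult_eq_zero_of_notMem hcon
    omega
  have hcl : closure ({genericPoint Y} : Set Y) = Set.univ := (genericPoint_spec Y).def
  have hs : ∀ ξ : Y, ξ ∈ ({genericPoint Y} : Finset Y) ↔ ξ ∈ CohB1.support F ∧
      topologicalKrullDim (closure ({ξ} : Set Y)) = ((l.length : ℕ) : WithBot ℕ∞) := by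
    intro ξ
    rw [Finset.mem_singleton]
    constructor
    · rintro rfl
      refine ⟨hη, ?_⟩
      rw [hcl, ← hdim]
      exact (Homeomorph.Set.univ Y).isHomeomorph.topologicalKrullDim_eq
    · rintro ⟨-, h2⟩
      have h3 := Groth.Agent.Lib.Helper14.IsogDim.closure_eq_univ_of_dim_eq ξ l.length h2 hdim
      exact ((genericPoint_spec Y).eq (show IsGenericPoint ξ Set.univ from h3)).symm
  rw [E_sum_mult k Y l hl F hFcoh hsupp {genericPoint Y} hs, Finset.sum_singleton, hmult]
  congr 1
  have hJ : Jx (genericPoint Y) = ⊥ := by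
    have : (⟨closure ({genericPoint Y} : Set Y), isClosed_closure⟩ : Closeds Y) = ⊤ :=
      Closeds.ext hcl
    show Scheme.IdealSheafData.vanishingIdeal _ = ⊥
    rw [this, Scheme.IdealSheafData.vanishingIdeal_top, Scheme.nilradical_eq_bot]
  apply E_iso k Y l
  show ClSub.quotMod (Jx (genericPoint Y)) ≅ _
  rw [hJ]
  exact Groth.Agent.Lib.helper7.RegInt.quotBotIso

end Groth.Agent.Lib.helper7.IntList
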