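import Mathlib
import Groth.Agent.Lib.Helper7.AbMulSurj
import Groth.Agent.Lib.Helper7.IntDegree
import Groth.Agent.Lib.Helper7.IntList4
import Groth.Agent.Lib.Helper7.SnapperARR
import Groth.Agent.Lib.Helper14.NthPow5
import Groth.Agent.Lib.Helper14.IsogDim1

/-!
# The degree of multiplication by `n` on an abelian variety is `n^(2g)` (helper7)

* `E_replicate_tensorPow`: `∫ c(M^N)^g G = N^g ∫ c(M)^g G`.
* `finite_flat_mulN`: `[n]` is finite and flat for `n ≥ 1`.
* `finrank_mulN`: the rank of `[n]` is `n^(2g)`.
-/

set_option autoImplicit false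
set_option linter.unusedSectionVars false
set_option linter.style.haveILetI false
universe u

open CategoryTheory CategoryTheory.Limits AlgebraicGeometry Opposite TopologicalSpace

namespace Groth.Agent.Lib.helper7.IntList

variable (k : Type u) [Field k] (X : Scheme.{u}) [X.Over (Spec (CommRingCat.of k))]
  [IsProper (X ↘ Spec (CommRingCat.of k))]

theorem E_replicate_tensorPow_aux (M : X.Modules) (hM : PicF.IsInvertible M) (G : X.Modules)
    (hG : Coh.IsCoh G) (N : ℕ) : ∀ (i j : ℕ),
    topologicalKrullDim (CohB1.support G) ≤ ((i + j : ℕ) : WithBot ℕ∞) →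
    E k X (List.replicate i (CohB1.tensorPow M N) ++ List.replicate j M) G =
      (N : ℤ) ^ i * E k X (List.replicate (i + j) M) G
  | 0, j, _ => by simp
  | i + 1, j, hr => by
    have hMN : PicF.IsInvertible (CohB1.tensorPow M N) :=
      Groth.Agent.Lib.helper12.TensorInv.isInvertible_tensorPow hM N
    have hl : ∀ B ∈ List.replicate i (CohB1.tensorPow M N) ++ List.replicate j M,
        PicF.IsInvertible B := by
      intro B hB
      rcases List.mem_append.mp hB with h | h
      · rw [List.eq_of_mem_replicate h]; exact hMN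
      · rw [List.eq_of_mem_replicate h]; exact hM
    have hlen : (List.replicate i (CohB1.tensorPow M N) ++ List.replicate j M).length + 1 =
        i + 1 + j := by
      simp only [List.length_append, List.length_replicate]; omega
    rw [List.replicate_succ, List.cons_append,
      E_tensorPow k X M hM _ hl G hG (by rw [hlen]; exact hr) N,
      E_perm k X (List.perm_middle (a := M) (l₁ := List.replicate i (CohB1.tensorPow M N))
        (l₂ := List.replicate j M)).symm G,
      ← List.replicate_succ, E_replicate_tensorPow_aux M hM G hG N i (j + 1)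
        (by rw [show i + (j + 1) = i + 1 + j by omega]; exact hr),
      show i + (j + 1) = i + 1 + j by omega, pow_succ]
    ring

theorem E_replicate_tensorPow (M : X.Modules) (hM : PicF.IsInvertible M) (G : X.Modules)
    (hG : Coh.IsCoh G) (N g : ℕ)
    (hr : topologicalKrullDim (CohB1.support G) ≤ ((g : ℕ) : WithBot ℕ∞)) :
    E k X (List.replicate g (CohB1.tensorPow M N)) G =
      (N : ℤ) ^ g * E k X (List.replicate g M) G := by
  have h := E_replicate_tensorPow_aux k X M hM G hG N g 0 (by simpa using hr)
  simpa using h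

end Groth.Agent.Lib.helper7.IntList

namespace Groth.Agent.Lib.helper7.AbMulSurj

open MonoidalCategory CartesianMonoidalCategory MonObj GrpObj
open Groth.Agent.Lib.helper7.PicGrp Groth.Agent.Lib.helper7.AbCube Groth.Agent.Lib.Lead.AbMulN
open Groth.Agent.Lib.helper7.IntList

variable {K : Type u} [Field K] {A : Over (Spec (CommRingCat.of K))} [GrpObj A]
  [IsProper A.hom] [GeometricallyIntegral A.hom]

theorem T_add (n : ℕ) : T (n + 1) + T n = n * n := by
  have h := Finset.sum_range_id_mul_two n
  rw [T_succ]
  show T n + n + T n = n * n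
  have h' : T n * 2 = n * (n - 1) := h
  rcases n with _ | m
  · simp [T]
  · simp only [Nat.add_sub_cancel] at h'
    nlinarith

/-- `[n]` is finite and flat for `n ≥ 1` -/
theorem finite_flat_mulN (n : ℕ) (hn : 1 ≤ n) :
    IsFinite (𝟙 A ^ n).left ∧ Flat (𝟙 A ^ n).left := by
  haveI : IsIntegral A.left := GeometricallyIntegral.isIntegral_of_subsingleton A.hom
  haveI : IsCommMonObj A := isCommMonObj_of_isProper_of_geometricallyIntegral A
  haveI : IsMonHom ((𝟙 A : A ⟶ A) ^ n) := Groth.Agent.Lib.Helper14.NthPow.isMonHom_pow n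
  haveI : Surjective (𝟙 A ^ n).left := surjective_mulN n hn
  exact Groth.Agent.Lib.Helper14.IsogDim.finite_flat_of_dim_eq K A A (𝟙 A ^ n) rfl

/-- **the degree of `[n]` is `n^(2g)`** -/
theorem finrank_mulN (g : ℕ) (hg : topologicalKrullDim A.left = g) (n : ℕ) (hn : 1 ≤ n)
    (y : A.left) : (𝟙 A ^ n).left.finrank y = n ^ (2 * g) := by
  haveI : IsIntegral A.left := GeometricallyIntegral.isIntegral_of_subsingleton A.hom
  obtain ⟨hfin, hflat⟩ := finite_flat_mulN (A := A) n hn
  haveI := hfin
  haveI := hflat
  haveI : Surjective (𝟙 A ^ n).left := surjective_mulN n hn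
  letI : A.left.Over (Spec (CommRingCat.of K)) := ⟨A.hom⟩
  haveI : IsProper (A.left ↘ Spec (CommRingCat.of K)) := (inferInstance : IsProper A.hom)
  haveI : IsLocallyNoetherian A.left := LocallyOfFiniteType.isLocallyNoetherian A.hom
  haveI : LocallyOfFinitePresentation (𝟙 A ^ n).left := inferInstance
  -- the rank is constant
  set r := (𝟙 A ^ n).left.finrank y with hr
  have hrk : ∀ z, (𝟙 A ^ n).left.finrank z = r := fun z =>
    (Scheme.Hom.isLocallyConstant_finrank (𝟙 A ^ n).left).apply_eq_of_preconnectedSpace z y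
  have hr0 : 0 < r := (Scheme.Hom.one_le_finrank_iff_surjective (𝟙 A ^ n).left).mpr inferInstance y
  -- a symmetric ample module and its inverse
  obtain ⟨L, hL, hsym⟩ := exists_symmetric_ample (A := A)
  obtain ⟨M, hM, ⟨e⟩, -⟩ := Groth.Agent.Lib.helper12.InvDual.exists_inverse hL.1
  have h1 := P_pow (mk L hL.1) n
  rw [hsym, ← pow_add, T_add] at h1
  have hML : mk M hM = (mk L hL.1)⁻¹ := by
    apply eq_inv_of_mul_eq_one_right
    rw [mk_mul_mk, mk_eq_one_iff]
    exact ⟨e⟩
  have h2 : map (𝟙 A ^ n).left (mk M hM) = mk (CohB1.tensorPow M (n * n))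
      (Groth.Agent.Lib.helper12.TensorInv.isInvertible_tensorPow hM _) := by
    rw [Groth.Agent.Lib.Lead.AbMulN.mk_tensorPow hM, hML, map_inv, inv_pow]
    congr 1
  rw [map_mk, mk_eq_mk_iff] at h2
  obtain ⟨ε⟩ := h2
  -- intersection numbers
  have hdeg := E_pullback_finite_flat K (X := A.left) (Y := A.left) (𝟙 A ^ n).left (Over.w _) r hr0
    hrk (List.replicate g M) (fun B hB => by rw [List.eq_of_mem_replicate hB]; exact hM)
    (by rw [List.length_replicate]; exact hg)
  rw [List.map_replicate, E_congr_replicate K A.left ε,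
    E_replicate_tensorPow K A.left M hM _ (Groth.Agent.Lib.helper8.Dev.isCoh_structureModule _)
      (n * n) g (by
        haveI := Groth.Agent.Lib.Lead.CurveEuler.isNoetherian K A.left
        rw [Groth.Agent.Lib.helper7.SnapperARR.dim_support_structureModule, hg])] at hdeg
  have hpos : 0 < E K A.left (List.replicate g M) (Coh.structureModule A.left) := by
    rw [E_replicate K A.left g hg.le]
    haveI := Groth.Agent.Lib.Lead.CurveEuler.isNoetherian K A.left
    exact Groth.Agent.Lib.helper7.SnapperPos.intNum_const_pos K A.left g hg.le L M hL ⟨e⟩ g _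
      (Groth.Agent.Lib.helper8.Dev.isCoh_structureModule _)
      (by rw [Groth.Agent.Lib.helper7.SnapperARR.dim_support_structureModule, hg])
  have hfin : ((n * n : ℕ) : ℤ) ^ g = (r : ℤ) := by
    have := mul_right_cancel₀ hpos.ne' hdeg
    exact this
  have : (n * n) ^ g = r := by exact_mod_cast hfin
  rw [← this, ← pow_two, ← pow_mul]

end Groth.Agent.Lib.helper7.AbMulSurj
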