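import Mathlib
import Groth.Agent.Lib.Helper13.Normal10
import Groth.Agent.Lib.Helper13.Normal2

/-!
# A geometrically reduced, geometrically connected group scheme locally of finite type is
geometrically integral (helper7)
-/

set_option autoImplicit false
set_option linter.style.haveILetI false
universe u
open CategoryTheory CategoryTheory.Limits MonoidalCategory CartesianMonoidalCategory
  AlgebraicGeometry

namespace Groth.Agent.Lib.helper7.GrpGeomIntegral

open Groth.Agent.Lib.helper13

/-- A connected group scheme locally of finite type and geometrically reduced over a field is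
integral. -/
theorem isIntegral_of_grpObj_field {K : Type u} [Field K] {G : Scheme.{u}}
    (f : G ⟶ Spec (.of K)) [LocallyOfFiniteType f] [GrpObj (Over.mk f)] [GeometricallyReduced f]
    [ConnectedSpace G] : IsIntegral G := by
  haveI : Smooth f := smooth_of_grpObj f
  haveI : IsLocallyNoetherian G := LocallyOfFiniteType.isLocallyNoetherian f
  have hK : Pi1.IsNormalScheme (Spec (.of K)) :=
    Normal.Spec_of_isNormalDomain (.of K) ⟨inferInstance, inferInstance⟩
  have hG : Pi1.IsNormalScheme G := Normal.of_smooth f hK
  exact Normal.isIntegral_of_connected hG (Normal.finite_irreducibleComponents_of_isLocallyNoetherian G)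

/-- A group scheme over `S`, locally of finite type with geometrically reduced and geometrically
connected fibres, is geometrically integral. -/
theorem geometricallyIntegral_of_grpObj {S : Scheme.{u}} (X : Over S) [GrpObj X]
    [LocallyOfFiniteType X.hom] [GeometricallyReduced X.hom] [GeometricallyConnected X.hom] :
    GeometricallyIntegral X.hom := by
  refine ⟨fun K _ y Z' fst' snd' hp => ?_⟩
  letI : GrpObj (Over.mk X.hom) := (inferInstance : GrpObj X)
  letI : GrpObj (Over.mk (pullback.snd X.hom y)) := Over.grpObjMkPullbackSnd
  haveI : ConnectedSpace ↥(pullback X.hom y) :=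
    GeometricallyConnected.geometrically_connectedSpace y (pullback.fst X.hom y)
      (pullback.snd X.hom y) (IsPullback.of_hasPullback X.hom y)
  haveI : IsIntegral (pullback X.hom y) := isIntegral_of_grpObj_field (pullback.snd X.hom y)
  haveI : Nonempty ↥Z' := ⟨hp.isoPullback.inv (Classical.arbitrary _)⟩
  exact isIntegral_of_isOpenImmersion hp.isoPullback.hom

end Groth.Agent.Lib.helper7.GrpGeomIntegral
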