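import Mathlib
import Groth.Agent.Lib.Helper7.CubeLocus

/-!
# The theorem of the cube over an arbitrary base: the maximal open and closed locus (helper7)
-/

set_option autoImplicit false
set_option linter.style.haveILetI false
universe u
open CategoryTheory CategoryTheory.Limits AlgebraicGeometry TopologicalSpace Opposite

namespace Groth.Agent.Lib.helper7.CubeLocus

open Groth.Agent.Lib.helper7.DescQS Groth.Agent.Lib.helper11.InvMod
  Groth.Agent.Lib.helper7.CubeBC

/-- **The theorem of the cube over an arbitrary base, open and closed locus.** -/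
theorem exists_clopen_triv_max {X Y S : Scheme.{u}} (f : X ⟶ S) (g : Y ⟶ S)
    [Flat f] [IsProper f] [LocallyOfFinitePresentation f] [GeometricallyIntegral f]
    [Flat g] [IsProper g] [LocallyOfFinitePresentation g] [GeometricallyIntegral g]
    (σ : S ⟶ X) (hσ : σ ≫ f = 𝟙 S) (τ : S ⟶ Y) (hτ : τ ≫ g = 𝟙 S)
    (L : (pullback f g).Modules) (hL : PicF.IsInvertible L)
    (u : X ⟶ pullback f g) (hu1 : u ≫ pullback.fst f g = 𝟙 X)
    (hu2 : u ≫ pullback.snd f g = f ≫ τ)
    (v : Y ⟶ pullback f g) (hv1 : v ≫ pullback.fst f g = g ≫ σ)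
    (hv2 : v ≫ pullback.snd f g = 𝟙 Y)
    (h1 : Nonempty ((Scheme.Modules.pullback u).obj L ≅ Coh.structureModule X))
    (h2 : Nonempty ((Scheme.Modules.pullback v).obj L ≅ Coh.structureModule Y))
    (s : S)
    (h3 : Nonempty ((Scheme.Modules.pullback ((pullback.fst f g ≫ f).fiberι s)).obj L ≅
      Coh.structureModule ((pullback.fst f g ≫ f).fiber s))) :
    ∃ W : S.Opens, IsClosed (W : Set S) ∧ s ∈ W ∧
      Nonempty ((Scheme.Modules.pullback ((pullback.fst f g ≫ f) ⁻¹ᵁ W).ι).obj L ≅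
        Coh.structureModule _) ∧
      ∀ (T : Scheme.{u}) (c : T ⟶ S),
        Nonempty ((Scheme.Modules.pullback (pullback.fst (pullback.fst f g ≫ f) c)).obj L ≅
          Coh.structureModule _) → Set.range c ⊆ (W : Set S) := by
  classical
  haveI := geometricallyIntegral_h f g
  haveI : GeometricallyConnected f :=
    Groth.Agent.Lib.helper21.Seesaw.geometricallyConnected_of_geometricallyIntegral f
  haveI : GeometricallyConnected g :=
    Groth.Agent.Lib.helper21.Seesaw.geometricallyConnected_of_geometricallyIntegral g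
  have hOf : ∀ (T : Scheme.{u}) (t : T ⟶ S) (U : T.Opens), IsIso ((pullback.snd f t).app U) := by
    intro T t U
    haveI : GeometricallyConnected (pullback.snd f t) :=
      MorphismProperty.of_isPullback (P := @GeometricallyConnected)
        (IsPullback.of_hasPullback f t) inferInstance
    haveI : GeometricallyReduced (pullback.snd f t) :=
      MorphismProperty.of_isPullback (P := @GeometricallyReduced)
        (IsPullback.of_hasPullback f t) inferInstance
    exact Groth.Agent.Lib.helper7.SteinU.isIso_app (pullback.snd f t) U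
  have hOg : ∀ (T : Scheme.{u}) (t : T ⟶ S) (U : T.Opens), IsIso ((pullback.snd g t).app U) := by
    intro T t U
    haveI : GeometricallyConnected (pullback.snd g t) :=
      MorphismProperty.of_isPullback (P := @GeometricallyConnected)
        (IsPullback.of_hasPullback g t) inferInstance
    haveI : GeometricallyReduced (pullback.snd g t) :=
      MorphismProperty.of_isPullback (P := @GeometricallyReduced)
        (IsPullback.of_hasPullback g t) inferInstance
    exact Groth.Agent.Lib.helper7.SteinU.isIso_app (pullback.snd g t) U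
  have hO := isIso_app_h f g hOf hOg
  have hρ : (σ ≫ u) ≫ pullback.fst f g ≫ f = 𝟙 S := by
    rw [Category.assoc, ← Category.assoc u, hu1, Category.id_comp, hσ]
  have hρL : Nonempty ((Scheme.Modules.pullback (σ ≫ u)).obj L ≅ Coh.structureModule S) := by
    obtain ⟨e⟩ := h1
    exact ⟨((Scheme.Modules.pullbackComp σ u).app L).symm ≪≫
      (Scheme.Modules.pullback σ).mapIso e ≪≫ pullbackUnitIso σ⟩
  obtain ⟨Zd, ι, hImm, hlfp, huniv, huniv'⟩ :=
    exists_triv_locus (pullback.fst f g ≫ f) hO L hL (σ ≫ u) hρ hρL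
  haveI := hImm
  haveI := hlfp
  have hrange : ∀ s' : S, s' ∈ Set.range ι ↔
      Nonempty ((Scheme.Modules.pullback ((pullback.fst f g ≫ f).fiberι s')).obj L ≅
        Coh.structureModule ((pullback.fst f g ≫ f).fiber s')) := fun s' =>
    (mem_range_iff_factors ι s').trans (huniv' _ _)
  -- local factorisation
  have hloc : ∀ s' ∈ Set.range ι, ∃ U : S.Opens, s' ∈ U ∧
      ∃ c' : (U : Scheme.{u}) ⟶ Zd, c' ≫ ι = U.ι := fun s' hs' =>
    Groth.Agent.Lib.helper7.CubeOpen.exists_open_factor ι s' hs'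
      (fun R _ _ t ht htm c hc₁ => by
        rw [huniv'] at hc₁ ⊢
        exact main_local f g hOf hOg σ hσ τ hτ L hL u hu1 hu2 v hv1 hv2 h1 h2 t ht htm c hc₁)
  have hopen : IsOpen (Set.range ι) := by
    rw [isOpen_iff_forall_mem_open]
    intro s' hs'
    obtain ⟨U, hsU, c', hc'⟩ := hloc s' hs'
    refine ⟨U, ?_, U.2, hsU⟩
    intro x hx
    refine ⟨c' ⟨x, hx⟩, ?_⟩
    rw [← Scheme.Hom.comp_apply, hc']
    rfl
  have hclosed : IsClosed (Set.range ι) := by
    obtain ⟨M, hM, -, ⟨eML⟩⟩ := Groth.Agent.Lib.helper12.InvDual.exists_inverse hL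
    have h0 := Groth.Agent.Lib.helper7.NNPicClosed.isClosed_setOf_fiber_trivial
      (pullback.fst f g ≫ f) L M hL hM eML (fun y => inferInstance)
    convert h0 using 1
    ext s'
    exact hrange s'
  let W : S.Opens := ⟨Set.range ι, hopen⟩
  refine ⟨W, hclosed, (hrange s).mpr h3, ?_, fun T c hc => ?_⟩
  swap
  · obtain ⟨c', hc'⟩ := (huniv' T c).mpr hc
    rintro _ ⟨t, rfl⟩
    exact ⟨c' t, by rw [← Scheme.Hom.comp_apply, hc']⟩
  -- `W.ι` factors through `ι`
  have hfacW : ∃ c' : (W : Scheme.{u}) ⟶ Zd, c' ≫ ι = W.ι := by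
    rw [huniv]
    refine desc_of_QS (QS_local _ _ (fun t => ?_))
    obtain ⟨U, hsU, c', hc'⟩ := hloc (W.ι t) t.2
    refine ⟨W.ι ⁻¹ᵁ U, hsU, ?_⟩
    refine Groth.Agent.Lib.helper7.DescFinal.QS_restrict_of_desc (pullback.fst f g ≫ f) hO L W.ι
      (W.ι ⁻¹ᵁ U) ?_
    rw [← huniv]
    have hr : Set.range ((W.ι ⁻¹ᵁ U).ι ≫ W.ι) ⊆ Set.range U.ι := by
      rintro _ ⟨w, rfl⟩
      rw [Scheme.Opens.range_ι]
      exact w.2
    refine ⟨IsOpenImmersion.lift U.ι ((W.ι ⁻¹ᵁ U).ι ≫ W.ι) hr ≫ c', ?_⟩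
    rw [Category.assoc, hc', IsOpenImmersion.lift_fac]
  obtain ⟨e⟩ := (huniv' _ W.ι).mp hfacW
  let i := pullbackRestrictIsoRestrict (pullback.fst f g ≫ f) W
  have hi : i.inv ≫ pullback.fst (pullback.fst f g ≫ f) W.ι = ((pullback.fst f g ≫ f) ⁻¹ᵁ W).ι :=
    pullbackRestrictIsoRestrict_inv_fst _ W
  exact ⟨(Scheme.Modules.pullbackCongr hi.symm).app L ≪≫
    ((Scheme.Modules.pullbackComp i.inv _).app L).symm ≪≫
    (Scheme.Modules.pullback i.inv).mapIso e ≪≫ pullbackUnitIso i.inv⟩

end Groth.Agent.Lib.helper7.CubeLocus
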