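import Mathlib
import Groth.Agent.Lib.Helper7.CubeTransport
import Groth.Agent.Lib.Helper7.CubeLocus2
import Groth.Agent.Lib.Helper7.CubeTransport2
import Groth.Agent.Lib.Helper18.PicGlue1

/-!
# The theorem of the cube for `(X ×_S Y) ×_S Z`: the maximal clopen locus (helper7)
-/

set_option autoImplicit false
set_option linter.style.haveILetI false
universe u
open CategoryTheory CategoryTheory.Limits AlgebraicGeometry TopologicalSpace Opposite

namespace Groth.Agent.Lib.helper7.CubeTransport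

open Groth.Agent.Lib.helper11.InvMod Groth.Agent.Lib.helper7.CubeBC
  Groth.Agent.Lib.helper7.CubeLocus

variable {S X Y Z : Scheme.{u}} (pX : X ⟶ S) (pY : Y ⟶ S) (pZ : Z ⟶ S)

/-- **cube, clopen form** for `(X ×_S Y) ×_S Z` with abstract slice maps -/
theorem exists_clopen_max
    [Flat pX] [IsProper pX] [LocallyOfFinitePresentation pX] [GeometricallyIntegral pX]
    [Flat pY] [IsProper pY] [LocallyOfFinitePresentation pY] [GeometricallyIntegral pY]
    (x : S ⟶ X) (hx : x ≫ pX = 𝟙 S) (y : S ⟶ Y) (hy : y ≫ pY = 𝟙 S)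
    (L : (pullback (pullback.fst pX pY ≫ pX) pZ).Modules) (hL : PicF.IsInvertible L)
    {D₁ D₂ : Scheme.{u}} (m₁ : D₁ ⟶ pullback (pullback.fst pX pY ≫ pX) pZ)
    (k₁ : pullback pY pZ ⟶ D₁)
    (hk₁f : k₁ ≫ m₁ ≫ pullback.fst _ pZ = pullback.fst pY pZ ≫ iY pX pY x hx)
    (hk₁s : k₁ ≫ m₁ ≫ pullback.snd _ pZ = pullback.snd pY pZ)
    (m₂ : D₂ ⟶ pullback (pullback.fst pX pY ≫ pX) pZ)
    (k₂ : pullback pX pZ ⟶ D₂)
    (hk₂f : k₂ ≫ m₂ ≫ pullback.fst _ pZ = pullback.fst pX pZ ≫ iX pX pY y hy)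
    (hk₂s : k₂ ≫ m₂ ≫ pullback.snd _ pZ = pullback.snd pX pZ)
    (h₁ : Nonempty ((Scheme.Modules.pullback m₁).obj L ≅ Coh.structureModule _))
    (h₂ : Nonempty ((Scheme.Modules.pullback m₂).obj L ≅ Coh.structureModule _))
    (z : Z) (h₃ : Nonempty ((Scheme.Modules.pullback
      ((pullback.snd (pullback.fst pX pY ≫ pX) pZ).fiberι z)).obj L ≅ Coh.structureModule _)) :
    ∃ W : Z.Opens, IsClosed (W : Set Z) ∧ z ∈ W ∧
      Nonempty ((Scheme.Modules.pullback
        ((pullback.snd (pullback.fst pX pY ≫ pX) pZ) ⁻¹ᵁ W).ι).obj L ≅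
          Coh.structureModule _) ∧
      ∀ (T : Scheme.{u}) (c : T ⟶ Z),
        Nonempty ((Scheme.Modules.pullback
          (pullback.fst (pullback.snd (pullback.fst pX pY ≫ pX) pZ) c)).obj L ≅
            Coh.structureModule _) → Set.range c ⊆ (W : Set Z) := by
  -- notation
  let f := pullback.snd pX pZ
  let g := pullback.snd pY pZ
  let q := qT pX pY pZ
  let p := pT pX pY pZ
  have sq : IsPullback q p f g := isPullback_qT_pT pX pY pZ
  let e := sq.isoPullback
  have he1 : e.hom ≫ pullback.fst f g = q := sq.isoPullback_hom_fst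
  have he2 : e.hom ≫ pullback.snd f g = p := sq.isoPullback_hom_snd
  have heh : e.hom ≫ pullback.fst f g ≫ f = pullback.snd (pullback.fst pX pY ≫ pX) pZ := by
    rw [← Category.assoc, he1]; exact qT_snd pX pY pZ
  have hσ : secT pX pZ x hx ≫ f = 𝟙 Z := secT_snd pX pZ x hx
  have hτ : secT pY pZ y hy ≫ g = 𝟙 Z := secT_snd pY pZ y hy
  let u : pullback pX pZ ⟶ pullback f g := pullback.lift (𝟙 _) (f ≫ secT pY pZ y hy)
    (by rw [Category.id_comp, Category.assoc, hτ, Category.comp_id])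
  let v : pullback pY pZ ⟶ pullback f g := pullback.lift (g ≫ secT pX pZ x hx) (𝟙 _)
    (by rw [Category.id_comp, Category.assoc, hσ, Category.comp_id])
  have hu1 : u ≫ pullback.fst f g = 𝟙 _ := pullback.lift_fst _ _ _
  have hu2 : u ≫ pullback.snd f g = f ≫ secT pY pZ y hy := pullback.lift_snd _ _ _
  have hv1 : v ≫ pullback.fst f g = g ≫ secT pX pZ x hx := pullback.lift_fst _ _ _
  have hv2 : v ≫ pullback.snd f g = 𝟙 _ := pullback.lift_snd _ _ _
  -- the slices
  have hk₂f' : ∀ {A : Scheme.{u}} (w : pullback pX pY ⟶ A),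
      k₂ ≫ m₂ ≫ pullback.fst _ pZ ≫ w = pullback.fst pX pZ ≫ iX pX pY y hy ≫ w := fun w => by
    have := hk₂f =≫ w
    simpa only [Category.assoc] using this
  have hk₁f' : ∀ {A : Scheme.{u}} (w : pullback pX pY ⟶ A),
      k₁ ≫ m₁ ≫ pullback.fst _ pZ ≫ w = pullback.fst pY pZ ≫ iY pX pY x hx ≫ w := fun w => by
    have := hk₁f =≫ w
    simpa only [Category.assoc] using this
  have hiX1 : iX pX pY y hy ≫ pullback.fst pX pY = 𝟙 X := pullback.lift_fst _ _ _
  have hiX2 : iX pX pY y hy ≫ pullback.snd pX pY = pX ≫ y := pullback.lift_snd _ _ _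
  have hiY1 : iY pX pY x hx ≫ pullback.fst pX pY = pY ≫ x := pullback.lift_fst _ _ _
  have hiY2 : iY pX pY x hx ≫ pullback.snd pX pY = 𝟙 Y := pullback.lift_snd _ _ _
  have w₂ : u ≫ e.inv = k₂ ≫ m₂ := by
    rw [← cancel_mono e.hom, Category.assoc, Iso.inv_hom_id, Category.comp_id]
    apply pullback.hom_ext
    · rw [hu1, Category.assoc, Category.assoc, he1]
      apply pullback.hom_ext
      · rw [Category.id_comp, Category.assoc, Category.assoc, qT_fst, hk₂f', hiX1,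
          Category.comp_id]
      · rw [Category.id_comp, Category.assoc, Category.assoc, qT_snd, hk₂s]
    · rw [hu2, Category.assoc, Category.assoc, he2]
      apply pullback.hom_ext
      · rw [Category.assoc, Category.assoc, Category.assoc, pT_fst, hk₂f', hiX2, secT_fst,
          ← Category.assoc, ← Category.assoc, pullback.condition]
      · rw [Category.assoc, Category.assoc, Category.assoc, pT_snd, hk₂s, secT_snd,
          Category.comp_id]
  have w₁ : v ≫ e.inv = k₁ ≫ m₁ := by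
    rw [← cancel_mono e.hom, Category.assoc, Iso.inv_hom_id, Category.comp_id]
    apply pullback.hom_ext
    · rw [hv1, Category.assoc, Category.assoc, he1]
      apply pullback.hom_ext
      · rw [Category.assoc, Category.assoc, Category.assoc, qT_fst, hk₁f', hiY1, secT_fst,
          ← Category.assoc, ← Category.assoc, pullback.condition]
      · rw [Category.assoc, Category.assoc, Category.assoc, qT_snd, hk₁s, secT_snd,
          Category.comp_id]
    · rw [hv2, Category.assoc, Category.assoc, he2]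
      apply pullback.hom_ext
      · rw [Category.id_comp, Category.assoc, Category.assoc, pT_fst, hk₁f', hiY2,
          Category.comp_id]
      · rw [Category.id_comp, Category.assoc, Category.assoc, pT_snd, hk₁s]
  have h1' := triv_pullback_of_comp u e.inv k₂ m₂ w₂ L h₂
  have h2' := triv_pullback_of_comp v e.inv k₁ m₁ w₁ L h₁
  -- the fibre
  let c := Z.fromSpecResidueField z
  have hē : (pullback.fst (pullback.fst f g ≫ f) c ≫ e.inv) ≫
      pullback.snd (pullback.fst pX pY ≫ pX) pZ = pullback.snd (pullback.fst f g ≫ f) c ≫ c := by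
    rw [← heh, Category.assoc, Iso.inv_hom_id_assoc]
    exact pullback.condition
  let ē : pullback (pullback.fst f g ≫ f) c ⟶
      pullback (pullback.snd (pullback.fst pX pY ≫ pX) pZ) c :=
    pullback.lift (pullback.fst _ c ≫ e.inv) (pullback.snd _ c) hē
  have h3' : Nonempty ((Scheme.Modules.pullback ((pullback.fst f g ≫ f).fiberι z)).obj
      ((Scheme.Modules.pullback e.inv).obj L) ≅
      Coh.structureModule ((pullback.fst f g ≫ f).fiber z)) :=
    triv_pullback_of_comp (pullback.fst (pullback.fst f g ≫ f) c) e.inv ē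
      (pullback.fst (pullback.snd (pullback.fst pX pY ≫ pX) pZ) c)
      (pullback.lift_fst _ _ _).symm L h₃
  obtain ⟨W, hWc, hzW, eW, hmax⟩ := exists_clopen_triv_max f g (secT pX pZ x hx) hσ
    (secT pY pZ y hy) hτ
    ((Scheme.Modules.pullback e.inv).obj L) (isInvertible_pullback _ hL) u hu1 hu2 v hv1 hv2
    h1' h2' z h3'
  refine ⟨W, hWc, hzW, ?_, fun T c₀ hc₀ => ?_⟩
  swap
  · refine hmax T c₀ ?_
    have hē₀ : (pullback.fst (pullback.fst f g ≫ f) c₀ ≫ e.inv) ≫
        pullback.snd (pullback.fst pX pY ≫ pX) pZ =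
        pullback.snd (pullback.fst f g ≫ f) c₀ ≫ c₀ := by
      rw [← heh, Category.assoc, Iso.inv_hom_id_assoc]
      exact pullback.condition
    exact triv_pullback_of_comp (pullback.fst (pullback.fst f g ≫ f) c₀) e.inv
      (pullback.lift (pullback.fst _ c₀ ≫ e.inv) (pullback.snd _ c₀) hē₀)
      (pullback.fst (pullback.snd (pullback.fst pX pY ≫ pX) pZ) c₀)
      (pullback.lift_fst _ _ _).symm L hc₀
  -- transport back
  have hr : Set.range (((pullback.snd (pullback.fst pX pY ≫ pX) pZ) ⁻¹ᵁ W).ι ≫ e.hom) ⊆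
      Set.range ((pullback.fst f g ≫ f) ⁻¹ᵁ W).ι := by
    rintro _ ⟨w, rfl⟩
    rw [Scheme.Opens.range_ι]
    change (pullback.fst f g ≫ f) ((((pullback.snd (pullback.fst pX pY ≫ pX) pZ) ⁻¹ᵁ W).ι ≫
      e.hom) w) ∈ W
    rw [← Scheme.Hom.comp_apply, Category.assoc, heh]
    exact w.2
  let k := IsOpenImmersion.lift ((pullback.fst f g ≫ f) ⁻¹ᵁ W).ι
    (((pullback.snd (pullback.fst pX pY ≫ pX) pZ) ⁻¹ᵁ W).ι ≫ e.hom) hr
  have hk : k ≫ ((pullback.fst f g ≫ f) ⁻¹ᵁ W).ι =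
      ((pullback.snd (pullback.fst pX pY ≫ pX) pZ) ⁻¹ᵁ W).ι ≫ e.hom :=
    IsOpenImmersion.lift_fac _ _ _
  obtain ⟨e0⟩ := triv_pullback_of_comp
    ((pullback.snd (pullback.fst pX pY ≫ pX) pZ) ⁻¹ᵁ W).ι e.hom k _ hk.symm
    ((Scheme.Modules.pullback e.inv).obj L) eW
  have eL : L ≅ (Scheme.Modules.pullback e.hom).obj ((Scheme.Modules.pullback e.inv).obj L) :=
    ((Scheme.Modules.pullbackId _).app L).symm ≪≫
      (Scheme.Modules.pullbackCongr e.hom_inv_id.symm).app L ≪≫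
      ((Scheme.Modules.pullbackComp e.hom e.inv).app L).symm
  exact ⟨(Scheme.Modules.pullback _).mapIso eL ≪≫ e0⟩

/-- every module on an empty scheme is trivial -/
theorem nonempty_iso_of_isEmpty {P : Scheme.{u}} [IsEmpty ↥P] (L : P.Modules) :
    Nonempty (L ≅ Coh.structureModule P) := by
  rw [← isTrivOn_top_iff]
  exact Groth.Agent.Lib.Helper18.PicGlue.isTrivOn_of_isGen (ℓ := 0)
    (fun x _ => (IsEmpty.false x).elim)

/-- **the theorem of the cube over an arbitrary base** for `(X ×_S Y) ×_S Z`, with `Z ⟶ S` having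
connected fibres and a section along which the module is trivial -/
theorem cube_of_section
    [Flat pX] [IsProper pX] [LocallyOfFinitePresentation pX] [GeometricallyIntegral pX]
    [Flat pY] [IsProper pY] [LocallyOfFinitePresentation pY] [GeometricallyIntegral pY]
    (hconn : ∀ s : S, _root_.IsPreconnected (pZ ⁻¹' {s}))
    (x : S ⟶ X) (hx : x ≫ pX = 𝟙 S) (y : S ⟶ Y) (hy : y ≫ pY = 𝟙 S)
    (L : (pullback (pullback.fst pX pY ≫ pX) pZ).Modules) (hL : PicF.IsInvertible L)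
    {D₁ D₂ : Scheme.{u}} (m₁ : D₁ ⟶ pullback (pullback.fst pX pY ≫ pX) pZ)
    (k₁ : pullback pY pZ ⟶ D₁)
    (hk₁f : k₁ ≫ m₁ ≫ pullback.fst _ pZ = pullback.fst pY pZ ≫ iY pX pY x hx)
    (hk₁s : k₁ ≫ m₁ ≫ pullback.snd _ pZ = pullback.snd pY pZ)
    (m₂ : D₂ ⟶ pullback (pullback.fst pX pY ≫ pX) pZ)
    (k₂ : pullback pX pZ ⟶ D₂)
    (hk₂f : k₂ ≫ m₂ ≫ pullback.fst _ pZ = pullback.fst pX pZ ≫ iX pX pY y hy)
    (hk₂s : k₂ ≫ m₂ ≫ pullback.snd _ pZ = pullback.snd pX pZ)
    (h₁ : Nonempty ((Scheme.Modules.pullback m₁).obj L ≅ Coh.structureModule _))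
    (h₂ : Nonempty ((Scheme.Modules.pullback m₂).obj L ≅ Coh.structureModule _))
    (z₀ : S ⟶ Z) (hz₀ : z₀ ≫ pZ = 𝟙 S)
    (h₃ : Nonempty ((Scheme.Modules.pullback
      (pullback.fst (pullback.snd (pullback.fst pX pY ≫ pX) pZ) z₀)).obj L ≅
        Coh.structureModule _)) :
    Nonempty (L ≅ Coh.structureModule (pullback (pullback.fst pX pY ≫ pX) pZ)) := by
  by_cases hne : Nonempty ↥Z
  swap
  · haveI : IsEmpty ↥Z := not_nonempty_iff.mp hne
    haveI : IsEmpty ↥(pullback (pullback.fst pX pY ≫ pX) pZ) :=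
      ⟨fun w => IsEmpty.false ((pullback.snd (pullback.fst pX pY ≫ pX) pZ) w)⟩
    exact nonempty_iso_of_isEmpty L
  obtain ⟨z₁⟩ := hne
  haveI := geometricallyIntegral_h pX pY
  haveI : GeometricallyIntegral (pullback.snd (pullback.fst pX pY ≫ pX) pZ) := inferInstance
  -- the section
  let r₁ : Z ⟶ pullback pY pZ := pullback.lift (pZ ≫ y) (𝟙 Z)
    (by rw [Category.assoc, hy, Category.comp_id, Category.id_comp])
  have hr₁ : r₁ ≫ pullback.snd pY pZ = 𝟙 Z := pullback.lift_snd _ _ _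
  have hρ : (r₁ ≫ k₁ ≫ m₁) ≫ pullback.snd (pullback.fst pX pY ≫ pX) pZ = 𝟙 Z := by
    rw [Category.assoc, Category.assoc, hk₁s, hr₁]
  have hρL : Nonempty ((Scheme.Modules.pullback (r₁ ≫ k₁ ≫ m₁)).obj L ≅
      Coh.structureModule Z) := by
    obtain ⟨e⟩ := h₁
    exact ⟨(Scheme.Modules.pullbackCongr (Category.assoc r₁ k₁ m₁).symm).app L ≪≫
      ((Scheme.Modules.pullbackComp (r₁ ≫ k₁) m₁).app L).symm ≪≫
      (Scheme.Modules.pullback (r₁ ≫ k₁)).mapIso e ≪≫ pullbackUnitIso (r₁ ≫ k₁)⟩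
  have h₃' := fibre_triv_of_triv (pullback.snd (pullback.fst pX pY ≫ pX) pZ)
    (hO_of_geometricallyIntegral _) L hL (r₁ ≫ k₁ ≫ m₁) hρ hρL z₀ (pZ z₁) h₃
  obtain ⟨W, hWc, -, hW, hmax⟩ := exists_clopen_max pX pY pZ x hx y hy L hL m₁ k₁ hk₁f hk₁s
    m₂ k₂ hk₂f hk₂s h₁ h₂ (z₀ (pZ z₁)) h₃'
  have hsec := hmax S z₀ h₃
  -- `W = ⊤`
  have hWtop : W = ⊤ := by
    apply TopologicalSpace.Opens.ext
    rw [TopologicalSpace.Opens.coe_top, Set.eq_univ_iff_forall]
    intro w
    have hsub : pZ ⁻¹' {pZ w} ⊆ (W : Set Z) := by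
      refine (hconn (pZ w)).subset_isClopen ⟨hWc, W.2⟩ ⟨z₀ (pZ w), ?_, hsec ⟨pZ w, rfl⟩⟩
      change pZ (z₀ (pZ w)) = pZ w
      rw [← Scheme.Hom.comp_apply, hz₀]
      exact rfl
    exact hsub rfl
  subst hWtop
  obtain ⟨e⟩ := hW
  rw [← isTrivOn_top_iff]
  have h1 : IsTrivOn L ((pullback.snd (pullback.fst pX pY ≫ pX) pZ) ⁻¹ᵁ ⊤) :=
    ⟨(Scheme.Modules.restrictFunctorIsoPullback _).app L ≪≫ e⟩
  have hle : (⊤ : (pullback (pullback.fst pX pY ≫ pX) pZ).Opens) ≤
      (pullback.snd (pullback.fst pX pY ≫ pX) pZ) ⁻¹ᵁ ⊤ := fun _ _ => trivial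
  exact IsTrivOn.of_le hle h1

end Groth.Agent.Lib.helper7.CubeTransport
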