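import Mathlib
import Groth.Agent.Lib.Helper7.CubeTransport3
import Groth.Agent.Lib.Helper7.PicGrp

/-!
# The theorem of the cube in `Over S` over an arbitrary base, in terms of Picard groups (helper7)
-/

set_option autoImplicit false
set_option linter.style.haveILetI false
universe u
open CategoryTheory CategoryTheory.Limits MonoidalCategory CartesianMonoidalCategory
  AlgebraicGeometry

namespace Groth.Agent.Lib.helper7.OverCube

open Groth.Agent.Lib.helper7.PicGrp Groth.Agent.Lib.helper7.CubeTransport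

variable {S : Scheme.{u}} (X Y Z : Over S)

/-- **the theorem of the cube** for `(X ⊗ Y) ⊗ Z` in `Over S` -/
theorem over_cube_section
    [Flat X.hom] [IsProper X.hom] [LocallyOfFinitePresentation X.hom] [GeometricallyIntegral X.hom]
    [Flat Y.hom] [IsProper Y.hom] [LocallyOfFinitePresentation Y.hom] [GeometricallyIntegral Y.hom]
    [GeometricallyConnected Z.hom]
    (x : 𝟙_ (Over S) ⟶ X) (y : 𝟙_ (Over S) ⟶ Y) (z : 𝟙_ (Over S) ⟶ Z)
    (θ : Pic ((X ⊗ Y) ⊗ Z).left)
    (h₁ : map (lift (lift (toUnit (Y ⊗ Z) ≫ x) (fst Y Z)) (snd Y Z)).left θ = 1)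
    (h₂ : map (lift (lift (fst X Z) (toUnit (X ⊗ Z) ≫ y)) (snd X Z)).left θ = 1)
    (h₃ : map (lift (𝟙 (X ⊗ Y)) (toUnit (X ⊗ Y) ≫ z)).left θ = 1) : θ = 1 := by
  have hx : x.left ≫ X.hom = 𝟙 S := Over.w x
  have hy : y.left ≫ Y.hom = 𝟙 S := Over.w y
  have hz : z.left ≫ Z.hom = 𝟙 S := Over.w z
  have hconn : ∀ s : S, _root_.IsPreconnected (Z.hom ⁻¹' {s}) := by
    intro s
    rw [← Scheme.Hom.range_fiberι]
    exact isPreconnected_range (Z.hom.fiberι s).continuous
  -- the third hypothesis on the base change along `z`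
  have h₃' : map (pullback.fst (pullback.snd (pullback.fst X.hom Y.hom ≫ X.hom) Z.hom) z.left)
      θ = 1 := by
    have hfac : pullback.fst (pullback.snd (pullback.fst X.hom Y.hom ≫ X.hom) Z.hom) z.left =
        (pullback.fst (pullback.snd (pullback.fst X.hom Y.hom ≫ X.hom) Z.hom) z.left ≫
          pullback.fst (pullback.fst X.hom Y.hom ≫ X.hom) Z.hom) ≫
          (lift (𝟙 (X ⊗ Y)) (toUnit (X ⊗ Y) ≫ z)).left := by
      have hc1 : pullback.fst (pullback.snd (pullback.fst X.hom Y.hom ≫ X.hom) Z.hom) z.left ≫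
          pullback.snd (pullback.fst X.hom Y.hom ≫ X.hom) Z.hom =
          pullback.snd (pullback.snd (pullback.fst X.hom Y.hom ≫ X.hom) Z.hom) z.left ≫ z.left :=
        pullback.condition
      have hc2 : pullback.fst (pullback.fst X.hom Y.hom ≫ X.hom) Z.hom ≫
          (pullback.fst X.hom Y.hom ≫ X.hom) =
          pullback.snd (pullback.fst X.hom Y.hom ≫ X.hom) Z.hom ≫ Z.hom := pullback.condition
      have hkey : (pullback.fst (pullback.snd (pullback.fst X.hom Y.hom ≫ X.hom) Z.hom) z.left ≫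
          pullback.fst (pullback.fst X.hom Y.hom ≫ X.hom) Z.hom) ≫
          (pullback.fst X.hom Y.hom ≫ X.hom) =
          pullback.snd (pullback.snd (pullback.fst X.hom Y.hom ≫ X.hom) Z.hom) z.left := by
        rw [Category.assoc, hc2, ← Category.assoc, hc1, Category.assoc, hz]
        exact Category.comp_id _
      apply pullback.hom_ext
      · have h4 : (lift (𝟙 (X ⊗ Y)) (toUnit (X ⊗ Y) ≫ z)).left ≫
            pullback.fst (pullback.fst X.hom Y.hom ≫ X.hom) Z.hom =
            𝟙 (pullback X.hom Y.hom) :=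
          congrArg CommaMorphism.left (lift_fst (𝟙 (X ⊗ Y)) (toUnit (X ⊗ Y) ≫ z))
        rw [Category.assoc, h4]
        exact (Category.comp_id _).symm
      · have h4 : (lift (𝟙 (X ⊗ Y)) (toUnit (X ⊗ Y) ≫ z)).left ≫
            pullback.snd (pullback.fst X.hom Y.hom ≫ X.hom) Z.hom =
            (pullback.fst X.hom Y.hom ≫ X.hom) ≫ z.left :=
          congrArg CommaMorphism.left (lift_snd (𝟙 (X ⊗ Y)) (toUnit (X ⊗ Y) ≫ z))
        rw [Category.assoc, h4, hc1, ← Category.assoc _ _ z.left, hkey]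
    rw [hfac, map_comp, h₃, map_one]
  obtain ⟨Θ, hΘ, rfl⟩ := exists_mk θ
  rw [map_mk, mk_eq_one_iff] at h₁ h₂ h₃'
  rw [mk_eq_one_iff]
  refine cube_of_section X.hom Y.hom Z.hom hconn x.left hx y.left hy Θ hΘ
    (lift (lift (toUnit (Y ⊗ Z) ≫ x) (fst Y Z)) (snd Y Z)).left (𝟙 _) ?_ ?_
    (lift (lift (fst X Z) (toUnit (X ⊗ Z) ≫ y)) (snd X Z)).left (𝟙 _) ?_ ?_ h₁ h₂ z.left hz h₃'
  · rw [Category.id_comp]
    have h4 : (lift (lift (toUnit (Y ⊗ Z) ≫ x) (fst Y Z)) (snd Y Z)).left ≫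
        pullback.fst (pullback.fst X.hom Y.hom ≫ X.hom) Z.hom =
        (lift (toUnit (Y ⊗ Z) ≫ x) (fst Y Z)).left :=
      congrArg CommaMorphism.left (lift_fst (lift (toUnit (Y ⊗ Z) ≫ x) (fst Y Z)) (snd Y Z))
    rw [h4]
    apply pullback.hom_ext
    · have h5 : (lift (toUnit (Y ⊗ Z) ≫ x) (fst Y Z)).left ≫ pullback.fst X.hom Y.hom =
          (pullback.fst Y.hom Z.hom ≫ Y.hom) ≫ x.left :=
        congrArg CommaMorphism.left (lift_fst (toUnit (Y ⊗ Z) ≫ x) (fst Y Z))
      rw [h5, Category.assoc, Category.assoc]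
      congr 1
      exact (pullback.lift_fst _ _ _).symm
    · have h5 : (lift (toUnit (Y ⊗ Z) ≫ x) (fst Y Z)).left ≫ pullback.snd X.hom Y.hom =
          pullback.fst Y.hom Z.hom :=
        congrArg CommaMorphism.left (lift_snd (toUnit (Y ⊗ Z) ≫ x) (fst Y Z))
      rw [h5, Category.assoc]
      have h6 : iY X.hom Y.hom x.left hx ≫ pullback.snd X.hom Y.hom = 𝟙 _ :=
        pullback.lift_snd _ _ _
      rw [h6, Category.comp_id]
  · rw [Category.id_comp]
    exact congrArg CommaMorphism.left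
      (lift_snd (lift (toUnit (Y ⊗ Z) ≫ x) (fst Y Z)) (snd Y Z))
  · rw [Category.id_comp]
    have h4 : (lift (lift (fst X Z) (toUnit (X ⊗ Z) ≫ y)) (snd X Z)).left ≫
        pullback.fst (pullback.fst X.hom Y.hom ≫ X.hom) Z.hom =
        (lift (fst X Z) (toUnit (X ⊗ Z) ≫ y)).left :=
      congrArg CommaMorphism.left (lift_fst (lift (fst X Z) (toUnit (X ⊗ Z) ≫ y)) (snd X Z))
    rw [h4]
    apply pullback.hom_ext
    · have h5 : (lift (fst X Z) (toUnit (X ⊗ Z) ≫ y)).left ≫ pullback.fst X.hom Y.hom =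
          pullback.fst X.hom Z.hom :=
        congrArg CommaMorphism.left (lift_fst (fst X Z) (toUnit (X ⊗ Z) ≫ y))
      rw [h5, Category.assoc]
      have h6 : iX X.hom Y.hom y.left hy ≫ pullback.fst X.hom Y.hom = 𝟙 _ :=
        pullback.lift_fst _ _ _
      rw [h6, Category.comp_id]
    · have h5 : (lift (fst X Z) (toUnit (X ⊗ Z) ≫ y)).left ≫ pullback.snd X.hom Y.hom =
          (pullback.fst X.hom Z.hom ≫ X.hom) ≫ y.left :=
        congrArg CommaMorphism.left (lift_snd (fst X Z) (toUnit (X ⊗ Z) ≫ y))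
      rw [h5, Category.assoc, Category.assoc]
      congr 1
      exact (pullback.lift_snd _ _ _).symm
  · rw [Category.id_comp]
    exact congrArg CommaMorphism.left
      (lift_snd (lift (fst X Z) (toUnit (X ⊗ Z) ≫ y)) (snd X Z))

end Groth.Agent.Lib.helper7.OverCube
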