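import Mathlib
import Groth.Agent.Lib.Helper7.OverCube2
import Groth.Agent.Lib.Helper7.GrpGeomIntegral

/-!
# The theorem of the cube for abelian schemes over an arbitrary base, Picard-group form (helper7)
-/

set_option autoImplicit false
set_option linter.style.haveILetI false
universe u
open CategoryTheory CategoryTheory.Limits MonoidalCategory CartesianMonoidalCategory MonObj GrpObj
  AlgebraicGeometry

namespace Groth.Agent.Lib.helper7.AbSchCube

open Groth.Agent.Lib.helper7.PicGrp Groth.Agent.Lib.helper7.OverCube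

variable {S : Scheme.{u}} {A : Over S}

/-- the pullback of a class along a morphism over `S` -/
noncomputable def P (ℓ : Pic A.left) {V : Over S} (φ : V ⟶ A) : Pic V.left := map φ.left ℓ

theorem map_P (ℓ : Pic A.left) {V V' : Over S} (ψ : V' ⟶ V) (φ : V ⟶ A) :
    map ψ.left (P ℓ φ) = P ℓ (ψ ≫ φ) := (map_comp ψ.left φ.left ℓ).symm

variable [GrpObj A]

/-- the cube class (including the term at the neutral section) -/
noncomputable def Θ (ℓ : Pic A.left) {V : Over S} (a b c : V ⟶ A) : Pic V.left :=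
  P ℓ (a * b * c) * P ℓ a * P ℓ b * P ℓ c *
    (P ℓ (a * b) * P ℓ (a * c) * P ℓ (b * c) * P ℓ (1 : V ⟶ A))⁻¹

theorem map_Θ (ℓ : Pic A.left) {V V' : Over S} (ψ : V' ⟶ V) (a b c : V ⟶ A) :
    map ψ.left (Θ ℓ a b c) = Θ ℓ (ψ ≫ a) (ψ ≫ b) (ψ ≫ c) := by
  simp only [Θ, map_mul, map_inv, map_P, MonObj.comp_mul, MonObj.comp_one]

theorem Θ_one_left (ℓ : Pic A.left) {V : Over S} (b c : V ⟶ A) : Θ ℓ 1 b c = 1 := by
  simp only [Θ, _root_.one_mul]
  rw [mul_inv_eq_one]
  ac_rfl

theorem Θ_one_mid (ℓ : Pic A.left) {V : Over S} (a c : V ⟶ A) : Θ ℓ a 1 c = 1 := by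
  simp only [Θ, _root_.one_mul, _root_.mul_one]
  rw [mul_inv_eq_one]
  ac_rfl

theorem Θ_one_right (ℓ : Pic A.left) {V : Over S} (a b : V ⟶ A) : Θ ℓ a b 1 = 1 := by
  simp only [Θ, _root_.mul_one]
  rw [mul_inv_eq_one]

/-- **the theorem of the cube for an abelian scheme** -/
theorem Θ_eq_one [IsProper A.hom] [Flat A.hom] [LocallyOfFinitePresentation A.hom]
    [GeometricallyReduced A.hom] [GeometricallyConnected A.hom] (ℓ : Pic A.left)
    {V : Over S} (a b c : V ⟶ A) : Θ ℓ a b c = 1 := by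
  haveI : GeometricallyIntegral A.hom :=
    Groth.Agent.Lib.helper7.GrpGeomIntegral.geometricallyIntegral_of_grpObj A
  have huniv : Θ ℓ (fst (A ⊗ A) A ≫ fst A A) (fst (A ⊗ A) A ≫ snd A A) (snd (A ⊗ A) A) = 1 := by
    refine over_cube_section A A A η[A] η[A] η[A] _ ?_ ?_ ?_
    · rw [map_Θ, lift_fst_assoc, lift_fst_assoc, lift_snd, lift_fst, lift_snd, ← Hom.one_def]
      exact Θ_one_left ℓ _ _
    · rw [map_Θ, lift_fst_assoc, lift_fst_assoc, lift_snd, lift_fst, lift_snd, ← Hom.one_def]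
      exact Θ_one_mid ℓ _ _
    · rw [map_Θ, lift_fst_assoc, lift_fst_assoc, lift_snd, ← Hom.one_def]
      exact Θ_one_right ℓ _ _
  have h1 := congrArg (map (lift (lift a b) c).left) huniv
  rw [map_Θ, map_one, lift_fst_assoc, lift_fst_assoc, lift_snd, lift_fst, lift_snd] at h1
  exact h1

/-- the cube relation -/
theorem cube_relation [IsProper A.hom] [Flat A.hom] [LocallyOfFinitePresentation A.hom]
    [GeometricallyReduced A.hom] [GeometricallyConnected A.hom] (ℓ : Pic A.left)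
    {V : Over S} (a b c : V ⟶ A) :
    P ℓ (a * b * c) * P ℓ a * P ℓ b * P ℓ c =
      P ℓ (a * b) * P ℓ (a * c) * P ℓ (b * c) * P ℓ (1 : V ⟶ A) :=
  mul_inv_eq_one.mp (Θ_eq_one ℓ a b c)

end Groth.Agent.Lib.helper7.AbSchCube
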