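import Mathlib
import Groth.Agent.Lib.Helper7.AbSchCube

/-!
# The formula for `[n]^*L` on an abelian scheme, Picard-group form (helper7)
-/

set_option autoImplicit false
set_option linter.style.haveILetI false
universe u
open CategoryTheory CategoryTheory.Limits MonoidalCategory CartesianMonoidalCategory MonObj GrpObj
  AlgebraicGeometry

namespace Groth.Agent.Lib.helper7.AbSchCube

open Groth.Agent.Lib.helper7.PicGrp

theorem mk_tensorPow {X : Scheme.{u}} {L : X.Modules} (hL : PicF.IsInvertible L) (k : ℕ) :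
    (mk L hL) ^ k = mk (CohB1.tensorPow L k)
      (Groth.Agent.Lib.helper12.TensorInv.isInvertible_tensorPow hL k) := by
  induction k with
  | zero => rw [pow_zero]; rfl
  | succ k ih => rw [pow_succ, ih]; rfl

section abstract

variable {G : Type*} [CommGroup G]

theorem closed_form_aux1 (l m z : G) (a1 a2 b1 b2 c1 c2 : ℤ) :
    l ^ a1 * m ^ b1 * z ^ c1 * (l ^ a2 * m ^ b2 * z ^ c2) * z * z =
      l ^ (a1 + a2) * m ^ (b1 + b2) * z ^ (c1 + c2 + 1 + 1) := by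
  simp only [zpow_add, zpow_one]
  ac_rfl

theorem closed_form_aux2 (l m z : G) (a1 a2 b1 b2 c1 c2 : ℤ) :
    l ^ a1 * m ^ b1 * z ^ c1 * (l ^ a2 * m ^ b2 * z ^ c2) * l * m =
      l ^ (a1 + a2 + 1) * m ^ (b1 + b2 + 1) * z ^ (c1 + c2) := by
  simp only [zpow_add, zpow_one]
  ac_rfl

/-- the closed form -/
def bform (l m z : G) (n : ℤ) : G :=
  l ^ ((n ^ 2 + n) / 2) * m ^ ((n ^ 2 - n) / 2) * z ^ (1 - n ^ 2)

theorem two_mul_F (n : ℤ) : 2 * ((n ^ 2 + n) / 2) = n ^ 2 + n := by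
  apply Int.mul_ediv_cancel'
  have : n ^ 2 + n = n * (n + 1) := by ring
  rw [this]
  exact (Int.even_mul_succ_self n).two_dvd

theorem two_mul_G (n : ℤ) : 2 * ((n ^ 2 - n) / 2) = n ^ 2 - n := by
  apply Int.mul_ediv_cancel'
  have : n ^ 2 - n = (n - 1) * (n - 1 + 1) := by ring
  rw [this]
  exact (Int.even_mul_succ_self (n - 1)).two_dvd

theorem bform_rec (l m z : G) (n : ℤ) :
    bform l m z (n + 1 + 1) * bform l m z n * z * z =
      bform l m z (n + 1) * bform l m z (n + 1) * l * m := by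
  unfold bform
  rw [closed_form_aux1, closed_form_aux2]
  have i1 : ((n + 1 + 1) ^ 2 + (n + 1 + 1)) / 2 + (n ^ 2 + n) / 2 =
      ((n + 1) ^ 2 + (n + 1)) / 2 + ((n + 1) ^ 2 + (n + 1)) / 2 + 1 := by
    have := two_mul_F (n + 1 + 1)
    have := two_mul_F n
    have := two_mul_F (n + 1)
    nlinarith
  have i2 : ((n + 1 + 1) ^ 2 - (n + 1 + 1)) / 2 + (n ^ 2 - n) / 2 =
      ((n + 1) ^ 2 - (n + 1)) / 2 + ((n + 1) ^ 2 - (n + 1)) / 2 + 1 := by
    have := two_mul_G (n + 1 + 1)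
    have := two_mul_G n
    have := two_mul_G (n + 1)
    nlinarith
  have i3 : (1 - (n + 1 + 1) ^ 2) + (1 - n ^ 2) + 1 + 1 =
      (1 - (n + 1) ^ 2) + (1 - (n + 1) ^ 2) := by ring
  rw [i1, i2, i3]

/-- solving the recurrence coming from the theorem of the cube -/
theorem closed_form (a : ℤ → G) (l m z : G) (h0 : a 0 = z) (h1 : a 1 = l)
    (hrec : ∀ n : ℤ, a (n + 1 + 1) * a n * z * z = a (n + 1) * a (n + 1) * l * m) (n : ℤ) :
    a n = bform l m z n := by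
  have hb0 : bform l m z 0 = z := by simp [bform]
  have hb1 : bform l m z 1 = l := by simp [bform]
  have key : ∀ n : ℤ, a n = bform l m z n ∧ a (n + 1) = bform l m z (n + 1) := by
    intro n
    induction n using Int.induction_on with
    | zero => exact ⟨h0.trans hb0.symm, by rw [zero_add, h1, hb1]⟩
    | succ i ih =>
      refine ⟨ih.2, ?_⟩
      have h2 := hrec i
      have h3 := bform_rec l m z i
      rw [ih.1, ih.2, ← h3] at h2
      exact mul_right_cancel (mul_right_cancel (mul_right_cancel h2))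
    | pred i ih =>
      have e : (-(i : ℤ) - 1 + 1) = -i := by ring
      refine ⟨?_, by rw [e]; exact ih.1⟩
      have h2 := hrec (-(i : ℤ) - 1)
      have h3 := bform_rec l m z (-(i : ℤ) - 1)
      rw [e] at h2 h3
      rw [ih.1, ih.2, ← h3] at h2
      have h4 := mul_right_cancel (mul_right_cancel h2)
      exact mul_left_cancel h4
  exact (key n).1

end abstract

variable {S : Scheme.{u}} {A : Over S} [GrpObj A]

omit [GrpObj A] in
theorem P_id (ℓ : Pic A.left) : P ℓ (𝟙 A) = ℓ := by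
  rw [P]
  exact map_id ℓ

theorem P_one_eq (ℓ : Pic A.left) :
    P ℓ (1 : A ⟶ A) = map A.hom (map (η[A]).left ℓ) := by
  rw [P, Hom.one_def, ← map_comp]
  rfl

/-- the recurrence for `[n]^*ℓ` -/
theorem mulN_rec [IsProper A.hom] [Flat A.hom] [LocallyOfFinitePresentation A.hom]
    [GeometricallyReduced A.hom] [GeometricallyConnected A.hom] (ℓ : Pic A.left) (n : ℤ) :
    P ℓ (𝟙 A ^ (n + 1 + 1)) * P ℓ (𝟙 A ^ n) * P ℓ (1 : A ⟶ A) * P ℓ (1 : A ⟶ A) =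
      P ℓ (𝟙 A ^ (n + 1)) * P ℓ (𝟙 A ^ (n + 1)) * ℓ * P ℓ (𝟙 A ^ (-1 : ℤ)) := by
  have h := cube_relation ℓ (𝟙 A ^ (n + 1)) (𝟙 A) (𝟙 A ^ (-1 : ℤ))
  have e1 : 𝟙 A ^ (n + 1) * 𝟙 A * 𝟙 A ^ (-1 : ℤ) = 𝟙 A ^ (n + 1) := by
    rw [zpow_neg_one, _root_.mul_assoc, _root_.mul_inv_cancel, _root_.mul_one]
  have e2 : 𝟙 A ^ (n + 1) * 𝟙 A = 𝟙 A ^ (n + 1 + 1) := (zpow_add_one _ _).symm
  have e3 : 𝟙 A ^ (n + 1) * 𝟙 A ^ (-1 : ℤ) = 𝟙 A ^ n := by
    rw [zpow_neg_one, ← zpow_sub_one, add_sub_cancel_right]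
  have e4 : 𝟙 A * 𝟙 A ^ (-1 : ℤ) = 1 := by
    rw [zpow_neg_one, _root_.mul_inv_cancel]
  rw [e1, e2, e3, e4, P_id] at h
  exact h.symm

theorem F_nonneg (n : ℤ) : 0 ≤ (n ^ 2 + n) / 2 := by
  apply Int.ediv_nonneg _ (by norm_num)
  rcases le_or_gt 0 n with h | h
  · positivity
  · nlinarith

theorem G_nonneg (n : ℤ) : 0 ≤ (n ^ 2 - n) / 2 := by
  apply Int.ediv_nonneg _ (by norm_num)
  rcases le_or_gt n 0 with h | h
  · nlinarith
  · nlinarith

/-- **the formula for `[n]^*ℓ`** on an abelian scheme -/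
theorem mulN_relation [IsProper A.hom] [Flat A.hom] [LocallyOfFinitePresentation A.hom]
    [GeometricallyReduced A.hom] [GeometricallyConnected A.hom] (ℓ : Pic A.left) (n : ℤ) :
    P ℓ (𝟙 A ^ n) * map A.hom ((map (η[A]).left ℓ) ^ (n.natAbs ^ 2)) =
      ℓ ^ ((n ^ 2 + n) / 2).toNat * map (𝟙 A ^ (-1 : ℤ)).left (ℓ ^ ((n ^ 2 - n) / 2).toNat) *
        map A.hom (map (η[A]).left ℓ) := by
  have h0 : P ℓ (𝟙 A ^ (0 : ℤ)) = P ℓ (1 : A ⟶ A) := by rw [zpow_zero]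
  have h1 : P ℓ (𝟙 A ^ (1 : ℤ)) = ℓ := by rw [zpow_one, P_id]
  have hcf := closed_form (fun k : ℤ => P ℓ (𝟙 A ^ k)) ℓ (P ℓ (𝟙 A ^ (-1 : ℤ)))
    (P ℓ (1 : A ⟶ A)) h0 h1 (mulN_rec ℓ) n
  rw [hcf, map_pow, map_pow, ← P_one_eq, bform]
  change _ = ℓ ^ ((n ^ 2 + n) / 2).toNat * (P ℓ (𝟙 A ^ (-1 : ℤ))) ^ ((n ^ 2 - n) / 2).toNat *
    P ℓ (1 : A ⟶ A)
  rw [← zpow_natCast, ← zpow_natCast, ← zpow_natCast, Int.toNat_of_nonneg (F_nonneg n),
    Int.toNat_of_nonneg (G_nonneg n), Nat.cast_pow, Int.natCast_natAbs, sq_abs,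
    _root_.mul_assoc (ℓ ^ ((n ^ 2 + n) / 2) * P ℓ (𝟙 A ^ (-1 : ℤ)) ^ ((n ^ 2 - n) / 2)),
    ← zpow_add, sub_add_cancel, zpow_one]

end Groth.Agent.Lib.helper7.AbSchCube
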