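import Mathlib
import Groth.Agent.Lib.Helper7.AbSchMulN

/-!
# The formula for `[n]^*L` on an abelian scheme modulo the base, Picard-group form (helper7)
-/

set_option autoImplicit false
set_option linter.style.haveILetI false
universe u
open CategoryTheory CategoryTheory.Limits MonoidalCategory CartesianMonoidalCategory MonObj GrpObj
  AlgebraicGeometry

namespace Groth.Agent.Lib.helper7.AbSchCube

open Groth.Agent.Lib.helper7.PicGrp

variable {S : Scheme.{u}} {A : Over S} [GrpObj A]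

/-- `[n]^*ℓ` up to a class pulled back from the base -/
theorem mulN_mod_base [IsProper A.hom] [Flat A.hom] [LocallyOfFinitePresentation A.hom]
    [GeometricallyReduced A.hom] [GeometricallyConnected A.hom] (ℓ : Pic A.left) (n : ℤ) :
    P ℓ (𝟙 A ^ n) =
      ℓ ^ ((n ^ 2 + n) / 2).toNat * map (𝟙 A ^ (-1 : ℤ)).left (ℓ ^ ((n ^ 2 - n) / 2).toNat) *
        map A.hom ((map (η[A]).left ℓ) ^ (1 - n ^ 2)) := by
  have h0 : P ℓ (𝟙 A ^ (0 : ℤ)) = P ℓ (1 : A ⟶ A) := by rw [zpow_zero]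
  have h1 : P ℓ (𝟙 A ^ (1 : ℤ)) = ℓ := by rw [zpow_one, P_id]
  have hcf := closed_form (fun k : ℤ => P ℓ (𝟙 A ^ k)) ℓ (P ℓ (𝟙 A ^ (-1 : ℤ)))
    (P ℓ (1 : A ⟶ A)) h0 h1 (mulN_rec ℓ) n
  rw [hcf, map_pow, map_zpow, ← P_one_eq, bform]
  change _ = ℓ ^ ((n ^ 2 + n) / 2).toNat * (P ℓ (𝟙 A ^ (-1 : ℤ))) ^ ((n ^ 2 - n) / 2).toNat *
    P ℓ (1 : A ⟶ A) ^ (1 - n ^ 2)
  rw [← zpow_natCast, ← zpow_natCast, Int.toNat_of_nonneg (F_nonneg n),
    Int.toNat_of_nonneg (G_nonneg n)]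

end Groth.Agent.Lib.helper7.AbSchCube
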