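import Mathlib
import Groth.Agent.Lib.Helper7.PullIdeal
import Groth.Agent.Lib.Helper11.InvMod

/-!
# Ideal sheaves of fibres (helper7)

* `nonempty_iso_structureModule_of_subsingleton`: an invertible module on a one-point scheme is trivial;
* `nonempty_pullback_iso_structureModule_of_factor`: the pullback of an invertible module along a morphism factoring
  through a one-point scheme is trivial;
* `isEffCartierIdeal_comap`: the inverse image of an effective Cartier ideal under a morphism from an integral scheme
  whose image is not contained in the support is effective Cartier;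
* `ker_eq_comap_of_isPullback`: the ideal of a fibre is the inverse image ideal;
* `pullbackIdealIso`: `f^*(I) ≅ J` whenever `J = I.comap f` and both are invertible.
-/

set_option autoImplicit false
set_option linter.unusedSectionVars false
set_option linter.unusedVariables false
set_option linter.style.haveILetI false

universe u

open CategoryTheory Limits AlgebraicGeometry Opposite TopologicalSpace

namespace Groth.Agent.Lib.helper7.FibreIdeal

open Groth.Agent.Lib.helper11.InvMod Groth.Agent.Lib.helper7.PullIdeal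

/-- an invertible module on a one-point scheme is trivial -/
theorem nonempty_iso_structureModule_of_subsingleton {Z : Scheme.{u}} [Subsingleton Z] [Nonempty Z]
    {M : Z.Modules} (hM : PicF.IsInvertible M) : Nonempty (M ≅ Coh.structureModule Z) := by
  obtain ⟨z⟩ := ‹Nonempty Z›
  obtain ⟨U, hzU, hU⟩ := hM z
  have hUt : U = ⊤ := by
    ext z'
    simp only [Opens.coe_top, Set.mem_univ, iff_true]
    rw [Subsingleton.elim z' z]
    exact hzU
  subst hUt
  exact isTrivOn_top_iff.mp hU

/-- pullback in stages -/
noncomputable def pullbackPullbackIso {X Y Z : Scheme.{u}} (a : X ⟶ Y) (b : Y ⟶ Z) (N : Z.Modules) :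
    (Scheme.Modules.pullback a).obj ((Scheme.Modules.pullback b).obj N) ≅
      (Scheme.Modules.pullback (a ≫ b)).obj N :=
  (Scheme.Modules.pullbackComp a b).app N

/-- pullback along equal morphisms -/
noncomputable def pullbackCongrIso {X Y : Scheme.{u}} {f g : X ⟶ Y} (h : f = g) (N : Y.Modules) :
    (Scheme.Modules.pullback f).obj N ≅ (Scheme.Modules.pullback g).obj N :=
  (Scheme.Modules.pullbackCongr h).app N

/-- pullback along the identity -/
noncomputable def pullbackIdIso {X : Scheme.{u}} (N : X.Modules) :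
    (Scheme.Modules.pullback (𝟙 X)).obj N ≅ N :=
  (Scheme.Modules.pullbackId X).app N

/-- pullback along a morphism which is equal to the identity -/
noncomputable def pullbackEqIdIso {X : Scheme.{u}} {f : X ⟶ X} (h : f = 𝟙 X) (N : X.Modules) :
    (Scheme.Modules.pullback f).obj N ≅ N :=
  pullbackCongrIso h N ≪≫ pullbackIdIso N

/-- the pullback of an invertible module along a morphism factoring through a one-point scheme is trivial -/
theorem nonempty_pullback_iso_structureModule_of_factor {X Y Z : Scheme.{u}} [Subsingleton Z]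
    [Nonempty Z] (f : X ⟶ Y) (a : X ⟶ Z) (b : Z ⟶ Y) (hf : f = a ≫ b) {N : Y.Modules}
    (hN : PicF.IsInvertible N) :
    Nonempty ((Scheme.Modules.pullback f).obj N ≅ Coh.structureModule X) := by
  obtain ⟨e⟩ := nonempty_iso_structureModule_of_subsingleton (isInvertible_pullback b hN)
  exact ⟨pullbackCongrIso hf N ≪≫ (pullbackPullbackIso a b N).symm ≪≫
    (Scheme.Modules.pullback a).mapIso e ≪≫ pullbackUnitIso a⟩

/-- `j^*(f^* N) ≅ N` when `j ≫ f = 𝟙` -/
noncomputable def pullbackSectionIso {X Y : Scheme.{u}} (j : Y ⟶ X) (f : X ⟶ Y) (h : j ≫ f = 𝟙 Y)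
    (N : Y.Modules) :
    (Scheme.Modules.pullback j).obj ((Scheme.Modules.pullback f).obj N) ≅ N :=
  pullbackPullbackIso j f N ≪≫ pullbackEqIdIso h N

section Cartier

variable {X Y : Scheme.{u}} (f : X ⟶ Y) (I : Y.IdealSheafData)

/-- on an integral scheme, an ideal sheaf vanishing on a nonempty affine open has full support -/
theorem support_eq_top_of_ideal_eq_bot [IsIntegral X] (J : X.IdealSheafData) (V : X.affineOpens)
    (hV : (V.1 : Set X).Nonempty) (h : J.ideal V = ⊥) : (J.support : Set X) = Set.univ := by
  have h1 : (V.1 : Set X) ⊆ (J.support : Set X) := by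
    have h2 := J.coe_support_inter V
    rw [h] at h2
    intro x hx
    have : x ∈ (J.support : Set X) ∩ V.1 := by
      rw [h2]
      refine ⟨?_, hx⟩
      rw [Scheme.mem_zeroLocus_iff]
      intro g hg
      have hg0 : g = 0 := hg
      rw [hg0, Scheme.basicOpen_zero]
      exact fun h => h
    exact this.1
  have hd : Dense (V.1 : Set X) := V.1.2.dense hV
  have h3 : closure (V.1 : Set X) ⊆ (J.support : Set X) :=
    closure_minimal h1 J.support.isClosed
  rw [hd.closure_eq] at h3
  exact Set.eq_univ_of_univ_subset h3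

/-- the inverse image of an effective Cartier ideal under a morphism from an integral scheme not mapping into the
support is effective Cartier -/
theorem isEffCartierIdeal_comap [IsIntegral X] (hI : BlowUp.IsEffCartierIdeal I) (x₀ : X)
    (hx₀ : f x₀ ∉ (I.support : Set Y)) : BlowUp.IsEffCartierIdeal (I.comap f) := by
  intro x
  obtain ⟨U, hxU, t, ht, hIt⟩ := hI (f x)
  obtain ⟨V, hV, hxV, hVU⟩ := Opens.isBasis_iff_nbhd.mp X.isBasis_affineOpens
    (show x ∈ f ⁻¹ᵁ U.1 from hxU)
  have hJV := Groth.Agent.Lib.helper7.IdealComap.ideal_comap f I U.2 hV hVU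
  have hJV' : (I.comap f).ideal ⟨V, hV⟩ = Ideal.span {(f.appLE U.1 V hVU).hom t} := by
    rw [hJV, show I.ideal ⟨U.1, U.2⟩ = I.ideal U from rfl, hIt, Ideal.map_span, Set.image_singleton]
  refine ⟨⟨V, hV⟩, hxV, (f.appLE U.1 V hVU).hom t, ?_, hJV'⟩
  haveI : IsDomain Γ(X, V) := @IsIntegral.component_integral X _ V ⟨⟨x, hxV⟩⟩
  rw [mem_nonZeroDivisors_iff_ne_zero]
  intro h0
  rw [h0] at hJV'
  have hbot : (I.comap f).ideal ⟨V, hV⟩ = ⊥ := by
    rw [hJV']; simp
  have h4 := support_eq_top_of_ideal_eq_bot (I.comap f) ⟨V, hV⟩ ⟨x, hxV⟩ hbot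
  have h5 : x₀ ∈ ((I.comap f).support : Set X) := by rw [h4]; trivial
  rw [Scheme.IdealSheafData.support_comap] at h5
  exact hx₀ h5

theorem isInvertible_idealMod_comap [IsIntegral X] (hI : PicF.IsInvertible (ClSub.idealMod I))
    (x₀ : X) (hx₀ : f x₀ ∉ (I.support : Set Y)) :
    PicF.IsInvertible (ClSub.idealMod (I.comap f)) :=
  (Groth.Agent.Lib.helper7.IdealCartier.isInvertible_idealMod_iff _).mpr
    (isEffCartierIdeal_comap f I
      ((Groth.Agent.Lib.helper7.IdealCartier.isInvertible_idealMod_iff _).mp hI) x₀ hx₀)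

/-- `f^* I ≅ J` for `J = I.comap f`, both invertible -/
noncomputable def pullbackIdealIso (J : X.IdealSheafData) (hJ : J = I.comap f)
    (hI : PicF.IsInvertible (ClSub.idealMod I)) (hJinv : PicF.IsInvertible (ClSub.idealMod J)) :
    (Scheme.Modules.pullback f).obj (ClSub.idealMod I) ≅ ClSub.idealMod J :=
  pullIdealIso f I hI (hJ ▸ hJinv) ≪≫ eqToIso (by rw [hJ])

end Cartier

section Fibre

/-- the ideal of a fibre: if `i : F ⟶ S` is the base change of the closed immersion `c : Z ⟶ C` along `p : S ⟶ C`,
then `ker i = (ker c).comap p` -/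
theorem ker_eq_comap_of_isPullback {S C F Z : Scheme.{u}} (i : F ⟶ S) (q : F ⟶ Z) (p : S ⟶ C)
    (c : Z ⟶ C) [IsClosedImmersion c] (h : IsPullback i q p c) : i.ker = c.ker.comap p := by
  rw [← Scheme.IdealSheafData.ker_fst_of_isClosedImmersion c p]
  have h1 : i = h.isoPullback.hom ≫ pullback.fst p c := by simp
  rw [h1, Scheme.Hom.ker_comp_of_isIso]

end Fibre

end Groth.Agent.Lib.helper7.FibreIdeal
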