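import Mathlib
import Groth.Agent.Lib.Helper7.NumEq2

/-!
# Numerical equivalence, part 3: translation between closed immersions and ideal sheaves (helper7)
-/

set_option autoImplicit false
set_option linter.unusedSectionVars false
set_option linter.style.haveILetI false
universe u

open CategoryTheory CategoryTheory.Limits AlgebraicGeometry Opposite TopologicalSpace Module

namespace Groth.Agent.Lib.helper7.NumEq

open Groth.Agent.Lib.Lead.ModTensor Groth.Agent.Lib.Helper18 Groth.Agent.Lib.Helper18.NefPull
open Scheme.Modules Groth.Agent.Lib.Helper18.CurveLift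

section Ker

variable {X Y : Scheme.{u}} (ι : Y ⟶ X) [IsClosedImmersion ι]

theorem isIntegral_ker_subscheme [IsIntegral Y] : IsIntegral ι.ker.subscheme := by
  let φ : Y ⟶ ι.ker.subscheme := ι.toImage
  haveI : IsIso φ := inferInstanceAs (IsIso ι.toImage)
  haveI : Nonempty ι.ker.subscheme := ⟨φ (Classical.arbitrary Y)⟩
  exact isIntegral_of_isOpenImmersion (inv φ)

theorem coe_support_ker : (ι.ker.support : Set X) = Set.range ι := by
  rw [Scheme.Hom.support_ker, ι.isClosedEmbedding.isClosed_range.closure_eq]

theorem dim_support_ker : topologicalKrullDim (ι.ker.support : Set X) = topologicalKrullDim Y := by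
  rw [coe_support_ker]
  have e : Y ≃ₜ ↥(Set.range ι) := ι.isClosedEmbedding.isEmbedding.toHomeomorph
  exact (IsHomeomorph.topologicalKrullDim_eq e e.isHomeomorph).symm

theorem dim_subscheme_eq_dim_support (C : X.IdealSheafData) :
    topologicalKrullDim C.subscheme = topologicalKrullDim (C.support : Set X) := by
  have e : C.subscheme ≃ₜ ↥(Set.range C.subschemeι) :=
    C.subschemeι.isClosedEmbedding.isEmbedding.toHomeomorph
  rw [IsHomeomorph.topologicalKrullDim_eq e e.isHomeomorph, C.range_subschemeι]

end Ker

section Translate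

variable (k : Type u) [Field k] (X : Scheme.{u}) [X.Over (Spec (CommRingCat.of k))]
  [IsProper (X ↘ Spec (CommRingCat.of k))]

/-- a statement on `curveDeg` along all closed immersions of integral curves gives the statement on `nefq` -/
theorem forall_nefq_of_forall_curveDeg {L N : X.Modules} (hL : PicF.IsInvertible L)
    (hN : PicF.IsInvertible N) (R : ℤ → ℤ → Prop)
    (h : ∀ (Y : Scheme.{u}) (ι : Y ⟶ X) [IsClosedImmersion ι], IsIntegral Y → topologicalKrullDim Y = 1 →
      R (Pic13.curveDeg k (ι ≫ (X ↘ Spec (CommRingCat.of k))) ((Scheme.Modules.pullback ι).obj L))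
        (Pic13.curveDeg k (ι ≫ (X ↘ Spec (CommRingCat.of k))) ((Scheme.Modules.pullback ι).obj N)))
    (C : X.IdealSheafData) (hCi : IsIntegral C.subscheme)
    (hC : topologicalKrullDim (C.support : Set X) = 1) : R (nefq k X C L) (nefq k X C N) := by
  have hdim : topologicalKrullDim C.subscheme = 1 := by rw [dim_subscheme_eq_dim_support, hC]
  rw [nefq_eq_curveDeg k X C hdim.le hL, nefq_eq_curveDeg k X C hdim.le hN]
  exact h C.subscheme C.subschemeι hCi hdim

/-- a statement on `nefq` for all integral curves gives the statement on `curveDeg` -/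
theorem forall_curveDeg_of_forall_nefq {L N : X.Modules} (hL : PicF.IsInvertible L)
    (hN : PicF.IsInvertible N) (R : ℤ → ℤ → Prop)
    (h : ∀ C : X.IdealSheafData, IsIntegral C.subscheme →
      topologicalKrullDim (C.support : Set X) = 1 → R (nefq k X C L) (nefq k X C N))
    (Y : Scheme.{u}) (ι : Y ⟶ X) [IsClosedImmersion ι] (hY : IsIntegral Y)
    (hdim : topologicalKrullDim Y = 1) :
    R (Pic13.curveDeg k (ι ≫ (X ↘ Spec (CommRingCat.of k))) ((Scheme.Modules.pullback ι).obj L))
      (Pic13.curveDeg k (ι ≫ (X ↘ Spec (CommRingCat.of k))) ((Scheme.Modules.pullback ι).obj N)) := by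
  rw [curveDeg_eq_nefq k X ι hdim.le hL, curveDeg_eq_nefq k X ι hdim.le hN]
  exact h ι.ker (isIntegral_ker_subscheme ι) (by rw [dim_support_ker, hdim])

end Translate

end Groth.Agent.Lib.helper7.NumEq
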