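import Mathlib
import Groth.Agent.Lib.Helper7.SurfInt
import Groth.Agent.Lib.Helper7.SurfCartier
import Groth.Agent.Lib.Helper7.NumEq3
import Groth.Agent.Lib.Helper8.DimLt
import Groth.Agent.Lib.Helper9.CurveTwist
import Groth.Agent.Lib.Lead.CurveInv
import Groth.Agent.Lib.Helper26.Depth7

/-!
# Distinct integral curves on a smooth projective surface meet non-negatively (helper7)

* `radical_eq_self`, `eq_of_support_eq`: a quasi-coherent ideal with reduced subscheme is determined by its support.
* `finite_support_sup`: two distinct integral curves meet in finitely many points.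
* `intNum_idealMod_nonneg`: `(I_C · I_{C'}) ≥ 0` for distinct integral curves `C`, `C'`.
-/

set_option autoImplicit false
set_option linter.unusedSectionVars false
set_option linter.unusedVariables false
set_option linter.style.haveILetI false

universe u

open CategoryTheory Limits AlgebraicGeometry Opposite TopologicalSpace

namespace Groth.Agent.Lib.helper7.SurfCurves

section General

variable {X : Scheme.{u}}

theorem ideal_isRadical (I : X.IdealSheafData) [IsReduced I.subscheme] (U : X.affineOpens) :
    (I.ideal U).IsRadical := by
  rw [← I.ker_subschemeι_app U]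
  intro x hx
  obtain ⟨n, hn⟩ := hx
  rw [RingHom.mem_ker] at hn ⊢
  rw [map_pow] at hn
  exact IsNilpotent.eq_zero ⟨n, hn⟩

theorem radical_eq_self (I : X.IdealSheafData) [IsReduced I.subscheme] : I.radical = I := by
  ext U : 2
  rw [Scheme.IdealSheafData.radical_ideal]
  exact (ideal_isRadical I U).radical

theorem eq_of_support_eq (I J : X.IdealSheafData) [IsReduced I.subscheme] [IsReduced J.subscheme]
    (h : I.support = J.support) : I = J := by
  rw [← radical_eq_self I, ← radical_eq_self J, ← Scheme.IdealSheafData.vanishingIdeal_support,
    ← Scheme.IdealSheafData.vanishingIdeal_support, h]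

end General

section Curves

variable (k : Type u) [Field k] (X : Scheme.{u}) [X.Over (Spec (CommRingCat.of k))]
  [IsProper (X ↘ Spec (CommRingCat.of k))]

include k in
/-- distinct integral curves are not contained in one another -/
theorem not_support_subset {C C' : X.IdealSheafData} (hCi : IsIntegral C.subscheme)
    (hCi' : IsIntegral C'.subscheme) (hCd : topologicalKrullDim (C.support : Set X) = 1)
    (hCd' : topologicalKrullDim (C'.support : Set X) = 1) (hne : C ≠ C') :
    ¬ (C.support : Set X) ⊆ (C'.support : Set X) := by
  intro hsub
  haveI := hCi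
  haveI := hCi'
  apply hne
  apply eq_of_support_eq
  apply SetLike.coe_injective
  by_contra hne'
  have h1 := Groth.Agent.Lib.helper8.DimLt.topologicalKrullDim_add_one_le hsub C.support.isClosed
    (Groth.Agent.Lib.helper7.SurfCartier.isIrreducible_support C') hne'
  rw [hCd, hCd'] at h1
  exact absurd h1 (by decide)

include k in
/-- two distinct integral curves meet in finitely many points -/
theorem finite_support_sup {C C' : X.IdealSheafData} (hCi : IsIntegral C.subscheme)
    (hCi' : IsIntegral C'.subscheme) (hCd : topologicalKrullDim (C.support : Set X) = 1)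
    (hCd' : topologicalKrullDim (C'.support : Set X) = 1) (hne : C ≠ C') :
    (((C ⊔ C').support : Closeds X) : Set X).Finite := by
  haveI := Groth.Agent.Lib.Lead.CurveEuler.isNoetherian k X
  haveI := hCi
  have hnsub := not_support_subset k X hCi hCi' hCd hCd' hne
  rw [Scheme.IdealSheafData.support_sup]
  apply Groth.Agent.Lib.helper9.CurveTwist.finite_of_forall_isClosed_singleton _
    ((C.support ⊓ C'.support : Closeds X)).isClosed
  intro x hx
  have hxC : x ∈ (C.support : Set X) := hx.1
  have hxC' : x ∈ (C'.support : Set X) := hx.2
  rw [← Scheme.IdealSheafData.range_subschemeι] at hxC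
  obtain ⟨c, rfl⟩ := hxC
  -- the open complement of `C'` in the curve `C`
  let W : C.subscheme.Opens := C.subschemeι ⁻¹ᵁ ⟨(C'.support : Set X)ᶜ, C'.support.isClosed.isOpen_compl⟩
  have hWne : (W : Set C.subscheme).Nonempty := by
    by_contra hcon
    apply hnsub
    intro y hy
    rw [← Scheme.IdealSheafData.range_subschemeι] at hy
    obtain ⟨d, rfl⟩ := hy
    by_contra hd
    exact hcon ⟨d, hd⟩
  have hcW : c ∉ W := fun h => h hxC'
  have hdimC : topologicalKrullDim C.subscheme ≤ 1 := by
    rw [Groth.Agent.Lib.helper7.NumEq.dim_subscheme_eq_dim_support, hCd]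
  have hcl := Groth.Agent.Lib.Lead.CurveInv.isClosed_singleton_of_not_mem hdimC W hWne c hcW
  have := C.subschemeι.isClosedEmbedding.isClosedMap _ hcl
  rwa [Set.image_singleton] at this

variable [PerfectField k] [Smooth (X ↘ Spec (CommRingCat.of k))] [IsIntegral X]

/-- **distinct integral curves on a smooth projective surface meet non-negatively** -/
theorem intNum_idealMod_nonneg (hdim : topologicalKrullDim X = 2) {C C' : X.IdealSheafData}
    (hCi : IsIntegral C.subscheme) (hCi' : IsIntegral C'.subscheme)
    (hCd : topologicalKrullDim (C.support : Set X) = 1)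
    (hCd' : topologicalKrullDim (C'.support : Set X) = 1) (hne : C ≠ C') :
    0 ≤ FGA.intNum k X 2 ![ClSub.idealMod C, ClSub.idealMod C'] (Coh.structureModule X) := by
  have hdim' : ∀ Z ∈ irreducibleComponents (X : Type u), topologicalKrullDim Z = 2 := by
    intro Z hZ
    rw [irreducibleComponents_eq_singleton, Set.mem_singleton_iff] at hZ
    subst hZ
    rw [← hdim]
    exact (Homeomorph.Set.univ X).isHomeomorph.topologicalKrullDim_eq
  have hCM : ∀ x : X, LocCoh.IsCohenMacaulayLocalRing (X.presheaf.stalk x) := fun x => by
    haveI : IsRegularLocalRing (X.presheaf.stalk x) :=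
      (Groth.Agent.Lib.helper17.RegSmooth.mem_smoothLocus_iff_isRegularLocalRing_of_perfectField
        (X ↘ Spec (CommRingCat.of k)) x).mp (by rw [Scheme.Hom.smoothLocus_eq_top]; trivial)
    exact { supportDim_eq_depth := by
              rw [Module.supportDim_self_eq_ringKrullDim]
              exact (Groth.Agent.Lib.helper26.Depth.depth_eq_ringKrullDim_of_isRegularLocalRing
                _).symm }
  rw [Groth.Agent.Lib.helper7.SurfInt.intNum_effCartier_eq_finrank_H0 k X hdim' hCM C C'
    (Groth.Agent.Lib.helper7.SurfCartier.isEffCartierIdeal_of_curve k X hdim C hCi hCd)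
    (Groth.Agent.Lib.helper7.SurfCartier.isEffCartierIdeal_of_curve k X hdim C' hCi' hCd')
    (finite_support_sup k X hCi hCi' hCd hCd' hne)]
  exact Int.natCast_nonneg _

end Curves

end Groth.Agent.Lib.helper7.SurfCurves
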