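import Mathlib
import Groth.Agent.Lib.Helper7.AmpleOpen
import Groth.Agent.Lib.Helper7.SnapperPos5
import Groth.Agent.Lib.Helper7.SnapperARR

/-!
# The ample cone of a surface lies in the positive cone (helper7)

* `intNum2_symm`, `intNum2_neg_right`, `intNum2_inverse`: the two-fold intersection number is symmetric and
  unchanged when both modules are replaced by their inverses (support of dimension `≤ 2`)
* `intNum2_pos`: `(A · A') > 0` for ample `A`, `A'` on a proper scheme of dimension two
* `ampleCone_subset_posCone`, `ampleCone_isOpen_and_subset_posCone` (S19729)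
-/

set_option autoImplicit false
set_option linter.unusedSectionVars false
set_option linter.style.haveILetI false
universe u

open Filter Topology
open CategoryTheory CategoryTheory.Limits AlgebraicGeometry Opposite TopologicalSpace Module

namespace Groth.Agent.Lib.helper7.BigCone

open Groth.Agent.Lib.Lead.ModTensor Groth.Agent.Lib.helper7.SnapperPos
open Groth.Agent.Lib.helper12.TensorInv

section IntNum

variable (k : Type u) [Field k] (X : Scheme.{u}) [X.Over (Spec (CommRingCat.of k))]
  [IsProper (X ↘ Spec (CommRingCat.of k))]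

theorem vec2_eq_snoc (L M : X.Modules) :
    (![L, M] : Fin 2 → X.Modules) = Fin.snoc (![L] : Fin 1 → X.Modules) M := by
  funext i
  fin_cases i <;> rfl

theorem intNum2_symm (d : ℕ) (hd : topologicalKrullDim X ≤ d) (L M F : X.Modules) :
    FGA.intNum k X d ![L, M] F = FGA.intNum k X d ![M, L] F := by
  have h := intNum_cons_eq_snoc k X d hd L (![M] : Fin 1 → X.Modules) F
  rw [vec2_eq_snoc X M L]
  exact h

theorem intNum2_neg_right (d : ℕ) (hd : topologicalKrullDim X ≤ d) {L M M' : X.Modules}
    (hL : PicF.IsInvertible L) (hM : PicF.IsInvertible M) (hM' : PicF.IsInvertible M')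
    (e : CohB1.tensorMod M M' ≅ Coh.structureModule X) (F : X.Modules) (hF : Coh.IsCoh F)
    (hr : topologicalKrullDim (CohB1.support F) ≤ ((1 + 1 : ℕ) : WithBot ℕ∞)) :
    FGA.intNum k X d ![L, M'] F = - FGA.intNum k X d ![L, M] F := by
  have hL1 : ∀ i, PicF.IsInvertible ((![L] : Fin 1 → X.Modules) i) := by
    intro i
    fin_cases i
    exact hL
  have h1 := intNum_snoc_tensor k X d hd (![L] : Fin 1 → X.Modules) hL1 M M' hM hM' F hF hr
  have h2 := intNum_snoc_iso k X d hd e (![L] : Fin 1 → X.Modules) F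
  have h3 := intNum_snoc_unit k X d hd (![L] : Fin 1 → X.Modules) F
  rw [vec2_eq_snoc, vec2_eq_snoc]
  linarith

theorem intNum2_inverse (d : ℕ) (hd : topologicalKrullDim X ≤ d) {L L' M M' : X.Modules}
    (hL : PicF.IsInvertible L) (hL' : PicF.IsInvertible L') (hM : PicF.IsInvertible M)
    (hM' : PicF.IsInvertible M')
    (eL : CohB1.tensorMod L L' ≅ Coh.structureModule X)
    (eM : CohB1.tensorMod M M' ≅ Coh.structureModule X) (F : X.Modules) (hF : Coh.IsCoh F)
    (hr : topologicalKrullDim (CohB1.support F) ≤ ((1 + 1 : ℕ) : WithBot ℕ∞)) :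
    FGA.intNum k X d ![L', M'] F = FGA.intNum k X d ![L, M] F := by
  rw [intNum2_neg_right k X d hd hL' hM hM' eM F hF hr, intNum2_symm k X d hd L' M,
    intNum2_neg_right k X d hd hM hL hL' eL F hF hr, neg_neg, intNum2_symm k X d hd M L]

/-- `(A · A') > 0` for ample `A`, `A'` on a proper scheme of dimension two -/
theorem intNum2_pos (hdim : topologicalKrullDim X = 2) {A A' : X.Modules}
    (hA : CohB1.IsAmple A) (hA' : CohB1.IsAmple A') :
    0 < FGA.intNum k X 2 ![A, A'] (Coh.structureModule X) := by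
  haveI := Groth.Agent.Lib.Lead.CurveEuler.isNoetherian k X
  have hd : topologicalKrullDim X ≤ (2 : ℕ) := by rw [hdim]; rfl
  have hO : Coh.IsCoh (Coh.structureModule X) :=
    Groth.Agent.Lib.helper8.Dev.isCoh_structureModule X
  have hsupp : topologicalKrullDim (CohB1.support (Coh.structureModule X)) =
      ((2 : ℕ) : WithBot ℕ∞) := by
    rw [Groth.Agent.Lib.helper7.SnapperARR.dim_support_structureModule, hdim]; rfl
  obtain ⟨B, hB, ⟨eA⟩, -⟩ := Groth.Agent.Lib.helper12.InvDual.exists_inverse hA.1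
  obtain ⟨B', hB', ⟨eA'⟩, -⟩ := Groth.Agent.Lib.helper12.InvDual.exists_inverse hA'.1
  have hpos := intNum_pos k X 2 hd (r := 2) ![A, A'] ![B, B']
    (by intro i; fin_cases i; exacts [hA, hA'])
    (by intro i; fin_cases i; exacts [⟨eA⟩, ⟨eA'⟩])
    (Coh.structureModule X) hO hsupp
  rwa [intNum2_inverse k X 2 hd hA.1 hB hA'.1 hB' eA eA' _ hO (le_of_eq hsupp)] at hpos

end IntNum

section Surf

variable (k : Type u) [Field k] (X : Scheme.{u}) [X.Over (Spec (CommRingCat.of k))]
  [IsProper (X ↘ Spec (CommRingCat.of k))] [PicGrp.Law X]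

/-- an ample class pairs positively with every ample module -/
theorem intForm_pos_of_mem_ampleCone (hdim : topologicalKrullDim X = 2)
    (B : NumR.N1R k X →ₗ[ℝ] NumR.N1R k X →ₗ[ℝ] ℝ) (hB : NumR.IsIntForm₂ k X B)
    {x : NumR.N1R k X} (hx : x ∈ NumR.ampleCone k X) {A' : X.Modules} (hA' : CohB1.IsAmple A') :
    0 < B x (NumR.clR k X A' hA'.1) := by
  let K : ConvexCone ℝ (NumR.N1R k X) :=
    { carrier := {x | ∀ (A' : X.Modules) (hA' : CohB1.IsAmple A'), 0 < B x (NumR.clR k X A' hA'.1)}
      smul_mem' := by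
        rintro c hc x hx A' hA'
        rw [map_smul, LinearMap.smul_apply, smul_eq_mul]
        exact mul_pos hc (hx A' hA')
      add_mem' := by
        rintro x hx y hy A' hA'
        rw [map_add, LinearMap.add_apply]
        exact add_pos (hx A' hA') (hy A' hA') }
  have hK : NumR.ampleCone k X ≤ K := by
    apply ConvexCone.hull_min
    rintro _ ⟨A, hAi, hA, rfl⟩ A' hA'
    rw [hB A A' hAi hA'.1]
    exact_mod_cast intNum2_pos k X hdim hA hA'
  exact hK hx A' hA'

theorem ampleCone_subset_posCone (hdim : topologicalKrullDim X = 2)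
    (B : NumR.N1R k X →ₗ[ℝ] NumR.N1R k X →ₗ[ℝ] ℝ) (hB : NumR.IsIntForm₂ k X B)
    {H : X.Modules} (hH : CohB1.IsAmple H) :
    (NumR.ampleCone k X : Set (NumR.N1R k X)) ⊆ NumR.posCone k X B H hH.1 := by
  intro x hx
  refine ⟨?_, intForm_pos_of_mem_ampleCone k X hdim B hB hx hH⟩
  let K' : ConvexCone ℝ (NumR.N1R k X) :=
    { carrier := {y | 0 < B x y}
      smul_mem' := by
        rintro c hc y hy
        change 0 < B x (c • y)
        rw [map_smul, smul_eq_mul]
        exact mul_pos hc hy
      add_mem' := by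
        rintro y hy z hz
        change 0 < B x (y + z)
        rw [map_add]
        exact add_pos hy hz }
  have hK' : NumR.ampleCone k X ≤ K' := by
    apply ConvexCone.hull_min
    rintro _ ⟨A, hAi, hA, rfl⟩
    exact intForm_pos_of_mem_ampleCone k X hdim B hB hx hA
  exact hK' hx

/-- **S19729** -/
theorem ampleCone_isOpen_and_subset_posCone [Module.Finite ℝ (NumR.N1R k X)]
    (hdim : topologicalKrullDim X = 2)
    (B : NumR.N1R k X →ₗ[ℝ] NumR.N1R k X →ₗ[ℝ] ℝ) (hB : NumR.IsIntForm₂ k X B)
    {H : X.Modules} (hH : CohB1.IsAmple H) :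
    IsOpen (NumR.ampleCone k X : Set (NumR.N1R k X)) ∧
      (NumR.ampleCone k X : Set (NumR.N1R k X)) ⊆ NumR.posCone k X B H hH.1 :=
  ⟨isOpen_ampleCone k X, ampleCone_subset_posCone k X hdim B hB hH⟩

end Surf

end Groth.Agent.Lib.helper7.BigCone
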