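import Mathlib
import Groth.Agent.Lib.Helper20.DualDev
import Groth.Agent.Lib.Helper11.InvHom
import Groth.Agent.Lib.Lead.GenLocusInt
import Groth.Agent.Lib.Helper25.StalkExact
import Groth.Agent.Lib.Helper27.AffStratVan7
import Groth.Agent.Lib.Lead.VBCurve1
import Groth.Agent.Lib.Helper9.CurveDegAdd
import Groth.Agent.Lib.Helper7.IntList6
import Groth.Agent.Lib.Helper7.NefAmple
import Groth.Agent.Lib.Lead.HilbPos7
import Groth.Agent.Lib.Helper8.DimLt
import Groth.Agent.Lib.Helper7.SnapperMain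
import Groth.Agent.Lib.Helper3.IrredDim

/-!
# Vanishing of `H²` of invertible modules of large degree on an integral projective surface (helper7)

* `isoLocus_ne_bot_of_good`: a nonzero morphism from an invertible module to a generically trivial dualizing module is
  an isomorphism on a nonempty open.
* `E_le_of_not_subsingleton_HH`: if `Hⁿ(X, L) ≠ 0` then `E [H'] L ≤ E [H'] ω`.
-/

set_option autoImplicit false
set_option linter.unusedSectionVars false
set_option linter.unusedVariables false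
set_option linter.style.haveILetI false

universe u

open CategoryTheory Limits AlgebraicGeometry Opposite Abelian TopologicalSpace

namespace Groth.Agent.Lib.helper7.SurfH2

open Groth.Agent.Lib.Helper20.DualDev Groth.Agent.Lib.helper11.InvMod
  Groth.Agent.Lib.helper11.IsoLocus Groth.Agent.Lib.helper11.GenLocus Groth.Agent.Lib.helper11.InvHom
  Groth.Agent.Lib.helper27.AffStratVan Groth.Agent.Lib.Helper25.StalkExact
  Groth.Agent.Lib.helper7.IntList

theorem le_of_add_one_le_succ {a : WithBot ℕ∞} {d : ℕ}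
    (h1 : a + 1 ≤ ((d + 1 : ℕ) : WithBot ℕ∞)) : a ≤ ((d : ℕ) : WithBot ℕ∞) := by
  induction a with
  | bot => exact bot_le
  | coe a =>
    induction a with
    | top =>
      exfalso
      have h0 : ((⊤ : ℕ∞) : WithBot ℕ∞) + 1 = ((⊤ : ℕ∞) : WithBot ℕ∞) := rfl
      rw [h0] at h1
      have h2 : ((⊤ : ℕ∞) : WithBot ℕ∞) ≤ (((d + 1 : ℕ) : ℕ∞) : WithBot ℕ∞) := h1
      rw [WithBot.coe_le_coe] at h2
      exact absurd h2 (by simp)
    | coe m =>
      have h4 : (((m + 1 : ℕ) : ℕ∞) : WithBot ℕ∞) ≤ (((d + 1 : ℕ) : ℕ∞) : WithBot ℕ∞) := by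
        exact_mod_cast h1
      rw [WithBot.coe_le_coe, Nat.cast_le] at h4
      have : m ≤ d := by omega
      exact_mod_cast this

section Zero

variable {X : Scheme.{u}}

/-- the stalk of the image vanishes where the morphism vanishes -/
theorem subsingleton_stalk_image {M N : X.Modules} (φ : M ⟶ N) {W : X.Opens} (hW : IsZeroOn φ W)
    (x : X) (hx : x ∈ W) : Subsingleton ((Abelian.image φ).presheaf.stalk x) := by
  have hzero' : ∀ m : M.presheaf.stalk x, ((DerSch.stalkFunctor X x).map φ).hom m = 0 := by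
    intro m
    obtain ⟨U, hxU, s, rfl⟩ := M.presheaf.exists_germ_eq (x := x) m
    have h1 : M.presheaf.germ U x hxU s =
        M.presheaf.germ (U ⊓ W) x ⟨hxU, hx⟩ (M.presheaf.map (homOfLE inf_le_left).op s) :=
      (TopCat.Presheaf.germ_res_apply M.presheaf (homOfLE inf_le_left) x ⟨hxU, hx⟩ s).symm
    rw [h1]
    have h2 := DerSch.stalkFunctor_map_germ x φ (U ⊓ W) ⟨hxU, hx⟩
      (M.presheaf.map (homOfLE inf_le_left).op s)
    refine h2.trans ?_
    rw [hW (U ⊓ W) inf_le_right]
    exact map_zero _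
  have hzero : (DerSch.stalkFunctor X x).map φ = 0 := by
    ext m
    exact hzero' m
  have hπ : Epi ((DerSch.stalkFunctor X x).map (Abelian.factorThruImage φ)) := inferInstance
  have hj : Mono ((DerSch.stalkFunctor X x).map (Abelian.image.ι φ)) := inferInstance
  have hfac : (DerSch.stalkFunctor X x).map (Abelian.factorThruImage φ) ≫
      (DerSch.stalkFunctor X x).map (Abelian.image.ι φ) = 0 := by
    rw [← Functor.map_comp, Abelian.image.fac, hzero]
  have hsurj := (ModuleCat.epi_iff_surjective _).mp hπ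
  have hinj := (ModuleCat.mono_iff_injective _).mp hj
  refine ⟨fun a b => ?_⟩
  have key : ∀ q : ((DerSch.stalkFunctor X x).obj (Abelian.image φ)), q = 0 := by
    intro q
    obtain ⟨l, rfl⟩ := hsurj q
    apply hinj
    rw [map_zero]
    have := congrArg (fun f => f.hom l) hfac
    simpa using this
  exact (key a).trans (key b).symm

end Zero

section Good

variable (k : Type u) [Field k] {X : Scheme.{u}} [X.Over (Spec (CommRingCat.of k))]
  [IsProper (X ↘ Spec (CommRingCat.of k))] [IsIntegral X]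

/-- a morphism vanishing on a nonempty open into a dualizing module is zero -/
theorem eq_zero_of_isZeroOn_of_good {ω : X.Modules} (hω : Coh.IsCoh ω) (d : ℕ)
    (hdim : topologicalKrullDim X = ((d + 1 : ℕ) : WithBot ℕ∞))
    (t : Coh.HH X ω (d + 1) →ₗ[k] k) (hgood : ∀ F : X.Modules, Coh.IsCoh F → Good k t F)
    {L : X.Modules} (hL : Coh.IsCoh L) (φ : L ⟶ ω) {W : X.Opens} (hWne : (W : Set X).Nonempty)
    (hW : IsZeroOn φ W) : φ = 0 := by
  haveI := Groth.Agent.Lib.Lead.CurveEuler.isNoetherian k X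
  have := Groth.Agent.Lib.Lead.ProperEuler.compactSpace k X
  have := Groth.Agent.Lib.Lead.ProperEuler.quasiSeparatedSpace k X
  set Q := Abelian.image φ with hQdef
  have hQ : Coh.IsCoh Q := Groth.Agent.Lib.Lead.HilbPos.isCoh_image k X hL hω φ
  have hvan : VanOn W Q := fun W' hW' =>
    Groth.Agent.Lib.Lead.VBCurve.subsingleton_sections_of_stalks Q W'
      (fun x hx => subsingleton_stalk_image φ hW x (hW' hx))
  have hWc : IsCompact (W : Set X) := NoetherianSpace.isCompact _
  have hne' : ((W : Set X))ᶜ ≠ Set.univ := by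
    intro h
    obtain ⟨x, hx⟩ := hWne
    have : x ∈ ((W : Set X))ᶜ := h ▸ Set.mem_univ x
    exact this hx
  have hd : topologicalKrullDim ↥(((W : Set X))ᶜ) ≤ (d : WithBot ℕ∞) := by
    have h1 := Groth.Agent.Lib.helper8.DimLt.topologicalKrullDim_add_one_le
      (Set.subset_univ ((W : Set X))ᶜ) W.isOpen.isClosed_compl
      (IrreducibleSpace.isIrreducible_univ X) hne'
    rw [Groth.Agent.Lib.helper3.IrredDim.dim_univ_eq, hdim] at h1
    exact le_of_add_one_le_succ h1
  have hHH : Subsingleton (Coh.HH X Q (d + 1)) :=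
    subsingleton_HH_of_vanOn_of_dim_le W hWc d hd Q hQ.1 hvan (d + 1) (Nat.lt_succ_self d)
  have hΦ : Φ k t Q (Abelian.image.ι φ) = Φ k t Q 0 := by
    apply LinearMap.ext
    intro x
    rw [Subsingleton.elim x 0, map_zero, map_zero]
  have hj : Abelian.image.ι φ = 0 := (hgood Q hQ).1 hΦ
  rw [← Abelian.image.fac φ, hj, comp_zero]

/-- a nonzero morphism from an invertible module to a generically trivial dualizing module is an isomorphism on a
nonempty open -/
theorem isoLocus_ne_bot_of_good {ω : X.Modules} (hω : Coh.IsCoh ω) (d : ℕ)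
    (hdim : topologicalKrullDim X = ((d + 1 : ℕ) : WithBot ℕ∞))
    (t : Coh.HH X ω (d + 1) →ₗ[k] k) (hgood : ∀ F : X.Modules, Coh.IsCoh F → Good k t F)
    {V : X.Opens} (hV : (V : Set X).Nonempty) (hVω : IsTrivOn ω V)
    {L : X.Modules} (hL : PicF.IsInvertible L) (φ : L ⟶ ω) (hφ : φ ≠ 0) : isoLocus φ ≠ ⊥ := by
  intro h
  apply hφ
  obtain ⟨x, hxV⟩ := hV
  obtain ⟨U₁, hx₁, h₁⟩ := hL x
  obtain ⟨eM⟩ : IsTrivOn L (U₁ ⊓ V) := IsTrivOn.of_le inf_le_left h₁
  obtain ⟨eN⟩ : IsTrivOn ω (U₁ ⊓ V) := IsTrivOn.of_le inf_le_right hVω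
  have h1 := isoLocus_inf_eq_basicOpen_localFn φ eM eN
  rw [h, bot_inf_eq] at h1
  have h2 : localFn φ eM eN = 0 := (basicOpen_eq_bot_iff _).1 h1.symm
  have h3 : fn (localEnd φ eM eN) ⊤ = 0 := by
    have hinj : Function.Injective ((U₁ ⊓ V).topIso.hom) :=
      (ConcreteCategory.bijective_of_isIso ((U₁ ⊓ V).topIso.hom)).1
    apply hinj
    rw [map_zero]
    exact h2
  have h4 : IsZeroOn φ ((U₁ ⊓ V).ι ''ᵁ ⊤) := (isZeroOn_image_iff φ eM eN ⊤).2 h3
  rw [(U₁ ⊓ V).ι_image_top] at h4
  exact eq_zero_of_isZeroOn_of_good k hω d hdim t hgood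
    (Groth.Agent.Lib.Lead.CurveInv.isCoh_of_isInvertible X hL) φ
    (⟨x, ⟨hx₁, hxV⟩⟩ : ((U₁ ⊓ V : X.Opens) : Set X).Nonempty) h4

end Good

end Groth.Agent.Lib.helper7.SurfH2
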