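import Mathlib
import Groth.Agent.Lib.Helper7.SurfH2b
import Groth.Agent.Lib.Helper7.CohKer
import Groth.Agent.Lib.Helper8.DevCore

set_option autoImplicit false
set_option linter.unusedSectionVars false
set_option linter.unusedVariables false
set_option linter.style.haveILetI false

universe u

open CategoryTheory Limits AlgebraicGeometry Opposite Abelian TopologicalSpace

namespace Groth.Agent.Lib.helper7.SurfH2

open Groth.Agent.Lib.Helper20.DualDev Groth.Agent.Lib.helper11.InvMod
  Groth.Agent.Lib.helper11.IsoLocus Groth.Agent.Lib.helper11.GenLocus Groth.Agent.Lib.helper11.InvHom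
  Groth.Agent.Lib.helper27.AffStratVan Groth.Agent.Lib.Helper25.StalkExact
  Groth.Agent.Lib.helper7.IntList

section Main

variable (k : Type u) [Field k] {X : Scheme.{u}} [X.Over (Spec (CommRingCat.of k))]
  [IsProper (X ↘ Spec (CommRingCat.of k))] [IsIntegral X]

/-- if the top cohomology of an invertible module `L` does not vanish, then `(L·H^d) ≤ (ω·H^d)` -/
theorem E_le_of_not_subsingleton_HH {ω : X.Modules} (hω : Coh.IsCoh ω) (d : ℕ)
    (hdim : topologicalKrullDim X = ((d + 1 : ℕ) : WithBot ℕ∞))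
    (t : Coh.HH X ω (d + 1) →ₗ[k] k) (hgood : ∀ F : X.Modules, Coh.IsCoh F → Good k t F)
    {V : X.Opens} (hV : (V : Set X).Nonempty) (hVω : IsTrivOn ω V)
    {H H' : X.Modules} (hH : CohB1.IsAmple H) (ε : CohB1.tensorMod H H' ≅ Coh.structureModule X)
    {L : X.Modules} (hL : PicF.IsInvertible L) (hne : ¬ Subsingleton (Coh.HH X L (d + 1))) :
    E k X (List.replicate d H') L ≤ E k X (List.replicate d H') ω := by
  have hLc : Coh.IsCoh L := Groth.Agent.Lib.Lead.CurveInv.isCoh_of_isInvertible X hL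
  -- a nonzero functional
  obtain ⟨v, hv⟩ : ∃ v : Coh.HH X L (d + 1), v ≠ 0 := by
    by_contra hcon
    push Not at hcon
    exact hne ⟨fun a b => (hcon a).trans (hcon b).symm⟩
  haveI : Module.Free k (Coh.HH X L (d + 1)) := Module.Free.of_divisionRing k _
  haveI : Module.Projective k (Coh.HH X L (d + 1)) := Module.Projective.of_free
  obtain ⟨ψ, hψ⟩ : ∃ ψ : Coh.HH X L (d + 1) →ₗ[k] k, ψ v ≠ 0 := by
    by_contra hcon
    push Not at hcon
    exact hv ((Module.forall_dual_apply_eq_zero_iff k v).1 hcon)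
  obtain ⟨φ, hφ⟩ := (hgood L hLc).2 ψ
  have hφne : φ ≠ 0 := by
    intro h0
    rw [h0, Φ_zero] at hφ
    apply hψ
    rw [← hφ]
    rfl
  have hiso : isoLocus φ ≠ ⊥ := isoLocus_ne_bot_of_good k hω d hdim t hgood hV hVω hL φ hφne
  have hisone : ((isoLocus φ : X.Opens) : Set X).Nonempty := by
    by_contra hcon
    apply hiso
    ext x
    simp only [Opens.coe_bot, Set.mem_empty_iff_false, iff_false]
    intro hx
    exact hcon ⟨x, hx⟩
  haveI : Mono φ := Groth.Agent.Lib.helper9.CurveDegAdd.mono_of_isoLocus_nonempty hL φ hisone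
  have hTc : Coh.IsCoh (cokernel φ) := Groth.Agent.Lib.helper7.CohKer.isCoh_cokernel hLc hω φ
  have hsupp : CohB1.support (cokernel φ) ⊆ ((isoLocus φ : X.Opens) : Set X)ᶜ :=
    Groth.Agent.Lib.helper7.SnapperMain.support_cokernel_subset φ
  have hne' : (((isoLocus φ : X.Opens) : Set X))ᶜ ≠ Set.univ := by
    intro h
    obtain ⟨x, hx⟩ := hisone
    have : x ∈ (((isoLocus φ : X.Opens) : Set X))ᶜ := h ▸ Set.mem_univ x
    exact this hx
  have hd : topologicalKrullDim ↥((((isoLocus φ : X.Opens) : Set X))ᶜ) ≤ (d : WithBot ℕ∞) := by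
    have h1 := Groth.Agent.Lib.helper8.DimLt.topologicalKrullDim_add_one_le
      (Set.subset_univ (((isoLocus φ : X.Opens) : Set X))ᶜ) (isoLocus φ).isOpen.isClosed_compl
      (IrreducibleSpace.isIrreducible_univ X) hne'
    rw [Groth.Agent.Lib.helper3.IrredDim.dim_univ_eq, hdim] at h1
    exact le_of_add_one_le_succ h1
  have hdT : topologicalKrullDim (CohB1.support (cokernel φ)) ≤ ((d : ℕ) : WithBot ℕ∞) :=
    le_trans (Groth.Agent.Lib.helper8.DimLt.topologicalKrullDim_le_of_subset hsupp) hd
  have hH'inv : PicF.IsInvertible H' :=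
    Groth.Agent.Lib.helper11.AmpleAffine.isInvertible_of_isInverseOf hH.1 ⟨ε⟩
  have hl : ∀ A ∈ List.replicate d H', PicF.IsInvertible A := by
    intro A hA
    rw [List.mem_replicate] at hA
    rw [hA.2]
    exact hH'inv
  have hadd := E_additive k X (List.replicate d H') hl
    (ShortComplex.mk φ (cokernel.π φ) (cokernel.condition φ))
    (Groth.Agent.Lib.helper8.Dev.shortExact_cokernel φ) hLc hTc
  have hnef : NefInv k X H' := nefInv_of_nef k X hH.1 hH'inv ε
    (fun C hCi hC => (Groth.Agent.Lib.helper7.NefAmple.nefq_pos_of_isAmple k X hH C hCi hC).le)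
  have hamp : IsAmpleInv X H' := ⟨H, hH, ⟨ε⟩⟩
  have hkm := km k d X H' H' hnef hamp 0 d (zero_add d) (cokernel φ) hTc hdT
  rw [List.replicate_zero, List.nil_append] at hkm
  change E k X (List.replicate d H') ω = E k X (List.replicate d H') L +
    E k X (List.replicate d H') (cokernel φ) at hadd
  linarith

end Main

end Groth.Agent.Lib.helper7.SurfH2
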