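import Mathlib
import Groth.Agent.Lib.Helper7.SurfH2a
import Groth.Agent.Lib.Helper7.SurfH2c
import Groth.Agent.Lib.Helper11.PnImm
import Groth.Agent.Lib.Helper12.InvDual2
import Groth.Agent.Lib.Helper7.SnapperARR
import Groth.Agent.Lib.Helper19.ProjSpaceProper

/-!
# `H²`-vanishing on a projective integral surface (helper7)

* `exists_dualizing_of_ample`: dualizing module, generically trivial, from an ample module.
* `intNum_eq_E_sub`: `(L·H) = E [H'] L - E [H'] O`.
* `exists_bound_HH_two`: there is `n₀` with `H²(X, L) = 0` whenever `(L·H) > n₀`.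
-/

set_option autoImplicit false
set_option linter.unusedSectionVars false
set_option linter.unusedVariables false
set_option linter.style.haveILetI false

universe u

open CategoryTheory Limits AlgebraicGeometry Opposite Abelian TopologicalSpace

namespace Groth.Agent.Lib.helper7.SurfH2

open Groth.Agent.Lib.Helper20.DualDev Groth.Agent.Lib.helper11.InvMod
  Groth.Agent.Lib.helper7.IntList Groth.Agent.Lib.Lead.ModTensor

section Main

variable (k : Type u) [Field k] (X : Scheme.{u}) [X.Over (Spec (CommRingCat.of k))]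
  [IsProper (X ↘ Spec (CommRingCat.of k))] [IsIntegral X]

theorem exists_dualizing_of_ample {H : X.Modules} (hH : CohB1.IsAmple H) (n : ℕ)
    (hn : topologicalKrullDim X = n) :
    ∃ (ω : X.Modules) (_ : Coh.IsCoh ω) (t : Coh.HH X ω n →ₗ[k] k),
      (∀ F : X.Modules, Coh.IsCoh F → Good k t F) ∧
      ∃ V : X.Opens, (V : Set X).Nonempty ∧ IsTrivOn ω V := by
  obtain ⟨m₀, hm₀⟩ := Groth.Agent.Lib.helper11.PnImm.isVeryAmpleProj_tensorPow_eventually
    (X ↘ Spec (CommRingCat.of k)) hH
  obtain ⟨N, r, hr, hrq, -⟩ := (hm₀ m₀ le_rfl).exists_closedImmersion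
  haveI := hr
  exact exists_dualizing_generic k N r hrq n hn

theorem intNum_eq_E_sub (hdim : topologicalKrullDim X = 2) {H H' L : X.Modules}
    (hH : PicF.IsInvertible H) (hH' : PicF.IsInvertible H')
    (ε : CohB1.tensorMod H H' ≅ Coh.structureModule X) (hL : PicF.IsInvertible L) :
    FGA.intNum k X 2 ![L, H] (Coh.structureModule X) =
      E k X [H'] L - E k X [H'] (Coh.structureModule X) := by
  haveI := Groth.Agent.Lib.Lead.CurveEuler.isNoetherian k X
  have hd : topologicalKrullDim X ≤ ((2 : ℕ) : WithBot ℕ∞) := by rw [hdim]; rfl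
  have hO : Coh.IsCoh (Coh.structureModule X) :=
    Groth.Agent.Lib.helper8.Dev.isCoh_structureModule X
  have hsupp : topologicalKrullDim (CohB1.support (Coh.structureModule X)) ≤
      ((([L] : List X.Modules).length + 1 : ℕ) : WithBot ℕ∞) := by
    rw [Groth.Agent.Lib.helper7.SnapperARR.dim_support_structureModule, hdim]; rfl
  have h1 := E_ofFn k X 2 hd ![L, H] (Coh.structureModule X)
  have hl : List.ofFn (![L, H] : Fin 2 → X.Modules) = [L, H] := by simp
  rw [hl] at h1
  rw [← h1, E_swap]
  have hlL : ∀ A ∈ ([L] : List X.Modules), PicF.IsInvertible A := by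
    intro A hA
    rw [List.mem_singleton] at hA
    rw [hA]; exact hL
  have h2 := E_inv k X H H' hH hH' ε [L] hlL (Coh.structureModule X) hO hsupp
  have h3 : E k X [H', L] (Coh.structureModule X) = E k X [L, H'] (Coh.structureModule X) :=
    E_swap k X H' L [] _
  have h4 : E k X [L, H'] (Coh.structureModule X) =
      E k X [H'] (Coh.structureModule X) - E k X [H'] (CohB1.tensorMod (Coh.structureModule X) L) :=
    E_cons k X L [H'] _
  have h5 : E k X [H'] (CohB1.tensorMod (Coh.structureModule X) L) = E k X [H'] L :=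
    E_iso k X [H'] (leftUnitor L)
  linarith

/-- **`H²` vanishes for invertible modules of large degree against an ample module** -/
theorem exists_bound_HH_two (hdim : topologicalKrullDim X = 2) {H : X.Modules}
    (hH : CohB1.IsAmple H) :
    ∃ n₀ : ℤ, ∀ L : X.Modules, PicF.IsInvertible L →
      n₀ < FGA.intNum k X 2 ![L, H] (Coh.structureModule X) → Subsingleton (Coh.HH X L 2) := by
  obtain ⟨H', hH', ⟨ε⟩, -⟩ := Groth.Agent.Lib.helper12.InvDual.exists_inverse hH.1
  have hdim' : topologicalKrullDim X = ((2 : ℕ) : WithBot ℕ∞) := by rw [hdim]; rfl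
  obtain ⟨ω, hω, t, hgood, V, hV, hVω⟩ := exists_dualizing_of_ample k X hH 2 hdim'
  refine ⟨E k X [H'] ω - E k X [H'] (Coh.structureModule X), fun L hL hlt => ?_⟩
  by_contra hne
  have h1 := E_le_of_not_subsingleton_HH k hω 1 hdim' t hgood hV hVω hH ε hL hne
  have h2 := intNum_eq_E_sub k X hdim hH.1 hH' ε hL
  have h3 : List.replicate 1 H' = [H'] := rfl
  rw [h3] at h1
  linarith

end Main

end Groth.Agent.Lib.helper7.SurfH2
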