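import Mathlib
import Groth.Agent.Lib.Helper7.SurfH2e
import Groth.Agent.Lib.Helper7.SurfCone
import Groth.Agent.Lib.Helper7.AmpleOpen
import Groth.Agent.Lib.Helper7.SnapperPos4

/-!
# The Hodge index theorem on a projective integral surface (helper7)

* `P k X L M`: the intersection pairing `(L·M)`, with its calculus (`P_symm`, `P_tensor_right`, `P_pow_right`,
  `P_inv_right`, ...).
* `hodge_orth`: `(L·H) = 0` for an ample `H` implies `(L·L) ≤ 0`.
* `hodge_index`: `(L·L) > 0` and `(L·M) = 0` imply `(M·M) ≤ 0`.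
-/

set_option autoImplicit false
set_option linter.unusedSectionVars false
set_option linter.unusedVariables false
set_option linter.style.haveILetI false

universe u

open CategoryTheory Limits AlgebraicGeometry Opposite TopologicalSpace

namespace Groth.Agent.Lib.helper7.SurfHodge

open Groth.Agent.Lib.helper7.BigCone Groth.Agent.Lib.helper7.SnapperPos
  Groth.Agent.Lib.Lead.ModTensor

theorem isCohO (X : Scheme.{u}) : Coh.IsCoh (Coh.structureModule X) :=
  Groth.Agent.Lib.helper8.Dev.isCoh_structureModule X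

theorem suppO (k : Type u) [Field k] (X : Scheme.{u}) [X.Over (Spec (CommRingCat.of k))]
    [IsProper (X ↘ Spec (CommRingCat.of k))]
    (hd : topologicalKrullDim X ≤ ((2 : ℕ) : WithBot ℕ∞)) :
    topologicalKrullDim (CohB1.support (Coh.structureModule X)) ≤
      ((1 + 1 : ℕ) : WithBot ℕ∞) := by
  haveI := Groth.Agent.Lib.Lead.CurveEuler.isNoetherian k X
  rw [Groth.Agent.Lib.helper7.SnapperARR.dim_support_structureModule]
  exact hd

variable (k : Type u) [Field k] (X : Scheme.{u}) [X.Over (Spec (CommRingCat.of k))]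
  [IsProper (X ↘ Spec (CommRingCat.of k))]

/-- the intersection pairing of two invertible modules on a surface -/
noncomputable abbrev P (L M : X.Modules) : ℤ :=
  FGA.intNum k X 2 ![L, M] (Coh.structureModule X)

section Calc

variable (hd : topologicalKrullDim X ≤ ((2 : ℕ) : WithBot ℕ∞))

include hd

theorem P_symm (L M : X.Modules) : P k X L M = P k X M L :=
  intNum2_symm k X 2 hd L M _

theorem P_tensor_right {L A B : X.Modules} (hL : PicF.IsInvertible L) (hA : PicF.IsInvertible A)
    (hB : PicF.IsInvertible B) :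
    P k X L (CohB1.tensorMod A B) = P k X L A + P k X L B := by
  have hL1 : ∀ i, PicF.IsInvertible ((![L] : Fin 1 → X.Modules) i) := by
    intro i; fin_cases i; exact hL
  have h1 := intNum_snoc_tensor k X 2 hd (![L] : Fin 1 → X.Modules) hL1 A B hA hB
    (Coh.structureModule X) (isCohO X) (suppO k X hd)
  unfold P
  rw [vec2_eq_snoc, vec2_eq_snoc, vec2_eq_snoc]
  exact h1

theorem P_tensor_left {L A B : X.Modules} (hL : PicF.IsInvertible L) (hA : PicF.IsInvertible A)
    (hB : PicF.IsInvertible B) :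
    P k X (CohB1.tensorMod A B) L = P k X A L + P k X B L := by
  rw [P_symm k X hd, P_tensor_right k X hd hL hA hB, P_symm k X hd L A, P_symm k X hd L B]

theorem P_pow_right {L A : X.Modules} (hL : PicF.IsInvertible L) (hA : PicF.IsInvertible A) (n : ℕ) :
    P k X L (CohB1.tensorPow A n) = (n : ℤ) * P k X L A := by
  have hL1 : ∀ i, PicF.IsInvertible ((![L] : Fin 1 → X.Modules) i) := by
    intro i; fin_cases i; exact hL
  have h1 := intNum_snoc_tensorPow k X 2 hd (![L] : Fin 1 → X.Modules) hL1 A hA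
    (Coh.structureModule X) (isCohO X) (suppO k X hd) n
  unfold P
  rw [vec2_eq_snoc, vec2_eq_snoc]
  exact h1

theorem P_pow_left {L A : X.Modules} (hL : PicF.IsInvertible L) (hA : PicF.IsInvertible A) (n : ℕ) :
    P k X (CohB1.tensorPow A n) L = (n : ℤ) * P k X A L := by
  rw [P_symm k X hd, P_pow_right k X hd hL hA n, P_symm k X hd L A]

theorem P_inv_right {L A A' : X.Modules} (hL : PicF.IsInvertible L) (hA : PicF.IsInvertible A)
    (hA' : PicF.IsInvertible A') (e : CohB1.tensorMod A A' ≅ Coh.structureModule X) :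
    P k X L A' = - P k X L A :=
  intNum2_neg_right k X 2 hd hL hA hA' e _ (isCohO X) (suppO k X hd)

theorem P_inv_left {L A A' : X.Modules} (hL : PicF.IsInvertible L) (hA : PicF.IsInvertible A)
    (hA' : PicF.IsInvertible A') (e : CohB1.tensorMod A A' ≅ Coh.structureModule X) :
    P k X A' L = - P k X A L := by
  rw [P_symm k X hd, P_inv_right k X hd hL hA hA' e, P_symm k X hd L A]

theorem P_inv_inv {L L' A A' : X.Modules} (hL : PicF.IsInvertible L) (hL' : PicF.IsInvertible L')
    (eL : CohB1.tensorMod L L' ≅ Coh.structureModule X)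
    (hA : PicF.IsInvertible A) (hA' : PicF.IsInvertible A')
    (e : CohB1.tensorMod A A' ≅ Coh.structureModule X) :
    P k X L' A' = P k X L A := by
  rw [P_inv_right k X hd hL' hA hA' e, P_inv_left k X hd hA hL hL' eL, neg_neg]

end Calc

section Hodge

variable [IsIntegral X]

/-- **Hodge index, first form**: `(L·H) = 0` for an ample `H` implies `(L·L) ≤ 0` -/
theorem hodge_orth (hdim : topologicalKrullDim X = 2) {H : X.Modules} (hH : CohB1.IsAmple H)
    {L : X.Modules} (hL : PicF.IsInvertible L) (horth : P k X L H = 0) : P k X L L ≤ 0 := by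
  have hd : topologicalKrullDim X ≤ ((2 : ℕ) : WithBot ℕ∞) := by rw [hdim]; rfl
  by_contra hpos
  rw [not_le] at hpos
  obtain ⟨L', hL', ⟨εL⟩, -⟩ := Groth.Agent.Lib.helper12.InvDual.exists_inverse hL
  obtain ⟨H', hH', ⟨εH⟩, -⟩ := Groth.Agent.Lib.helper12.InvDual.exists_inverse hH.1
  obtain ⟨n, hn⟩ := exists_isAmple_twist k X hH hL
  have hHn := Groth.Agent.Lib.helper12.TensorInv.isInvertible_tensorPow hH.1 n
  have hLHn := Groth.Agent.Lib.helper12.TensorInv.isInvertible_tensorMod hL hHn
  have h1 : P k X L (CohB1.tensorMod H (CohB1.tensorMod L (CohB1.tensorPow H n))) = P k X L L := by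
    rw [P_tensor_right k X hd hL hH.1 hLHn, P_tensor_right k X hd hL hL hHn,
      P_pow_right k X hd hL hH.1 n, horth]
    ring
  have hLL' : 0 < P k X L' L' := by
    rw [P_inv_inv k X hd hL hL' εL hL hL' εL]; exact hpos
  have h1' : 0 < P k X L (CohB1.tensorMod H (CohB1.tensorMod L (CohB1.tensorPow H n))) := by
    rw [h1]; exact hpos
  obtain ⟨N, hN⟩ := Groth.Agent.Lib.helper7.SurfH2.exists_sections_tensorPow k X hdim hn hL εL
    h1' hLL'
  have h2 := intNum_ample_pos_of_sections k X hdim L L' hL ⟨εL⟩ hLL'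
    ⟨N + 1, Nat.succ_pos N, hN (N + 1) (Nat.le_succ N)⟩ H H' hH ⟨εH⟩
  have h3 : P k X L' H' = P k X L H := P_inv_inv k X hd hL hL' εL hH.1 hH' εH
  have h4 : 0 < P k X L' H' := h2
  rw [h3, horth] at h4
  exact lt_irrefl _ h4

/-- auxiliary form with sign conditions -/
theorem hodge_index_aux (hdim : topologicalKrullDim X = 2) {H : X.Modules} (hH : CohB1.IsAmple H)
    {L M M' : X.Modules} (hL : PicF.IsInvertible L) (hM : PicF.IsInvertible M)
    (hM' : PicF.IsInvertible M') (εM : CohB1.tensorMod M M' ≅ Coh.structureModule X)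
    (hpos : 0 < P k X L L) (horth : P k X L M = 0)
    (ha : 0 ≤ P k X M H) (hb : 0 ≤ P k X L H) : P k X M M ≤ 0 := by
  have hd : topologicalKrullDim X ≤ ((2 : ℕ) : WithBot ℕ∞) := by rw [hdim]; rfl
  by_contra hMM
  rw [not_le] at hMM
  obtain ⟨a, ha'⟩ := Int.eq_ofNat_of_zero_le ha
  obtain ⟨b, hb'⟩ := Int.eq_ofNat_of_zero_le hb
  have hb0 : b ≠ 0 := by
    intro h0
    rw [h0] at hb'
    have := hodge_orth k X hdim hH hL hb'
    linarith
  have hLa := Groth.Agent.Lib.helper12.TensorInv.isInvertible_tensorPow hL a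
  have hMb := Groth.Agent.Lib.helper12.TensorInv.isInvertible_tensorPow hM' b
  have hD := Groth.Agent.Lib.helper12.TensorInv.isInvertible_tensorMod hLa hMb
  have hDH : P k X (CohB1.tensorMod (CohB1.tensorPow L a) (CohB1.tensorPow M' b)) H = 0 := by
    rw [P_tensor_left k X hd hH.1 hLa hMb, P_pow_left k X hd hH.1 hL a,
      P_pow_left k X hd hH.1 hM' b, P_inv_left k X hd hH.1 hM hM' εM, ha', hb']
    ring
  have h1 := hodge_orth k X hdim hH hD hDH
  have hLM' : P k X L M' = 0 := by
    rw [P_inv_right k X hd hL hM hM' εM, horth, neg_zero]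
  have hM'L : P k X M' L = 0 := by rw [P_symm k X hd, hLM']
  have hM'M' : P k X M' M' = P k X M M := P_inv_inv k X hd hM hM' εM hM hM' εM
  have h2 : P k X (CohB1.tensorMod (CohB1.tensorPow L a) (CohB1.tensorPow M' b))
      (CohB1.tensorMod (CohB1.tensorPow L a) (CohB1.tensorPow M' b)) =
      (a : ℤ) * (a : ℤ) * P k X L L + (b : ℤ) * (b : ℤ) * P k X M M := by
    rw [P_tensor_left k X hd hD hLa hMb, P_tensor_right k X hd hLa hLa hMb,
      P_tensor_right k X hd hMb hLa hMb, P_pow_left k X hd hLa hL a,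
      P_pow_left k X hd hMb hL a, P_pow_left k X hd hLa hM' b, P_pow_left k X hd hMb hM' b,
      P_pow_right k X hd hL hL a, P_pow_right k X hd hL hM' b, P_pow_right k X hd hM' hL a,
      P_pow_right k X hd hM' hM' b, hLM', hM'L, hM'M']
    ring
  rw [h2] at h1
  have hbpos : (0 : ℤ) < (b : ℤ) * (b : ℤ) := by
    have : (0 : ℤ) < (b : ℤ) := by exact_mod_cast Nat.pos_of_ne_zero hb0
    positivity
  have h3 : (0 : ℤ) ≤ (a : ℤ) * (a : ℤ) * P k X L L :=
    mul_nonneg (mul_self_nonneg _) hpos.le
  have h4 : (0 : ℤ) < (b : ℤ) * (b : ℤ) * P k X M M := mul_pos hbpos hMM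
  linarith

/-- **Hodge index theorem**: `(L·L) > 0` and `(L·M) = 0` imply `(M·M) ≤ 0` -/
theorem hodge_index (hdim : topologicalKrullDim X = 2) {H : X.Modules} (hH : CohB1.IsAmple H)
    {L M : X.Modules} (hL : PicF.IsInvertible L) (hM : PicF.IsInvertible M)
    (hpos : 0 < P k X L L) (horth : P k X L M = 0) : P k X M M ≤ 0 := by
  have hd : topologicalKrullDim X ≤ ((2 : ℕ) : WithBot ℕ∞) := by rw [hdim]; rfl
  obtain ⟨L', hL', ⟨εL⟩, ⟨εL'⟩⟩ := Groth.Agent.Lib.helper12.InvDual.exists_inverse hL
  obtain ⟨M', hM', ⟨εM⟩, ⟨εM'⟩⟩ := Groth.Agent.Lib.helper12.InvDual.exists_inverse hM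
  have hL'L' : P k X L' L' = P k X L L := P_inv_inv k X hd hL hL' εL hL hL' εL
  have hM'M' : P k X M' M' = P k X M M := P_inv_inv k X hd hM hM' εM hM hM' εM
  rcases le_total 0 (P k X L H) with hb | hb
  · rcases le_total 0 (P k X M H) with ha | ha
    · exact hodge_index_aux k X hdim hH hL hM hM' εM hpos horth ha hb
    · rw [← hM'M']
      refine hodge_index_aux k X hdim hH hL hM' hM εM' hpos ?_ ?_ hb
      · rw [P_inv_right k X hd hL hM hM' εM, horth, neg_zero]
      · rw [P_inv_left k X hd hH.1 hM hM' εM]; linarith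
  · have hb' : 0 ≤ P k X L' H := by
      rw [P_inv_left k X hd hH.1 hL hL' εL]; linarith
    rcases le_total 0 (P k X M H) with ha | ha
    · refine hodge_index_aux k X hdim hH hL' hM hM' εM (by rw [hL'L']; exact hpos) ?_ ha hb'
      rw [P_inv_left k X hd hM hL hL' εL, horth, neg_zero]
    · rw [← hM'M']
      refine hodge_index_aux k X hdim hH hL' hM' hM εM' (by rw [hL'L']; exact hpos) ?_ ?_ hb'
      · rw [P_inv_inv k X hd hL hL' εL hM hM' εM]; exact horth
      · rw [P_inv_left k X hd hH.1 hM hM' εM]; linarith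

end Hodge

end Groth.Agent.Lib.helper7.SurfHodge
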