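import Mathlib
import Groth.Agent.Lib.Helper7.SurfCone
import Groth.Agent.Lib.Helper7.IntList6
import Groth.Agent.Lib.Helper7.IdealMod
import Groth.Agent.Lib.Helper7.SurfCartier
import Groth.Agent.Lib.Helper7.NefAmple

/-!
# Nef classes on a smooth surface: the bridge to degrees on curves and rational density (helper7)

* `E_pair_idealMod`, `intForm_clR_curveCl`: `B([L],[C]) = (L · C)`.
* `dense_rat_multiples`: rational multiples of a spanning lattice are dense.
-/

set_option autoImplicit false
set_option linter.unusedSectionVars false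
set_option linter.style.haveILetI false
universe u

open CategoryTheory CategoryTheory.Limits AlgebraicGeometry Opposite TopologicalSpace

namespace Groth.Agent.Lib.helper7.SurfNef

open Groth.Agent.Lib.helper7.IntList Groth.Agent.Lib.Lead.ModTensor
open Groth.Agent.Lib.Helper18.NefPull

section Bridge

variable (k : Type u) [Field k] (X : Scheme.{u}) [X.Over (Spec (CommRingCat.of k))]
  [IsProper (X ↘ Spec (CommRingCat.of k))]

/-- `(L · O(-C)) = -(L · C)` for an invertible ideal. -/
theorem E_pair_idealMod (L : X.Modules) (hL : PicF.IsInvertible L) (I : X.IdealSheafData)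
    (hI : PicF.IsInvertible (ClSub.idealMod I)) :
    E k X [L, ClSub.idealMod I] (Coh.structureModule X) = - nefq k X I L := by
  have hIc : Coh.IsCoh (ClSub.idealMod I) := Groth.Agent.Lib.Lead.CurveInv.isCoh_of_isInvertible X hI
  have hQc : Coh.IsCoh (ClSub.quotMod I) := Groth.Agent.Lib.helper7.SnapperQuot.isCoh_quotMod I
  have hl : ∀ A ∈ [L], PicF.IsInvertible A := by
    intro A hA
    rw [List.mem_singleton] at hA
    exact hA ▸ hL
  have hadd := E_additive k X [L] hl (Groth.Agent.Lib.helper7.IdealMod.idealSeq I)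
    (Groth.Agent.Lib.helper7.IdealMod.idealSeq_shortExact I) hIc hQc
  change E k X [L] (Coh.structureModule X) = E k X [L] (ClSub.idealMod I) + E k X [L] (ClSub.quotMod I)
    at hadd
  rw [E_swap, E_cons, E_iso k X [L] (leftUnitor (ClSub.idealMod I)), hadd, neg_nefq_eq_E]
  ring

end Bridge

section Form

variable (k : Type u) [Field k] (X : Scheme.{u}) [X.Over (Spec (CommRingCat.of k))]
  [IsProper (X ↘ Spec (CommRingCat.of k))] [PicGrp.Law X]

/-- the intersection form of the class of an invertible module with the class of a curve is the degree of the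
module on the curve -/
theorem intForm_clR_curveCl (hdim : topologicalKrullDim X ≤ 2)
    (B : NumR.N1R k X →ₗ[ℝ] NumR.N1R k X →ₗ[ℝ] ℝ) (hB : NumR.IsIntForm₂ k X B)
    (L : X.Modules) (hL : PicF.IsInvertible L) (I : X.IdealSheafData)
    (hI : PicF.IsInvertible (ClSub.idealMod I)) :
    B (NumR.clR k X L hL) (NumR.curveCl k X I hI) = (nefq k X I L : ℝ) := by
  unfold NumR.curveCl
  rw [map_neg, hB L (ClSub.idealMod I) hL hI]
  have h1 : FGA.intNum k X 2 ![L, ClSub.idealMod I] (Coh.structureModule X) =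
      E k X [L, ClSub.idealMod I] (Coh.structureModule X) := by
    rw [← E_ofFn k X 2 (by exact_mod_cast hdim) ![L, ClSub.idealMod I] (Coh.structureModule X)]
    rfl
  rw [h1, E_pair_idealMod k X L hL I hI]
  push_cast
  ring

end Form

/-- rational multiples of a spanning additive subgroup are dense -/
theorem dense_rat_multiples {V : Type*} [AddCommGroup V] [Module ℝ V] [TopologicalSpace V]
    [ContinuousAdd V] [ContinuousSMul ℝ V] (Λ : AddSubgroup V)
    (hspan : Submodule.span ℝ (Λ : Set V) = ⊤) :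
    Dense {v : V | ∃ n : ℕ, 0 < n ∧ (n : ℝ) • v ∈ Λ} := by
  set S : Set V := {v : V | ∃ n : ℕ, 0 < n ∧ (n : ℝ) • v ∈ Λ} with hS
  have hS0 : (0 : V) ∈ S := ⟨1, one_pos, by simp [Λ.zero_mem]⟩
  have hSadd : ∀ v ∈ S, ∀ w ∈ S, v + w ∈ S := by
    rintro v ⟨n, hn, hv⟩ w ⟨m, hm, hw⟩
    refine ⟨n * m, Nat.mul_pos hn hm, ?_⟩
    have h1 : ((n * m : ℕ) : ℝ) • (v + w) = m • ((n : ℝ) • v) + n • ((m : ℝ) • w) := by
      rw [← Nat.cast_smul_eq_nsmul ℝ m, ← Nat.cast_smul_eq_nsmul ℝ n, smul_smul, smul_smul, smul_add]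
      push_cast
      rw [mul_comm (m : ℝ) (n : ℝ)]
    rw [h1]
    exact Λ.add_mem (Λ.nsmul_mem hv m) (Λ.nsmul_mem hw n)
  have hSrat : ∀ (q : ℚ), ∀ v ∈ S, ((q : ℝ)) • v ∈ S := by
    rintro q v ⟨n, hn, hv⟩
    refine ⟨q.den * n, Nat.mul_pos q.den_pos hn, ?_⟩
    have h1 : ((q.den * n : ℕ) : ℝ) • ((q : ℝ) • v) = q.num • ((n : ℝ) • v) := by
      rw [← Int.cast_smul_eq_zsmul ℝ q.num, smul_smul, smul_smul]
      congr 1
      have h2 : (q : ℝ) * (q.den : ℝ) = (q.num : ℝ) := by exact_mod_cast Rat.mul_den_eq_num q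
      push_cast
      rw [← h2]
      ring
    rw [h1]
    exact Λ.zsmul_mem hv q.num
  have hΛS : (Λ : Set V) ⊆ S := fun v hv => ⟨1, one_pos, by simpa using hv⟩
  let P : Submodule ℝ V :=
    { carrier := closure S
      add_mem' := fun {a b} ha hb => map_mem_closure₂ continuous_add ha hb hSadd
      zero_mem' := subset_closure hS0
      smul_mem' := fun r v hv => by
        have hr : r ∈ closure (Set.range ((↑) : ℚ → ℝ)) := Rat.denseRange_cast r
        refine map_mem_closure₂ continuous_smul hr hv ?_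
        rintro _ ⟨q, rfl⟩ b hb
        exact hSrat q b hb }
  have hP : P = ⊤ := by
    rw [eq_top_iff, ← hspan]
    exact Submodule.span_le.mpr (fun v hv => subset_closure (hΛS hv))
  rw [dense_iff_closure_eq]
  have : (P : Set V) = Set.univ := by rw [hP]; rfl
  exact this

end Groth.Agent.Lib.helper7.SurfNef
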