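import Mathlib
import Groth.Agent.Lib.Helper7.SurfCurves
import Groth.Agent.Lib.Helper7.SurfHodgeA
import Groth.Agent.Lib.Helper7.SurfNefA
import Groth.Agent.Lib.Helper7.NefAmple

/-!
# Curves against ample modules (helper7)

* `intNum_idealMod_ample_neg`: `(I_C · H) < 0` for an integral curve `C` with invertible ideal and `H` ample.
-/

set_option autoImplicit false
set_option linter.unusedSectionVars false
set_option linter.unusedVariables false
set_option linter.style.haveILetI false

universe u

open CategoryTheory Limits AlgebraicGeometry Opposite TopologicalSpace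

namespace Groth.Agent.Lib.helper7.SurfCurves

open Groth.Agent.Lib.helper7.SurfHodge Groth.Agent.Lib.helper7.IntList
  Groth.Agent.Lib.Helper18.NefPull

variable (k : Type u) [Field k] (X : Scheme.{u}) [X.Over (Spec (CommRingCat.of k))]
  [IsProper (X ↘ Spec (CommRingCat.of k))]

theorem P_idealMod_eq_neg_nefq (hd : topologicalKrullDim X ≤ ((2 : ℕ) : WithBot ℕ∞))
    {L : X.Modules} (hL : PicF.IsInvertible L) (C : X.IdealSheafData)
    (hI : PicF.IsInvertible (ClSub.idealMod C)) :
    P k X L (ClSub.idealMod C) = - nefq k X C L := by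
  have h3 := E_ofFn k X 2 hd ![L, ClSub.idealMod C] (Coh.structureModule X)
  have h4 : List.ofFn (![L, ClSub.idealMod C] : Fin 2 → X.Modules) = [L, ClSub.idealMod C] := by
    simp
  rw [h4] at h3
  have h5 : P k X L (ClSub.idealMod C) = E k X [L, ClSub.idealMod C] (Coh.structureModule X) :=
    h3.symm
  rw [h5, Groth.Agent.Lib.helper7.SurfNef.E_pair_idealMod k X L hL C hI]

theorem intNum_idealMod_ample_neg (hd : topologicalKrullDim X ≤ ((2 : ℕ) : WithBot ℕ∞))
    {H : X.Modules} (hH : CohB1.IsAmple H) (C : X.IdealSheafData)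
    (hCi : IsIntegral C.subscheme) (hCd : topologicalKrullDim (C.support : Set X) = 1)
    (hI : PicF.IsInvertible (ClSub.idealMod C)) :
    FGA.intNum k X 2 ![ClSub.idealMod C, H] (Coh.structureModule X) < 0 := by
  have h1 : P k X (ClSub.idealMod C) H = P k X H (ClSub.idealMod C) := P_symm k X hd _ _
  have h2 := P_idealMod_eq_neg_nefq k X hd hH.1 C hI
  have h3 := Groth.Agent.Lib.helper7.NefAmple.nefq_pos_of_isAmple k X hH C hCi hCd
  have h4 : P k X (ClSub.idealMod C) H < 0 := by rw [h1, h2]; linarith
  exact h4

end Groth.Agent.Lib.helper7.SurfCurves
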