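import Mathlib
import Groth.Agent.Lib.Helper7.SurfCartierReg
import Groth.Agent.Lib.Helper7.SurfCurvesB
import Groth.Agent.Lib.Helper7.NumEq1

/-!
# Closed immersions of integral curves into regular surfaces (helper7)

* `isIntegral_ker_subscheme`, `dim_support_ker`: the kernel ideal of a closed immersion of an integral scheme has
  integral subscheme; its support has the dimension of the source.
* `P_idealMod_ker`: `(I_C · L) = − deg (L|_C)` for a closed immersion `C → X` of an integral curve into a regular
  projective surface.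
-/

set_option autoImplicit false
set_option linter.unusedSectionVars false
set_option linter.unusedVariables false
set_option linter.style.haveILetI false

universe u

open CategoryTheory Limits AlgebraicGeometry Opposite TopologicalSpace

namespace Groth.Agent.Lib.helper7.SurfCurveImm

open Groth.Agent.Lib.helper7.SurfHodge Groth.Agent.Lib.Helper18.NefPull

section General

variable {X Y : Scheme.{u}} (ι : Y ⟶ X) [IsClosedImmersion ι]

theorem isIntegral_ker_subscheme [IsIntegral Y] : IsIntegral ι.ker.subscheme := by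
  let φ : Y ⟶ ι.ker.subscheme := ι.toImage
  haveI : IsIso φ := inferInstanceAs (IsIso ι.toImage)
  haveI : Nonempty ι.ker.subscheme := ⟨φ (Nonempty.some inferInstance)⟩
  exact isIntegral_of_isOpenImmersion (inv φ)

theorem dim_support_ker : topologicalKrullDim (ι.ker.support : Set X) = topologicalKrullDim Y := by
  let φ : Y ⟶ ι.ker.subscheme := ι.toImage
  haveI : IsIso φ := inferInstanceAs (IsIso ι.toImage)
  have e1 : Y ≃ₜ ι.ker.subscheme := Scheme.homeoOfIso (asIso φ)
  have e2 : ι.ker.subscheme ≃ₜ ↥(Set.range ι.ker.subschemeι) :=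
    ι.ker.subschemeι.isClosedEmbedding.isEmbedding.toHomeomorph
  rw [← ι.ker.range_subschemeι, ← IsHomeomorph.topologicalKrullDim_eq e2 e2.isHomeomorph,
    ← IsHomeomorph.topologicalKrullDim_eq e1 e1.isHomeomorph]

end General

variable (k : Type u) [Field k] (X : Scheme.{u}) [X.Over (Spec (CommRingCat.of k))]
  [IsProper (X ↘ Spec (CommRingCat.of k))] [IsIntegral X]

/-- `(I_C · L) = − deg (L|_C)` -/
theorem P_idealMod_ker (hdim : topologicalKrullDim X = 2)
    (hreg : ∀ x : X, IsRegularLocalRing (X.presheaf.stalk x))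
    {Y : Scheme.{u}} (ι : Y ⟶ X) [IsClosedImmersion ι] [IsIntegral Y]
    (hY : topologicalKrullDim Y = 1) {L : X.Modules} (hL : PicF.IsInvertible L) :
    PicF.IsInvertible (ClSub.idealMod ι.ker) ∧
    P k X L (ClSub.idealMod ι.ker) =
      - (@Curv2.euler k _ Y ⟨ι ≫ (X ↘ Spec (CommRingCat.of k))⟩
          ((Scheme.Modules.pullback ι).obj L) -
        @Curv2.euler k _ Y ⟨ι ≫ (X ↘ Spec (CommRingCat.of k))⟩ (Coh.structureModule Y)) := by
  have hd : topologicalKrullDim X ≤ ((2 : ℕ) : WithBot ℕ∞) := by rw [hdim]; rfl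
  have hI : PicF.IsInvertible (ClSub.idealMod ι.ker) :=
    Groth.Agent.Lib.helper7.SurfCartier.isInvertible_idealMod_of_curve_of_regular k X hdim hreg
      ι.ker (isIntegral_ker_subscheme ι) (by rw [dim_support_ker ι, hY])
  refine ⟨hI, ?_⟩
  rw [Groth.Agent.Lib.helper7.SurfCurves.P_idealMod_eq_neg_nefq k X hd hL ι.ker hI,
    Groth.Agent.Lib.helper7.NumEq.nefq_ker_eq k X ι hL]

end Groth.Agent.Lib.helper7.SurfCurveImm
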