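import Mathlib
import Groth.Agent.Lib.Helper7.FibreIdeal
import Groth.Agent.Lib.Helper7.SurfCurveImm
import Groth.Agent.Lib.Helper18.GenusZeroPts
import Groth.Agent.Lib.Helper18.CurvePt

/-!
# Section and fibre on a fibred surface (helper7)

`section_fibre`: for `π : X → C` a surjective morphism from a regular proper integral surface onto a regular proper
integral curve over an algebraically closed field, with a section `σ`, and `f` the fibre over a closed point `y`:
`(I_σ · I_f) = 1` and `(I_f · I_f) = 0`.
-/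

set_option autoImplicit false
set_option linter.unusedSectionVars false
set_option linter.unusedVariables false
set_option linter.style.haveILetI false

universe u

open CategoryTheory Limits AlgebraicGeometry Opposite TopologicalSpace

namespace Groth.Agent.Lib.helper7.RuledInt

open Groth.Agent.Lib.helper7.SurfHodge Groth.Agent.Lib.Helper18.NefPull
  Groth.Agent.Lib.helper7.FibreIdeal Groth.Agent.Lib.helper7.PullIdeal

/-- Euler characteristics do not depend on the way the structure morphism is presented -/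
theorem euler_congr_over (k : Type u) [Field k] (Y : Scheme.{u})
    (a b : Y ⟶ Spec (CommRingCat.of k)) (h : a = b) (F : Y.Modules) :
    @Curv2.euler k _ Y ⟨a⟩ F = @Curv2.euler k _ Y ⟨b⟩ F := by
  subst h; rfl

section

variable (k : Type u) [Field k] [IsAlgClosed k] (C : Scheme.{u}) [C.Over (Spec (CommRingCat.of k))]
  [IsProper (C ↘ Spec (CommRingCat.of k))] [IsIntegral C]

/-- the ideal sheaf of a closed point on a regular proper integral curve over an algebraically closed field is
invertible of degree `-1` -/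
theorem point_ideal (hdimC : topologicalKrullDim C = 1)
    (hregC : ∀ x : C, IsRegularLocalRing (C.presheaf.stalk x)) (y : C) (hy : IsClosed ({y} : Set C)) :
    PicF.IsInvertible (ClSub.idealMod (Scheme.IdealSheafData.vanishingIdeal ⟨{y}, hy⟩)) ∧
      Curv2.euler k C (ClSub.idealMod (Scheme.IdealSheafData.vanishingIdeal ⟨{y}, hy⟩)) -
        Curv2.euler k C (Coh.structureModule C) = -1 := by
  have hN := Groth.Agent.Lib.Helper18.GenusZeroPts.isInvertible_idealMod_of_regular k C hdimC hy (hregC y)
  refine ⟨hN, ?_⟩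
  have h1 := Groth.Agent.Lib.Helper18.GenusZeroPts.deg_idealMod_eq_neg k C hdimC.le hy hN
  rw [Groth.Agent.Lib.Helper18.CurvePt.finrank_H0_quotMod_point k C hy] at h1
  unfold Curv2.deg at h1
  simpa using h1

end

variable (k : Type u) [Field k] [IsAlgClosed k] (X : Scheme.{u}) [X.Over (Spec (CommRingCat.of k))]
  [IsProper (X ↘ Spec (CommRingCat.of k))] [IsIntegral X]
  (C : Scheme.{u}) [C.Over (Spec (CommRingCat.of k))]
  [IsProper (C ↘ Spec (CommRingCat.of k))] [IsIntegral C]

theorem section_fibre (hdim : topologicalKrullDim X = 2)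
    (hreg : ∀ x : X, IsRegularLocalRing (X.presheaf.stalk x))
    (hdimC : topologicalKrullDim C = 1)
    (hregC : ∀ x : C, IsRegularLocalRing (C.presheaf.stalk x))
    (π : X ⟶ C) (hπ : π ≫ (C ↘ Spec (CommRingCat.of k)) = (X ↘ Spec (CommRingCat.of k)))
    (hsurj : Function.Surjective π) (σ : C ⟶ X) (hσ : σ ≫ π = 𝟙 C)
    (y : C) (hy : IsClosed ({y} : Set C)) :
    P k X (ClSub.idealMod σ.ker)
        (ClSub.idealMod ((Scheme.IdealSheafData.vanishingIdeal ⟨{y}, hy⟩).comap π)) = 1 ∧
      P k X (ClSub.idealMod ((Scheme.IdealSheafData.vanishingIdeal ⟨{y}, hy⟩).comap π))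
        (ClSub.idealMod ((Scheme.IdealSheafData.vanishingIdeal ⟨{y}, hy⟩).comap π)) = 0 := by
  have hd : topologicalKrullDim X ≤ ((2 : ℕ) : WithBot ℕ∞) := by rw [hdim]; rfl
  set I := Scheme.IdealSheafData.vanishingIdeal ⟨{y}, hy⟩ with hIdef
  obtain ⟨hN, hdegN⟩ := point_ideal k C hdimC hregC y hy
  -- the inverse image ideal is invertible
  obtain ⟨x₀, hx₀⟩ := hsurj (genericPoint C)
  have hgen : y ≠ genericPoint C :=
    Groth.Agent.Lib.Helper18.CurvePt.ne_genericPoint_of_isClosed hdimC hy
  have hsuppI : (I.support : Set C) = {y} :=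
    Scheme.IdealSheafData.coe_support_vanishingIdeal _
  have hx₀' : π x₀ ∉ (I.support : Set C) := by
    rw [hsuppI, hx₀]
    exact fun h => hgen h.symm
  have hJ : PicF.IsInvertible (ClSub.idealMod (I.comap π)) :=
    isInvertible_idealMod_comap π I hN x₀ hx₀'
  let eJ : (Scheme.Modules.pullback π).obj (ClSub.idealMod I) ≅ ClSub.idealMod (I.comap π) :=
    pullIdealIso π I hN hJ
  constructor
  · -- `(I_σ · I_f) = 1`
    haveI : IsSeparated π := by
      haveI : IsSeparated (π ≫ (C ↘ Spec (CommRingCat.of k))) := by rw [hπ]; infer_instance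
      exact IsSeparated.of_comp π (C ↘ Spec (CommRingCat.of k))
    haveI : IsClosedImmersion σ := by
      haveI : IsClosedImmersion (σ ≫ π) := by rw [hσ]; infer_instance
      exact IsClosedImmersion.of_comp σ π
    obtain ⟨hσinv, hP⟩ := Groth.Agent.Lib.helper7.SurfCurveImm.P_idealMod_ker k X hdim hreg σ hdimC hJ
    rw [P_symm k X hd, hP]
    have hstr : σ ≫ (X ↘ Spec (CommRingCat.of k)) = (C ↘ Spec (CommRingCat.of k)) := by
      rw [← hπ, ← Category.assoc, hσ, Category.id_comp]
    have e1 : (Scheme.Modules.pullback σ).obj (ClSub.idealMod (I.comap π)) ≅ ClSub.idealMod I :=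
      (Scheme.Modules.pullback σ).mapIso eJ.symm ≪≫ pullbackSectionIso σ π hσ (ClSub.idealMod I)
    have hE1 : @Curv2.euler k _ C ⟨σ ≫ (X ↘ Spec (CommRingCat.of k))⟩
        ((Scheme.Modules.pullback σ).obj (ClSub.idealMod (I.comap π))) =
        Curv2.euler k C (ClSub.idealMod I) := by
      rw [euler_congr_over k C _ _ hstr]
      exact Groth.Agent.Lib.Lead.CurveEuler.euler_eq_of_iso k C e1
    have hE2 : @Curv2.euler k _ C ⟨σ ≫ (X ↘ Spec (CommRingCat.of k))⟩ (Coh.structureModule C) =
        Curv2.euler k C (Coh.structureModule C) := euler_congr_over k C _ _ hstr _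
    rw [hE1, hE2, hdegN]
    norm_num
  · -- `(I_f · I_f) = 0`
    rw [Groth.Agent.Lib.helper7.SurfCurves.P_idealMod_eq_neg_nefq k X hd hJ (I.comap π) hJ,
      nefq_eq_deg k X (I.comap π) _
        (Groth.Agent.Lib.helper16.FLF.isFinLocFree_of_isInvertible hJ)]
    haveI : Nonempty ↥I.subscheme := by
      have hy' : y ∈ Set.range I.subschemeι := by
        rw [I.range_subschemeι, hsuppI]; rfl
      obtain ⟨z, -⟩ := hy'
      exact ⟨z⟩
    haveI : Subsingleton ↥I.subscheme := by
      refine ⟨fun a b => ?_⟩
      apply I.subschemeι.isClosedEmbedding.injective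
      have ha : I.subschemeι a ∈ Set.range I.subschemeι := ⟨a, rfl⟩
      have hb : I.subschemeι b ∈ Set.range I.subschemeι := ⟨b, rfl⟩
      rw [I.range_subschemeι, hsuppI] at ha hb
      rw [Set.mem_singleton_iff] at ha hb
      rw [ha, hb]
    obtain ⟨e2⟩ := nonempty_pullback_iso_structureModule_of_factor
      ((I.comap π).subschemeι ≫ π) ((I.comapIso π).hom ≫ pullback.snd π I.subschemeι)
      I.subschemeι (comap_comm π I) hN
    let e3 : (Scheme.Modules.pullback (I.comap π).subschemeι).obj (ClSub.idealMod (I.comap π)) ≅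
        Coh.structureModule (I.comap π).subscheme :=
      (Scheme.Modules.pullback (I.comap π).subschemeι).mapIso eJ.symm ≪≫
        pullbackPullbackIso (I.comap π).subschemeι π (ClSub.idealMod I) ≪≫ e2
    letI : (I.comap π).subscheme.Over (Spec (CommRingCat.of k)) :=
      ⟨(I.comap π).subschemeι ≫ (X ↘ Spec (CommRingCat.of k))⟩
    rw [Groth.Agent.Lib.Lead.CurveEuler.deg_eq_of_iso k (I.comap π).subscheme e3 1,
      Groth.Agent.Lib.Lead.CurveEuler.deg_structureModule k (I.comap π).subscheme]
    rfl

end Groth.Agent.Lib.helper7.RuledInt
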