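import Mathlib
import Groth.Agent.Lib.Helper7.RuledInt
import Groth.Agent.Lib.Helper4.ClosureProper

/-!
# Fibres of a morphism from a regular surface onto a regular curve (helper7)

`fibreCurve`: let `p : S ⟶ C` be a morphism from a regular proper integral surface to a regular proper integral curve
over an algebraically closed field `k`, `c` a `k`-point of `C`, and `i : D ⟶ S` the fibre over `c`, assumed to be an
integral curve.  Then `I_D` is invertible, `(I_D · I_{D'}) = 0` for every integral curve `D'` contracted by `p` to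
`c`, and `(I_D · I_σ) = 1` for every section `σ` of `p`.
-/

set_option autoImplicit false
set_option linter.unusedSectionVars false
set_option linter.unusedVariables false
set_option linter.style.haveILetI false

universe u

open CategoryTheory Limits AlgebraicGeometry Opposite TopologicalSpace

namespace Groth.Agent.Lib.helper7.CastSev

open Groth.Agent.Lib.helper7.SurfHodge Groth.Agent.Lib.Helper18.NefPull
  Groth.Agent.Lib.helper7.FibreIdeal Groth.Agent.Lib.helper7.PullIdeal
  Groth.Agent.Lib.helper7.RuledInt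

/-- the kernel of a closed immersion of the spectrum of a field is the ideal sheaf of the image point -/
theorem ker_point (k : Type u) [Field k] {C : Scheme.{u}} (c : Spec (CommRingCat.of k) ⟶ C)
    [IsClosedImmersion c] :
    ∃ (y : C) (hy : IsClosed ({y} : Set C)),
      c.ker = Scheme.IdealSheafData.vanishingIdeal ⟨{y}, hy⟩ := by
  let pt : Spec (CommRingCat.of k) := Classical.arbitrary _
  have hrange : Set.range c = {c pt} := by
    ext z
    constructor
    · rintro ⟨w, rfl⟩
      rw [Subsingleton.elim (α := PrimeSpectrum k) w pt]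
      rfl
    · rintro rfl
      exact ⟨pt, rfl⟩
  have hcl : IsClosed ({c pt} : Set C) := by
    rw [← hrange]; exact c.isClosedEmbedding.isClosed_range
  refine ⟨c pt, hcl, ?_⟩
  haveI : IsIntegral c.ker.subscheme :=
    Groth.Agent.Lib.helper7.SurfCurveImm.isIntegral_ker_subscheme c
  haveI := Groth.Agent.Lib.helper4.ClosureProper.isReduced_subscheme_vanishingIdeal
    (⟨{c pt}, hcl⟩ : Closeds C)
  apply Groth.Agent.Lib.helper7.SurfCurves.eq_of_support_eq
  apply SetLike.coe_injective
  rw [Scheme.Hom.support_ker, Scheme.IdealSheafData.coe_support_vanishingIdeal, hrange]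
  exact hcl.closure_eq

variable (k : Type u) [Field k] [IsAlgClosed k] (S : Scheme.{u}) [S.Over (Spec (CommRingCat.of k))]
  [IsProper (S ↘ Spec (CommRingCat.of k))] [IsIntegral S]
  (C : Scheme.{u}) [C.Over (Spec (CommRingCat.of k))]
  [IsProper (C ↘ Spec (CommRingCat.of k))] [IsIntegral C]

theorem fibreCurve (hdim : topologicalKrullDim S = 2)
    (hreg : ∀ x : S, IsRegularLocalRing (S.presheaf.stalk x))
    (hdimC : topologicalKrullDim C = 1)
    (hregC : ∀ x : C, IsRegularLocalRing (C.presheaf.stalk x))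
    (p : S ⟶ C) (c : Spec (CommRingCat.of k) ⟶ C)
    (hc : c ≫ (C ↘ Spec (CommRingCat.of k)) = 𝟙 _)
    {D : Scheme.{u}} [IsIntegral D] (hD : topologicalKrullDim D = 1) (i : D ⟶ S)
    [IsClosedImmersion i] (q : D ⟶ Spec (CommRingCat.of k)) (hpb : IsPullback i q p c) :
    PicF.IsInvertible (ClSub.idealMod i.ker) ∧
    (∀ {D' : Scheme.{u}} [IsIntegral D'] (hD' : topologicalKrullDim D' = 1) (j : D' ⟶ S)
      [IsClosedImmersion j] (a : D' ⟶ Spec (CommRingCat.of k)), j ≫ p = a ≫ c →
      P k S (ClSub.idealMod i.ker) (ClSub.idealMod j.ker) = 0) ∧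
    (∀ (j : C ⟶ S) [IsClosedImmersion j], j ≫ p = 𝟙 C →
      j ≫ (S ↘ Spec (CommRingCat.of k)) = (C ↘ Spec (CommRingCat.of k)) →
      P k S (ClSub.idealMod i.ker) (ClSub.idealMod j.ker) = 1) := by
  haveI : IsClosedImmersion c := by
    haveI : IsClosedImmersion (c ≫ (C ↘ Spec (CommRingCat.of k))) := by rw [hc]; infer_instance
    exact IsClosedImmersion.of_comp c (C ↘ Spec (CommRingCat.of k))
  obtain ⟨y, hy, hker⟩ := ker_point k c
  obtain ⟨hN, hdegN⟩ := point_ideal k C hdimC hregC y hy
  rw [← hker] at hN hdegN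
  have hJ : PicF.IsInvertible (ClSub.idealMod i.ker) :=
    (Groth.Agent.Lib.helper7.SurfCurveImm.P_idealMod_ker k S hdim hreg i hD
      (Groth.Agent.Lib.helper11.InvMod.isInvertible_structureModule S)).1
  have hK : i.ker = c.ker.comap p := ker_eq_comap_of_isPullback i q p c hpb
  let eJ : (Scheme.Modules.pullback p).obj (ClSub.idealMod c.ker) ≅ ClSub.idealMod i.ker :=
    pullbackIdealIso p c.ker i.ker hK hN hJ
  refine ⟨hJ, ?_, ?_⟩
  · intro D' _ hD' j _ a hja
    obtain ⟨-, hP⟩ := Groth.Agent.Lib.helper7.SurfCurveImm.P_idealMod_ker k S hdim hreg j hD' hJ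
    rw [hP]
    obtain ⟨e2⟩ := nonempty_pullback_iso_structureModule_of_factor (j ≫ p) a c hja hN
    let e3 : (Scheme.Modules.pullback j).obj (ClSub.idealMod i.ker) ≅ Coh.structureModule D' :=
      (Scheme.Modules.pullback j).mapIso eJ.symm ≪≫
        pullbackPullbackIso j p (ClSub.idealMod c.ker) ≪≫ e2
    letI : D'.Over (Spec (CommRingCat.of k)) := ⟨j ≫ (S ↘ Spec (CommRingCat.of k))⟩
    rw [Groth.Agent.Lib.Lead.CurveEuler.euler_eq_of_iso k D' e3]
    simp
  · intro j _ hjp hjs
    obtain ⟨-, hP⟩ := Groth.Agent.Lib.helper7.SurfCurveImm.P_idealMod_ker k S hdim hreg j hdimC hJ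
    rw [hP]
    have e1 : (Scheme.Modules.pullback j).obj (ClSub.idealMod i.ker) ≅ ClSub.idealMod c.ker :=
      (Scheme.Modules.pullback j).mapIso eJ.symm ≪≫ pullbackSectionIso j p hjp (ClSub.idealMod c.ker)
    have hE1 : @Curv2.euler k _ C ⟨j ≫ (S ↘ Spec (CommRingCat.of k))⟩
        ((Scheme.Modules.pullback j).obj (ClSub.idealMod i.ker)) =
        Curv2.euler k C (ClSub.idealMod c.ker) := by
      rw [euler_congr_over k C _ _ hjs]
      exact Groth.Agent.Lib.Lead.CurveEuler.euler_eq_of_iso k C e1
    have hE2 : @Curv2.euler k _ C ⟨j ≫ (S ↘ Spec (CommRingCat.of k))⟩ (Coh.structureModule C) =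
        Curv2.euler k C (Coh.structureModule C) := euler_congr_over k C _ _ hjs _
    rw [hE1, hE2, hdegN]
    norm_num

end Groth.Agent.Lib.helper7.CastSev
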