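import Mathlib
import Groth.Agent.Lib.Helper3.GrpIrr
import Groth.Agent.Lib.Helper3.IrredDim
import Groth.Agent.Lib.Helper5.FlatLocalDimAdd
import Groth.Agent.Lib.Helper5.DimSupLocalDim
import Groth.Agent.Lib.Helper14.AbVarComm
import Groth.Agent.Lib.Helper18.CurveProj
import Groth.Agent.Lib.Helper12.ExtTensor

/-!
# Products of two proper smooth curves over an algebraically closed field (helper7)

integrality, dimension two and existence of an ample invertible module.
-/

set_option autoImplicit false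
set_option linter.unusedSectionVars false
set_option linter.unusedVariables false
set_option linter.style.haveILetI false

universe u

open CategoryTheory Limits AlgebraicGeometry Opposite TopologicalSpace

namespace Groth.Agent.Lib.helper7.ProdCurves

variable (k : Type u) [Field k] [IsAlgClosed k] {C₁ C₂ : Scheme.{u}}
  (f₁ : C₁ ⟶ Spec (CommRingCat.of k)) (f₂ : C₂ ⟶ Spec (CommRingCat.of k))

theorem irreducibleSpace_pullback [IrreducibleSpace C₁] [IrreducibleSpace C₂] :
    IrreducibleSpace ↥(pullback f₁ f₂) := by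
  have := Groth.Agent.Lib.helper3.GrpIrr.geometricallyIrreducible_of_isAlgClosed f₁
  have hu : UniversallyOpen f₁ := inferInstance
  infer_instance

theorem isIntegral_pullback [Smooth f₁] [Smooth f₂] [QuasiCompact f₁] [QuasiCompact f₂]
    [IrreducibleSpace C₁] [IrreducibleSpace C₂] : IsIntegral (pullback f₁ f₂) := by
  haveI := irreducibleSpace_pullback k f₁ f₂
  haveI : ConnectedSpace ↥(pullback f₁ f₂) := inferInstance
  exact Groth.Agent.Lib.Helper14.AbVarComm.isIntegral_of_smooth_connected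
    (pullback.fst f₁ f₂ ≫ f₁)

theorem dim_pullback [LocallyOfFiniteType f₁] [LocallyOfFiniteType f₂]
    [IrreducibleSpace C₁] [IrreducibleSpace C₂] (d₁ d₂ : ℕ)
    (h₁ : topologicalKrullDim C₁ = (d₁ : WithBot ℕ∞)) (h₂ : topologicalKrullDim C₂ = (d₂ : WithBot ℕ∞)) :
    topologicalKrullDim ↥(pullback f₁ f₂) = ((d₁ + d₂ : ℕ) : WithBot ℕ∞) := by
  letI : C₁.Over (Spec (CommRingCat.of k)) := ⟨f₁⟩
  letI : C₂.Over (Spec (CommRingCat.of k)) := ⟨f₂⟩
  haveI : LocallyOfFiniteType (C₁ ↘ Spec (CommRingCat.of k)) := ‹LocallyOfFiniteType f₁›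
  haveI : LocallyOfFiniteType (C₂ ↘ Spec (CommRingCat.of k)) := ‹LocallyOfFiniteType f₂›
  obtain ⟨e₁, he₁, hl₁⟩ := Groth.Agent.Lib.helper3.IrredDim.exists_dim_eq_localDim_of_irreducible k C₁
  obtain ⟨e₂, he₂, hl₂⟩ := Groth.Agent.Lib.helper3.IrredDim.exists_dim_eq_localDim_of_irreducible k C₂
  have hd₁ : e₁ = d₁ := by
    rw [h₁] at he₁; exact_mod_cast he₁.symm
  have hd₂ : e₂ = d₂ := by
    rw [h₂] at he₂; exact_mod_cast he₂.symm
  subst hd₁ hd₂
  haveI := irreducibleSpace_pullback k f₁ f₂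
  rw [Groth.Agent.Lib.helper5.FieldBC.dim_eq_iSup_localDim]
  have hall : ∀ t : ↥(pullback f₁ f₂), FlatMor.localDim ↥(pullback f₁ f₂) t =
      ((e₁ + e₂ : ℕ) : WithBot ℕ∞) := by
    intro t
    rw [Groth.Agent.Lib.helper5.FieldBC.localDim_pullback_eq_add k f₁ f₂ t, hl₁, hl₂]
    push_cast
    rfl
  haveI : Nonempty ↥(pullback f₁ f₂) := inferInstance
  simp only [hall]
  exact ciSup_const

theorem exists_isAmple_pullback [IsProper f₁] [IsProper f₂]
    (h₁ : topologicalKrullDim C₁ ≤ 1) (h₂ : topologicalKrullDim C₂ ≤ 1) :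
    ∃ H : (pullback f₁ f₂).Modules, CohB1.IsAmple H := by
  letI : C₁.Over (Spec (CommRingCat.of k)) := ⟨f₁⟩
  letI : C₂.Over (Spec (CommRingCat.of k)) := ⟨f₂⟩
  haveI : IsProper (C₁ ↘ Spec (CommRingCat.of k)) := ‹IsProper f₁›
  haveI : IsProper (C₂ ↘ Spec (CommRingCat.of k)) := ‹IsProper f₂›
  obtain ⟨L₁, hL₁⟩ := Groth.Agent.Lib.Helper18.CurveProj.exists_isAmple k C₁ h₁
  obtain ⟨L₂, hL₂⟩ := Groth.Agent.Lib.Helper18.CurveProj.exists_isAmple k C₂ h₂
  exact ⟨_, Groth.Agent.Lib.helper12.ExtTensor.isAmple_externalTensor f₁ f₂ hL₁ hL₂⟩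

end Groth.Agent.Lib.helper7.ProdCurves
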