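import Mathlib
import Groth.Agent.Lib.Helper7.SnapperNewton
import Groth.Agent.Lib.Helper12.PullAmple
import Groth.Agent.Lib.Helper20.TwistEquivPn
import Groth.Agent.Lib.Helper19.ProjSpaceProper
import Groth.Prelude.Def_Pic13

/-!
# Hilbert coefficients and intersection numbers (helper7)

* `hockey`, `coeff_unique`, `coeffs_eq`: the two binomial bases `C(m+i-1,i)` and `C(m+j,j)`
* `invIso`, `powIso`, `twistOnIso`: `i^*O(1) ⊗ i^*O(-1) ≅ O`, `i^*O(m) ≅ (i^*O(1))^m`,
  `F(m) ≅ (i^*O(1))^m ⊗ F`
* `euler_twistOn`: `χ(F(m)) = Σ_i C(m+i-1,i) ∫ c_1(O(1))^i F`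
* `hilbertCoeff_top` : the statement of S5644
-/

set_option autoImplicit false
set_option linter.unusedSectionVars false
set_option linter.style.haveILetI false
universe u

open CategoryTheory CategoryTheory.Limits AlgebraicGeometry Opposite TopologicalSpace

namespace Groth.Agent.Lib.helper7.SnapperHilb

open Groth.Agent.Lib.helper7.SnapperDiff Groth.Agent.Lib.helper7.SnapperMain
open Groth.Agent.Lib.helper7.SnapperSplit Groth.Agent.Lib.helper7.SnapperNewton
open Groth.Agent.Lib.Lead.ModTensor

section Comb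

/-- hockey stick identity -/
theorem hockey (m : ℕ) : ∀ j : ℕ,
    ((m + j).choose j : ℤ) = ∑ i ∈ Finset.range (j + 1), ((m + i - 1).choose i : ℤ)
  | 0 => by simp
  | j + 1 => by
    rw [Finset.sum_range_succ, ← hockey m j]
    have h1 : m + (j + 1) - 1 = m + j := by omega
    have h2 : (m + (j + 1)).choose (j + 1) = (m + j).choose j + (m + j).choose (j + 1) := by
      rw [← add_assoc, Nat.choose_succ_succ]
    rw [h1, h2]
    push_cast
    ring

/-- the functions `m ↦ C(m+i,i)`, `i ≤ r`, are linearly independent on every final segment -/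
theorem coeff_unique : ∀ (r : ℕ) (c : ℕ → ℤ) (N : ℕ),
    (∀ m, N ≤ m → ∑ i ∈ Finset.range (r + 1), ((m + i).choose i : ℤ) * c i = 0) →
      ∀ i, i ≤ r → c i = 0
  | 0, c, N, h => by
    intro i hi
    have h0 := h N le_rfl
    simp only [zero_add, Finset.range_one, Finset.sum_singleton, add_zero, Nat.choose_zero_right,
      Nat.cast_one, one_mul] at h0
    have : i = 0 := by omega
    rw [this]; exact h0
  | r + 1, c, N, h => by
    have hstep : ∀ m, N + 1 ≤ m →
        ∑ i ∈ Finset.range (r + 1), ((m + i).choose i : ℤ) * c (i + 1) = 0 := by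
      intro m hm
      obtain ⟨m', rfl⟩ : ∃ m', m = m' + 1 := ⟨m - 1, by omega⟩
      have h1 := h (m' + 1) (by omega)
      have h2 := h m' (by omega)
      rw [Finset.sum_range_succ'] at h1 h2
      have h3 : ∑ i ∈ Finset.range (r + 1), ((m' + 1 + i).choose i : ℤ) * c (i + 1) =
          (∑ i ∈ Finset.range (r + 1), ((m' + 1 + (i + 1)).choose (i + 1) : ℤ) * c (i + 1) +
            ((m' + 1 + 0).choose 0 : ℤ) * c 0) -
          (∑ i ∈ Finset.range (r + 1), ((m' + (i + 1)).choose (i + 1) : ℤ) * c (i + 1) +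
            ((m' + 0).choose 0 : ℤ) * c 0) := by
        simp only [Nat.choose_zero_right, Nat.cast_one, one_mul, add_sub_add_right_eq_sub]
        rw [← Finset.sum_sub_distrib]
        apply Finset.sum_congr rfl
        intro i _
        have hp : (m' + 1 + (i + 1)).choose (i + 1) =
            (m' + 1 + i).choose i + (m' + (i + 1)).choose (i + 1) := by
          have : m' + 1 + (i + 1) = (m' + 1 + i) + 1 := by omega
          rw [this, Nat.choose_succ_succ]
          congr 2
          omega
        rw [hp]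
        push_cast
        ring
      rw [h3, h1, h2, sub_zero]
    have ih := coeff_unique r (fun i => c (i + 1)) (N + 1) hstep
    intro i hi
    rcases Nat.eq_zero_or_pos i with rfl | hpos
    · have h0 := h N le_rfl
      rw [Finset.sum_range_succ', Finset.sum_eq_zero, zero_add] at h0
      · simpa using h0
      · intro j hj
        rw [ih j (by have := Finset.mem_range.mp hj; omega), mul_zero]
    · obtain ⟨i', rfl⟩ : ∃ i', i = i' + 1 := ⟨i - 1, by omega⟩
      exact ih i' (by omega)

/-- comparison of the coefficients in the two binomial bases -/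
theorem coeffs_eq (r : ℕ) (a b : ℕ → ℤ)
    (h : ∀ m : ℕ, ∑ i ∈ Finset.range (r + 1), ((m + i - 1).choose i : ℤ) * b i =
      ∑ j ∈ Finset.range (r + 1), a j * ((m + j).choose j : ℤ)) :
    ∀ i, i ≤ r → b i = ∑ j ∈ Finset.range (r + 1), if i ≤ j then a j else 0 := by
  have key : ∀ m : ℕ, ∑ j ∈ Finset.range (r + 1), a j * ((m + j).choose j : ℤ) =
      ∑ i ∈ Finset.range (r + 1), ((m + i - 1).choose i : ℤ) *
        ∑ j ∈ Finset.range (r + 1), if i ≤ j then a j else 0 := by
    intro m
    have h1 : ∀ j ∈ Finset.range (r + 1), a j * ((m + j).choose j : ℤ) =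
        ∑ i ∈ Finset.range (r + 1), if i ≤ j then ((m + i - 1).choose i : ℤ) * a j else 0 := by
      intro j hj
      rw [hockey m j, Finset.mul_sum, ← Finset.sum_filter]
      have hf : (Finset.range (r + 1)).filter (fun i => i ≤ j) = Finset.range (j + 1) := by
        ext i
        have := Finset.mem_range.mp hj
        simp only [Finset.mem_filter, Finset.mem_range]
        omega
      rw [hf]
      apply Finset.sum_congr rfl
      intro i _
      ring
    rw [Finset.sum_congr rfl h1, Finset.sum_comm]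
    apply Finset.sum_congr rfl
    intro i _
    rw [Finset.mul_sum]
    apply Finset.sum_congr rfl
    intro j _
    split_ifs
    · rfl
    · rw [mul_zero]
  have hz := coeff_unique r
    (fun i => b i - ∑ j ∈ Finset.range (r + 1), if i ≤ j then a j else 0) 0 (by
      intro m _
      have hm := h (m + 1)
      rw [key (m + 1)] at hm
      have : ∀ i, m + 1 + i - 1 = m + i := by intro i; omega
      simp only [this] at hm
      simp only [mul_sub]
      rw [Finset.sum_sub_distrib, hm, sub_self])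
  intro i hi
  have := hz i hi
  exact sub_eq_zero.mp this

theorem coeffs_eq_top (r : ℕ) (a b : ℕ → ℤ)
    (h : ∀ m : ℕ, ∑ i ∈ Finset.range (r + 1), ((m + i - 1).choose i : ℤ) * b i =
      ∑ j ∈ Finset.range (r + 1), a j * ((m + j).choose j : ℤ)) :
    b r = a r := by
  rw [coeffs_eq r a b h r le_rfl, Finset.sum_range_succ, Finset.sum_eq_zero, zero_add, if_pos le_rfl]
  intro j hj
  rw [if_neg]
  have := Finset.mem_range.mp hj
  omega

theorem coeffs_eq_subtop (r : ℕ) (a b : ℕ → ℤ)
    (h : ∀ m : ℕ, ∑ i ∈ Finset.range (r + 2), ((m + i - 1).choose i : ℤ) * b i =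
      ∑ j ∈ Finset.range (r + 2), a j * ((m + j).choose j : ℤ)) :
    b r = a r + a (r + 1) := by
  rw [coeffs_eq (r + 1) a b h r (by omega), Finset.sum_range_succ, Finset.sum_range_succ,
    Finset.sum_eq_zero, zero_add, if_pos le_rfl, if_pos (by omega)]
  intro j hj
  rw [if_neg]
  have := Finset.mem_range.mp hj
  omega

end Comb

section Geom

open Groth.Agent.Lib.helper12.PullTensor Groth.Agent.Lib.helper12.PullAmple
open Groth.Agent.Lib.helper11.InvMod Groth.Agent.Lib.helper28

variable (k : Type u) [Field k] {n : ℕ} {X : Scheme.{u}} (i : X ⟶ CohB1.ProjSpace n k)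

/-- `i^* O(1)` -/
noncomputable abbrev O1 : X.Modules :=
  (Scheme.Modules.pullback i).obj (Twist.twistProjSpace n k 1)

/-- `i^* O(-1)` -/
noncomputable abbrev Om1 : X.Modules :=
  (Scheme.Modules.pullback i).obj (Twist.twistProjSpace n k (-1))

theorem isInvertible_O1 : PicF.IsInvertible (O1 k i) :=
  isInvertible_pullback i (TwistPn.isInvertible n k 1)

theorem isInvertible_Om1 : PicF.IsInvertible (Om1 k i) :=
  isInvertible_pullback i (TwistPn.isInvertible n k (-1))

/-- `i^*O(1) ⊗ i^*O(-1) ≅ O_X` -/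
noncomputable def invIso : CohB1.tensorMod (O1 k i) (Om1 k i) ≅ Coh.structureModule X :=
  (pullTensorIso i _ _ (TwistPn.isInvertible n k (-1))).symm ≪≫
    (Scheme.Modules.pullback i).mapIso (Groth.Agent.Lib.Helper20.TwistEquivPn.invIso n k 1) ≪≫
    pullbackUnitIso i

/-- `i^*O(m) ≅ (i^*O(1))^{⊗ m}` -/
noncomputable def powIso (m : ℕ) :
    (Scheme.Modules.pullback i).obj (Twist.twistProjSpace n k (m : ℤ)) ≅
      CohB1.tensorPow (O1 k i) m :=
  (Scheme.Modules.pullback i).mapIso (TwistPn.powIso n k m) ≪≫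
    pullTensorPowIso i (TwistPn.isInvertible n k 1) m

/-- `F(m) ≅ (i^*O(1))^{⊗ m} ⊗ F` -/
noncomputable def twistOnIso (F : X.Modules) (m : ℕ) :
    Pic13.twistOn k i F (m : ℤ) ≅ CohB1.tensorMod (CohB1.tensorPow (O1 k i) m) F :=
  tensorIso (Iso.refl F) (powIso k i m) ≪≫ braid _ _

end Geom

section Main

variable (k : Type u) [Field k] {n : ℕ} (X : Scheme.{u}) [X.Over (Spec (CommRingCat.of k))]
  [IsProper (X ↘ Spec (CommRingCat.of k))] (i : X ⟶ CohB1.ProjSpace n k)

/-- `χ(F(m)) = Σ_i C(m+i-1,i) ∫ c_1(O(1))^i F` -/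
theorem euler_twistOn (d : ℕ) (hd : topologicalKrullDim X ≤ d) (F : X.Modules) (hF : Coh.IsCoh F)
    (r : ℕ) (hr : topologicalKrullDim (CohB1.support F) ≤ r) (m : ℕ) :
    FGA.eulerCharLE k X (Pic13.twistOn k i F (m : ℤ)) d =
      ∑ j ∈ Finset.range (r + 1), ((m + j - 1).choose j : ℤ) * D k X d (Om1 k i) j F := by
  rw [eulerCharLE_eq k X d hd,
    Groth.Agent.Lib.Lead.CurveEuler.euler_eq_of_iso k X (twistOnIso k i F m)]
  exact newton k X d hd (O1 k i) (Om1 k i) (isInvertible_O1 k i) ⟨invIso k i⟩ r m F hF hr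

theorem dim_support_le (d : ℕ) (hd : topologicalKrullDim X ≤ d) (F : X.Modules) :
    topologicalKrullDim (CohB1.support F) ≤ d := by
  have h1 := Groth.Agent.Lib.helper8.DimLt.topologicalKrullDim_le_of_subset
    (Set.subset_univ (CohB1.support F))
  have h2 : topologicalKrullDim ↥(Set.univ : Set X) = topologicalKrullDim X :=
    (Homeomorph.Set.univ X).isHomeomorph.topologicalKrullDim_eq
  rw [h2] at h1
  exact h1.trans hd

/-- `∫ c(A) c(M)^j F = ∫ c(M)^j F - ∫ c(M)^j (F ⊗ A)` -/
theorem intNum_cons_const (d : ℕ) (hd : topologicalKrullDim X ≤ d) (A M : X.Modules) (j : ℕ)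
    (F : X.Modules) :
    FGA.intNum k X d (Fin.cons A (fun _ : Fin j => M) : Fin (j + 1) → X.Modules) F =
      D k X d M j F - D k X d M j (CohB1.tensorMod F A) :=
  intNum_cons k X d hd A (fun _ : Fin j => M) F

end Main

section S5644

variable (k : Type u) [Field k] (n : ℕ) (X : Scheme.{u}) [X.Over (Spec (CommRingCat.of k))]
  (i : X ⟶ CohB1.ProjSpace n k) [IsClosedImmersion i]

theorem isProper_of_closedImmersion
    (hi : i ≫ CohB1.ProjSpace.toSpec n k = X ↘ Spec (CommRingCat.of k)) :
    IsProper (X ↘ Spec (CommRingCat.of k)) := by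
  rw [← hi]
  infer_instance

/-- **S5644** -/
theorem hilbertCoeff_top
    (hi : i ≫ CohB1.ProjSpace.toSpec n k = X ↘ Spec (CommRingCat.of k))
    (s : ℕ) (hdim : topologicalKrullDim X = (s + 1 : ℕ))
    (L L' : X.Modules) (hL : PicF.IsInvertible L)
    (hLL' : Nonempty (CohB1.tensorMod L L' ≅ Coh.structureModule X))
    (a e : Fin (s + 2) → ℤ)
    (ha : ∀ m : ℕ, FGA.eulerCharLE k X (Pic13.twistOn k i L m) (s + 1) =
      ∑ j : Fin (s + 2), a j * ((m + j).choose j : ℤ))
    (he : ∀ m : ℕ, FGA.eulerCharLE k X (Pic13.twistOn k i (Coh.structureModule X) m) (s + 1) =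
      ∑ j : Fin (s + 2), e j * ((m + j).choose j : ℤ)) :
    a (Fin.last (s + 1)) = e (Fin.last (s + 1)) ∧
      a (Fin.last (s + 1)) = FGA.intNum k X (s + 1)
        (fun _ : Fin (s + 1) => (Scheme.Modules.pullback i).obj (Twist.twistProjSpace n k (-1)))
        (Coh.structureModule X) ∧
      a (Fin.castSucc (Fin.last s)) - e (Fin.castSucc (Fin.last s)) = FGA.intNum k X (s + 1)
        (Matrix.vecCons L' (fun _ : Fin s =>
          (Scheme.Modules.pullback i).obj (Twist.twistProjSpace n k (-1))))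
        (Coh.structureModule X) := by
  haveI : IsProper (X ↘ Spec (CommRingCat.of k)) := isProper_of_closedImmersion k n X i hi
  haveI := Groth.Agent.Lib.Lead.CurveEuler.isNoetherian k X
  have hd : topologicalKrullDim X ≤ ((s + 1 : ℕ) : WithBot ℕ∞) := hdim.le
  have hL' : PicF.IsInvertible L' :=
    Groth.Agent.Lib.helper11.AmpleAffine.isInvertible_of_isInverseOf hL hLL'
  have hLc : Coh.IsCoh L := Groth.Agent.Lib.Lead.CurveInv.isCoh_of_isInvertible X hL
  have hL'c : Coh.IsCoh L' := Groth.Agent.Lib.Lead.CurveInv.isCoh_of_isInvertible X hL'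
  have hOc : Coh.IsCoh (Coh.structureModule X) :=
    Groth.Agent.Lib.helper8.Dev.isCoh_structureModule X
  obtain ⟨ε⟩ := hLL'
  set M := Om1 k i with hMdef
  have hM : PicF.IsInvertible M := isInvertible_Om1 k i
  -- extend `a`, `e` to functions on `ℕ`
  let a' : ℕ → ℤ := fun j => if h : j < s + 2 then a ⟨j, h⟩ else 0
  let e' : ℕ → ℤ := fun j => if h : j < s + 2 then e ⟨j, h⟩ else 0
  have hsum : ∀ (c : Fin (s + 2) → ℤ) (m : ℕ),
      ∑ j : Fin (s + 2), c j * ((m + j).choose j : ℤ) =
        ∑ j ∈ Finset.range (s + 1 + 1),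
          (fun j => if h : j < s + 2 then c ⟨j, h⟩ else 0) j * ((m + j).choose j : ℤ) := by
    intro c m
    rw [← Fin.sum_univ_eq_sum_range
      (fun j => (fun j => if h : j < s + 2 then c ⟨j, h⟩ else 0) j * ((m + j).choose j : ℤ))
      (s + 1 + 1)]
    apply Finset.sum_congr rfl
    intro j _
    simp only [Fin.is_lt, dite_true, Fin.eta]
  have hA : ∀ m : ℕ, ∑ j ∈ Finset.range (s + 1 + 1), ((m + j - 1).choose j : ℤ) *
      D k X (s + 1) M j L = ∑ j ∈ Finset.range (s + 1 + 1), a' j * ((m + j).choose j : ℤ) := by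
    intro m
    rw [← hsum a m, ← ha m]
    exact (euler_twistOn k X i (s + 1) hd L hLc (s + 1)
      (dim_support_le X (s + 1) hd L) m).symm
  have hE : ∀ m : ℕ, ∑ j ∈ Finset.range (s + 1 + 1), ((m + j - 1).choose j : ℤ) *
      D k X (s + 1) M j (Coh.structureModule X) =
        ∑ j ∈ Finset.range (s + 1 + 1), e' j * ((m + j).choose j : ℤ) := by
    intro m
    rw [← hsum e m, ← he m]
    exact (euler_twistOn k X i (s + 1) hd _ hOc (s + 1)
      (dim_support_le X (s + 1) hd _) m).symm
  have hAtop := coeffs_eq_top (s + 1) a' (fun j => D k X (s + 1) M j L) hA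
  have hEtop := coeffs_eq_top (s + 1) e' (fun j => D k X (s + 1) M j (Coh.structureModule X)) hE
  have hAsub := coeffs_eq_subtop s a' (fun j => D k X (s + 1) M j L) hA
  have hEsub := coeffs_eq_subtop s e' (fun j => D k X (s + 1) M j (Coh.structureModule X)) hE
  have ha'top : a' (s + 1) = a (Fin.last (s + 1)) := by
    simp only [a']
    rw [dif_pos (by omega)]
    rfl
  have he'top : e' (s + 1) = e (Fin.last (s + 1)) := by
    simp only [e']
    rw [dif_pos (by omega)]
    rfl
  have ha'sub : a' s = a (Fin.castSucc (Fin.last s)) := by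
    simp only [a']
    rw [dif_pos (by omega)]
    rfl
  have he'sub : e' s = e (Fin.castSucc (Fin.last s)) := by
    simp only [e']
    rw [dif_pos (by omega)]
    rfl
  rw [ha'top] at hAtop hAsub
  rw [he'top] at hEtop hEsub
  rw [ha'sub] at hAsub
  rw [he'sub] at hEsub
  -- `L ⊗ L' ≅ O`, `O ⊗ L' ≅ L'`
  have e1 : D k X (s + 1) M (s + 1) (CohB1.tensorMod L L') =
      D k X (s + 1) M (s + 1) (Coh.structureModule X) := intNum_iso k X (s + 1) hd _ ε
  have e2 : D k X (s + 1) M s (CohB1.tensorMod L L') =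
      D k X (s + 1) M s (Coh.structureModule X) := intNum_iso k X (s + 1) hd _ ε
  have e3 : D k X (s + 1) M s (CohB1.tensorMod (Coh.structureModule X) L') =
      D k X (s + 1) M s L' := intNum_iso k X (s + 1) hd _ (leftUnitor L')
  -- vanishing of the `(s+2)`-fold numbers
  have hlt : topologicalKrullDim (CohB1.support L) < ((s + 2 : ℕ) : WithBot ℕ∞) := by
    refine lt_of_le_of_lt (dim_support_le X (s + 1) hd L) ?_
    exact_mod_cast Nat.lt_succ_self (s + 1)
  have v1 : FGA.intNum k X (s + 1)
      (Fin.cons L' (fun _ : Fin (s + 1) => M) : Fin (s + 1 + 1) → X.Modules) L = 0 := by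
    apply intNum_eq_zero k X (s + 1) hd _ _ L hLc hlt
    intro j
    refine Fin.cases ?_ (fun j' => ?_) j
    · exact hL'
    · exact hM
  rw [intNum_cons_const k X (s + 1) hd L' M (s + 1) L, e1] at v1
  have v2 : FGA.intNum k X (s + 1)
      (Fin.cons L' (Fin.cons L' (fun _ : Fin s => M) : Fin (s + 1) → X.Modules) :
        Fin (s + 1 + 1) → X.Modules) L = 0 := by
    apply intNum_eq_zero k X (s + 1) hd _ _ L hLc hlt
    intro j
    refine Fin.cases ?_ (fun j' => ?_) j
    · exact hL'
    · refine Fin.cases ?_ (fun j'' => ?_) j'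
      · exact hL'
      · exact hM
  have e4 : D k X (s + 1) M s (CohB1.tensorMod (CohB1.tensorMod L L') L') =
      D k X (s + 1) M s L' :=
    intNum_iso k X (s + 1) hd _ (tensorIso ε (Iso.refl L') ≪≫ leftUnitor L')
  rw [intNum_cons k X (s + 1) hd L' _ L, intNum_cons_const k X (s + 1) hd L' M s L,
    intNum_cons_const k X (s + 1) hd L' M s (CohB1.tensorMod L L'), e2, e4] at v2
  have hfinal : FGA.intNum k X (s + 1)
      (Matrix.vecCons L' (fun _ : Fin s => M)) (Coh.structureModule X) =
      D k X (s + 1) M s (Coh.structureModule X) - D k X (s + 1) M s L' := by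
    have := intNum_cons_const k X (s + 1) hd L' M s (Coh.structureModule X)
    rw [e3] at this
    exact this
  refine ⟨?_, ?_, ?_⟩
  · rw [← hAtop, ← hEtop]; linarith
  · rw [← hAtop]
    show D k X (s + 1) M (s + 1) L = D k X (s + 1) M (s + 1) (Coh.structureModule X)
    linarith
  · rw [hfinal]
    linarith

end S5644

end Groth.Agent.Lib.helper7.SnapperHilb
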