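import Mathlib
import Groth.Agent.Lib.Helper7.SnapperPos5
import Groth.Agent.Lib.Helper7.SnapperHilb
import Groth.Agent.Lib.Helper7.DivisorDim

/-!
# Line bundles of nonpositive degree with a section are trivial (helper7)

* `isIso_idealModι_of_isZero`
* `iso_structureModule_of_deg_nonpos_of_sections`: the statement of S5632
-/

set_option autoImplicit false
set_option linter.unusedSectionVars false
set_option linter.style.haveILetI false
universe u

open CategoryTheory CategoryTheory.Limits AlgebraicGeometry Opposite TopologicalSpace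

namespace Groth.Agent.Lib.helper7.SnapperPos

open Groth.Agent.Lib.helper7.SnapperDiff Groth.Agent.Lib.helper7.SnapperMain
open Groth.Agent.Lib.helper7.SnapperCartier2 Groth.Agent.Lib.helper7.SnapperQuot
open Groth.Agent.Lib.helper7.SnapperHilb Groth.Agent.Lib.helper7.DivisorDim
open Groth.Agent.Lib.Lead.ModTensor

theorem isIso_kernel_ι_of_eq_zero {C : Type*} [Category C] [HasZeroMorphisms C] {A B : C}
    (f : A ⟶ B) [HasKernel f] (hf : f = 0) : IsIso (kernel.ι f) := by
  subst hf
  infer_instance

theorem isIso_idealModι_of_isZero {X : Scheme.{u}} (D : X.IdealSheafData)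
    (h : IsZero (ClSub.quotMod D)) : IsIso (ClSub.idealModι D) :=
  isIso_kernel_ι_of_eq_zero (ClSub.toSubscheme D) (h.eq_of_tgt _ _)

/-- **S5632** -/
theorem iso_structureModule_of_deg_nonpos_of_sections
    (k : Type u) [Field k] (n : ℕ) (X : Scheme.{u}) [X.Over (Spec (CommRingCat.of k))]
    (i : X ⟶ CohB1.ProjSpace n k) [IsClosedImmersion i]
    (hi : i ≫ CohB1.ProjSpace.toSpec n k = X ↘ Spec (CommRingCat.of k))
    [IsIntegral X] (s : ℕ) (hdim : topologicalKrullDim X = (s + 1 : ℕ))
    (L L' : X.Modules) (hL : PicF.IsInvertible L)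
    (hLL' : Nonempty (CohB1.tensorMod L L' ≅ Coh.structureModule X))
    (hdeg : FGA.intNum k X (s + 1)
      (Matrix.vecCons L' (fun _ : Fin s =>
        (Scheme.Modules.pullback i).obj (Twist.twistProjSpace n k (-1))))
      (Coh.structureModule X) ≤ 0)
    (hsec : Nontrivial (Coh.HH X L 0)) :
    Nonempty (L ≅ Coh.structureModule X) := by
  haveI : IsProper (X ↘ Spec (CommRingCat.of k)) := isProper_of_closedImmersion k n X i hi
  haveI := Groth.Agent.Lib.Lead.CurveEuler.isNoetherian k X
  have hd : topologicalKrullDim X ≤ ((s + 1 : ℕ) : WithBot ℕ∞) := hdim.le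
  have hL' : PicF.IsInvertible L' :=
    Groth.Agent.Lib.helper11.AmpleAffine.isInvertible_of_isInverseOf hL hLL'
  obtain ⟨ε⟩ := hLL'
  -- a nonzero section
  obtain ⟨x, hx0⟩ := exists_ne (0 : Coh.HH X L 0)
  let σ : Coh.structureModule X ⟶ L := Groth.Agent.Lib.helper9.CurveVanish.secHom _ x
  have hσ : σ ≠ 0 := fun h =>
    hx0 ((Groth.Agent.Lib.helper9.CurveVanish.secHom_eq_zero_iff _ x).mp h)
  have hne : ∃ y : X, y ∈ CohB1.genLocus L σ := by
    have h1 := Groth.Agent.Lib.Lead.GenLocusInt.isoLocus_ne_bot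
      (Groth.Agent.Lib.helper11.InvMod.isInvertible_structureModule X) hL σ hσ
    by_contra hcon
    apply h1
    ext y
    simp only [Opens.coe_bot, Set.mem_empty_iff_false, iff_false]
    exact fun hy => hcon ⟨y, hy⟩
  haveI : L'.IsQuasicoherent := (Groth.Agent.Lib.Lead.CurveInv.isCoh_of_isInvertible X hL').1
  set D := divisor L L' ε σ with hDdef
  have hD : BlowUp.IsEffCartierIdeal D := isEffCartier_divisor _ _ ε σ hL' hne
  obtain ⟨eD⟩ := nonempty_idealMod_divisor_iso L L' ε σ hL' hne
  set G := ClSub.quotMod D with hGdef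
  by_cases hempty : CohB1.support G = ∅
  · have hG0 : IsZero G := isZero_of_support_eq_empty G hempty
    haveI hι : IsIso (ClSub.idealModι D) := isIso_idealModι_of_isZero D hG0
    let e1 : L' ≅ Coh.structureModule X := eD ≪≫ asIso (ClSub.idealModι D)
    exact ⟨(rightUnitor L).symm ≪≫ tensorIso (Iso.refl L) e1.symm ≪≫ ε⟩
  · exfalso
    obtain ⟨y, hy⟩ := Set.nonempty_iff_ne_empty.mpr hempty
    have hyD : y ∈ D.support := support_quotMod_subset D hy
    haveI : LocallyOfFiniteType (X ↘ Spec (CommRingCat.of k)) := inferInstance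
    have hGdim : topologicalKrullDim (CohB1.support G) = ((s : ℕ) : WithBot ℕ∞) := by
      rw [hGdef, support_quotMod_eq D]
      apply le_antisymm
      · have h2 : topologicalKrullDim X = ((s : ℕ) : WithBot ℕ∞) + 1 := by
          rw [hdim]; push_cast; rfl
        exact Groth.Agent.Lib.helper7.SnapperCartier.dim_support_le_of_effCartier D hD s h2
      · exact le_dim_support_of_effCartier k X s hdim D hD y hyD
    have hH : CohB1.IsAmple (O1 k i) := by
      have h1 := Groth.Agent.Lib.helper28.TwistPn.isAmple n k 1 Nat.one_pos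
      rw [Nat.cast_one] at h1
      exact Groth.Agent.Lib.helper12.PullAmple.isAmple_pullback_of_isEmbedding i i.isEmbedding h1
    have hpos := intNum_const_pos k X (s + 1) hd (O1 k i) (Om1 k i) hH ⟨invIso k i⟩ s G
      (isCoh_quotMod D) hGdim
    have h1 := intNum_snoc_divisor k X (s + 1) hd L L' hL' ε σ hne (fun _ : Fin s => Om1 k i)
      (fun _ => isInvertible_Om1 k i)
    have h2 : (Matrix.vecCons L' (fun _ : Fin s =>
        (Scheme.Modules.pullback i).obj (Twist.twistProjSpace n k (-1))) :
          Fin (s + 1) → X.Modules) = Fin.cons L' (fun _ : Fin s => Om1 k i) := rfl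
    rw [h2, intNum_cons_eq_snoc k X (s + 1) hd, h1] at hdeg
    exact absurd hpos (not_lt.mpr hdeg)

end Groth.Agent.Lib.helper7.SnapperPos
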