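import Mathlib
import Groth.Agent.Lib.Helper7.SurfCurvesB
import Groth.Agent.Lib.Helper7.SnapperPos6
import Groth.Agent.Lib.Helper7.DivisorDim

/-!
# Effective Cartier divisors against curves and ample modules on a smooth projective surface (helper7)

* `finite_support_sup_of_not_subset`, `intNum_effCartier_curve_nonneg`: `(I_F · I_C) ≥ 0` for an integral curve `C`
  not contained in the effective Cartier divisor `F`.
* `P_idealMod_ample_eq`, `P_idealMod_ample_nonpos`, `P_idealMod_ample_neg`: `(I_F · H) ≤ 0` for `H` ample, with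
  strict inequality when `F` is nonempty.
-/

set_option autoImplicit false
set_option linter.unusedSectionVars false
set_option linter.unusedVariables false
set_option linter.style.haveILetI false

universe u

open CategoryTheory Limits AlgebraicGeometry Opposite TopologicalSpace

namespace Groth.Agent.Lib.helper7.SurfCurves

open Groth.Agent.Lib.helper7.SurfHodge Groth.Agent.Lib.helper7.BigCone
  Groth.Agent.Lib.helper7.SnapperPos Groth.Agent.Lib.helper7.SnapperSplit
  Groth.Agent.Lib.Lead.ModTensor

variable (k : Type u) [Field k] (X : Scheme.{u}) [X.Over (Spec (CommRingCat.of k))]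
  [IsProper (X ↘ Spec (CommRingCat.of k))]

include k in
/-- an integral curve meets a closed set not containing it in finitely many points -/
theorem finite_support_sup_of_not_subset {C C' : X.IdealSheafData} (hCi : IsIntegral C.subscheme)
    (hCd : topologicalKrullDim (C.support : Set X) = 1)
    (hnsub : ¬ (C.support : Set X) ⊆ (C'.support : Set X)) :
    (((C ⊔ C').support : Closeds X) : Set X).Finite := by
  haveI := Groth.Agent.Lib.Lead.CurveEuler.isNoetherian k X
  haveI := hCi
  rw [Scheme.IdealSheafData.support_sup]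
  apply Groth.Agent.Lib.helper9.CurveTwist.finite_of_forall_isClosed_singleton _
    ((C.support ⊓ C'.support : Closeds X)).isClosed
  intro x hx
  have hxC : x ∈ (C.support : Set X) := hx.1
  have hxC' : x ∈ (C'.support : Set X) := hx.2
  rw [← Scheme.IdealSheafData.range_subschemeι] at hxC
  obtain ⟨c, rfl⟩ := hxC
  let W : C.subscheme.Opens :=
    C.subschemeι ⁻¹ᵁ ⟨(C'.support : Set X)ᶜ, C'.support.isClosed.isOpen_compl⟩
  have hWne : (W : Set C.subscheme).Nonempty := by
    by_contra hcon
    apply hnsub
    intro y hy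
    rw [← Scheme.IdealSheafData.range_subschemeι] at hy
    obtain ⟨d, rfl⟩ := hy
    by_contra hd
    exact hcon ⟨d, hd⟩
  have hcW : c ∉ W := fun h => h hxC'
  have hdimC : topologicalKrullDim C.subscheme ≤ 1 := by
    rw [Groth.Agent.Lib.helper7.NumEq.dim_subscheme_eq_dim_support, hCd]
  have hcl := Groth.Agent.Lib.Lead.CurveInv.isClosed_singleton_of_not_mem hdimC W hWne c hcW
  have := C.subschemeι.isClosedEmbedding.isClosedMap _ hcl
  rwa [Set.image_singleton] at this

section Ample

/-- `(I_F · H) = -(H' · O_F)` -/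
theorem P_idealMod_ample_eq [IsIntegral X] (hd : topologicalKrullDim X ≤ ((2 : ℕ) : WithBot ℕ∞))
    {H H' : X.Modules} (hH : PicF.IsInvertible H) (hH' : PicF.IsInvertible H')
    (ε : CohB1.tensorMod H H' ≅ Coh.structureModule X)
    (F : X.IdealSheafData) (hF : BlowUp.IsEffCartierIdeal F) :
    P k X (ClSub.idealMod F) H =
      - FGA.intNum k X 2 (![H'] : Fin 1 → X.Modules) (ClSub.quotMod F) := by
  haveI := Groth.Agent.Lib.Lead.CurveEuler.isNoetherian k X
  have hI := Groth.Agent.Lib.helper7.IdealCartier.invertible_of_effCartier F hF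
  have h1 : P k X (ClSub.idealMod F) H = - P k X H' (ClSub.idealMod F) := by
    rw [P_symm k X hd, P_inv_left k X hd hI hH hH' ε, neg_neg]
  have hH'1 : ∀ i, PicF.IsInvertible ((![H'] : Fin 1 → X.Modules) i) := by
    intro i; fin_cases i; exact hH'
  have h2 := Groth.Agent.Lib.helper7.SnapperCartier2.intNum_snoc_idealMod k X 2 hd
    (![H'] : Fin 1 → X.Modules) hH'1 (Coh.structureModule X) (isCohO X) F hF
    (fun x hx => Groth.Agent.Lib.helper7.SurfInt.not_isAssPoint_structureModule' F hF x hx)
  have h3 : P k X H' (ClSub.idealMod F) =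
      FGA.intNum k X 2 (Fin.snoc (![H'] : Fin 1 → X.Modules) (ClSub.idealMod F)) 
        (Coh.structureModule X) := by
    unfold P
    rw [vec2_eq_snoc]
  rw [h1, h3, h2, intNum_iso k X 2 hd _ (leftUnitor (ClSub.quotMod F))]

theorem P_idealMod_ample_nonpos [IsIntegral X] (hdim : topologicalKrullDim X = 2)
    {H : X.Modules} (hH : CohB1.IsAmple H)
    (F : X.IdealSheafData) (hF : BlowUp.IsEffCartierIdeal F) :
    P k X (ClSub.idealMod F) H ≤ 0 ∧ (F ≠ ⊤ → P k X (ClSub.idealMod F) H < 0) := by
  haveI := Groth.Agent.Lib.Lead.CurveEuler.isNoetherian k X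
  have hd : topologicalKrullDim X ≤ ((2 : ℕ) : WithBot ℕ∞) := by rw [hdim]; rfl
  obtain ⟨H', hH', ⟨ε⟩, -⟩ := Groth.Agent.Lib.helper12.InvDual.exists_inverse hH.1
  have h1 := P_idealMod_ample_eq k X hd hH.1 hH' ε F hF
  have hQc : Coh.IsCoh (ClSub.quotMod F) := Groth.Agent.Lib.helper7.SnapperQuot.isCoh_quotMod F
  have hH'1 : ∀ i, PicF.IsInvertible ((![H'] : Fin 1 → X.Modules) i) := by
    intro i; fin_cases i; exact hH'
  by_cases hempty : (F.support : Set X) = ∅
  · have hFtop : F = ⊤ := by
      rw [← Scheme.IdealSheafData.support_eq_bot_iff]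
      exact SetLike.coe_injective hempty
    have h2 : FGA.intNum k X 2 (![H'] : Fin 1 → X.Modules) (ClSub.quotMod F) = 0 := by
      apply intNum_eq_zero k X 2 hd _ hH'1 _ hQc
      rw [Groth.Agent.Lib.helper7.DivisorDim.support_quotMod_eq, hempty]
      have : topologicalKrullDim ↥(∅ : Set X) = ⊥ := by
        unfold topologicalKrullDim
        rw [Order.krullDim_eq_bot_iff]
        exact ⟨fun Z => by
          obtain ⟨x, hx⟩ := Z.isIrreducible'.1
          exact x.2⟩
      rw [this]
      exact WithBot.bot_lt_coe _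
    rw [h1, h2, neg_zero]
    exact ⟨le_refl _, fun h => absurd hFtop h⟩
  · obtain ⟨y, hy⟩ := Set.nonempty_iff_ne_empty.mpr hempty
    have hdim1 : topologicalKrullDim (CohB1.support (ClSub.quotMod F)) = ((1 : ℕ) : WithBot ℕ∞) := by
      rw [Groth.Agent.Lib.helper7.DivisorDim.support_quotMod_eq]
      apply le_antisymm
      · have h2 : topologicalKrullDim X = ((1 : ℕ) : WithBot ℕ∞) + 1 := by rw [hdim]; rfl
        exact Groth.Agent.Lib.helper7.SnapperCartier.dim_support_le_of_effCartier F hF 1 h2
      · have h2 : topologicalKrullDim X = ((1 + 1 : ℕ) : WithBot ℕ∞) := by rw [hdim]; rfl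
        exact Groth.Agent.Lib.helper7.DivisorDim.le_dim_support_of_effCartier k X 1 h2 F hF y hy
    have hpos := intNum_const_pos k X 2 hd H H' hH ⟨ε⟩ 1 (ClSub.quotMod F) hQc hdim1
    have hfun : (fun _ : Fin 1 => H') = (![H'] : Fin 1 → X.Modules) := by
      funext i; fin_cases i; rfl
    rw [hfun] at hpos
    rw [h1]
    exact ⟨by linarith, fun _ => by linarith⟩

end Ample

variable [PerfectField k] [Smooth (X ↘ Spec (CommRingCat.of k))] [IsIntegral X]

/-- an effective Cartier divisor meets an integral curve not contained in it non-negatively -/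
theorem intNum_effCartier_curve_nonneg (hdim : topologicalKrullDim X = 2) {F C : X.IdealSheafData}
    (hF : BlowUp.IsEffCartierIdeal F) (hCi : IsIntegral C.subscheme)
    (hCd : topologicalKrullDim (C.support : Set X) = 1)
    (hnsub : ¬ (C.support : Set X) ⊆ (F.support : Set X)) :
    0 ≤ FGA.intNum k X 2 ![ClSub.idealMod F, ClSub.idealMod C] (Coh.structureModule X) := by
  have hd : topologicalKrullDim X ≤ ((2 : ℕ) : WithBot ℕ∞) := by rw [hdim]; rfl
  have hdim' : ∀ Z ∈ irreducibleComponents (X : Type u), topologicalKrullDim Z = 2 := by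
    intro Z hZ
    rw [irreducibleComponents_eq_singleton, Set.mem_singleton_iff] at hZ
    subst hZ
    rw [← hdim]
    exact (Homeomorph.Set.univ X).isHomeomorph.topologicalKrullDim_eq
  have hCM : ∀ x : X, LocCoh.IsCohenMacaulayLocalRing (X.presheaf.stalk x) := fun x => by
    haveI : IsRegularLocalRing (X.presheaf.stalk x) :=
      (Groth.Agent.Lib.helper17.RegSmooth.mem_smoothLocus_iff_isRegularLocalRing_of_perfectField
        (X ↘ Spec (CommRingCat.of k)) x).mp (by rw [Scheme.Hom.smoothLocus_eq_top]; trivial)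
    exact { supportDim_eq_depth := by
              rw [Module.supportDim_self_eq_ringKrullDim]
              exact (Groth.Agent.Lib.helper26.Depth.depth_eq_ringKrullDim_of_isRegularLocalRing
                _).symm }
  have h1 : P k X (ClSub.idealMod F) (ClSub.idealMod C) =
      P k X (ClSub.idealMod C) (ClSub.idealMod F) := P_symm k X hd _ _
  have h2 := Groth.Agent.Lib.helper7.SurfInt.intNum_effCartier_eq_finrank_H0 k X hdim' hCM C F
    (Groth.Agent.Lib.helper7.SurfCartier.isEffCartierIdeal_of_curve k X hdim C hCi hCd) hF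
    (finite_support_sup_of_not_subset k X hCi hCd hnsub)
  have h3 : 0 ≤ P k X (ClSub.idealMod C) (ClSub.idealMod F) := by
    unfold P
    rw [h2]
    exact Int.natCast_nonneg _
  have h4 : 0 ≤ P k X (ClSub.idealMod F) (ClSub.idealMod C) := by rw [h1]; exact h3
  exact h4

end Groth.Agent.Lib.helper7.SurfCurves
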