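import Mathlib

/-!
# Negative definite integer matrices with non-negative off-diagonal entries: solving `tG = b` (helper7)

* `negDef_rat`: an integer matrix which is negative definite on `ℤ^r` is negative definite on `ℚ^r`.
* `exists_nonneg_solution`: if moreover the off-diagonal entries are `≥ 0` and `b ≤ 0`, the system `Σ_i t_i G_il = b_l`
  has a rational solution with `t ≥ 0`.
-/

set_option autoImplicit false

namespace Groth.Agent.Lib.helper7.SurfNegDef

open Finset

variable {r : ℕ}

theorem exists_common_den (t : Fin r → ℚ) :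
    ∃ (N : ℕ) (a : Fin r → ℤ), 0 < N ∧ ∀ i, t i = (a i : ℚ) / (N : ℚ) := by
  refine ⟨∏ i, (t i).den, fun i => (t i).num * ∏ j ∈ univ.erase i, ((t j).den : ℤ), ?_, ?_⟩
  · exact Finset.prod_pos (fun i _ => (t i).den_pos)
  · intro i
    have h1 : ((∏ j, (t j).den : ℕ) : ℚ) = ((t i).den : ℚ) * ∏ j ∈ univ.erase i, ((t j).den : ℚ) := by
      push_cast
      exact (Finset.mul_prod_erase univ (fun j => ((t j).den : ℚ)) (mem_univ i)).symm
    rw [h1]
    push_cast
    have hden : ((t i).den : ℚ) ≠ 0 := by exact_mod_cast (t i).den_pos.ne'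
    have hprod : (∏ j ∈ univ.erase i, ((t j).den : ℚ)) ≠ 0 := by
      apply Finset.prod_ne_zero_iff.mpr
      intro j _
      exact_mod_cast (t j).den_pos.ne'
    rw [mul_div_mul_right _ _ hprod]
    exact (Rat.num_div_den (t i)).symm

theorem negDef_rat (G : Fin r → Fin r → ℤ)
    (hneg : ∀ a : Fin r → ℤ, a ≠ 0 → ∑ i, ∑ j, a i * a j * G i j < 0)
    (t : Fin r → ℚ) (ht : t ≠ 0) : ∑ i, ∑ j, t i * t j * (G i j : ℚ) < 0 := by
  obtain ⟨N, a, hN, hta⟩ := exists_common_den t
  have hN' : (0 : ℚ) < (N : ℚ) := by exact_mod_cast hN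
  have ha : a ≠ 0 := by
    intro h0
    apply ht
    funext i
    rw [hta i, h0]
    simp
  have h1 := hneg a ha
  have h2 : ∑ i, ∑ j, t i * t j * (G i j : ℚ) =
      ((∑ i, ∑ j, a i * a j * G i j : ℤ) : ℚ) / ((N : ℚ) * (N : ℚ)) := by
    push_cast
    rw [Finset.sum_div]
    refine Finset.sum_congr rfl (fun i _ => ?_)
    rw [Finset.sum_div]
    refine Finset.sum_congr rfl (fun j _ => ?_)
    rw [hta i, hta j]
    field_simp
  rw [h2]
  apply div_neg_of_neg_of_pos
  · exact_mod_cast h1
  · positivity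

theorem exists_nonneg_solution (G : Fin r → Fin r → ℤ) (hG : ∀ i j, i ≠ j → 0 ≤ G i j)
    (hneg : ∀ a : Fin r → ℤ, a ≠ 0 → ∑ i, ∑ j, a i * a j * G i j < 0)
    (b : Fin r → ℤ) (hb : ∀ i, b i ≤ 0) :
    ∃ t : Fin r → ℚ, (∀ i, 0 ≤ t i) ∧ ∀ l, ∑ i, t i * (G i l : ℚ) = (b l : ℚ) := by
  have hnegQ := negDef_rat G hneg
  -- the linear map
  let T : (Fin r → ℚ) →ₗ[ℚ] (Fin r → ℚ) :=
    { toFun := fun t l => ∑ i, t i * (G i l : ℚ)
      map_add' := by
        intro s t
        funext l
        simp only [Pi.add_apply, add_mul, Finset.sum_add_distrib]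
      map_smul' := by
        intro c t
        funext l
        simp only [Pi.smul_apply, smul_eq_mul, RingHom.id_apply, Finset.mul_sum, mul_assoc] }
  have hTapp : ∀ t l, T t l = ∑ i, t i * (G i l : ℚ) := fun t l => rfl
  have hQ : ∀ s t : Fin r → ℚ, ∑ l, s l * T t l = ∑ i, ∑ l, t i * s l * (G i l : ℚ) := by
    intro s t
    simp only [hTapp, Finset.mul_sum]
    rw [Finset.sum_comm]
    refine Finset.sum_congr rfl (fun i _ => Finset.sum_congr rfl (fun l _ => ?_))
    ring
  have hinj : Function.Injective T := by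
    rw [← LinearMap.ker_eq_bot, LinearMap.ker_eq_bot']
    intro t ht
    by_contra hne
    have h1 := hnegQ t hne
    have h2 := hQ t t
    rw [ht] at h2
    simp only [Pi.zero_apply, mul_zero, Finset.sum_const_zero] at h2
    rw [← h2] at h1
    exact lt_irrefl _ h1
  have hsurj : Function.Surjective T := LinearMap.injective_iff_surjective.mp hinj
  obtain ⟨t, ht⟩ := hsurj (fun l => (b l : ℚ))
  refine ⟨t, ?_, fun l => by rw [← hTapp, ht]⟩
  -- nonnegativity
  set p : Fin r → ℚ := fun i => max (t i) 0 with hp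
  set n : Fin r → ℚ := fun i => max (- t i) 0 with hn
  have hp0 : ∀ i, 0 ≤ p i := fun i => le_max_right _ _
  have hn0 : ∀ i, 0 ≤ n i := fun i => le_max_right _ _
  have htpn : ∀ i, t i = p i - n i := by
    intro i
    simp only [hp, hn]
    rcases le_total 0 (t i) with h | h
    · rw [max_eq_left h, max_eq_right (by linarith)]; ring
    · rw [max_eq_right h, max_eq_left (by linarith)]; ring
  have hmul : ∀ i, p i * n i = 0 := by
    intro i
    simp only [hp, hn]
    rcases le_total 0 (t i) with h | h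
    · rw [max_eq_right (by linarith : - t i ≤ 0), mul_zero]
    · rw [max_eq_right h, zero_mul]
  have h1 : ∑ l, n l * T t l ≤ 0 := by
    rw [ht]
    apply Finset.sum_nonpos
    intro l _
    have hbl : ((b l : ℤ) : ℚ) ≤ 0 := by exact_mod_cast hb l
    exact mul_nonpos_of_nonneg_of_nonpos (hn0 l) hbl
  have h2 : ∑ l, n l * T t l =
      ∑ i, ∑ l, p i * n l * (G i l : ℚ) - ∑ i, ∑ l, n i * n l * (G i l : ℚ) := by
    rw [hQ n t, ← Finset.sum_sub_distrib]
    refine Finset.sum_congr rfl (fun i _ => ?_)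
    rw [← Finset.sum_sub_distrib]
    refine Finset.sum_congr rfl (fun l _ => ?_)
    rw [htpn i]; ring
  have h3 : 0 ≤ ∑ i, ∑ l, p i * n l * (G i l : ℚ) := by
    refine Finset.sum_nonneg (fun i _ => Finset.sum_nonneg (fun l _ => ?_))
    by_cases hil : i = l
    · subst hil
      rw [hmul i, zero_mul]
    · exact mul_nonneg (mul_nonneg (hp0 i) (hn0 l)) (by exact_mod_cast hG i l hil)
  have hn_zero : n = 0 := by
    by_contra hne
    have := hnegQ n hne
    linarith
  intro i
  have : n i = 0 := congrFun hn_zero i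
  rw [htpn i, this, sub_zero]
  exact hp0 i

end Groth.Agent.Lib.helper7.SurfNegDef
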