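import Mathlib
import Groth.Agent.Lib.Helper7.SurfCurvesC
import Groth.Agent.Lib.Helper7.SurfNegDefC
import Groth.Agent.Lib.Helper7.IdealCartier
import Groth.Agent.Lib.Helper7.SurfCone

/-!
# A nef and big invertible module orthogonal to exactly a negative definite configuration (helper7)

* `exists_combo`: for invertible `I_i` and `a_i : ℕ` there is an invertible `J` with `(J·M) = Σ a_i (I_i·M)`.
* `exists_nef_big_orth`: negative definite curves `C_i` on a smooth projective surface: there is an invertible `L`,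
  nef, `(L·L) > 0`, with `(L·D) = 0` iff `D` is one of the `C_i`.
-/

set_option autoImplicit false
set_option linter.unusedSectionVars false
set_option linter.unusedVariables false
set_option linter.style.haveILetI false

universe u

open CategoryTheory Limits AlgebraicGeometry Opposite TopologicalSpace

namespace Groth.Agent.Lib.helper7.SurfNegDef

open Groth.Agent.Lib.helper7.SurfHodge Groth.Agent.Lib.Helper18.NefPull

variable (k : Type u) [Field k] (X : Scheme.{u}) [X.Over (Spec (CommRingCat.of k))]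
  [IsProper (X ↘ Spec (CommRingCat.of k))]

theorem exists_combo (hd : topologicalKrullDim X ≤ ((2 : ℕ) : WithBot ℕ∞)) :
    ∀ (r : ℕ) (I : Fin r → X.Modules) (hI : ∀ i, PicF.IsInvertible (I i)) (a : Fin r → ℕ),
    ∃ J : X.Modules, PicF.IsInvertible J ∧
      ∀ M : X.Modules, PicF.IsInvertible M → P k X J M = ∑ i, (a i : ℤ) * P k X (I i) M := by
  intro r
  induction r with
  | zero =>
    intro I hI a
    refine ⟨Coh.structureModule X,
      Groth.Agent.Lib.helper11.InvMod.isInvertible_structureModule X, fun M hM => ?_⟩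
    have h1 := P_pow_left k X hd hM hM 0
    have h2 : CohB1.tensorPow M 0 = Coh.structureModule X := rfl
    rw [h2] at h1
    rw [h1]
    simp
  | succ r ih =>
    intro I hI a
    obtain ⟨J', hJ', hJP'⟩ := ih (fun i => I i.succ) (fun i => hI i.succ) (fun i => a i.succ)
    refine ⟨CohB1.tensorMod (CohB1.tensorPow (I 0) (a 0)) J',
      Groth.Agent.Lib.helper12.TensorInv.isInvertible_tensorMod
        (Groth.Agent.Lib.helper12.TensorInv.isInvertible_tensorPow (hI 0) (a 0)) hJ', fun M hM => ?_⟩
    rw [P_tensor_left k X hd hM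
      (Groth.Agent.Lib.helper12.TensorInv.isInvertible_tensorPow (hI 0) (a 0)) hJ',
      P_pow_left k X hd hM (hI 0) (a 0), hJP' M hM, Fin.sum_univ_succ]

variable [PerfectField k] [Smooth (X ↘ Spec (CommRingCat.of k))] [IsIntegral X]

theorem exists_nef_big_orth (hdim : topologicalKrullDim X = 2)
    {H : X.Modules} (hH : CohB1.IsAmple H)
    (r : ℕ) (C : Fin r → X.IdealSheafData) (hC : Function.Injective C)
    (hCi : ∀ i, IsIntegral (C i).subscheme)
    (hCd : ∀ i, topologicalKrullDim ((C i).support : Set X) = 1)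
    (hneg : ∀ a : Fin r → ℤ, a ≠ 0 →
      ∑ i, ∑ j, a i * a j * FGA.intNum k X 2 ![(ClSub.idealMod (C i)), (ClSub.idealMod (C j))]
        (Coh.structureModule X) < 0) :
    ∃ L : X.Modules, PicF.IsInvertible L ∧
      (∀ D : X.IdealSheafData, IsIntegral D.subscheme →
        topologicalKrullDim (D.support : Set X) = 1 → 0 ≤ nefq k X D L) ∧
      0 < FGA.intNum k X 2 ![L, L] (Coh.structureModule X) ∧
      (∀ D : X.IdealSheafData, IsIntegral D.subscheme →
        topologicalKrullDim (D.support : Set X) = 1 → (nefq k X D L = 0 ↔ ∃ i, D = C i)) := by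
  have hd : topologicalKrullDim X ≤ ((2 : ℕ) : WithBot ℕ∞) := by rw [hdim]; rfl
  have hinv : ∀ i, PicF.IsInvertible (ClSub.idealMod (C i)) := fun i =>
    Groth.Agent.Lib.helper7.SurfCartier.isInvertible_idealMod_of_curve k X hdim (C i) (hCi i) (hCd i)
  set G : Fin r → Fin r → ℤ := fun i j =>
    FGA.intNum k X 2 ![(ClSub.idealMod (C i)), (ClSub.idealMod (C j))] (Coh.structureModule X) with hGdef
  have hG : ∀ i j, i ≠ j → 0 ≤ G i j := fun i j hij =>
    Groth.Agent.Lib.helper7.SurfCurves.intNum_idealMod_nonneg k X hdim (hCi i)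
      (hCi j) (hCd i) (hCd j) (fun h => hij (hC h))
  set b : Fin r → ℤ := fun l =>
    FGA.intNum k X 2 ![(ClSub.idealMod (C l)), H] (Coh.structureModule X) with hbdef
  have hb : ∀ l, b l < 0 := fun l =>
    Groth.Agent.Lib.helper7.SurfCurves.intNum_idealMod_ample_neg k X hd hH (C l) (hCi l) (hCd l)
      (hinv l)
  obtain ⟨t, ht0, ht⟩ := exists_nonneg_solution G hG hneg b (fun l => (hb l).le)
  obtain ⟨N, a, hN, hta⟩ := exists_common_den t
  have hN' : (0 : ℚ) < (N : ℚ) := by exact_mod_cast hN
  have ha0 : ∀ i, 0 ≤ a i := by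
    intro i
    have h1 := ht0 i
    rw [hta i] at h1
    have h2 : (0 : ℚ) ≤ (a i : ℚ) := by
      have h3 := mul_nonneg h1 hN'.le
      rwa [div_mul_cancel₀ _ hN'.ne'] at h3
    exact_mod_cast h2
  have hab : ∀ l, ∑ i, a i * G i l = (N : ℤ) * b l := by
    intro l
    have h1 := ht l
    have h2 : ((∑ i, a i * G i l : ℤ) : ℚ) = (((N : ℤ) * b l : ℤ) : ℚ) := by
      push_cast
      rw [← h1, Finset.mul_sum]
      refine Finset.sum_congr rfl (fun i _ => ?_)
      rw [hta i]
      field_simp
    exact_mod_cast h2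
  set n : Fin r → ℕ := fun i => (a i).toNat with hndef
  have hn : ∀ i, ((n i : ℕ) : ℤ) = a i := fun i => Int.toNat_of_nonneg (ha0 i)
  obtain ⟨J, hJ, hJP⟩ := exists_combo k X hd r (fun i => ClSub.idealMod (C i)) hinv n
  obtain ⟨J', hJ', ⟨e⟩, -⟩ := Groth.Agent.Lib.helper12.InvDual.exists_inverse hJ
  have hHN : PicF.IsInvertible (CohB1.tensorPow H N) :=
    Groth.Agent.Lib.helper12.TensorInv.isInvertible_tensorPow hH.1 N
  set L : X.Modules := CohB1.tensorMod (CohB1.tensorPow H N) J' with hLdef
  have hL : PicF.IsInvertible L :=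
    Groth.Agent.Lib.helper12.TensorInv.isInvertible_tensorMod hHN hJ'
  have hLP : ∀ M : X.Modules, PicF.IsInvertible M →
      P k X L M = (N : ℤ) * P k X H M - ∑ i, a i * P k X (ClSub.idealMod (C i)) M := by
    intro M hM
    rw [hLdef, P_tensor_left k X hd hM hHN hJ', P_pow_left k X hd hM hH.1 N,
      P_inv_left k X hd hM hJ hJ' e, hJP M hM]
    have h1 : ∑ i, ((n i : ℕ) : ℤ) * P k X (ClSub.idealMod (C i)) M =
        ∑ i, a i * P k X (ClSub.idealMod (C i)) M :=
      Finset.sum_congr rfl (fun i _ => by rw [hn i])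
    rw [h1]
    ring
  -- the degree of `L` on a curve
  have hnefq : ∀ D : X.IdealSheafData, PicF.IsInvertible (ClSub.idealMod D) →
      nefq k X D L = (N : ℤ) * nefq k X D H +
        ∑ i, a i * P k X (ClSub.idealMod (C i)) (ClSub.idealMod D) := by
    intro D hD
    have h1 := Groth.Agent.Lib.helper7.SurfCurves.P_idealMod_eq_neg_nefq k X hd hL D hD
    have h2 := Groth.Agent.Lib.helper7.SurfCurves.P_idealMod_eq_neg_nefq k X hd hH.1 D hD
    have h3 := hLP _ hD
    rw [h2] at h3
    rw [h3] at h1
    linarith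
  have hzero : ∀ l, nefq k X (C l) L = 0 := by
    intro l
    rw [hnefq (C l) (hinv l)]
    have h2 := Groth.Agent.Lib.helper7.SurfCurves.P_idealMod_eq_neg_nefq k X hd hH.1 (C l) (hinv l)
    have h3 : P k X H (ClSub.idealMod (C l)) = b l := P_symm k X hd _ _
    have h4 := hab l
    have h5 : ∑ i, a i * P k X (ClSub.idealMod (C i)) (ClSub.idealMod (C l)) =
        ∑ i, a i * G i l := rfl
    rw [h5, h4]
    rw [h3] at h2
    rw [h2]
    ring
  have hposD : ∀ D : X.IdealSheafData, IsIntegral D.subscheme →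
      topologicalKrullDim (D.support : Set X) = 1 → (∀ i, D ≠ C i) → 0 < nefq k X D L := by
    intro D hDi hDd hne
    have hD := Groth.Agent.Lib.helper7.SurfCartier.isInvertible_idealMod_of_curve k X hdim D hDi hDd
    rw [hnefq D hD]
    have h1 := Groth.Agent.Lib.helper7.NefAmple.nefq_pos_of_isAmple k X hH D hDi hDd
    have h2 : 0 ≤ ∑ i, a i * P k X (ClSub.idealMod (C i)) (ClSub.idealMod D) :=
      Finset.sum_nonneg (fun i _ => mul_nonneg (ha0 i)
        (Groth.Agent.Lib.helper7.SurfCurves.intNum_idealMod_nonneg k X hdim (hCi i) hDi (hCd i) hDd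
          (fun h => hne i h.symm)))
    have h3 : 0 < (N : ℤ) * nefq k X D H := mul_pos (by exact_mod_cast hN) h1
    linarith
  refine ⟨L, hL, ?_, ?_, ?_⟩
  · intro D hDi hDd
    by_cases hex : ∃ i, D = C i
    · obtain ⟨i, rfl⟩ := hex
      rw [hzero i]
    · push Not at hex
      exact (hposD D hDi hDd hex).le
  · have h1 := hLP L hL
    have h2 : ∀ i, P k X (ClSub.idealMod (C i)) L = 0 := by
      intro i
      rw [P_symm k X hd, Groth.Agent.Lib.helper7.SurfCurves.P_idealMod_eq_neg_nefq k X hd hL (C i)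
        (hinv i), hzero i, neg_zero]
    have h3 : ∑ i, a i * P k X (ClSub.idealMod (C i)) L = 0 :=
      Finset.sum_eq_zero (fun i _ => by rw [h2 i, mul_zero])
    rw [h3, sub_zero, P_symm k X hd H L, hLP H hH.1] at h1
    have h4 : 0 < P k X H H := Groth.Agent.Lib.helper7.BigCone.intNum2_pos k X hdim hH hH
    have h5 : ∑ i, a i * P k X (ClSub.idealMod (C i)) H ≤ 0 :=
      Finset.sum_nonpos (fun i _ => mul_nonpos_of_nonneg_of_nonpos (ha0 i) (hb i).le)
    have hNz : (0 : ℤ) < (N : ℤ) := by exact_mod_cast hN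
    have h6 : 0 < (N : ℤ) * P k X H H - ∑ i, a i * P k X (ClSub.idealMod (C i)) H := by
      have := mul_pos hNz h4
      linarith
    have h7 : 0 < P k X L L := by rw [h1]; exact mul_pos hNz h6
    exact h7
  · intro D hDi hDd
    constructor
    · intro h0
      by_contra hex
      push Not at hex
      have := hposD D hDi hDd hex
      rw [h0] at this
      exact lt_irrefl _ this
    · rintro ⟨i, rfl⟩
      exact hzero i

end Groth.Agent.Lib.helper7.SurfNegDef
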