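import Mathlib
import Groth.Agent.Lib.Helper7.CastSevA
import Groth.Agent.Lib.Helper7.ProdCurves
import Groth.Agent.Lib.Helper7.SurfNegDefE
import Groth.Agent.Lib.Helper7.SurfHodgeA
import Groth.Agent.Lib.Helper11.AmpleAffine
import Groth.Prelude.Def_Curve

/-!
# The Castelnuovo–Severi inequality on a product of two curves (helper7)

* `hyperbolic_ineq`: if `J₁, J₂` span a hyperbolic plane (`J₁² = J₂² = 0`, `J₁·J₂ = 1`) on a projective surface then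
  `(L·L) ≤ 2 (L·J₁)(L·J₂)` for every invertible `L` (Hodge index theorem).
* `castelnuovo_severi`: on `C₁ × C₂`, `(L·L) ≤ 2 deg(L|_{C₁×pt}) deg(L|_{pt×C₂})`.
-/

set_option autoImplicit false
set_option linter.unusedSectionVars false
set_option linter.unusedVariables false
set_option linter.style.haveILetI false

universe u

open CategoryTheory Limits AlgebraicGeometry Opposite TopologicalSpace

namespace Groth.Agent.Lib.helper7.CastSev

open Groth.Agent.Lib.helper7.SurfHodge Groth.Agent.Lib.helper7.RuledInt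

section Hyperbolic

variable (k : Type u) [Field k] (X : Scheme.{u}) [X.Over (Spec (CommRingCat.of k))]
  [IsProper (X ↘ Spec (CommRingCat.of k))] [IsIntegral X]

theorem hyperbolic_ineq (hdim : topologicalKrullDim X = 2) {H : X.Modules} (hH : CohB1.IsAmple H)
    {L J₁ J₂ : X.Modules} (hL : PicF.IsInvertible L) (hJ₁ : PicF.IsInvertible J₁)
    (hJ₂ : PicF.IsInvertible J₂) (h11 : P k X J₁ J₁ = 0) (h22 : P k X J₂ J₂ = 0)
    (h12 : P k X J₁ J₂ = 1) : P k X L L ≤ 2 * P k X L J₁ * P k X L J₂ := by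
  have hd : topologicalKrullDim X ≤ ((2 : ℕ) : WithBot ℕ∞) := by rw [hdim]; rfl
  obtain ⟨J₁', hJ₁', ⟨ε₁⟩, -⟩ := Groth.Agent.Lib.helper12.InvDual.exists_inverse hJ₁
  obtain ⟨J₂', hJ₂', ⟨ε₂⟩, -⟩ := Groth.Agent.Lib.helper12.InvDual.exists_inverse hJ₂
  set α := P k X L J₁ with hα
  set β := P k X L J₂ with hβ
  have h21 : P k X J₂ J₁ = 1 := by rw [P_symm k X hd, h12]
  have hinv : ∀ i : Fin 4, PicF.IsInvertible ((![J₁, J₁', J₂, J₂'] : Fin 4 → X.Modules) i) := by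
    intro i; fin_cases i
    · exact hJ₁
    · exact hJ₁'
    · exact hJ₂
    · exact hJ₂'
  obtain ⟨Q, hQ, hQP⟩ := Groth.Agent.Lib.helper7.SurfNegDef.exists_combo k X hd 4
    ![J₁, J₁', J₂, J₂'] hinv ![(-β).toNat, β.toNat, (-α).toNat, α.toNat]
  have hQP' : ∀ M : X.Modules, PicF.IsInvertible M →
      P k X Q M = - β * P k X J₁ M - α * P k X J₂ M := by
    intro M hM
    rw [hQP M hM, Fin.sum_univ_four]
    simp only [Matrix.cons_val_zero, Matrix.cons_val_one, Matrix.cons_val_two,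
      Matrix.cons_val_three, Matrix.head_cons, Matrix.tail_cons]
    rw [P_inv_left k X hd hM hJ₁ hJ₁' ε₁, P_inv_left k X hd hM hJ₂ hJ₂' ε₂]
    have e1 : (((-β).toNat : ℕ) : ℤ) - ((β.toNat : ℕ) : ℤ) = -β := by
      have := Int.toNat_sub_toNat_neg (-β)
      rw [neg_neg] at this
      exact this
    have e2 : (((-α).toNat : ℕ) : ℤ) - ((α.toNat : ℕ) : ℤ) = -α := by
      have := Int.toNat_sub_toNat_neg (-α)
      rw [neg_neg] at this
      exact this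
    linear_combination (P k X J₁ M) * e1 + (P k X J₂ M) * e2
  set T : X.Modules := CohB1.tensorMod J₁ J₂ with hT
  have hTinv : PicF.IsInvertible T :=
    Groth.Agent.Lib.helper12.TensorInv.isInvertible_tensorMod hJ₁ hJ₂
  set M' : X.Modules := CohB1.tensorMod L Q with hM'
  have hM'inv : PicF.IsInvertible M' :=
    Groth.Agent.Lib.helper12.TensorInv.isInvertible_tensorMod hL hQ
  have hJ₁T : P k X J₁ T = 1 := by
    have h0 : P k X J₁ T = P k X J₁ J₁ + P k X J₁ J₂ := P_tensor_right k X hd hJ₁ hJ₁ hJ₂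
    rw [h0, h11, h12]; norm_num
  have hJ₂T : P k X J₂ T = 1 := by
    have h0 : P k X J₂ T = P k X J₂ J₁ + P k X J₂ J₂ := P_tensor_right k X hd hJ₂ hJ₁ hJ₂
    rw [h0, h21, h22]; norm_num
  have hTT : P k X T T = 2 := by
    have h0 : P k X T T = P k X J₁ T + P k X J₂ T := P_tensor_left k X hd hTinv hJ₁ hJ₂
    rw [h0, hJ₁T, hJ₂T]; norm_num
  have hQT : P k X Q T = - β - α := by
    rw [hQP' T hTinv, hJ₁T, hJ₂T]; ring
  have hLT : P k X L T = α + β := P_tensor_right k X hd hL hJ₁ hJ₂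
  have hTM' : P k X T M' = 0 := by
    have h0 : P k X T M' = P k X T L + P k X T Q := P_tensor_right k X hd hTinv hL hQ
    rw [h0, P_symm k X hd T L, P_symm k X hd T Q, hLT, hQT]
    ring
  have hmain := hodge_index k X hdim hH hTinv hM'inv (by rw [hTT]; norm_num) hTM'
  have hQL : P k X Q L = - 2 * α * β := by
    rw [hQP' L hL, P_symm k X hd J₁ L, P_symm k X hd J₂ L]; ring
  have hQJ₁ : P k X Q J₁ = - α := by
    rw [hQP' J₁ hJ₁, h11, h21]; ring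
  have hQJ₂ : P k X Q J₂ = - β := by
    rw [hQP' J₂ hJ₂, h12, h22]; ring
  have hQQ : P k X Q Q = 2 * α * β := by
    rw [hQP' Q hQ, P_symm k X hd J₁ Q, P_symm k X hd J₂ Q, hQJ₁, hQJ₂]; ring
  have hexp : P k X M' M' = P k X L L - 2 * α * β := by
    have h0 : P k X M' M' = P k X L M' + P k X Q M' := P_tensor_left k X hd hM'inv hL hQ
    have h1 : P k X L M' = P k X L L + P k X L Q := P_tensor_right k X hd hL hL hQ
    have h2 : P k X Q M' = P k X Q L + P k X Q Q := P_tensor_right k X hd hQ hL hQ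
    rw [h0, h1, h2, P_symm k X hd L Q, hQL, hQQ]
    ring
  rw [hexp] at hmain
  linarith

end Hyperbolic

section Main

variable (k : Type u) [Field k] [IsAlgClosed k] (C₁ C₂ : Scheme.{u})
  [C₁.Over (Spec (CommRingCat.of k))] [C₂.Over (Spec (CommRingCat.of k))]

theorem castelnuovo_severi
    (h₁ : Curve.IsSmoothProperCurve k C₁ (C₁ ↘ Spec (CommRingCat.of k)))
    (h₂ : Curve.IsSmoothProperCurve k C₂ (C₂ ↘ Spec (CommRingCat.of k)))
    (x : Spec (CommRingCat.of k) ⟶ C₁) (hx : x ≫ (C₁ ↘ Spec (CommRingCat.of k)) = 𝟙 _)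
    (y : Spec (CommRingCat.of k) ⟶ C₂) (hy : y ≫ (C₂ ↘ Spec (CommRingCat.of k)) = 𝟙 _)
    (i₁ : C₁ ⟶ pullback (C₁ ↘ Spec (CommRingCat.of k)) (C₂ ↘ Spec (CommRingCat.of k)))
    (hi₁ : i₁ ≫ pullback.fst _ _ = 𝟙 C₁ ∧ i₁ ≫ pullback.snd _ _ = (C₁ ↘ Spec (CommRingCat.of k)) ≫ y)
    (i₂ : C₂ ⟶ pullback (C₁ ↘ Spec (CommRingCat.of k)) (C₂ ↘ Spec (CommRingCat.of k)))
    (hi₂ : i₂ ≫ pullback.snd _ _ = 𝟙 C₂ ∧ i₂ ≫ pullback.fst _ _ = (C₂ ↘ Spec (CommRingCat.of k)) ≫ x)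
    (L M : (pullback (C₁ ↘ Spec (CommRingCat.of k)) (C₂ ↘ Spec (CommRingCat.of k))).Modules)
    (hL : PicF.IsInvertible L)
    (hM : Nonempty (CohB1.tensorMod L M ≅ Coh.structureModule _)) :
    @FGA.intNum k _ (pullback (C₁ ↘ Spec (CommRingCat.of k)) (C₂ ↘ Spec (CommRingCat.of k)))
        ⟨pullback.fst _ _ ≫ (C₁ ↘ Spec (CommRingCat.of k))⟩ 2 2 ![M, M]
        (Coh.structureModule _) ≤
      2 * Curv2.deg k C₁ ((Scheme.Modules.pullback i₁).obj L) 1 *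
        Curv2.deg k C₂ ((Scheme.Modules.pullback i₂).obj L) 1 := by
  obtain ⟨hp₁, hs₁, hint₁, hd₁⟩ := h₁
  obtain ⟨hp₂, hs₂, hint₂, hd₂⟩ := h₂
  haveI := hp₁; haveI := hp₂; haveI := hs₁; haveI := hs₂; haveI := hint₁; haveI := hint₂
  letI : (pullback (C₁ ↘ Spec (CommRingCat.of k)) (C₂ ↘ Spec (CommRingCat.of k))).Over (Spec (CommRingCat.of k)) := ⟨pullback.fst (C₁ ↘ Spec (CommRingCat.of k)) (C₂ ↘ Spec (CommRingCat.of k)) ≫ (C₁ ↘ Spec (CommRingCat.of k))⟩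
  have hstr : ((pullback (C₁ ↘ Spec (CommRingCat.of k)) (C₂ ↘ Spec (CommRingCat.of k))) ↘ Spec (CommRingCat.of k)) = pullback.fst (C₁ ↘ Spec (CommRingCat.of k)) (C₂ ↘ Spec (CommRingCat.of k)) ≫ (C₁ ↘ Spec (CommRingCat.of k)) := rfl
  haveI : IsProper ((pullback (C₁ ↘ Spec (CommRingCat.of k)) (C₂ ↘ Spec (CommRingCat.of k))) ↘ Spec (CommRingCat.of k)) := by rw [hstr]; infer_instance
  haveI : Smooth ((pullback (C₁ ↘ Spec (CommRingCat.of k)) (C₂ ↘ Spec (CommRingCat.of k))) ↘ Spec (CommRingCat.of k)) := by rw [hstr]; infer_instance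
  haveI : IsIntegral (pullback (C₁ ↘ Spec (CommRingCat.of k)) (C₂ ↘ Spec (CommRingCat.of k))) := Groth.Agent.Lib.helper7.ProdCurves.isIntegral_pullback k (C₁ ↘ Spec (CommRingCat.of k)) (C₂ ↘ Spec (CommRingCat.of k))
  have hdim : topologicalKrullDim ↥(pullback (C₁ ↘ Spec (CommRingCat.of k)) (C₂ ↘ Spec (CommRingCat.of k))) = 2 := by
    have := Groth.Agent.Lib.helper7.ProdCurves.dim_pullback k (C₁ ↘ Spec (CommRingCat.of k)) (C₂ ↘ Spec (CommRingCat.of k)) 1 1 hd₁ hd₂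
    rw [this]; rfl
  have hd : topologicalKrullDim ↥(pullback (C₁ ↘ Spec (CommRingCat.of k)) (C₂ ↘ Spec (CommRingCat.of k))) ≤ ((2 : ℕ) : WithBot ℕ∞) := by rw [hdim]; rfl
  have hreg : ∀ s : ↥(pullback (C₁ ↘ Spec (CommRingCat.of k)) (C₂ ↘ Spec (CommRingCat.of k))), IsRegularLocalRing ((pullback (C₁ ↘ Spec (CommRingCat.of k)) (C₂ ↘ Spec (CommRingCat.of k))).presheaf.stalk s) :=
    fun s => Groth.Agent.Lib.helper7.SurfCartier.isRegularLocalRing_stalk_of_smooth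
      ((pullback (C₁ ↘ Spec (CommRingCat.of k)) (C₂ ↘ Spec (CommRingCat.of k))) ↘ Spec (CommRingCat.of k)) s
  have hreg₁ : ∀ s : C₁, IsRegularLocalRing (C₁.presheaf.stalk s) :=
    fun s => Groth.Agent.Lib.helper7.SurfCartier.isRegularLocalRing_stalk_of_smooth (C₁ ↘ Spec (CommRingCat.of k)) s
  have hreg₂ : ∀ s : C₂, IsRegularLocalRing (C₂.presheaf.stalk s) :=
    fun s => Groth.Agent.Lib.helper7.SurfCartier.isRegularLocalRing_stalk_of_smooth (C₂ ↘ Spec (CommRingCat.of k)) s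
  obtain ⟨H, hH⟩ := Groth.Agent.Lib.helper7.ProdCurves.exists_isAmple_pullback k (C₁ ↘ Spec (CommRingCat.of k)) (C₂ ↘ Spec (CommRingCat.of k)) hd₁.le hd₂.le
  -- the two curves are closed subschemes
  haveI : IsClosedImmersion i₁ := by
    haveI : IsClosedImmersion (i₁ ≫ pullback.fst (C₁ ↘ Spec (CommRingCat.of k)) (C₂ ↘ Spec (CommRingCat.of k))) := by rw [hi₁.1]; infer_instance
    exact IsClosedImmersion.of_comp i₁ (pullback.fst (C₁ ↘ Spec (CommRingCat.of k)) (C₂ ↘ Spec (CommRingCat.of k)))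
  haveI : IsClosedImmersion i₂ := by
    haveI : IsClosedImmersion (i₂ ≫ pullback.snd (C₁ ↘ Spec (CommRingCat.of k)) (C₂ ↘ Spec (CommRingCat.of k))) := by rw [hi₂.1]; infer_instance
    exact IsClosedImmersion.of_comp i₂ (pullback.snd (C₁ ↘ Spec (CommRingCat.of k)) (C₂ ↘ Spec (CommRingCat.of k)))
  -- they are fibres of the projections
  have hpb₁ : IsPullback i₁ (C₁ ↘ Spec (CommRingCat.of k)) (pullback.snd (C₁ ↘ Spec (CommRingCat.of k)) (C₂ ↘ Spec (CommRingCat.of k))) y := by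
    have s : IsPullback (i₁ ≫ pullback.fst (C₁ ↘ Spec (CommRingCat.of k)) (C₂ ↘ Spec (CommRingCat.of k))) (C₁ ↘ Spec (CommRingCat.of k)) (C₁ ↘ Spec (CommRingCat.of k)) (y ≫ (C₂ ↘ Spec (CommRingCat.of k))) := by
      rw [hi₁.1, hy]
      exact IsPullback.of_horiz_isIso ⟨by simp⟩
    exact IsPullback.of_right s hi₁.2 (IsPullback.of_hasPullback (C₁ ↘ Spec (CommRingCat.of k)) (C₂ ↘ Spec (CommRingCat.of k)))
  have hpb₂ : IsPullback i₂ (C₂ ↘ Spec (CommRingCat.of k)) (pullback.fst (C₁ ↘ Spec (CommRingCat.of k)) (C₂ ↘ Spec (CommRingCat.of k))) x := by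
    have s : IsPullback (i₂ ≫ pullback.snd (C₁ ↘ Spec (CommRingCat.of k)) (C₂ ↘ Spec (CommRingCat.of k))) (C₂ ↘ Spec (CommRingCat.of k)) (C₂ ↘ Spec (CommRingCat.of k)) (x ≫ (C₁ ↘ Spec (CommRingCat.of k))) := by
      rw [hi₂.1, hx]
      exact IsPullback.of_horiz_isIso ⟨by simp⟩
    exact IsPullback.of_right s hi₂.2 (IsPullback.of_hasPullback (C₁ ↘ Spec (CommRingCat.of k)) (C₂ ↘ Spec (CommRingCat.of k))).flip
  have hstr₁ : i₁ ≫ ((pullback (C₁ ↘ Spec (CommRingCat.of k)) (C₂ ↘ Spec (CommRingCat.of k))) ↘ Spec (CommRingCat.of k)) = (C₁ ↘ Spec (CommRingCat.of k)) := by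
    rw [hstr, ← Category.assoc, hi₁.1, Category.id_comp]
  have hstr₂ : i₂ ≫ ((pullback (C₁ ↘ Spec (CommRingCat.of k)) (C₂ ↘ Spec (CommRingCat.of k))) ↘ Spec (CommRingCat.of k)) = (C₂ ↘ Spec (CommRingCat.of k)) := by
    rw [hstr, ← Category.assoc, hi₂.2, Category.assoc, hx, Category.comp_id]
  obtain ⟨hJ₁, hA₁, hB₁⟩ := fibreCurve k (pullback (C₁ ↘ Spec (CommRingCat.of k)) (C₂ ↘ Spec (CommRingCat.of k))) C₂ hdim hreg hd₂ hreg₂
    (pullback.snd (C₁ ↘ Spec (CommRingCat.of k)) (C₂ ↘ Spec (CommRingCat.of k))) y hy hd₁ i₁ (C₁ ↘ Spec (CommRingCat.of k)) hpb₁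
  obtain ⟨hJ₂, hA₂, hB₂⟩ := fibreCurve k (pullback (C₁ ↘ Spec (CommRingCat.of k)) (C₂ ↘ Spec (CommRingCat.of k))) C₁ hdim hreg hd₁ hreg₁
    (pullback.fst (C₁ ↘ Spec (CommRingCat.of k)) (C₂ ↘ Spec (CommRingCat.of k))) x hx hd₂ i₂ (C₂ ↘ Spec (CommRingCat.of k)) hpb₂
  have h11 : P k (pullback (C₁ ↘ Spec (CommRingCat.of k)) (C₂ ↘ Spec (CommRingCat.of k))) (ClSub.idealMod i₁.ker) (ClSub.idealMod i₁.ker) = 0 :=
    hA₁ hd₁ i₁ (C₁ ↘ Spec (CommRingCat.of k)) hi₁.2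
  have h22 : P k (pullback (C₁ ↘ Spec (CommRingCat.of k)) (C₂ ↘ Spec (CommRingCat.of k))) (ClSub.idealMod i₂.ker) (ClSub.idealMod i₂.ker) = 0 :=
    hA₂ hd₂ i₂ (C₂ ↘ Spec (CommRingCat.of k)) hi₂.2
  have h12 : P k (pullback (C₁ ↘ Spec (CommRingCat.of k)) (C₂ ↘ Spec (CommRingCat.of k))) (ClSub.idealMod i₁.ker) (ClSub.idealMod i₂.ker) = 1 :=
    hB₁ i₂ hi₂.1 hstr₂
  have hkey := hyperbolic_ineq k (pullback (C₁ ↘ Spec (CommRingCat.of k)) (C₂ ↘ Spec (CommRingCat.of k))) hdim hH hL hJ₁ hJ₂ h11 h22 h12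
  -- the degrees
  have hLa : P k (pullback (C₁ ↘ Spec (CommRingCat.of k)) (C₂ ↘ Spec (CommRingCat.of k))) L (ClSub.idealMod i₁.ker) =
      - Curv2.deg k C₁ ((Scheme.Modules.pullback i₁).obj L) 1 := by
    rw [(Groth.Agent.Lib.helper7.SurfCurveImm.P_idealMod_ker k (pullback (C₁ ↘ Spec (CommRingCat.of k)) (C₂ ↘ Spec (CommRingCat.of k))) hdim hreg i₁ hd₁ hL).2,
      euler_congr_over k C₁ _ _ hstr₁, euler_congr_over k C₁ _ _ hstr₁ (Coh.structureModule C₁)]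
    unfold Curv2.deg
    simp
    rfl
  have hLb : P k (pullback (C₁ ↘ Spec (CommRingCat.of k)) (C₂ ↘ Spec (CommRingCat.of k))) L (ClSub.idealMod i₂.ker) =
      - Curv2.deg k C₂ ((Scheme.Modules.pullback i₂).obj L) 1 := by
    rw [(Groth.Agent.Lib.helper7.SurfCurveImm.P_idealMod_ker k (pullback (C₁ ↘ Spec (CommRingCat.of k)) (C₂ ↘ Spec (CommRingCat.of k))) hdim hreg i₂ hd₂ hL).2,
      euler_congr_over k C₂ _ _ hstr₂, euler_congr_over k C₂ _ _ hstr₂ (Coh.structureModule C₂)]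
    unfold Curv2.deg
    simp
    rfl
  rw [hLa, hLb] at hkey
  obtain ⟨εL⟩ := hM
  have hMinv : PicF.IsInvertible M :=
    Groth.Agent.Lib.helper11.AmpleAffine.isInvertible_of_isInverseOf hL ⟨εL⟩
  have hMM : P k (pullback (C₁ ↘ Spec (CommRingCat.of k)) (C₂ ↘ Spec (CommRingCat.of k))) M M = P k (pullback (C₁ ↘ Spec (CommRingCat.of k)) (C₂ ↘ Spec (CommRingCat.of k))) L L :=
    P_inv_inv k (pullback (C₁ ↘ Spec (CommRingCat.of k)) (C₂ ↘ Spec (CommRingCat.of k))) hd hL hMinv εL hL hMinv εL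
  change P k (pullback (C₁ ↘ Spec (CommRingCat.of k)) (C₂ ↘ Spec (CommRingCat.of k))) M M ≤ _
  rw [hMM]
  linarith

end Main

end Groth.Agent.Lib.helper7.CastSev
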