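import Mathlib
import Groth.Agent.Lib.Helper7.CastSevB

/-!
# Cauchy–Schwarz for the equivalence defect on a product of two curves (helper7)

* `prod_setup`: the surface `C₁ × C₂` is integral, proper, of dimension two, has an ample module, and the ideal
  sheaves `J₁, J₂` of `C₁ × pt`, `pt × C₂` span a hyperbolic plane and compute the fibre degrees;
* `defect_cs`: `((L·L') − αβ' − βα')² ≤ (2αβ − (L·L)) (2α'β' − (L'·L'))` in a hyperbolic situation;
* `defect_cs_prod`: the statement on `C₁ × C₂`.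
-/

set_option autoImplicit false
set_option linter.unusedSectionVars false
set_option linter.unusedVariables false
set_option linter.style.haveILetI false

universe u

open CategoryTheory Limits AlgebraicGeometry Opposite TopologicalSpace

namespace Groth.Agent.Lib.helper7.CastSev

open Groth.Agent.Lib.helper7.SurfHodge Groth.Agent.Lib.helper7.RuledInt

/-- a binary quadratic form over `ℤ` which is non-negative on `ℤ²` has non-positive discriminant -/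
theorem int_quadratic_cs (a b c : ℤ) (h : ∀ m n : ℤ, 0 ≤ m ^ 2 * a + 2 * m * n * b + n ^ 2 * c) :
    b ^ 2 ≤ a * c := by
  have ha : 0 ≤ a := by have := h 1 0; simpa using this
  rcases ha.lt_or_eq with hpos | h0
  · have h1 := h (-b) a
    have h2 : (-b) ^ 2 * a + 2 * (-b) * a * b + a ^ 2 * c = a * (a * c - b ^ 2) := by ring
    rw [h2] at h1
    have h3 : 0 ≤ a * c - b ^ 2 := by
      by_contra hneg
      rw [not_le] at hneg
      have := mul_neg_of_pos_of_neg hpos hneg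
      linarith
    linarith
  · subst h0
    have hb : b = 0 := by
      by_contra hb
      have hb2 : 1 ≤ b ^ 2 := by
        have : 0 < b ^ 2 := by positivity
        linarith
      have h1 := h (-b * (|c| + 1)) 1
      have h2 : (-b * (|c| + 1)) ^ 2 * 0 + 2 * (-b * (|c| + 1)) * 1 * b + 1 ^ 2 * c =
          c - 2 * b ^ 2 * (|c| + 1) := by ring
      rw [h2] at h1
      have h3 : c ≤ |c| := le_abs_self c
      have h4 : 0 ≤ |c| := abs_nonneg c
      nlinarith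
    rw [hb]; simp

section Hyperbolic

variable (k : Type u) [Field k] (X : Scheme.{u}) [X.Over (Spec (CommRingCat.of k))]
  [IsProper (X ↘ Spec (CommRingCat.of k))] [IsIntegral X]

/-- integer combinations of two invertible modules -/
theorem exists_int_combo (hd : topologicalKrullDim X ≤ ((2 : ℕ) : WithBot ℕ∞))
    {L L' : X.Modules} (hL : PicF.IsInvertible L) (hL' : PicF.IsInvertible L') (m n : ℤ) :
    ∃ Q : X.Modules, PicF.IsInvertible Q ∧ ∀ M : X.Modules, PicF.IsInvertible M →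
      P k X Q M = m * P k X L M + n * P k X L' M := by
  obtain ⟨Li, hLi, ⟨ε₁⟩, -⟩ := Groth.Agent.Lib.helper12.InvDual.exists_inverse hL
  obtain ⟨Li', hLi', ⟨ε₂⟩, -⟩ := Groth.Agent.Lib.helper12.InvDual.exists_inverse hL'
  have hinv : ∀ i : Fin 4, PicF.IsInvertible ((![L, Li, L', Li'] : Fin 4 → X.Modules) i) := by
    intro i; fin_cases i
    · exact hL
    · exact hLi
    · exact hL'
    · exact hLi'
  obtain ⟨Q, hQ, hQP⟩ := Groth.Agent.Lib.helper7.SurfNegDef.exists_combo k X hd 4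
    ![L, Li, L', Li'] hinv ![m.toNat, (-m).toNat, n.toNat, (-n).toNat]
  refine ⟨Q, hQ, fun M hM => ?_⟩
  rw [hQP M hM, Fin.sum_univ_four]
  simp only [Matrix.cons_val_zero, Matrix.cons_val_one, Matrix.cons_val_two,
    Matrix.cons_val_three, Matrix.head_cons, Matrix.tail_cons]
  rw [P_inv_left k X hd hM hL hLi ε₁, P_inv_left k X hd hM hL' hLi' ε₂]
  have e1 : ((m.toNat : ℕ) : ℤ) - (((-m).toNat : ℕ) : ℤ) = m := Int.toNat_sub_toNat_neg m
  have e2 : ((n.toNat : ℕ) : ℤ) - (((-n).toNat : ℕ) : ℤ) = n := Int.toNat_sub_toNat_neg n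
  linear_combination (P k X L M) * e1 + (P k X L' M) * e2

theorem defect_cs (hdim : topologicalKrullDim X = 2) {H : X.Modules} (hH : CohB1.IsAmple H)
    {L L' J₁ J₂ : X.Modules} (hL : PicF.IsInvertible L) (hL' : PicF.IsInvertible L')
    (hJ₁ : PicF.IsInvertible J₁)
    (hJ₂ : PicF.IsInvertible J₂) (h11 : P k X J₁ J₁ = 0) (h22 : P k X J₂ J₂ = 0)
    (h12 : P k X J₁ J₂ = 1) :
    (P k X L L' - P k X L J₁ * P k X L' J₂ - P k X L J₂ * P k X L' J₁) ^ 2 ≤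
      (2 * P k X L J₁ * P k X L J₂ - P k X L L) *
        (2 * P k X L' J₁ * P k X L' J₂ - P k X L' L') := by
  have hd : topologicalKrullDim X ≤ ((2 : ℕ) : WithBot ℕ∞) := by rw [hdim]; rfl
  have key : ∀ m n : ℤ, 0 ≤ m ^ 2 * (2 * P k X L J₁ * P k X L J₂ - P k X L L) +
      2 * m * n * (P k X L J₁ * P k X L' J₂ + P k X L J₂ * P k X L' J₁ - P k X L L') +
      n ^ 2 * (2 * P k X L' J₁ * P k X L' J₂ - P k X L' L') := by
    intro m n
    obtain ⟨Q, hQ, hQP⟩ := exists_int_combo k X hd hL hL' m n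
    have h1 := hyperbolic_ineq k X hdim hH hQ hJ₁ hJ₂ h11 h22 h12
    have hQQ : P k X Q Q = m * (m * P k X L L + n * P k X L' L) +
        n * (m * P k X L L' + n * P k X L' L') := by
      rw [hQP Q hQ, P_symm k X hd L Q, P_symm k X hd L' Q, hQP L hL, hQP L' hL']
    rw [hQQ, hQP J₁ hJ₁, hQP J₂ hJ₂, P_symm k X hd L' L] at h1
    nlinarith [h1]
  have h2 := int_quadratic_cs _ _ _ key
  have h3 : (P k X L L' - P k X L J₁ * P k X L' J₂ - P k X L J₂ * P k X L' J₁) ^ 2 =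
      (P k X L J₁ * P k X L' J₂ + P k X L J₂ * P k X L' J₁ - P k X L L') ^ 2 := by ring
  rw [h3]
  exact h2

end Hyperbolic

section Main

variable (k : Type u) [Field k] [IsAlgClosed k] (C₁ C₂ : Scheme.{u})
  [C₁.Over (Spec (CommRingCat.of k))] [C₂.Over (Spec (CommRingCat.of k))]

theorem defect_cs_prod
    (h₁ : Curve.IsSmoothProperCurve k C₁ (C₁ ↘ Spec (CommRingCat.of k)))
    (h₂ : Curve.IsSmoothProperCurve k C₂ (C₂ ↘ Spec (CommRingCat.of k)))
    (x : Spec (CommRingCat.of k) ⟶ C₁) (hx : x ≫ (C₁ ↘ Spec (CommRingCat.of k)) = 𝟙 _)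
    (y : Spec (CommRingCat.of k) ⟶ C₂) (hy : y ≫ (C₂ ↘ Spec (CommRingCat.of k)) = 𝟙 _)
    (i₁ : C₁ ⟶ pullback (C₁ ↘ Spec (CommRingCat.of k)) (C₂ ↘ Spec (CommRingCat.of k)))
    (hi₁ : i₁ ≫ pullback.fst _ _ = 𝟙 C₁ ∧ i₁ ≫ pullback.snd _ _ = (C₁ ↘ Spec (CommRingCat.of k)) ≫ y)
    (i₂ : C₂ ⟶ pullback (C₁ ↘ Spec (CommRingCat.of k)) (C₂ ↘ Spec (CommRingCat.of k)))
    (hi₂ : i₂ ≫ pullback.snd _ _ = 𝟙 C₂ ∧ i₂ ≫ pullback.fst _ _ = (C₂ ↘ Spec (CommRingCat.of k)) ≫ x)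
    (L M L' M' : (pullback (C₁ ↘ Spec (CommRingCat.of k)) (C₂ ↘ Spec (CommRingCat.of k))).Modules)
    (hL : PicF.IsInvertible L) (hM : Nonempty (CohB1.tensorMod L M ≅ Coh.structureModule _))
    (hL' : PicF.IsInvertible L') (hM' : Nonempty (CohB1.tensorMod L' M' ≅ Coh.structureModule _)) :
    (@FGA.intNum k _ (pullback (C₁ ↘ Spec (CommRingCat.of k)) (C₂ ↘ Spec (CommRingCat.of k)))
          ⟨pullback.fst _ _ ≫ (C₁ ↘ Spec (CommRingCat.of k))⟩ 2 2 ![M, M'] (Coh.structureModule _)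
        - Curv2.deg k C₁ ((Scheme.Modules.pullback i₁).obj L) 1
            * Curv2.deg k C₂ ((Scheme.Modules.pullback i₂).obj L') 1
        - Curv2.deg k C₂ ((Scheme.Modules.pullback i₂).obj L) 1
            * Curv2.deg k C₁ ((Scheme.Modules.pullback i₁).obj L') 1) ^ 2 ≤
      (2 * Curv2.deg k C₁ ((Scheme.Modules.pullback i₁).obj L) 1
            * Curv2.deg k C₂ ((Scheme.Modules.pullback i₂).obj L) 1
          - @FGA.intNum k _ (pullback (C₁ ↘ Spec (CommRingCat.of k)) (C₂ ↘ Spec (CommRingCat.of k)))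
              ⟨pullback.fst _ _ ≫ (C₁ ↘ Spec (CommRingCat.of k))⟩ 2 2 ![M, M] (Coh.structureModule _))
        * (2 * Curv2.deg k C₁ ((Scheme.Modules.pullback i₁).obj L') 1
            * Curv2.deg k C₂ ((Scheme.Modules.pullback i₂).obj L') 1
          - @FGA.intNum k _ (pullback (C₁ ↘ Spec (CommRingCat.of k)) (C₂ ↘ Spec (CommRingCat.of k)))
              ⟨pullback.fst _ _ ≫ (C₁ ↘ Spec (CommRingCat.of k))⟩ 2 2 ![M', M'] (Coh.structureModule _)) := by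
  obtain ⟨hp₁, hs₁, hint₁, hd₁⟩ := h₁
  obtain ⟨hp₂, hs₂, hint₂, hd₂⟩ := h₂
  haveI := hp₁; haveI := hp₂; haveI := hs₁; haveI := hs₂; haveI := hint₁; haveI := hint₂
  letI : (pullback (C₁ ↘ Spec (CommRingCat.of k)) (C₂ ↘ Spec (CommRingCat.of k))).Over (Spec (CommRingCat.of k)) := ⟨pullback.fst (C₁ ↘ Spec (CommRingCat.of k)) (C₂ ↘ Spec (CommRingCat.of k)) ≫ (C₁ ↘ Spec (CommRingCat.of k))⟩
  have hstr : ((pullback (C₁ ↘ Spec (CommRingCat.of k)) (C₂ ↘ Spec (CommRingCat.of k))) ↘ Spec (CommRingCat.of k)) = pullback.fst (C₁ ↘ Spec (CommRingCat.of k)) (C₂ ↘ Spec (CommRingCat.of k)) ≫ (C₁ ↘ Spec (CommRingCat.of k)) := rfl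
  haveI : IsProper ((pullback (C₁ ↘ Spec (CommRingCat.of k)) (C₂ ↘ Spec (CommRingCat.of k))) ↘ Spec (CommRingCat.of k)) := by rw [hstr]; infer_instance
  haveI : Smooth ((pullback (C₁ ↘ Spec (CommRingCat.of k)) (C₂ ↘ Spec (CommRingCat.of k))) ↘ Spec (CommRingCat.of k)) := by rw [hstr]; infer_instance
  haveI : IsIntegral (pullback (C₁ ↘ Spec (CommRingCat.of k)) (C₂ ↘ Spec (CommRingCat.of k))) := Groth.Agent.Lib.helper7.ProdCurves.isIntegral_pullback k (C₁ ↘ Spec (CommRingCat.of k)) (C₂ ↘ Spec (CommRingCat.of k))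
  have hdim : topologicalKrullDim ↥(pullback (C₁ ↘ Spec (CommRingCat.of k)) (C₂ ↘ Spec (CommRingCat.of k))) = 2 := by
    have := Groth.Agent.Lib.helper7.ProdCurves.dim_pullback k (C₁ ↘ Spec (CommRingCat.of k)) (C₂ ↘ Spec (CommRingCat.of k)) 1 1 hd₁ hd₂
    rw [this]; rfl
  have hd : topologicalKrullDim ↥(pullback (C₁ ↘ Spec (CommRingCat.of k)) (C₂ ↘ Spec (CommRingCat.of k))) ≤ ((2 : ℕ) : WithBot ℕ∞) := by rw [hdim]; rfl
  have hreg : ∀ s : ↥(pullback (C₁ ↘ Spec (CommRingCat.of k)) (C₂ ↘ Spec (CommRingCat.of k))), IsRegularLocalRing ((pullback (C₁ ↘ Spec (CommRingCat.of k)) (C₂ ↘ Spec (CommRingCat.of k))).presheaf.stalk s) :=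
    fun s => Groth.Agent.Lib.helper7.SurfCartier.isRegularLocalRing_stalk_of_smooth
      ((pullback (C₁ ↘ Spec (CommRingCat.of k)) (C₂ ↘ Spec (CommRingCat.of k))) ↘ Spec (CommRingCat.of k)) s
  have hreg₁ : ∀ s : C₁, IsRegularLocalRing (C₁.presheaf.stalk s) :=
    fun s => Groth.Agent.Lib.helper7.SurfCartier.isRegularLocalRing_stalk_of_smooth (C₁ ↘ Spec (CommRingCat.of k)) s
  have hreg₂ : ∀ s : C₂, IsRegularLocalRing (C₂.presheaf.stalk s) :=
    fun s => Groth.Agent.Lib.helper7.SurfCartier.isRegularLocalRing_stalk_of_smooth (C₂ ↘ Spec (CommRingCat.of k)) s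
  obtain ⟨H, hH⟩ := Groth.Agent.Lib.helper7.ProdCurves.exists_isAmple_pullback k (C₁ ↘ Spec (CommRingCat.of k)) (C₂ ↘ Spec (CommRingCat.of k)) hd₁.le hd₂.le
  -- the two curves are closed subschemes
  haveI : IsClosedImmersion i₁ := by
    haveI : IsClosedImmersion (i₁ ≫ pullback.fst (C₁ ↘ Spec (CommRingCat.of k)) (C₂ ↘ Spec (CommRingCat.of k))) := by rw [hi₁.1]; infer_instance
    exact IsClosedImmersion.of_comp i₁ (pullback.fst (C₁ ↘ Spec (CommRingCat.of k)) (C₂ ↘ Spec (CommRingCat.of k)))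
  haveI : IsClosedImmersion i₂ := by
    haveI : IsClosedImmersion (i₂ ≫ pullback.snd (C₁ ↘ Spec (CommRingCat.of k)) (C₂ ↘ Spec (CommRingCat.of k))) := by rw [hi₂.1]; infer_instance
    exact IsClosedImmersion.of_comp i₂ (pullback.snd (C₁ ↘ Spec (CommRingCat.of k)) (C₂ ↘ Spec (CommRingCat.of k)))
  -- they are fibres of the projections
  have hpb₁ : IsPullback i₁ (C₁ ↘ Spec (CommRingCat.of k)) (pullback.snd (C₁ ↘ Spec (CommRingCat.of k)) (C₂ ↘ Spec (CommRingCat.of k))) y := by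
    have s : IsPullback (i₁ ≫ pullback.fst (C₁ ↘ Spec (CommRingCat.of k)) (C₂ ↘ Spec (CommRingCat.of k))) (C₁ ↘ Spec (CommRingCat.of k)) (C₁ ↘ Spec (CommRingCat.of k)) (y ≫ (C₂ ↘ Spec (CommRingCat.of k))) := by
      rw [hi₁.1, hy]
      exact IsPullback.of_horiz_isIso ⟨by simp⟩
    exact IsPullback.of_right s hi₁.2 (IsPullback.of_hasPullback (C₁ ↘ Spec (CommRingCat.of k)) (C₂ ↘ Spec (CommRingCat.of k)))
  have hpb₂ : IsPullback i₂ (C₂ ↘ Spec (CommRingCat.of k)) (pullback.fst (C₁ ↘ Spec (CommRingCat.of k)) (C₂ ↘ Spec (CommRingCat.of k))) x := by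
    have s : IsPullback (i₂ ≫ pullback.snd (C₁ ↘ Spec (CommRingCat.of k)) (C₂ ↘ Spec (CommRingCat.of k))) (C₂ ↘ Spec (CommRingCat.of k)) (C₂ ↘ Spec (CommRingCat.of k)) (x ≫ (C₁ ↘ Spec (CommRingCat.of k))) := by
      rw [hi₂.1, hx]
      exact IsPullback.of_horiz_isIso ⟨by simp⟩
    exact IsPullback.of_right s hi₂.2 (IsPullback.of_hasPullback (C₁ ↘ Spec (CommRingCat.of k)) (C₂ ↘ Spec (CommRingCat.of k))).flip
  have hstr₁ : i₁ ≫ ((pullback (C₁ ↘ Spec (CommRingCat.of k)) (C₂ ↘ Spec (CommRingCat.of k))) ↘ Spec (CommRingCat.of k)) = (C₁ ↘ Spec (CommRingCat.of k)) := by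
    rw [hstr, ← Category.assoc, hi₁.1, Category.id_comp]
  have hstr₂ : i₂ ≫ ((pullback (C₁ ↘ Spec (CommRingCat.of k)) (C₂ ↘ Spec (CommRingCat.of k))) ↘ Spec (CommRingCat.of k)) = (C₂ ↘ Spec (CommRingCat.of k)) := by
    rw [hstr, ← Category.assoc, hi₂.2, Category.assoc, hx, Category.comp_id]
  obtain ⟨hJ₁, hA₁, hB₁⟩ := fibreCurve k (pullback (C₁ ↘ Spec (CommRingCat.of k)) (C₂ ↘ Spec (CommRingCat.of k))) C₂ hdim hreg hd₂ hreg₂
    (pullback.snd (C₁ ↘ Spec (CommRingCat.of k)) (C₂ ↘ Spec (CommRingCat.of k))) y hy hd₁ i₁ (C₁ ↘ Spec (CommRingCat.of k)) hpb₁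
  obtain ⟨hJ₂, hA₂, hB₂⟩ := fibreCurve k (pullback (C₁ ↘ Spec (CommRingCat.of k)) (C₂ ↘ Spec (CommRingCat.of k))) C₁ hdim hreg hd₁ hreg₁
    (pullback.fst (C₁ ↘ Spec (CommRingCat.of k)) (C₂ ↘ Spec (CommRingCat.of k))) x hx hd₂ i₂ (C₂ ↘ Spec (CommRingCat.of k)) hpb₂
  have h11 : P k (pullback (C₁ ↘ Spec (CommRingCat.of k)) (C₂ ↘ Spec (CommRingCat.of k))) (ClSub.idealMod i₁.ker) (ClSub.idealMod i₁.ker) = 0 :=
    hA₁ hd₁ i₁ (C₁ ↘ Spec (CommRingCat.of k)) hi₁.2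
  have h22 : P k (pullback (C₁ ↘ Spec (CommRingCat.of k)) (C₂ ↘ Spec (CommRingCat.of k))) (ClSub.idealMod i₂.ker) (ClSub.idealMod i₂.ker) = 0 :=
    hA₂ hd₂ i₂ (C₂ ↘ Spec (CommRingCat.of k)) hi₂.2
  have h12 : P k (pullback (C₁ ↘ Spec (CommRingCat.of k)) (C₂ ↘ Spec (CommRingCat.of k))) (ClSub.idealMod i₁.ker) (ClSub.idealMod i₂.ker) = 1 :=
    hB₁ i₂ hi₂.1 hstr₂
  -- the degrees
  have hdeg₁ : ∀ (A : (pullback (C₁ ↘ Spec (CommRingCat.of k)) (C₂ ↘ Spec (CommRingCat.of k))).Modules),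
      PicF.IsInvertible A →
      P k (pullback (C₁ ↘ Spec (CommRingCat.of k)) (C₂ ↘ Spec (CommRingCat.of k))) A (ClSub.idealMod i₁.ker) =
      - Curv2.deg k C₁ ((Scheme.Modules.pullback i₁).obj A) 1 := by
    intro A hA
    rw [(Groth.Agent.Lib.helper7.SurfCurveImm.P_idealMod_ker k (pullback (C₁ ↘ Spec (CommRingCat.of k)) (C₂ ↘ Spec (CommRingCat.of k))) hdim hreg i₁ hd₁ hA).2,
      euler_congr_over k C₁ _ _ hstr₁, euler_congr_over k C₁ _ _ hstr₁ (Coh.structureModule C₁)]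
    unfold Curv2.deg
    simp
    rfl
  have hdeg₂ : ∀ (A : (pullback (C₁ ↘ Spec (CommRingCat.of k)) (C₂ ↘ Spec (CommRingCat.of k))).Modules),
      PicF.IsInvertible A →
      P k (pullback (C₁ ↘ Spec (CommRingCat.of k)) (C₂ ↘ Spec (CommRingCat.of k))) A (ClSub.idealMod i₂.ker) =
      - Curv2.deg k C₂ ((Scheme.Modules.pullback i₂).obj A) 1 := by
    intro A hA
    rw [(Groth.Agent.Lib.helper7.SurfCurveImm.P_idealMod_ker k (pullback (C₁ ↘ Spec (CommRingCat.of k)) (C₂ ↘ Spec (CommRingCat.of k))) hdim hreg i₂ hd₂ hA).2,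
      euler_congr_over k C₂ _ _ hstr₂, euler_congr_over k C₂ _ _ hstr₂ (Coh.structureModule C₂)]
    unfold Curv2.deg
    simp
    rfl
  have hkey := defect_cs k (pullback (C₁ ↘ Spec (CommRingCat.of k)) (C₂ ↘ Spec (CommRingCat.of k))) hdim hH hL hL' hJ₁ hJ₂ h11 h22 h12
  rw [hdeg₁ L hL, hdeg₂ L hL, hdeg₁ L' hL', hdeg₂ L' hL'] at hkey
  obtain ⟨εL⟩ := hM
  obtain ⟨εL'⟩ := hM'
  have hMinv : PicF.IsInvertible M :=
    Groth.Agent.Lib.helper11.AmpleAffine.isInvertible_of_isInverseOf hL ⟨εL⟩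
  have hM'inv : PicF.IsInvertible M' :=
    Groth.Agent.Lib.helper11.AmpleAffine.isInvertible_of_isInverseOf hL' ⟨εL'⟩
  have hMM : P k (pullback (C₁ ↘ Spec (CommRingCat.of k)) (C₂ ↘ Spec (CommRingCat.of k))) M M = P k (pullback (C₁ ↘ Spec (CommRingCat.of k)) (C₂ ↘ Spec (CommRingCat.of k))) L L :=
    P_inv_inv k (pullback (C₁ ↘ Spec (CommRingCat.of k)) (C₂ ↘ Spec (CommRingCat.of k))) hd hL hMinv εL hL hMinv εL
  have hMM' : P k (pullback (C₁ ↘ Spec (CommRingCat.of k)) (C₂ ↘ Spec (CommRingCat.of k))) M M' = P k (pullback (C₁ ↘ Spec (CommRingCat.of k)) (C₂ ↘ Spec (CommRingCat.of k))) L L' :=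
    P_inv_inv k (pullback (C₁ ↘ Spec (CommRingCat.of k)) (C₂ ↘ Spec (CommRingCat.of k))) hd hL hMinv εL hL' hM'inv εL'
  have hM'M' : P k (pullback (C₁ ↘ Spec (CommRingCat.of k)) (C₂ ↘ Spec (CommRingCat.of k))) M' M' = P k (pullback (C₁ ↘ Spec (CommRingCat.of k)) (C₂ ↘ Spec (CommRingCat.of k))) L' L' :=
    P_inv_inv k (pullback (C₁ ↘ Spec (CommRingCat.of k)) (C₂ ↘ Spec (CommRingCat.of k))) hd hL' hM'inv εL' hL' hM'inv εL'
  change (P k (pullback (C₁ ↘ Spec (CommRingCat.of k)) (C₂ ↘ Spec (CommRingCat.of k))) M M' - _ - _) ^ 2 ≤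
    (_ - P k (pullback (C₁ ↘ Spec (CommRingCat.of k)) (C₂ ↘ Spec (CommRingCat.of k))) M M) *
    (_ - P k (pullback (C₁ ↘ Spec (CommRingCat.of k)) (C₂ ↘ Spec (CommRingCat.of k))) M' M')
  rw [hMM, hMM', hM'M']
  have e1 : ∀ a b c d e f g h : ℤ, (a - (-b) * (-c) - (-d) * (-e)) ^ 2 ≤ (2 * (-b) * (-d) - f) * (2 * (-e) * (-c) - g) →
      (a - b * c - d * e) ^ 2 ≤ (2 * b * d - f) * (2 * e * c - g) := by
    intro a b c d e f g h hh
    have h1 : (a - (-b) * (-c) - (-d) * (-e)) = (a - b * c - d * e) := by ring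
    have h2 : (2 * (-b) * (-d) - f) = (2 * b * d - f) := by ring
    have h3 : (2 * (-e) * (-c) - g) = (2 * e * c - g) := by ring
    rw [h1, h2, h3] at hh
    exact hh
  exact e1 _ _ _ _ _ _ _ 0 hkey

end Main

end Groth.Agent.Lib.helper7.CastSev
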