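import Mathlib
import Groth.Agent.Lib.Helper7.CastSevA
import Groth.Agent.Lib.Helper7.ProdCurves
import Groth.Agent.Lib.Helper7.SurfHodgeA
import Groth.Agent.Lib.Helper12.PullPic
import Groth.Agent.Lib.Helper11.AmpleAffine

/-!
# Intersection numbers of a vertical fibre on `C × C` (helper7)

`vertical_table`: on `C × C` (`C` a proper smooth connected curve over an algebraically closed field, `x` a rational
point, `A = O_C(x)`), the class `V = p₁^*A` of the fibre `{x} × C` satisfies `V² = 0`, `V · p₂^*A = 1`, and `V · Γ = 1` for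
the graph `Γ` of any `k`-endomorphism of `C` (in particular the diagonal).
-/

set_option autoImplicit false
set_option linter.unusedSectionVars false
set_option linter.unusedVariables false
set_option linter.style.haveILetI false

universe u

open CategoryTheory Limits AlgebraicGeometry Opposite TopologicalSpace

namespace Groth.Agent.Lib.helper7.CastSev

open Groth.Agent.Lib.helper7.SurfHodge Groth.Agent.Lib.helper7.RuledInt
  Groth.Agent.Lib.helper7.FibreIdeal Groth.Agent.Lib.Lead.ModTensor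

section Vertical

variable (k : Type u) [Field k] [IsAlgClosed k] (C : Scheme.{u})
  [C.Over (Spec (CommRingCat.of k))] [IsProper (C ↘ Spec (CommRingCat.of k))]
  [Smooth (C ↘ Spec (CommRingCat.of k))] [ConnectedSpace ↥C]

theorem vertical_table (hdim : topologicalKrullDim ↥C = 1)
    (x : Spec (CommRingCat.of k) ⟶ C) (hx : x ≫ (C ↘ Spec (CommRingCat.of k)) = 𝟙 _)
    (A : C.Modules) (hA : PicF.IsInvertible A) (hAinv : ClSub.IsInverseOf A (ClSub.idealMod x.ker)) :
    letI : (pullback (C ↘ Spec (CommRingCat.of k)) (C ↘ Spec (CommRingCat.of k))).Over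
      (Spec (CommRingCat.of k)) := ⟨pullback.fst (C ↘ Spec (CommRingCat.of k))
        (C ↘ Spec (CommRingCat.of k)) ≫ (C ↘ Spec (CommRingCat.of k))⟩
    FGA.intNum k (pullback (C ↘ Spec (CommRingCat.of k)) (C ↘ Spec (CommRingCat.of k))) 2
        ![(Scheme.Modules.pullback (pullback.fst (C ↘ Spec (CommRingCat.of k))
            (C ↘ Spec (CommRingCat.of k)))).obj A,
          (Scheme.Modules.pullback (pullback.fst (C ↘ Spec (CommRingCat.of k))
            (C ↘ Spec (CommRingCat.of k)))).obj A] (Coh.structureModule _) = 0 ∧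
      FGA.intNum k (pullback (C ↘ Spec (CommRingCat.of k)) (C ↘ Spec (CommRingCat.of k))) 2
        ![(Scheme.Modules.pullback (pullback.fst (C ↘ Spec (CommRingCat.of k))
            (C ↘ Spec (CommRingCat.of k)))).obj A,
          (Scheme.Modules.pullback (pullback.snd (C ↘ Spec (CommRingCat.of k))
            (C ↘ Spec (CommRingCat.of k)))).obj A] (Coh.structureModule _) = 1 ∧
      ∀ (τ : C ⟶ C) (hτ : τ ≫ (C ↘ Spec (CommRingCat.of k)) = (C ↘ Spec (CommRingCat.of k)))
        (N : (pullback (C ↘ Spec (CommRingCat.of k)) (C ↘ Spec (CommRingCat.of k))).Modules)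
        (γ : C ⟶ pullback (C ↘ Spec (CommRingCat.of k)) (C ↘ Spec (CommRingCat.of k))),
        γ ≫ pullback.fst _ _ = 𝟙 C →
        ClSub.IsInverseOf N (ClSub.idealMod γ.ker) →
        FGA.intNum k (pullback (C ↘ Spec (CommRingCat.of k)) (C ↘ Spec (CommRingCat.of k))) 2
          ![(Scheme.Modules.pullback (pullback.fst (C ↘ Spec (CommRingCat.of k))
              (C ↘ Spec (CommRingCat.of k)))).obj A, N] (Coh.structureModule _) = 1 := by
  haveI : QuasiCompact (C ↘ Spec (CommRingCat.of k)) := inferInstance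
  haveI : IsIntegral C :=
    Groth.Agent.Lib.Helper14.AbVarComm.isIntegral_of_smooth_connected (C ↘ Spec (CommRingCat.of k))
  letI : (pullback (C ↘ Spec (CommRingCat.of k)) (C ↘ Spec (CommRingCat.of k))).Over
    (Spec (CommRingCat.of k)) := ⟨pullback.fst (C ↘ Spec (CommRingCat.of k))
      (C ↘ Spec (CommRingCat.of k)) ≫ (C ↘ Spec (CommRingCat.of k))⟩
  have hstr : ((pullback (C ↘ Spec (CommRingCat.of k)) (C ↘ Spec (CommRingCat.of k))) ↘
      Spec (CommRingCat.of k)) = pullback.fst (C ↘ Spec (CommRingCat.of k))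
        (C ↘ Spec (CommRingCat.of k)) ≫ (C ↘ Spec (CommRingCat.of k)) := rfl
  haveI : IsProper ((pullback (C ↘ Spec (CommRingCat.of k)) (C ↘ Spec (CommRingCat.of k))) ↘
      Spec (CommRingCat.of k)) := by rw [hstr]; infer_instance
  haveI : Smooth ((pullback (C ↘ Spec (CommRingCat.of k)) (C ↘ Spec (CommRingCat.of k))) ↘
      Spec (CommRingCat.of k)) := by rw [hstr]; infer_instance
  haveI : IsIntegral (pullback (C ↘ Spec (CommRingCat.of k)) (C ↘ Spec (CommRingCat.of k))) :=
    Groth.Agent.Lib.helper7.ProdCurves.isIntegral_pullback k _ _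
  have hdimS : topologicalKrullDim
      ↥(pullback (C ↘ Spec (CommRingCat.of k)) (C ↘ Spec (CommRingCat.of k))) = 2 := by
    have := Groth.Agent.Lib.helper7.ProdCurves.dim_pullback k (C ↘ Spec (CommRingCat.of k))
      (C ↘ Spec (CommRingCat.of k)) 1 1 hdim hdim
    rw [this]; rfl
  have hd : topologicalKrullDim
      ↥(pullback (C ↘ Spec (CommRingCat.of k)) (C ↘ Spec (CommRingCat.of k))) ≤
      ((2 : ℕ) : WithBot ℕ∞) := by rw [hdimS]; rfl
  have hreg : ∀ s : ↥(pullback (C ↘ Spec (CommRingCat.of k)) (C ↘ Spec (CommRingCat.of k))),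
      IsRegularLocalRing ((pullback (C ↘ Spec (CommRingCat.of k))
        (C ↘ Spec (CommRingCat.of k))).presheaf.stalk s) :=
    fun s => Groth.Agent.Lib.helper7.SurfCartier.isRegularLocalRing_stalk_of_smooth
      ((pullback (C ↘ Spec (CommRingCat.of k)) (C ↘ Spec (CommRingCat.of k))) ↘
        Spec (CommRingCat.of k)) s
  have hregC : ∀ s : C, IsRegularLocalRing (C.presheaf.stalk s) :=
    fun s => Groth.Agent.Lib.helper7.SurfCartier.isRegularLocalRing_stalk_of_smooth
      (C ↘ Spec (CommRingCat.of k)) s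
  -- the two fibres
  let iv : C ⟶ pullback (C ↘ Spec (CommRingCat.of k)) (C ↘ Spec (CommRingCat.of k)) :=
    pullback.lift ((C ↘ Spec (CommRingCat.of k)) ≫ x) (𝟙 C)
      (by rw [Category.assoc, hx, Category.comp_id, Category.id_comp])
  let ih : C ⟶ pullback (C ↘ Spec (CommRingCat.of k)) (C ↘ Spec (CommRingCat.of k)) :=
    pullback.lift (𝟙 C) ((C ↘ Spec (CommRingCat.of k)) ≫ x)
      (by rw [Category.assoc, hx, Category.comp_id, Category.id_comp])
  have hiv1 : iv ≫ pullback.fst _ _ = (C ↘ Spec (CommRingCat.of k)) ≫ x := pullback.lift_fst _ _ _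
  have hiv2 : iv ≫ pullback.snd _ _ = 𝟙 C := pullback.lift_snd _ _ _
  have hih1 : ih ≫ pullback.fst _ _ = 𝟙 C := pullback.lift_fst _ _ _
  have hih2 : ih ≫ pullback.snd _ _ = (C ↘ Spec (CommRingCat.of k)) ≫ x := pullback.lift_snd _ _ _
  haveI : IsClosedImmersion iv := by
    haveI : IsClosedImmersion (iv ≫ pullback.snd (C ↘ Spec (CommRingCat.of k))
        (C ↘ Spec (CommRingCat.of k))) := by rw [hiv2]; infer_instance
    exact IsClosedImmersion.of_comp iv (pullback.snd _ _)
  haveI : IsClosedImmersion ih := by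
    haveI : IsClosedImmersion (ih ≫ pullback.fst (C ↘ Spec (CommRingCat.of k))
        (C ↘ Spec (CommRingCat.of k))) := by rw [hih1]; infer_instance
    exact IsClosedImmersion.of_comp ih (pullback.fst _ _)
  have hpbv : IsPullback iv (C ↘ Spec (CommRingCat.of k))
      (pullback.fst (C ↘ Spec (CommRingCat.of k)) (C ↘ Spec (CommRingCat.of k))) x := by
    have s : IsPullback (iv ≫ pullback.snd (C ↘ Spec (CommRingCat.of k))
        (C ↘ Spec (CommRingCat.of k))) (C ↘ Spec (CommRingCat.of k))
        (C ↘ Spec (CommRingCat.of k)) (x ≫ (C ↘ Spec (CommRingCat.of k))) := by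
      rw [hiv2, hx]
      exact IsPullback.of_horiz_isIso ⟨by simp⟩
    exact IsPullback.of_right s hiv1 (IsPullback.of_hasPullback _ _).flip
  have hpbh : IsPullback ih (C ↘ Spec (CommRingCat.of k))
      (pullback.snd (C ↘ Spec (CommRingCat.of k)) (C ↘ Spec (CommRingCat.of k))) x := by
    have s : IsPullback (ih ≫ pullback.fst (C ↘ Spec (CommRingCat.of k))
        (C ↘ Spec (CommRingCat.of k))) (C ↘ Spec (CommRingCat.of k))
        (C ↘ Spec (CommRingCat.of k)) (x ≫ (C ↘ Spec (CommRingCat.of k))) := by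
      rw [hih1, hx]
      exact IsPullback.of_horiz_isIso ⟨by simp⟩
    exact IsPullback.of_right s hih2 (IsPullback.of_hasPullback _ _)
  obtain ⟨hJv, hAv, hBv⟩ := fibreCurve k (pullback (C ↘ Spec (CommRingCat.of k))
    (C ↘ Spec (CommRingCat.of k))) C hdimS hreg hdim hregC (pullback.fst _ _) x hx hdim iv
    (C ↘ Spec (CommRingCat.of k)) hpbv
  obtain ⟨hJh, -, -⟩ := fibreCurve k (pullback (C ↘ Spec (CommRingCat.of k))
    (C ↘ Spec (CommRingCat.of k))) C hdimS hreg hdim hregC (pullback.snd _ _) x hx hdim ih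
    (C ↘ Spec (CommRingCat.of k)) hpbh
  -- `x` is a closed immersion, its ideal is invertible
  haveI : IsClosedImmersion x := by
    haveI : IsClosedImmersion (x ≫ (C ↘ Spec (CommRingCat.of k))) := by rw [hx]; infer_instance
    exact IsClosedImmersion.of_comp x (C ↘ Spec (CommRingCat.of k))
  have hN : PicF.IsInvertible (ClSub.idealMod x.ker) :=
    Groth.Agent.Lib.helper11.AmpleAffine.isInvertible_of_isInverseOf hA hAinv
  -- `p₁^*A` is inverse to `J_v`, `p₂^*A` to `J_h`
  have hKv : iv.ker = x.ker.comap (pullback.fst (C ↘ Spec (CommRingCat.of k))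
      (C ↘ Spec (CommRingCat.of k))) := ker_eq_comap_of_isPullback iv _ _ x hpbv
  have hKh : ih.ker = x.ker.comap (pullback.snd (C ↘ Spec (CommRingCat.of k))
      (C ↘ Spec (CommRingCat.of k))) := ker_eq_comap_of_isPullback ih _ _ x hpbh
  have hVinv : ClSub.IsInverseOf (ClSub.idealMod iv.ker)
      ((Scheme.Modules.pullback (pullback.fst (C ↘ Spec (CommRingCat.of k))
        (C ↘ Spec (CommRingCat.of k)))).obj A) :=
    isInverseOf_symm (isInverseOf_of_iso (Iso.refl _)
      (pullbackIdealIso _ x.ker iv.ker hKv hN hJv)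
      (Groth.Agent.Lib.helper12.PullPic.isInverseOf_pullback _ hN hAinv))
  have hHinv : ClSub.IsInverseOf (ClSub.idealMod ih.ker)
      ((Scheme.Modules.pullback (pullback.snd (C ↘ Spec (CommRingCat.of k))
        (C ↘ Spec (CommRingCat.of k)))).obj A) :=
    isInverseOf_symm (isInverseOf_of_iso (Iso.refl _)
      (pullbackIdealIso _ x.ker ih.ker hKh hN hJh)
      (Groth.Agent.Lib.helper12.PullPic.isInverseOf_pullback _ hN hAinv))
  obtain ⟨εV⟩ := hVinv
  obtain ⟨εH⟩ := hHinv
  have hV : PicF.IsInvertible ((Scheme.Modules.pullback (pullback.fst (C ↘ Spec (CommRingCat.of k))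
      (C ↘ Spec (CommRingCat.of k)))).obj A) :=
    Groth.Agent.Lib.helper11.InvMod.isInvertible_pullback _ hA
  have hH : PicF.IsInvertible ((Scheme.Modules.pullback (pullback.snd (C ↘ Spec (CommRingCat.of k))
      (C ↘ Spec (CommRingCat.of k)))).obj A) :=
    Groth.Agent.Lib.helper11.InvMod.isInvertible_pullback _ hA
  have hstrh : ih ≫ ((pullback (C ↘ Spec (CommRingCat.of k)) (C ↘ Spec (CommRingCat.of k))) ↘
      Spec (CommRingCat.of k)) = (C ↘ Spec (CommRingCat.of k)) := by
    rw [hstr, ← Category.assoc, hih1, Category.id_comp]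
  refine ⟨?_, ?_, ?_⟩
  · have h0 : P k _ (ClSub.idealMod iv.ker) (ClSub.idealMod iv.ker) = 0 :=
      hAv hdim iv (C ↘ Spec (CommRingCat.of k)) hiv1
    have h1 := P_inv_inv k (pullback (C ↘ Spec (CommRingCat.of k)) (C ↘ Spec (CommRingCat.of k)))
      hd hJv hV εV hJv hV εV
    exact h1.trans h0
  · have h0 : P k _ (ClSub.idealMod iv.ker) (ClSub.idealMod ih.ker) = 1 := hBv ih hih1 hstrh
    have h1 := P_inv_inv k (pullback (C ↘ Spec (CommRingCat.of k)) (C ↘ Spec (CommRingCat.of k)))
      hd hJv hV εV hJh hH εH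
    exact h1.trans h0
  · intro τ hτ N γ hγ hNinv
    haveI : IsClosedImmersion γ := by
      haveI : IsClosedImmersion (γ ≫ pullback.fst (C ↘ Spec (CommRingCat.of k))
          (C ↘ Spec (CommRingCat.of k))) := by rw [hγ]; infer_instance
      exact IsClosedImmersion.of_comp γ (pullback.fst _ _)
    have hstrγ : γ ≫ ((pullback (C ↘ Spec (CommRingCat.of k)) (C ↘ Spec (CommRingCat.of k))) ↘
        Spec (CommRingCat.of k)) = (C ↘ Spec (CommRingCat.of k)) := by
      rw [hstr, ← Category.assoc, hγ, Category.id_comp]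
    have h0 : P k _ (ClSub.idealMod iv.ker) (ClSub.idealMod γ.ker) = 1 := hBv γ hγ hstrγ
    have hJγ : PicF.IsInvertible (ClSub.idealMod γ.ker) :=
      (Groth.Agent.Lib.helper7.SurfCurveImm.P_idealMod_ker k _ hdimS hreg γ hdim
        (Groth.Agent.Lib.helper11.InvMod.isInvertible_structureModule _)).1
    obtain ⟨εN⟩ := isInverseOf_symm hNinv
    have hNi : PicF.IsInvertible N :=
      Groth.Agent.Lib.helper11.AmpleAffine.isInvertible_of_isInverseOf hJγ ⟨εN⟩
    have h1 := P_inv_inv k (pullback (C ↘ Spec (CommRingCat.of k)) (C ↘ Spec (CommRingCat.of k)))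
      hd hJv hV εV hJγ hNi εN
    exact h1.trans h0

end Vertical

end Groth.Agent.Lib.helper7.CastSev
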