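import Mathlib
import Groth.Agent.Lib.Helper7.IdealMod
import Groth.Agent.Lib.Helper18.HHZero
import Groth.Agent.Lib.Helper18.HHLES
import Groth.Agent.Lib.Helper16.IdemAlg
import Groth.Agent.Lib.Helper13.Normal11
import Groth.Agent.Lib.Helper9.CurveVanish
import Groth.Agent.Lib.Helper18.H0Field

/-!
# `H¹(X, I_D) = 0` for a connected reduced closed subscheme `D` when `H¹(X, O_X) = 0` (helper7)

* `exists_algebraMap_eq`: a reduced nontrivial algebra, integral over an algebraically closed field, with only trivial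
  idempotents, consists of scalars.
* `surjective_app_top_of_connected_reduced`: for `X` proper over an algebraically closed field and `D` a connected
  reduced closed subscheme, `Γ(X, O_X) → Γ(D, O_D)` is surjective.
* `subsingleton_H1_idealMod`.
-/

set_option autoImplicit false
set_option linter.unusedSectionVars false
set_option linter.unusedVariables false
set_option linter.style.haveILetI false

universe u

open CategoryTheory Limits AlgebraicGeometry Opposite TopologicalSpace

namespace Groth.Agent.Lib.helper7.ConnH1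

theorem exists_algebraMap_eq (k B : Type*) [Field k] [IsAlgClosed k] [CommRing B] [Algebra k B]
    [IsReduced B] [Nontrivial B] [Algebra.IsIntegral k B]
    (h : ∀ e : B, IsIdempotentElem e → e = 0 ∨ e = 1) (b : B) : ∃ c : k, algebraMap k B c = b := by
  let A : Subalgebra k B := Algebra.adjoin k {b}
  haveI : Module.Finite k A :=
    Algebra.finite_adjoin_simple_of_isIntegral (Algebra.IsIntegral.isIntegral b)
  haveI : IsReduced A := isReduced_of_injective A.val Subtype.val_injective
  have hA : ∀ e : A, IsIdempotentElem e → e = 0 ∨ e = 1 := by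
    intro e he
    have he' : IsIdempotentElem (e : B) := by
      have := congrArg Subtype.val he.eq
      exact this
    rcases h _ he' with h0 | h1
    · left; exact Subtype.ext h0
    · right; exact Subtype.ext h1
  have h1 : Module.finrank k A = 1 := by
    haveI : IsArtinianRing A := IsArtinianRing.of_finite k A
    haveI : IsLocalRing A := Groth.Agent.Lib.helper16.IdemAlg.isLocalRing_of_idem A hA
    have hfld : IsField A := IsArtinianRing.isField_of_isReduced_of_isLocalRing A
    letI := hfld.toField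
    haveI : IsDomain A := inferInstance
    exact Algebra.finrank_eq_one_iff_bijective_algebraMap.mpr
      IsAlgClosed.algebraMap_bijective_of_isIntegral
  have h2 : (⊥ : Subalgebra k A) = ⊤ := Subalgebra.bot_eq_top_of_finrank_eq_one h1
  have h3 : (⟨b, Algebra.subset_adjoin (Set.mem_singleton b)⟩ : A) ∈ (⊥ : Subalgebra k A) := by
    rw [h2]; exact Algebra.mem_top
  obtain ⟨c, hc⟩ := Algebra.mem_bot.mp h3
  exact ⟨c, congrArg Subtype.val hc⟩

variable (k : Type u) [Field k] [IsAlgClosed k] (X : Scheme.{u}) [X.Over (Spec (CommRingCat.of k))]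
  [IsProper (X ↘ Spec (CommRingCat.of k))]

include k

theorem surjective_app_top_of_connected_reduced (D : X.IdealSheafData)
    [ConnectedSpace ↥D.subscheme] [IsReduced D.subscheme] :
    Function.Surjective (D.subschemeι.appTop).hom := by
  set f : D.subscheme ⟶ Spec (CommRingCat.of k) := D.subschemeι ≫ (X ↘ Spec (CommRingCat.of k))
    with hf
  haveI : UniversallyClosed f := inferInstance
  let F := (Scheme.ΓSpecIso (CommRingCat.of k)).inv ≫ f.appTop
  have hF : F.hom.IsIntegral := by
    apply RingHom.isIntegral_respectsIso.2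
      (e := (Scheme.ΓSpecIso (CommRingCat.of k)).symm.commRingCatIsoToRingEquiv)
    exact isIntegral_appTop_of_universallyClosed f
  letI : Algebra k Γ(D.subscheme, ⊤) := F.hom.toAlgebra
  haveI : Algebra.IsIntegral k Γ(D.subscheme, ⊤) := ⟨hF⟩
  haveI : Nonempty (⊤ : D.subscheme.Opens) := by
    obtain ⟨w⟩ := (inferInstance : Nonempty ↥D.subscheme)
    exact ⟨⟨w, trivial⟩⟩
  haveI : Nontrivial Γ(D.subscheme, ⊤) := Scheme.component_nontrivial _ ⊤
  intro b
  obtain ⟨c, hc⟩ := exists_algebraMap_eq k Γ(D.subscheme, ⊤)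
    (fun e he => Groth.Agent.Lib.helper13.Normal.idempotent_eq_zero_or_one_of_isPreconnected
      (⊤ : D.subscheme.Opens) (by simpa using isPreconnected_univ) e he) b
  refine ⟨Coh.toGlobal (X ↘ Spec (CommRingCat.of k)) c, ?_⟩
  rw [← hc]
  change _ = F.hom c
  simp only [F, hf, Coh.toGlobal]
  rw [Scheme.Hom.comp_appTop]
  rfl

theorem subsingleton_H1_idealMod (hH1 : Subsingleton (Coh.HH X (Coh.structureModule X) 1))
    (D : X.IdealSheafData) [ConnectedSpace ↥D.subscheme] [IsReduced D.subscheme] :
    Subsingleton (Coh.HH X (ClSub.idealMod D) 1) := by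
  have hS := Groth.Agent.Lib.helper7.IdealMod.idealSeq_shortExact D
  set S := Groth.Agent.Lib.helper7.IdealMod.idealSeq D with hSdef
  -- surjectivity on `H⁰`
  have hsurj : Function.Surjective (Groth.Agent.Lib.Helper18.HH.map S.g 0) := by
    intro y
    obtain ⟨t, ht⟩ := surjective_app_top_of_connected_reduced k X D
      (Groth.Agent.Lib.Helper18.HH.equiv₀ S.X₃ y)
    let t' : S.X₂.val.obj (op ⊤) := t
    refine ⟨(Groth.Agent.Lib.Helper18.HH.equiv₀ S.X₂).symm t', ?_⟩
    have h1 := Groth.Agent.Lib.Helper18.HH.equiv₀_symm_naturality S.g t'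
    refine h1.trans ?_
    apply (Groth.Agent.Lib.Helper18.HH.equiv₀ S.X₃).injective
    rw [LinearEquiv.apply_symm_apply]
    exact ht
  have hδ : ∀ y, Groth.Agent.Lib.Helper18.HH.δ hS 0 y = 0 := by
    intro y
    obtain ⟨x, rfl⟩ := hsurj y
    exact (Groth.Agent.Lib.Helper18.HH.exact₃ hS 0 _).mpr ⟨x, rfl⟩
  have hinj : Function.Injective (Groth.Agent.Lib.Helper18.HH.map S.f 1) := by
    rw [injective_iff_map_eq_zero]
    intro x hx
    obtain ⟨y, rfl⟩ := (Groth.Agent.Lib.Helper18.HH.exact₁ hS 0 x).mp hx
    exact hδ y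
  haveI : Subsingleton (Coh.HH X S.X₂ 1) := hH1
  exact hinj.subsingleton

/-- conversely, `H¹(X, I_D) = 0` forces a nonempty `D` to be connected (`X` integral) -/
theorem connectedSpace_of_subsingleton_H1 [IsIntegral X] (D : X.IdealSheafData)
    (hne : Nonempty ↥D.subscheme) (hvan : Subsingleton (Coh.HH X (ClSub.idealMod D) 1)) :
    ConnectedSpace ↥D.subscheme := by
  have hS := Groth.Agent.Lib.helper7.IdealMod.idealSeq_shortExact D
  set S := Groth.Agent.Lib.helper7.IdealMod.idealSeq D with hSdef
  haveI : Subsingleton (Coh.HH X S.X₁ 1) := hvan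
  have hsurj0 : Function.Surjective (Groth.Agent.Lib.Helper18.HH.map S.g 0) := by
    intro y
    exact (Groth.Agent.Lib.Helper18.HH.exact₃ hS 0 y).mp (Subsingleton.elim _ _)
  have hsurj : Function.Surjective (D.subschemeι.appTop).hom := by
    intro b
    let b' : S.X₃.val.obj (op ⊤) := b
    obtain ⟨x, hx⟩ := hsurj0 ((Groth.Agent.Lib.Helper18.HH.equiv₀ S.X₃).symm b')
    have h1 := Groth.Agent.Lib.Helper18.HH.equiv₀_naturality S.g x
    rw [hx, LinearEquiv.apply_symm_apply] at h1
    exact ⟨Groth.Agent.Lib.Helper18.HH.equiv₀ S.X₂ x, h1.symm⟩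
  have h0 := Groth.Agent.Lib.helper9.CurveVanish.finrank_H0_structureModule_eq_one k X
  haveI : Nonempty (⊤ : D.subscheme.Opens) := by
    obtain ⟨w⟩ := hne
    exact ⟨⟨w, trivial⟩⟩
  haveI : Nontrivial Γ(D.subscheme, ⊤) := Scheme.component_nontrivial _ ⊤
  let ψ : k →+* Γ(D.subscheme, ⊤) :=
    (D.subschemeι.appTop).hom.comp (Coh.toGlobal (X ↘ Spec (CommRingCat.of k)))
  refine Groth.Agent.Lib.helper13.Normal.connectedSpace_of_idempotents D.subscheme (fun e he => ?_)
  obtain ⟨t, rfl⟩ := hsurj e
  obtain ⟨c, rfl⟩ := Groth.Agent.Lib.Helper18.H0Field.exists_toGlobal_eq k X h0 t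
  have h2 : ψ (c * c) = ψ c := by
    rw [map_mul]
    exact he.eq
  have h3 : c * c = c := ψ.injective h2
  have h4 : c = 0 ∨ c = 1 := by
    have : c * (c - 1) = 0 := by rw [mul_sub, h3, mul_one, sub_self]
    rcases mul_eq_zero.mp this with h | h
    · exact Or.inl h
    · exact Or.inr (sub_eq_zero.mp h)
  rcases h4 with rfl | rfl
  · left
    change ψ 0 = 0
    exact map_zero ψ
  · right
    change ψ 1 = 1
    exact map_one ψ

end Groth.Agent.Lib.helper7.ConnH1
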