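import Groth.Prelude.Def_Omega4

/-!
# Pushing derivations forward (helper7)

`pushDer f f' h b sq D'`: for a commutative square `f' ≫ b = h ≫ f` and a derivation
`D' : Der f' G`, the derivation `s ↦ D'(h♯ s)` of `O_X` into `h_* G` relative to `f`.
-/

set_option autoImplicit false
set_option linter.style.haveILetI false
universe u
open CategoryTheory CategoryTheory.Limits AlgebraicGeometry TopologicalSpace Opposite
open Scheme.Modules

namespace Groth.Agent.Lib.helper7.OmegaPush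

variable {X Y X' Y' : Scheme.{u}} (f : X ⟶ Y) (f' : X' ⟶ Y') (h : X' ⟶ X) (b : Y' ⟶ Y)
  (sq : f' ≫ b = h ≫ f) {G : X'.Modules} (D' : OmegaSh.Der f' G)

theorem pushforward_smul (W : X.Opens) (r : Γ(X, W)) (x : Γ((pushforward h).obj G, W)) :
    r • x = ((h.app W).hom r • (show Γ(G, h ⁻¹ᵁ W) from x) : Γ(G, h ⁻¹ᵁ W)) := rfl

theorem der_map' {W W' : X'.Opens} (i : W' ≤ W) (s : Γ(X', W)) :
    D'.app W' (X'.presheaf.map (homOfLE i).op s) = G.presheaf.map (homOfLE i).op (D'.app W s) :=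
  D'.d_map (homOfLE i).op s

include sq in
theorem der_comp_app (V : Y.Opens) (c : Γ(Y, V)) :
    D'.app (h ⁻¹ᵁ (f ⁻¹ᵁ V)) ((h.app (f ⁻¹ᵁ V)).hom ((f.app V).hom c)) = 0 := by
  have h1 : (h.app (f ⁻¹ᵁ V)).hom ((f.app V).hom c) = ((h ≫ f).app V).hom c := rfl
  rw [h1]
  have hle : h ⁻¹ᵁ (f ⁻¹ᵁ V) ≤ f' ⁻¹ᵁ (b ⁻¹ᵁ V) := by
    change (h ≫ f) ⁻¹ᵁ V ≤ (f' ≫ b) ⁻¹ᵁ V
    rw [sq]
  have h2 : ((h ≫ f).app V).hom c =
      X'.presheaf.map (homOfLE hle).op ((f'.app (b ⁻¹ᵁ V)).hom ((b.app V).hom c)) := by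
    have := Scheme.Hom.congr_app sq.symm V
    rw [this, CommRingCat.comp_apply]
    rfl
  have h4 : D'.app (f' ⁻¹ᵁ (b ⁻¹ᵁ V)) ((f'.app (b ⁻¹ᵁ V)).hom ((b.app V).hom c)) = 0 :=
    D'.d_app (X := op (b ⁻¹ᵁ V)) ((b.app V).hom c)
  rw [h2, der_map', h4, map_zero]

/-- the derivation `s ↦ D'(h♯ s)` of `O_X` into `h_* G`, relative to `f` -/
noncomputable def pushDer : OmegaSh.Der f ((pushforward h).obj G) where
  d {W} := (D'.app (h ⁻¹ᵁ W.unop)).comp (h.app W.unop).hom.toAddMonoidHom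
  d_mul {W} a c := by
    change D'.app (h ⁻¹ᵁ W.unop) ((h.app W.unop).hom (a * c)) = _
    rw [map_mul]
    exact D'.d_mul _ _
  d_map {W W'} i s := by
    change D'.app (h ⁻¹ᵁ W'.unop) ((h.app W'.unop).hom (X.presheaf.map i s)) =
      G.presheaf.map ((Opens.map h.base).map i.unop).op
        (D'.app (h ⁻¹ᵁ W.unop) ((h.app W.unop).hom s))
    have h1 : (h.app W'.unop).hom (X.presheaf.map i s) =
        X'.presheaf.map ((Opens.map h.base).map i.unop).op ((h.app W.unop).hom s) :=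
      congr($(h.naturality i) s)
    rw [h1]
    exact D'.d_map _ _
  d_app {V} c := der_comp_app f f' h b sq D' V.unop c

theorem pushDer_app (W : X.Opens) (s : Γ(X, W)) :
    (pushDer f f' h b sq D').app W s = D'.app (h ⁻¹ᵁ W) ((h.app W).hom s) := rfl

section Compat
variable {Ω : X.Modules} (d : OmegaSh.Der f Ω) {Ω' : X'.Modules} (d' : OmegaSh.Der f' Ω')

theorem homEquiv_app (c : (Scheme.Modules.pullback h).obj Ω ⟶ Ω') (U : X.Opens) (x : Γ(Ω, U)) :
    (((pullbackPushforwardAdjunction h).homEquiv Ω Ω' c).app U).hom x =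
      (c.app (h ⁻¹ᵁ U)).hom ((OmegaSh.pullSect h Ω U).hom x) := by
  rw [Adjunction.homEquiv_unit]
  rfl

theorem der_ext {F : X.Modules} (D₁ D₂ : OmegaSh.Der f F)
    (hD : ∀ (U : X.Opens) (s : Γ(X, U)), D₁.app U s = D₂.app U s) : D₁ = D₂ := by
  apply PresheafOfModules.Derivation.ext
  funext W
  ext s
  exact hD W.unop s

theorem postcomp_app {F : X.Modules} (φ : Ω ⟶ F) (U : X.Opens) (s : Γ(X, U)) :
    OmegaSh.Der.app (f := f) (d.postcomp φ.val) U s = (φ.app U).hom (d.app U s) := rfl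

theorem isDiffCompat_iff (c : (Scheme.Modules.pullback h).obj Ω ⟶ Ω') :
    OmegaSh.IsDiffCompat h d d' c ↔
      d.postcomp ((pullbackPushforwardAdjunction h).homEquiv Ω Ω' c).val =
        pushDer f f' h b sq d' := by
  constructor
  · intro hc
    refine der_ext f _ _ (fun U s => ?_)
    rw [postcomp_app, homEquiv_app, pushDer_app]
    exact hc U s
  · intro hc U s
    have := congrArg (fun D => OmegaSh.Der.app (f := f) D U s) hc
    simp only [postcomp_app, homEquiv_app, pushDer_app] at this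
    exact this

include sq in
/-- **Existence and uniqueness of the canonical map `h^* Ω_{X/S} → Ω_{X'/S'}`.** -/
theorem existsUnique_isDiffCompat (hd : OmegaSh.IsUniversal d) :
    ∃! c : (Scheme.Modules.pullback h).obj Ω ⟶ Ω', OmegaSh.IsDiffCompat h d d' c := by
  obtain ⟨c', hc', hu⟩ := hd _ (pushDer f f' h b sq d')
  let E := (pullbackPushforwardAdjunction h).homEquiv Ω Ω'
  refine ⟨E.symm c', ?_, ?_⟩
  · change OmegaSh.IsDiffCompat h d d' (E.symm c')
    rw [isDiffCompat_iff f f' h b sq d d']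
    change d.postcomp (E (E.symm c')).val = _
    rw [Equiv.apply_symm_apply]
    exact hc'
  · intro c hc
    change OmegaSh.IsDiffCompat h d d' c at hc
    rw [isDiffCompat_iff f f' h b sq d d'] at hc
    rw [← hu (E c) hc, Equiv.symm_apply_apply]

end Compat

end Groth.Agent.Lib.helper7.OmegaPush
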