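import Groth.Agent.Lib.Helper7.ConormalChart
import Groth.Agent.Lib.Helper7.OmegaPush

/-!
# Existence of the map `C_{Z/X} → i^*Ω` induced by a derivation (helper7)

For `i : Z ⟶ X` and any derivation `d : O_X → Ω` (relative to some `f : X ⟶ Y`) there is an
`O_Z`-linear map `φ : C_{Z/X} ⟶ i^*Ω` with `OmegaSh.IsConormalDiff i d φ`, constructed through the
pullback–pushforward adjunction.
-/

set_option autoImplicit false
set_option linter.style.haveILetI false
set_option linter.unusedSectionVars false
universe u
open CategoryTheory CategoryTheory.Limits AlgebraicGeometry TopologicalSpace Opposite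
open Scheme.Modules

namespace Groth.Agent.Lib.helper7.ConormalDiffExists

variable {X Y Z : Scheme.{u}} (i : Z ⟶ X) {f : X ⟶ Y} {Ω : X.Modules} (d : OmegaSh.Der f Ω)

theorem isBasis_all : Opens.IsBasis (Set.range (id : X.Opens → X.Opens)) := by
  rw [Opens.isBasis_iff_nbhd]
  intro U x hx
  exact ⟨U, ⟨U, rfl⟩, hx, le_rfl⟩

/-- the sectionwise map `s ↦ i^*(d s)` on the ideal of `i` -/
noncomputable def aux (W : X.Opens) : Γ(ClSub.idealMod i.ker, W) →+
    Γ((pushforward i).obj ((Scheme.Modules.pullback i).obj Ω), W) :=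
  (OmegaSh.pullSect i Ω W).hom.comp ((d.app W).comp (OmegaSh.idealSect i.ker W))

theorem aux_apply (W : X.Opens) (s : Γ(ClSub.idealMod i.ker, W)) :
    aux i d W s = (OmegaSh.pullSect i Ω W).hom (d.app W (OmegaSh.idealSect i.ker W s)) := rfl

theorem exists_adj : ∃ α : ClSub.idealMod i.ker ⟶
    (pushforward i).obj ((Scheme.Modules.pullback i).obj Ω),
    ∀ (W : X.Opens) (s : Γ(ClSub.idealMod i.ker, W)), α.app W s = aux i d W s := by
  refine ModBasisHom.exists_hom_of_basis (M := ClSub.idealMod i.ker)
    (N := (pushforward i).obj ((Scheme.Modules.pullback i).obj Ω)) id isBasis_all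
    (fun W => aux i d W) ?_ ?_
  · intro (W : X.Opens) (W' : X.Opens) h (s : Γ(ClSub.idealMod i.ker, W))
    rw [aux_apply, aux_apply, ConormalChart.idealSect_map, OmegaUniv.der_map]
    exact Groth.Agent.Lib.helper16.QCohEpi.app_map
      ((pullbackPushforwardAdjunction i).unit.app Ω) h _
  · intro (W : X.Opens) (r : Γ(X, W)) (s : Γ(ClSub.idealMod i.ker, W))
    rw [aux_apply, aux_apply]
    have h1 : OmegaSh.idealSect i.ker W (r • s) = r * OmegaSh.idealSect i.ker W s :=
      IdealMod.idealModι_app_smul i.ker W r s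
    rw [h1, OmegaUniv.der_mul, map_add]
    change (((pullbackPushforwardAdjunction i).unit.app Ω).app W).hom _ +
      (((pullbackPushforwardAdjunction i).unit.app Ω).app W).hom _ =
      r • (((pullbackPushforwardAdjunction i).unit.app Ω).app W).hom _
    have h2 : ∀ (a : Γ(X, W)) (ω : Γ(Ω, W)),
        (((pullbackPushforwardAdjunction i).unit.app Ω).app W).hom (a • ω) =
        a • (((pullbackPushforwardAdjunction i).unit.app Ω).app W).hom ω := fun a ω =>
      Scheme.Modules.Hom.app_smul ((pullbackPushforwardAdjunction i).unit.app Ω) a ω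
    rw [h2, h2]
    have h3 : OmegaSh.idealSect i.ker W s •
        (((pullbackPushforwardAdjunction i).unit.app Ω).app W).hom (d.app W r) = 0 := by
      rw [OmegaPush.pushforward_smul, ConormalChart.app_idealSect, zero_smul]
      rfl
    rw [h3, add_zero]

/-- **Existence of the conormal-to-differentials map.** -/
theorem exists_conormalDiff :
    ∃ φ : Omega.conormal i ⟶ (Scheme.Modules.pullback i).obj Ω, OmegaSh.IsConormalDiff i d φ := by
  obtain ⟨α, hα⟩ := exists_adj i d
  let adj := pullbackPushforwardAdjunction i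
  refine ⟨(adj.homEquiv _ _).symm α, fun U s => ?_⟩
  have h1 : adj.unit.app (ClSub.idealMod i.ker) ≫ (pushforward i).map ((adj.homEquiv _ _).symm α) =
      α := by
    exact (Adjunction.homEquiv_unit adj _ _ _).symm.trans (Equiv.apply_symm_apply _ α)
  have h2 := congrArg (fun ψ => (Scheme.Modules.Hom.app ψ U).hom s) h1
  exact h2.trans (hα U s)

end Groth.Agent.Lib.helper7.ConormalDiffExists
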