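import Mathlib
import Groth.Prelude.Def_Omega3
import Groth.Agent.Lib.Helper7.UnivThickRing

/-!
# Ring-level retraction between universal first order thickenings (helper7)

`R → S` formally smooth, `S → C`; `C'` the universal thickening of `C` over `S`, `C''` the one over
`R`, `κ : C'' → C'` the canonical map.  Then `κ` has a retraction `ρ : C' → C''` over `C`.
-/

set_option autoImplicit false
universe u

namespace Groth.Agent.Lib.helper7.ConormalSplitAlg

open Groth.Agent.Lib.helper7.UnivThickRing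

variable {R S C C' C'' : Type u} [CommRing R] [CommRing S] [CommRing C] [CommRing C'] [CommRing C'']
  [Algebra R S] [Algebra S C] [Algebra R C] [IsScalarTower R S C] [Algebra S C'] [Algebra R C'']
  [Algebra.FormallySmooth R S]
  (π' : C' →ₐ[S] C) (π'' : C'' →ₐ[R] C)
  (h' : OmegaSh.IsUnivThickeningRing S C C' π') (h'' : OmegaSh.IsUnivThickeningRing R C C'' π'')
  (κ : C'' →+* C') (hκπ : ∀ y, π' (κ y) = π'' y)
  (hκalg : ∀ r : R, κ (algebraMap R C'' r) = algebraMap S C' (algebraMap R S r))

include h' h'' hκπ hκalg in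
theorem exists_retraction : ∃ ρ : C' →+* C'', (∀ y, ρ (κ y) = y) ∧ ∀ x, π'' (ρ x) = π' x := by
  have hnil : IsNilpotent (RingHom.ker (π'' : C'' →+* C)) := ⟨2, h''.2.1⟩
  let σ : S →ₐ[R] C'' :=
    Algebra.FormallySmooth.liftOfSurjective (IsScalarTower.toAlgHom R S C) π'' h''.1 hnil
  have hσ : ∀ s, π'' (σ s) = algebraMap S C s := fun s =>
    Algebra.FormallySmooth.liftOfSurjective_apply (IsScalarTower.toAlgHom R S C) π'' h''.1 hnil s
  letI algS : Algebra S C'' := σ.toRingHom.toAlgebra
  let πS : C'' →ₐ[S] C := { π''.toRingHom with commutes' := fun s => hσ s }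
  have hπS : ∀ y, πS y = π'' y := fun y => rfl
  let I : Ideal C'' := RingHom.ker π''.toRingHom
  have hI : I ^ 2 = ⊥ := h''.2.1
  obtain ⟨abar, habar⟩ := exists_desc πS h''.1 (Ideal.Quotient.mkₐ S I) (fun c hc => by
    show Ideal.Quotient.mk I c = 0
    rw [Ideal.Quotient.eq_zero_iff_mem]
    exact hc)
  obtain ⟨a', ha', -⟩ := h'.2.2 C'' I hI abar
  have hρπ : ∀ x, π'' (a' x) = π' x := by
    intro x
    obtain ⟨y, hy⟩ := h''.1 (π' x)
    have h1 : Ideal.Quotient.mk I (a' x) = abar (π' x) := AlgHom.congr_fun ha' x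
    have h2 : abar (π'' y) = Ideal.Quotient.mk I y := AlgHom.congr_fun habar y
    rw [← hy, h2, Ideal.Quotient.eq] at h1
    have h3 : π'' (a' x - y) = 0 := h1
    rw [map_sub, sub_eq_zero] at h3
    rw [h3, hy]
  refine ⟨a'.toRingHom, ?_, hρπ⟩
  -- uniqueness over `R`
  obtain ⟨abarR, habarR⟩ := exists_desc π'' h''.1 (Ideal.Quotient.mkₐ R I) (fun c hc => by
    show Ideal.Quotient.mk I c = 0
    rw [Ideal.Quotient.eq_zero_iff_mem]
    exact hc)
  obtain ⟨a'', -, huniq⟩ := h''.2.2 C'' I hI abarR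
  let τ : C'' →ₐ[R] C'' :=
    { a'.toRingHom.comp κ with
      commutes' := fun r => by
        show a' (κ (algebraMap R C'' r)) = algebraMap R C'' r
        rw [hκalg, a'.commutes]
        show σ (algebraMap R S r) = _
        exact σ.commutes r }
  have e1 : τ = a'' := by
    apply huniq
    rw [habarR]
    ext y
    show Ideal.Quotient.mk I (a' (κ y)) = Ideal.Quotient.mk I y
    rw [Ideal.Quotient.eq]
    show π'' (a' (κ y) - y) = 0
    rw [map_sub, hρπ, hκπ, sub_self]
  have e2 : AlgHom.id R C'' = a'' := by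
    apply huniq
    rw [habarR]
    rfl
  intro y
  have := AlgHom.congr_fun (e1.trans e2.symm) y
  exact this

end Groth.Agent.Lib.helper7.ConormalSplitAlg
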