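import Mathlib
import Groth.Prelude.Def_Omega3
import Groth.Agent.Lib.Helper7.ConormalSplitAlg
import Groth.Agent.Lib.Helper7.OmegaSeqAlg5

/-!
# Conormal module of a formally unramified lci algebra is finite projective (helper7)
-/

set_option autoImplicit false
set_option linter.style.haveILetI false
set_option linter.unusedSectionVars false
universe u
open TensorProduct

namespace Groth.Agent.Lib.helper7.ConormalLciAlg

open Groth.Agent.Lib.helper8.PullbackUnit Groth.Agent.Lib.helper7.UnivThickRing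

section QuotSq

variable {S C : Type u} [CommRing S] [CommRing C] [Algebra S C]

/-- the projection `S/I² → C` for `I = ker (S → C)` -/
noncomputable def piSq : (S ⧸ (RingHom.ker (algebraMap S C)) ^ 2) →ₐ[S] C :=
  Ideal.Quotient.liftₐ ((RingHom.ker (algebraMap S C)) ^ 2) (Algebra.ofId S C) (fun x hx => by
    have : x ∈ RingHom.ker (algebraMap S C) := Ideal.pow_le_self two_ne_zero hx
    exact this)

theorem piSq_mk (s : S) :
    piSq (S := S) (C := C) (Ideal.Quotient.mk _ s) = algebraMap S C s := rfl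

theorem isUnivThickeningRing_quotient_sq (hsurj : Function.Surjective (algebraMap S C)) :
    OmegaSh.IsUnivThickeningRing S C (S ⧸ (RingHom.ker (algebraMap S C)) ^ 2) piSq := by
  set I := RingHom.ker (algebraMap S C) with hI
  refine ⟨?_, ?_, ?_⟩
  · intro c
    obtain ⟨s, rfl⟩ := hsurj c
    exact ⟨Ideal.Quotient.mk _ s, rfl⟩
  · have hk : RingHom.ker (piSq (S := S) (C := C)).toRingHom = I.map (Ideal.Quotient.mk (I ^ 2)) := by
      apply le_antisymm
      · intro x hx
        obtain ⟨s, rfl⟩ := Ideal.Quotient.mk_surjective x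
        have : algebraMap S C s = 0 := hx
        exact Ideal.mem_map_of_mem _ this
      · rw [Ideal.map_le_iff_le_comap]
        intro s hs
        show piSq (Ideal.Quotient.mk _ s) = 0
        rw [piSq_mk]
        exact hs
    rw [hk, ← Ideal.map_pow, Ideal.map_quotient_self]
  · intro A _ _ J hJ a
    have hIJ : ∀ x ∈ I, algebraMap S A x ∈ J := by
      intro x hx
      rw [← Ideal.Quotient.eq_zero_iff_mem]
      have h1 : Ideal.Quotient.mk J (algebraMap S A x) = algebraMap S (A ⧸ J) x := rfl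
      rw [h1, ← a.commutes, (show algebraMap S C x = 0 from hx), map_zero]
    have hI2 : ∀ x ∈ I ^ 2, algebraMap S A x = 0 := by
      intro x hx
      have h1 : algebraMap S A x ∈ J ^ 2 := by
        have h2 : (I ^ 2).map (algebraMap S A) ≤ J ^ 2 := by
          rw [Ideal.map_pow]
          exact Ideal.pow_right_mono (Ideal.map_le_iff_le_comap.mpr hIJ) 2
        exact h2 (Ideal.mem_map_of_mem _ hx)
      rw [hJ] at h1
      exact h1
    refine ⟨Ideal.Quotient.liftₐ (I ^ 2) (Algebra.ofId S A) hI2, ?_, ?_⟩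
    · ext x
      obtain ⟨s, rfl⟩ := Ideal.Quotient.mk_surjective x
      show Ideal.Quotient.mk J (algebraMap S A s) = a (algebraMap S C s)
      rw [a.commutes]
      rfl
    · intro a'' _
      ext x
      obtain ⟨s, rfl⟩ := Ideal.Quotient.mk_surjective x
      show a'' (algebraMap S (S ⧸ I ^ 2) s) = algebraMap S A s
      exact a''.commutes s

end QuotSq

section Main

variable {R S C C'' : Type u} [CommRing R] [CommRing S] [CommRing C] [CommRing C'']
  [Algebra R S] [Algebra S C] [Algebra R C] [IsScalarTower R S C] [Algebra R C'']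
  [Algebra.FormallySmooth R S]
  (hsurj : Function.Surjective (algebraMap S C))
  (π'' : C'' →ₐ[R] C) (h'' : OmegaSh.IsUnivThickeningRing R C C'' π'')
  {n : ℕ} (b : Fin n → S) (hb : CAlgX.IsH1Regular b)
  (hgen : RingHom.ker (algebraMap S C) = Ideal.span (Set.range b))
  {K'' P'' : Type u} [AddCommGroup K''] [Module C'' K''] [AddCommGroup P''] [Module C P'']
  (ι'' : K'' →ₗ[C''] C'') (hι''inj : Function.Injective ι'')
  (hι'' : Set.range ι'' = (RingHom.ker π''.toRingHom : Set C''))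
  (q'' : K'' →+ P'') (hq'' : IsBC π''.toRingHom q'')

include hsurj h'' hb hgen hι''inj hι'' hq'' in
theorem finite_projective : Module.Finite C P'' ∧ Module.Projective C P'' := by
  set I := RingHom.ker (algebraMap S C) with hI
  let C' := S ⧸ I ^ 2
  let mk' : S →+* C' := Ideal.Quotient.mk (I ^ 2)
  have hmk' : Function.Surjective mk' := Ideal.Quotient.mk_surjective
  let π' : C' →ₐ[S] C := piSq
  have hπ'mk : ∀ s, π' (mk' s) = algebraMap S C s := fun s => rfl
  have h' : OmegaSh.IsUnivThickeningRing S C C' π' := isUnivThickeningRing_quotient_sq hsurj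
  -- the canonical map `κ : C'' → C'`
  let π'R : C' →ₐ[R] C := π'.restrictScalars R
  obtain ⟨abarR, habarR⟩ := exists_desc π'R h'.1
    (Ideal.Quotient.mkₐ R (RingHom.ker π'.toRingHom)) (fun c hc => by
      show Ideal.Quotient.mk _ c = 0
      rw [Ideal.Quotient.eq_zero_iff_mem]
      exact hc)
  obtain ⟨κ, hκ, -⟩ := h''.2.2 C' (RingHom.ker π'.toRingHom) h'.2.1 abarR
  have hκπ : ∀ y, π' (κ y) = π'' y := by
    intro y
    obtain ⟨z, hz⟩ := h'.1 (π'' y)
    have h1 : Ideal.Quotient.mk _ (κ y) = abarR (π'' y) := AlgHom.congr_fun hκ y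
    have h2 : abarR (π' z) = Ideal.Quotient.mk _ z := AlgHom.congr_fun habarR z
    rw [← hz, h2, Ideal.Quotient.eq] at h1
    have h3 : π' (κ y - z) = 0 := h1
    rw [map_sub, sub_eq_zero] at h3
    rw [h3, hz]
  have hκalg : ∀ r : R, κ.toRingHom (algebraMap R C'' r) = algebraMap S C' (algebraMap R S r) := by
    intro r
    show κ (algebraMap R C'' r) = _
    rw [κ.commutes, IsScalarTower.algebraMap_apply R S C']
  obtain ⟨r₀, hr1, hr2⟩ := ConormalSplitAlg.exists_retraction π' π'' h' h'' κ.toRingHom hκπ hκalg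
  -- the free module `F = C ⊗ I`
  let q₃l : I →ₗ[S] C ⊗[S] I := TensorProduct.mk S C I 1
  have hq₃ : IsBC (algebraMap S C) q₃l.toAddMonoidHom :=
    IsBC.of_isBaseChange q₃l (TensorProduct.isBaseChange S I C)
  have hιKB : Set.range (I.subtype : I →ₗ[S] S) = (RingHom.ker (algebraMap S C) : Set S) := by
    ext x
    constructor
    · rintro ⟨y, rfl⟩; exact y.2
    · intro hx; exact ⟨⟨x, hx⟩, rfl⟩
  obtain ⟨e⟩ := OmegaSeqAlg.conormal_free (b := b) S C hsurj (I.subtype : I →ₗ[S] S)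
    Subtype.val_injective hιKB q₃l.toAddMonoidHom hq₃ hb hgen
  -- `q₃` kills `I²`
  have hkill : ∀ (w : S) (hw : w ∈ I * I) (hw' : w ∈ I), q₃l ⟨w, hw'⟩ = 0 := by
    intro w hw
    refine Submodule.mul_induction_on' (C := fun w _ => ∀ hw' : w ∈ I, q₃l ⟨w, hw'⟩ = 0)
      ?_ ?_ hw
    · intro a ha c hc hw'
      have h1 : (⟨a * c, hw'⟩ : I) = a • (⟨c, hc⟩ : I) := rfl
      rw [h1, map_smul]
      have h3 : algebraMap S C a = 0 := ha
      have h4 : a • q₃l ⟨c, hc⟩ = algebraMap S C a • q₃l ⟨c, hc⟩ := (algebraMap_smul C a _).symm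
      rw [h4, h3, zero_smul]
    · intro x hx y hy hx0 hy0 hw'
      have hx' : x ∈ I := Ideal.mul_le_right hx
      have hy' : y ∈ I := Ideal.mul_le_right hy
      have h1 : (⟨x + y, hw'⟩ : I) = ⟨x, hx'⟩ + ⟨y, hy'⟩ := rfl
      rw [h1, map_add, hx0 hx', hy0 hy', add_zero]
  have hq₃eq : ∀ x x' : I, mk' x = mk' x' → q₃l x = q₃l x' := by
    intro x x' hxx'
    have h1 : (x : S) - x' ∈ I ^ 2 := Ideal.Quotient.eq.mp hxx'
    rw [pow_two] at h1
    have h2 := hkill _ h1 (I.sub_mem x.2 x'.2)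
    have h3 : (⟨(x : S) - x', I.sub_mem x.2 x'.2⟩ : I) = x - x' := rfl
    rw [h3, map_sub, sub_eq_zero] at h2
    exact h2
  -- the map `τ : I → K''`
  have hexτ : ∀ x : I, ∃ t : K'', ι'' t = r₀ (mk' x) := by
    intro x
    have h1 : r₀ (mk' x) ∈ (RingHom.ker π''.toRingHom : Set C'') := by
      show π'' (r₀ (mk' x)) = 0
      rw [hr2, hπ'mk]
      exact x.2
    rw [← hι''] at h1
    exact h1
  choose τ hτ using hexτ
  have hτadd : ∀ x y, τ (x + y) = τ x + τ y := by
    intro x y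
    apply hι''inj
    rw [map_add, hτ, hτ, hτ]
    show r₀ (mk' ((x : S) + y)) = _
    rw [map_add, map_add]
  have hτsmul : ∀ (s : S) (x : I), τ (s • x) = r₀ (mk' s) • τ x := by
    intro s x
    apply hι''inj
    rw [map_smul, hτ, hτ, smul_eq_mul]
    show r₀ (mk' (s * x)) = _
    rw [map_mul, map_mul]
  let β₀ : I →+ P'' := q''.comp (AddMonoidHom.mk' τ hτadd)
  have hβ₀ : ∀ (s : S) (x : I), β₀ (s • x) = algebraMap S C s • β₀ x := by
    intro s x
    show q'' (τ (s • x)) = algebraMap S C s • q'' (τ x)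
    rw [hτsmul, hq''.map_smul]
    congr 1
    show π'' (r₀ (mk' s)) = _
    rw [hr2, hπ'mk]
  obtain ⟨β, hβ, -⟩ := hq₃.existsUnique_lift P'' β₀ hβ₀
  -- the map `σ : K'' → I`
  have hexσ : ∀ s : K'', ∃ x : I, mk' x = κ (ι'' s) := by
    intro s
    obtain ⟨y, hy⟩ := hmk' (κ (ι'' s))
    have hyI : y ∈ I := by
      show algebraMap S C y = 0
      rw [← hπ'mk, hy, hκπ]
      have : ι'' s ∈ Set.range ι'' := ⟨s, rfl⟩
      rw [hι''] at this
      exact this
    exact ⟨⟨y, hyI⟩, hy⟩
  choose σ hσ using hexσ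
  have hαadd : ∀ s₁ s₂, q₃l (σ (s₁ + s₂)) = q₃l (σ s₁) + q₃l (σ s₂) := by
    intro s₁ s₂
    rw [← map_add]
    apply hq₃eq
    have h1 : mk' ((σ s₁ : S) + σ s₂) = κ (ι'' (s₁ + s₂)) := by
      rw [map_add, hσ, hσ, map_add, map_add]
    rw [hσ]
    exact h1.symm
  let α₀ : K'' →+ C ⊗[S] I := AddMonoidHom.mk' (fun s => q₃l (σ s)) hαadd
  have hα₀ : ∀ (c : C'') (s : K''), α₀ (c • s) = π''.toRingHom c • α₀ s := by
    intro c s
    obtain ⟨y, hy⟩ := hmk' (κ c)
    have h1 : q₃l (σ (c • s)) = q₃l (y • σ s) := by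
      apply hq₃eq
      rw [hσ, map_smul, smul_eq_mul, map_mul]
      show _ = mk' (y * σ s)
      rw [map_mul, hy, hσ]
    show q₃l (σ (c • s)) = π'' c • q₃l (σ s)
    rw [h1, map_smul, ← hκπ, ← hy, hπ'mk]
    exact (algebraMap_smul C y _).symm
  obtain ⟨α, hα, -⟩ := hq''.existsUnique_lift (C ⊗[S] I) α₀ hα₀
  have hβα : β ∘ₗ α = LinearMap.id := by
    obtain ⟨z, -, hz⟩ := hq''.existsUnique_lift P'' q'' hq''.map_smul
    rw [hz (β ∘ₗ α) (fun s => ?_), hz LinearMap.id (fun s => rfl)]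
    show β (α (q'' s)) = q'' s
    rw [hα]
    show β (q₃l (σ s)) = q'' s
    have := hβ (σ s)
    rw [show (q₃l.toAddMonoidHom (σ s)) = q₃l (σ s) from rfl] at this
    rw [this]
    show q'' (τ (σ s)) = q'' s
    congr 1
    apply hι''inj
    rw [hτ, hσ]
    exact hr1 _
  have hsplit : ∀ x, (β ∘ₗ e.symm.toLinearMap) ((e.toLinearMap ∘ₗ α) x) = x := by
    intro x
    show β (e.symm (e (α x))) = x
    rw [e.symm_apply_apply]
    exact congr($hβα x)
  constructor
  · exact Module.Finite.of_surjective (β ∘ₗ e.symm.toLinearMap)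
      (fun x => ⟨_, hsplit x⟩)
  · exact Module.Projective.of_split (e.toLinearMap ∘ₗ α) (β ∘ₗ e.symm.toLinearMap)
      (LinearMap.ext hsplit)

end Main

end Groth.Agent.Lib.helper7.ConormalLciAlg
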