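import Groth.Agent.Lib.Helper7.ConormalSplitSec
import Groth.Agent.Lib.Helper7.QCohAffineHom
import Groth.Agent.Lib.Helper7.ThickAff5
import Groth.Agent.Lib.Helper7.UnivThick7

/-!
# The conormal sequence of a formally smooth morphism is locally split (helper7)
-/

set_option autoImplicit false
set_option linter.style.haveILetI false
set_option linter.unusedSectionVars false
universe u
open CategoryTheory CategoryTheory.Limits AlgebraicGeometry TopologicalSpace Opposite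
open Scheme.Modules

namespace Groth.Agent.Lib.helper7.ConormalSplitMain

open Groth.Agent.Lib.helper8.PullbackUnit

/-- an open of a thickening whose trace on the thickened scheme is affine is affine -/
theorem isAffineOpen_of_preimage {T T' : Scheme.{u}} (t : T ⟶ T')
    (ht : MoreMor.IsFirstOrderThickening t) (O : T'.Opens) (h : IsAffineOpen (t ⁻¹ᵁ O)) :
    IsAffineOpen O := by
  have hcl : IsClosedImmersion t := ht.1.1
  have hs : Surjective t := ht.1.2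
  haveI : IsAffine (t ⁻¹ᵁ O).toScheme := h
  have hs' : Surjective (t ∣_ O) := IsZariskiLocalAtTarget.restrict hs O
  exact ThickAff.isAffine_of_thickening (t ∣_ O) hs'.surj

variable {Z X Y Z' Z'' : Scheme.{u}} (i : Z ⟶ X) (p : X ⟶ Y) (hp : MoreMor.IsFormallySmoothHom p)
  (i' : Z ⟶ Z') (a : Z' ⟶ X) (hZ' : OmegaSh.IsUnivThickening i i' a)
  (k : Z' ⟶ Z'') (b : Z'' ⟶ Y) (hZ'' : OmegaSh.IsUnivThickening (i ≫ p) (i' ≫ k) b)
  (hk₂ : k ≫ b = a ≫ p)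
  (ψ : (Scheme.Modules.pullback (𝟙 Z)).obj (Omega.conormal (i' ≫ k)) ⟶ Omega.conormal i')
  (hψ : OmegaSh.IsConormalMap i' (i' ≫ k) k (𝟙 Z) ψ)

/-- adapted charts -/
structure Chart where
  UY : Y.Opens
  UX : X.Opens
  O'' : Z''.Opens
  hUY : IsAffineOpen UY
  hUX : IsAffineOpen UX
  eXY : UX ≤ p ⁻¹ᵁ UY
  hO'' : IsAffineOpen O''
  eO'' : O'' ≤ b ⁻¹ᵁ UY
  hO' : IsAffineOpen (k ⁻¹ᵁ O'')
  eO' : k ⁻¹ᵁ O'' ≤ a ⁻¹ᵁ UX

include hZ' hZ'' in
theorem exists_chart (z : Z) : ∃ c : Chart p a k b, z ∈ i' ⁻¹ᵁ (k ⁻¹ᵁ c.O'') := by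
  have hci' : IsClosedImmersion i' := hZ'.1.1.1
  have hci'' : IsClosedImmersion (i' ≫ k) := hZ''.1.1.1
  have hia : i' ≫ a = i := hZ'.2.1
  have hib : (i' ≫ k) ≫ b = i ≫ p := hZ''.2.1
  -- affine nbhd in `Y`
  obtain ⟨UY, hUY, hyUY, -⟩ := Opens.isBasis_iff_nbhd.mp Y.isBasis_affineOpens
    (show p (i z) ∈ (⊤ : Y.Opens) from trivial)
  obtain ⟨UX, hUX, hxUX, eXY⟩ := Opens.isBasis_iff_nbhd.mp X.isBasis_affineOpens
    (show i z ∈ p ⁻¹ᵁ UY from hyUY)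
  obtain ⟨O₀, hO₀⟩ := UnivThick.exists_open_preimage (i' ≫ k) hZ''.1 (i ⁻¹ᵁ UX)
  have hzO₀ : (i' ≫ k) z ∈ O₀ := by
    have : z ∈ (i' ≫ k) ⁻¹ᵁ O₀ := by rw [hO₀]; exact hxUX
    exact this
  obtain ⟨O'', hO'', hzO'', eOO₀⟩ := Opens.isBasis_iff_nbhd.mp Z''.isBasis_affineOpens hzO₀
  have hmem : ∀ t : Z, (i' ≫ k) t ∈ O'' → i t ∈ UX := by
    intro t ht
    have : t ∈ (i' ≫ k) ⁻¹ᵁ O₀ := eOO₀ ht
    rw [hO₀] at this
    exact this
  have eO'' : O'' ≤ b ⁻¹ᵁ UY := by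
    intro w hw
    obtain ⟨t, rfl⟩ := hZ''.1.1.2.surj w
    have h1 : i t ∈ UX := hmem t hw
    have h2 : p (i t) ∈ UY := eXY h1
    show b ((i' ≫ k) t) ∈ UY
    rw [← Scheme.Hom.comp_apply, hib]
    exact h2
  have eO' : k ⁻¹ᵁ O'' ≤ a ⁻¹ᵁ UX := by
    intro w hw
    obtain ⟨t, rfl⟩ := hZ'.1.1.2.surj w
    have h1 : i t ∈ UX := hmem t hw
    show a (i' t) ∈ UX
    rw [← Scheme.Hom.comp_apply, hia]
    exact h1
  have hO' : IsAffineOpen (k ⁻¹ᵁ O'') :=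
    isAffineOpen_of_preimage i' hZ'.1 (k ⁻¹ᵁ O'') (hO''.preimage (i' ≫ k))
  exact ⟨⟨UY, UX, O'', hUY, hUX, eXY, hO'', eO'', hO', eO'⟩, hzO''⟩

include hp hZ' hZ'' hk₂ hψ in
/-- `ψ` is a monomorphism -/
theorem mono_conormalMap : Mono ψ := by
  have hci' : IsClosedImmersion i' := hZ'.1.1.1
  have hci'' : IsClosedImmersion (i' ≫ k) := hZ''.1.1.1
  haveI : (Omega.conormal i').IsQuasicoherent := OmegaAffine.conormal_qcoh i'
  haveI : (Omega.conormal (i' ≫ k)).IsQuasicoherent := OmegaAffine.conormal_qcoh (i' ≫ k)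
  haveI : ((Scheme.Modules.pullback (𝟙 Z)).obj (Omega.conormal (i' ≫ k))).IsQuasicoherent :=
    Groth.Agent.Lib.helper16.QCohPullback.isQuasicoherent_pullback (𝟙 Z) (Omega.conormal (i' ≫ k))
  refine KerSections.mono_of_injective_cover ψ
    (fun c : Chart p a k b => i' ⁻¹ᵁ (k ⁻¹ᵁ c.O'')) (fun c => c.hO'.preimage i')
    (exists_chart i p i' a hZ' k b hZ'') (fun c => ?_)
  obtain ⟨r, hr⟩ := ConormalSplitSec.exists_sections_retraction i p hp i' a hZ' k b hZ'' hk₂ ψ hψ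
    c.hUY c.hUX c.eXY c.hO'' c.eO'' c.hO' c.eO' (i' ⁻¹ᵁ (k ⁻¹ᵁ c.O'')) rfl
  exact Function.LeftInverse.injective (g := r) hr

include hp hZ' hZ'' hk₂ hψ in
/-- `ψ` has a retraction over a neighbourhood of every point -/
theorem exists_local_retraction (z : Z) :
    ∃ (U : Z.Opens) (r : (Scheme.Modules.restrictFunctor U.ι).obj (Omega.conormal i') ⟶
        (Scheme.Modules.restrictFunctor U.ι).obj
          ((Scheme.Modules.pullback (𝟙 Z)).obj (Omega.conormal (i' ≫ k)))),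
      z ∈ U ∧ (Scheme.Modules.restrictFunctor U.ι).map ψ ≫ r = 𝟙 _ := by
  have hci' : IsClosedImmersion i' := hZ'.1.1.1
  have hci'' : IsClosedImmersion (i' ≫ k) := hZ''.1.1.1
  obtain ⟨c, hzc⟩ := exists_chart i p i' a hZ' k b hZ'' z
  let U : Z.Opens := i' ⁻¹ᵁ (k ⁻¹ᵁ c.O'')
  have hU : IsAffineOpen U := c.hO'.preimage i'
  haveI : IsAffine U.toScheme := hU
  have hT₀ : U.ι ''ᵁ ⊤ = i' ⁻¹ᵁ (k ⁻¹ᵁ c.O'') := Scheme.Opens.ι_image_top U
  obtain ⟨r₁, hr₁⟩ := ConormalSplitSec.exists_sections_retraction i p hp i' a hZ' k b hZ'' hk₂ ψ hψ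
    c.hUY c.hUX c.eXY c.hO'' c.eO'' c.hO' c.eO' (U.ι ''ᵁ ⊤) hT₀
  haveI : (Omega.conormal i').IsQuasicoherent := OmegaAffine.conormal_qcoh i'
  haveI : (Omega.conormal (i' ≫ k)).IsQuasicoherent := OmegaAffine.conormal_qcoh (i' ≫ k)
  haveI : ((Scheme.Modules.pullback (𝟙 Z)).obj (Omega.conormal (i' ≫ k))).IsQuasicoherent :=
    Groth.Agent.Lib.helper16.QCohPullback.isQuasicoherent_pullback (𝟙 Z) (Omega.conormal (i' ≫ k))
  let M := (Scheme.Modules.restrictFunctor U.ι).obj (Omega.conormal i')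
  let F := (Scheme.Modules.restrictFunctor U.ι).obj
    ((Scheme.Modules.pullback (𝟙 Z)).obj (Omega.conormal (i' ≫ k)))
  let l : Γ(M, ⊤) →ₗ[Γ(U.toScheme, ⊤)] Γ(F, ⊤) :=
    { toFun := fun m => r₁ m
      map_add' := fun m₁ m₂ => r₁.map_add m₁ m₂
      map_smul' := fun cc m => r₁.map_smul ((U.ι.appIso ⊤).inv cc) m }
  obtain ⟨rr, hrr⟩ := QCohAffineHom.exists_hom_of_top M F l
  refine ⟨U, rr, hzc, ?_⟩
  apply QCohAffineHom.hom_ext_of_top
  intro m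
  exact (hrr ((ψ.app (U.ι ''ᵁ ⊤)).hom m)).trans (hr₁ m)

end Groth.Agent.Lib.helper7.ConormalSplitMain
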