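import Groth.Agent.Lib.Helper7.ConormalLciAlg
import Groth.Agent.Lib.Helper7.ConormalSplitMain
import Groth.Agent.Lib.Helper7.OmegaSeq7

/-!
# Conormal sheaf of a formally unramified lci morphism: chart statement (helper7)
-/

set_option autoImplicit false
set_option linter.style.haveILetI false
set_option linter.unusedSectionVars false
universe u
open CategoryTheory CategoryTheory.Limits AlgebraicGeometry TopologicalSpace Opposite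
open Scheme.Modules

namespace Groth.Agent.Lib.helper7.ConormalLciChart

open Groth.Agent.Lib.helper8.PullbackUnit OmegaChart OmegaSeq4 OmegaSeq5 OmegaSeq7

variable {X Y X' : Scheme.{u}} (f : X ⟶ Y) (i : X ⟶ X') (h' : X' ⟶ Y)
  (hu : OmegaSh.IsUnivThickening f i h')
  {Z₀ P₀ : Scheme.{u}} [IsAffine P₀] (ι₃ : Z₀ ⟶ X) [IsOpenImmersion ι₃]
  (j₀ : Z₀ ⟶ P₀) [IsClosedImmersion j₀] (π₀ : P₀ ⟶ Y) [Smooth π₀] (w : j₀ ≫ π₀ = ι₃ ≫ f)
  (hH1 : H1Chart j₀ ⊤)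

include hu w hH1 in
theorem exists_chart (x₀ : Z₀) : ∃ T : X.Opens, IsAffineOpen T ∧ ι₃ x₀ ∈ T ∧
    Module.Finite Γ(X, T) Γ(Omega.conormal i, T) ∧
      Module.Projective Γ(X, T) Γ(Omega.conormal i, T) := by
  have hci : IsClosedImmersion i := hu.1.1.1
  have hih : i ≫ h' = f := hu.2.1
  -- affine nbhd in `Y`
  obtain ⟨W, hW, hyW, -⟩ := Opens.isBasis_iff_nbhd.mp Y.isBasis_affineOpens
    (show π₀ (j₀ x₀) ∈ (⊤ : Y.Opens) from trivial)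
  obtain ⟨g, hg1, hg2⟩ := (isAffineOpen_top P₀).exists_basicOpen_le (V := π₀ ⁻¹ᵁ W)
    ⟨j₀ x₀, hyW⟩ (show j₀ x₀ ∈ (⊤ : P₀.Opens) from trivial)
  set V' : P₀.Opens := P₀.basicOpen g with hV'def
  have hV' : IsAffineOpen V' := (isAffineOpen_top P₀).basicOpen g
  have eV'W : V' ≤ π₀ ⁻¹ᵁ W := hg1
  obtain ⟨n, b, hb, hker⟩ := h1Chart_basicOpen j₀ (isAffineOpen_top P₀) hH1 g
  -- the chart on `X`
  have hT₀ : IsAffineOpen (j₀ ⁻¹ᵁ V') := hV'.preimage j₀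
  set T : X.Opens := ι₃ ''ᵁ (j₀ ⁻¹ᵁ V') with hTdef
  have hT : IsAffineOpen T := hT₀.image_of_isOpenImmersion ι₃
  obtain ⟨O'', hO''T⟩ := UnivThick.exists_open_preimage i hu.1 T
  have hTaff : IsAffineOpen (i ⁻¹ᵁ O'') := by rw [hO''T]; exact hT
  have hO'' : IsAffineOpen O'' := ConormalSplitMain.isAffineOpen_of_preimage i hu.1 O'' hTaff
  have hx₀T : ι₃ x₀ ∈ i ⁻¹ᵁ O'' := by
    rw [hO''T]
    exact ⟨x₀, hg2, rfl⟩
  have hmemT : ∀ t ∈ T, f t ∈ W := by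
    rintro _ ⟨t₀, ht₀, rfl⟩
    have h1 : π₀ (j₀ t₀) ∈ W := eV'W ht₀
    rw [← Scheme.Hom.comp_apply, w] at h1
    exact h1
  have eO''W : O'' ≤ h' ⁻¹ᵁ W := by
    intro y hy
    obtain ⟨t, rfl⟩ := hu.1.1.2.surj y
    have ht : t ∈ T := by rw [← hO''T]; exact hy
    show h' (i t) ∈ W
    rw [← Scheme.Hom.comp_apply, hih]
    exact hmemT t ht
  have eTW : i ⁻¹ᵁ O'' ≤ f ⁻¹ᵁ W := by
    intro t ht
    rw [hO''T] at ht
    exact hmemT t ht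
  refine ⟨i ⁻¹ᵁ O'', hTaff, hx₀T, ?_⟩
  -- the ring map `S → C`
  have eTT : i ⁻¹ᵁ O'' ≤ T := hO''T.le
  let φ : Γ(P₀, V') ⟶ Γ(X, i ⁻¹ᵁ O'') :=
    j₀.app V' ≫ (ι₃.appIso (j₀ ⁻¹ᵁ V')).inv ≫ X.presheaf.map (homOfLE eTT).op
  have hφsurj : Function.Surjective φ.hom := by
    have h1 : Function.Surjective (j₀.app V').hom := j₀.app_surjective V' hV'
    have h2 : Function.Bijective ((ι₃.appIso (j₀ ⁻¹ᵁ V')).inv ≫
        X.presheaf.map (homOfLE eTT).op).hom := by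
      haveI : IsIso (X.presheaf.map (homOfLE eTT).op) := by
        have : IsIso (homOfLE eTT) := ⟨⟨homOfLE hO''T.ge, rfl, rfl⟩⟩
        infer_instance
      exact ConcreteCategory.bijective_of_isIso _
    intro c
    obtain ⟨c₁, hc₁⟩ := h2.2 c
    obtain ⟨s, hs⟩ := h1 c₁
    exact ⟨s, by rw [← hc₁, ← hs]; rfl⟩
  have hφker : RingHom.ker φ.hom = Ideal.span (Set.range b) := by
    rw [← hker]
    have h2 : Function.Injective ((ι₃.appIso (j₀ ⁻¹ᵁ V')).inv ≫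
        X.presheaf.map (homOfLE eTT).op).hom := by
      haveI : IsIso (X.presheaf.map (homOfLE eTT).op) := by
        have : IsIso (homOfLE eTT) := ⟨⟨homOfLE hO''T.ge, rfl, rfl⟩⟩
        infer_instance
      exact (ConcreteCategory.bijective_of_isIso _).1
    ext s
    rw [RingHom.mem_ker, RingHom.mem_ker]
    constructor
    · intro hs
      apply h2
      rw [map_zero]
      exact hs
    · intro hs
      show ((ι₃.appIso (j₀ ⁻¹ᵁ V')).inv ≫ X.presheaf.map (homOfLE eTT).op).hom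
        ((j₀.app V').hom s) = 0
      rw [hs, map_zero]
  -- algebra structures
  letI algRS : Algebra Γ(Y, W) Γ(P₀, V') := (π₀.appLE W V' eV'W).hom.toAlgebra
  letI algSC : Algebra Γ(P₀, V') Γ(X, i ⁻¹ᵁ O'') := φ.hom.toAlgebra
  letI algRC'' : Algebra Γ(Y, W) Γ(X', O'') := (h'.appLE W O'' eO''W).hom.toAlgebra
  letI algC''C : Algebra Γ(X', O'') Γ(X, i ⁻¹ᵁ O'') :=
    (i.appLE O'' (i ⁻¹ᵁ O'') le_rfl).hom.toAlgebra
  letI algRC : Algebra Γ(Y, W) Γ(X, i ⁻¹ᵁ O'') := (f.appLE W (i ⁻¹ᵁ O'') eTW).hom.toAlgebra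
  haveI fs : Algebra.FormallySmooth Γ(Y, W) Γ(P₀, V') :=
    (Smooth.smooth_appLE π₀ hW hV' eV'W).formallySmooth
  haveI t1 : IsScalarTower Γ(Y, W) Γ(X', O'') Γ(X, i ⁻¹ᵁ O'') :=
    IsScalarTower.of_algebraMap_eq' (by
      change (f.appLE W (i ⁻¹ᵁ O'') eTW).hom =
        (i.appLE O'' (i ⁻¹ᵁ O'') le_rfl).hom.comp (h'.appLE W O'' eO''W).hom
      rw [← CommRingCat.hom_comp, Scheme.Hom.appLE_comp_appLE]
      exact congrArg _ (OmegaSeq4.appLE_congr hih.symm W _ _ _))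
  haveI t2 : IsScalarTower Γ(Y, W) Γ(P₀, V') Γ(X, i ⁻¹ᵁ O'') :=
    IsScalarTower.of_algebraMap_eq' (by
      change (f.appLE W (i ⁻¹ᵁ O'') eTW).hom = φ.hom.comp (π₀.appLE W V' eV'W).hom
      rw [← CommRingCat.hom_comp]
      congr 1
      -- `f.appLE W (i⁻¹O'') = π₀.appLE W V' ≫ φ`
      have e1 : j₀ ⁻¹ᵁ V' ≤ (ι₃ ≫ f) ⁻¹ᵁ W := fun t ht => hmemT _ ⟨t, ht, rfl⟩
      have e2 : j₀ ⁻¹ᵁ V' ≤ (j₀ ≫ π₀) ⁻¹ᵁ W := fun t ht => eV'W ht
      have eTW' : T ≤ f ⁻¹ᵁ W := fun t ht => hmemT t ht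
      have h1 : (ι₃ ≫ f).appLE W (j₀ ⁻¹ᵁ V') e1 = (j₀ ≫ π₀).appLE W (j₀ ⁻¹ᵁ V') e2 :=
        (OmegaSeq4.appLE_congr w W _ _ _).symm
      have h2 : (ι₃ ≫ f).appLE W (j₀ ⁻¹ᵁ V') e1 =
          f.appLE W T eTW' ≫ (ι₃.appIso (j₀ ⁻¹ᵁ V')).hom := by
        rw [Scheme.Hom.appIso_hom', Scheme.Hom.appLE_comp_appLE]
      have h3 : (j₀ ≫ π₀).appLE W (j₀ ⁻¹ᵁ V') e2 = π₀.appLE W V' eV'W ≫ j₀.app V' := by
        rw [j₀.app_eq_appLE, Scheme.Hom.appLE_comp_appLE]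
      have h4 : f.appLE W T eTW' = π₀.appLE W V' eV'W ≫ j₀.app V' ≫
          (ι₃.appIso (j₀ ⁻¹ᵁ V')).inv := by
        rw [← Category.assoc, ← h3, ← h1, h2, Category.assoc, Iso.hom_inv_id, Category.comp_id]
      have h5 : f.appLE W (i ⁻¹ᵁ O'') eTW = f.appLE W T eTW' ≫ X.presheaf.map (homOfLE eTT).op :=
        (Scheme.Hom.appLE_map f eTW' (homOfLE eTT).op).symm
      rw [h5, h4]
      simp only [Category.assoc, φ])
  have hu'' := UnivThickOmega.isUnivThickeningRing_chart f i h' hu hW hO'' eO''W eTW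
  have happ : i.appLE O'' (i ⁻¹ᵁ O'') le_rfl = i.app O'' := (i.app_eq_appLE (U := O'')).symm
  -- module data
  have hι'' : Set.range (idealSectₗ i.ker O'') =
      (RingHom.ker (IsScalarTower.toAlgHom Γ(Y, W) Γ(X', O'') Γ(X, i ⁻¹ᵁ O'')).toRingHom :
        Set Γ(X', O'')) := by
    change Set.range (OmegaSh.idealSect i.ker O'') = _
    rw [OmegaSeq2.range_idealSect i.ker hO'', Scheme.Hom.ker_apply]
    change _ = ((RingHom.ker (i.appLE O'' (i ⁻¹ᵁ O'') le_rfl).hom : Ideal Γ(X', O'')) : Set Γ(X', O''))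
    rw [happ]
  have hq'' : IsBC (IsScalarTower.toAlgHom Γ(Y, W) Γ(X', O'') Γ(X, i ⁻¹ᵁ O'')).toRingHom
      (ρ i (le_refl (i ⁻¹ᵁ O'')) (ClSub.idealMod i.ker)) :=
    isBC_ρ i hO'' hTaff (le_refl (i ⁻¹ᵁ O'')) (ClSub.idealMod i.ker)
  exact ConormalLciAlg.finite_projective hφsurj
    (IsScalarTower.toAlgHom Γ(Y, W) Γ(X', O'') Γ(X, i ⁻¹ᵁ O'')) hu'' b hb hφker
    (idealSectₗ i.ker O'') (ConormalChart.idealSect_injective i.ker O'') hι''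
    (ρ i (le_refl (i ⁻¹ᵁ O'')) (ClSub.idealMod i.ker)) hq''

end Groth.Agent.Lib.helper7.ConormalLciChart
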