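import Groth.Agent.Lib.Helper7.ConormalLciChart
import Groth.Agent.Lib.Helper7.RegImmKinds
import Groth.Agent.Lib.Helper16.FLF8

/-!
# Conormal sheaf of a formally unramified lci morphism is finite locally free (helper7)
-/

set_option autoImplicit false
set_option linter.style.haveILetI false
set_option linter.unusedSectionVars false
universe u
open CategoryTheory CategoryTheory.Limits AlgebraicGeometry TopologicalSpace Opposite
open Scheme.Modules

namespace Groth.Agent.Lib.helper7.ConormalLciMain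

open OmegaSeq7

theorem transport_seq {Z P : Scheme.{u}} (j : Z ⟶ P) {V W : P.Opens} (h : V = W) {n : ℕ}
    (b : Fin n → Γ(P, W)) (hb : CAlgX.IsH1Regular b)
    (hker : RingHom.ker (j.app W).hom = Ideal.span (Set.range b)) :
    ∃ b' : Fin n → Γ(P, V), CAlgX.IsH1Regular b' ∧
      RingHom.ker (j.app V).hom = Ideal.span (Set.range b') := by
  subst h
  exact ⟨b, hb, hker⟩

theorem h1Chart_restrict {Z P : Scheme.{u}} (j : Z ⟶ P) (U₀ : P.Opens)
    [IsClosedImmersion (j ∣_ U₀)] (rs : List Γ(P, U₀))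
    (hrs : CAlgX.IsH1Regular rs.get) (hker : RingHom.ker (j.app U₀).hom = Ideal.ofList rs) :
    H1Chart (j ∣_ U₀) ⊤ := by
  have hker' : RingHom.ker (j.app U₀).hom = Ideal.span (Set.range rs.get) := by
    rw [hker, Set.range_list_get]
  obtain ⟨b', hb', hk'⟩ := transport_seq j (Scheme.Opens.ι_image_top U₀) rs.get hrs hker'
  refine ⟨rs.length, b', hb', ?_⟩
  have happ := morphismRestrict_app j U₀ ⊤
  have hinj : Function.Injective
      ((Z.presheaf.map (eqToHom (image_morphismRestrict_preimage j U₀ ⊤)).op).hom) :=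
    (ConcreteCategory.bijective_of_isIso _).1
  refine Eq.trans ?_ hk'
  ext s
  show ((j ∣_ U₀).app ⊤).hom s = 0 ↔ (j.app (U₀.ι ''ᵁ ⊤)).hom s = 0
  have hs : ((j ∣_ U₀).app ⊤).hom s =
      (Z.presheaf.map (eqToHom (image_morphismRestrict_preimage j U₀ ⊤)).op).hom
        ((j.app (U₀.ι ''ᵁ ⊤)).hom s) := by
    rw [happ]
    rfl
  constructor
  · intro h0
    apply hinj
    rw [map_zero]
    exact hs.symm.trans h0
  · intro h0
    rw [hs]
    exact (congrArg _ h0).trans (map_zero _)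

theorem isFinLocFree_conormal {X Y X' : Scheme.{u}} (f : X ⟶ Y)
    (hf : ∀ x : X, Synt.IsKoszulAt f x) (i : X ⟶ X') (h' : X' ⟶ Y)
    (hu : OmegaSh.IsUnivThickening f i h') : FlatMod.IsFinLocFree (Omega.conormal i) := by
  have key : ∀ x : X, ∃ T : X.Opens, IsAffineOpen T ∧ x ∈ T ∧
      Module.Finite Γ(X, T) Γ(Omega.conormal i, T) ∧
        Module.Projective Γ(X, T) Γ(Omega.conormal i, T) := by
    intro x
    obtain ⟨U, P, j, π, hxU, -, hreg, hsm, hjπ⟩ := hf x
    obtain ⟨U₀, hjx, hcl, rs, hrs, hker⟩ := hreg.2 ⟨x, hxU⟩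
    have hrs1 : CAlgX.IsH1Regular rs.get := RegImmKinds.seq_h1_of_koszul _ rs hrs
    haveI : IsAffine (U₀.1 : Scheme.{u}) := U₀.2
    haveI := hcl
    haveI := hsm
    have hH1 : H1Chart (j ∣_ U₀.1) ⊤ := h1Chart_restrict j U₀.1 rs hrs1 hker
    have w : (j ∣_ U₀.1) ≫ (U₀.1.ι ≫ π) = ((j ⁻¹ᵁ U₀.1).ι ≫ U.ι) ≫ f := by
      rw [← Category.assoc, morphismRestrict_ι, Category.assoc, hjπ, Category.assoc]
    obtain ⟨T, hT, hxT, hfin, hproj⟩ := ConormalLciChart.exists_chart f i h' hu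
      ((j ⁻¹ᵁ U₀.1).ι ≫ U.ι) (j ∣_ U₀.1) (U₀.1.ι ≫ π) w hH1 ⟨⟨x, hxU⟩, hjx⟩
    exact ⟨T, hT, hxT, hfin, hproj⟩
  choose T hT hxT hT2 using key
  haveI := OmegaAffine.conormal_qcoh i
  refine Groth.Agent.Lib.helper16.FLF.isFinLocFree_of_projective_sections (Omega.conormal i)
    T hT ?_ hT2
  rw [eq_top_iff]
  intro x _
  exact Opens.mem_iSup.mpr ⟨x, hxT x⟩

end Groth.Agent.Lib.helper7.ConormalLciMain
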