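import Groth.Agent.Lib.Helper8.PullbackUnit

/-!
# Algebra behind the transitivity sequence of conormal modules of thickenings (helper7)

`B' → C' → C'' → R`, with `C' → C''` surjective with kernel generated by the image of an ideal
`J ⊆ B'`, and `K = ker (C' → R)`, `K'' = ker (C'' → R)` with `K''² = 0`.  Then
`J ⊗ R → K ⊗ R → K'' ⊗ R → 0` is exact (all in "universal property form").
-/

set_option autoImplicit false
set_option linter.unusedSectionVars false
set_option linter.style.haveILetI false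
universe u

namespace Groth.Agent.Lib.helper7.ConormalTransAlg

open Groth.Agent.Lib.helper8.PullbackUnit

section Inj

variable {R R' : Type u} [CommRing R] [CommRing R'] {φ : R →+* R'} {N P : Type u}
    [AddCommGroup N] [Module R N] [AddCommGroup P] [Module R' P] {k : N →+ P}

/-- A base change along a surjection whose kernel kills the module is injective. -/
theorem injective_of_isBC (hφ : Function.Surjective φ) (hk : IsBC φ k)
    (hann : ∀ r ∈ RingHom.ker φ, ∀ n : N, r • n = 0) : Function.Injective k := by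
  let g : R →+* Module.End ℤ N := (Module.toModuleEnd ℤ (S := R) N : R →+* Module.End ℤ N)
  have hg : RingHom.ker φ ≤ RingHom.ker g := by
    intro r hr
    rw [RingHom.mem_ker]
    ext n
    exact hann r hr n
  let g' : R' →+* Module.End ℤ N := RingHom.liftOfSurjective φ hφ ⟨g, hg⟩
  have hg' : ∀ r, g' (φ r) = g r := fun r =>
    RingHom.liftOfRightInverse_comp_apply φ _ (Function.surjInv_eq hφ) ⟨g, hg⟩ r
  letI : Module R' N := Module.compHom N g'
  have hsm : ∀ (r : R) (n : N), (AddMonoidHom.id N) (r • n) = φ r • (AddMonoidHom.id N) n := by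
    intro r n
    change r • n = g' (φ r) n
    rw [hg']
    rfl
  obtain ⟨h', hh', -⟩ := hk.existsUnique_lift N (AddMonoidHom.id N) hsm
  exact Function.LeftInverse.injective (g := h') hh'

/-- A base change along a surjection is surjective. -/
theorem surjective_of_isBC (hφ : Function.Surjective φ) (hk : IsBC φ k) :
    Function.Surjective k := by
  -- the range of `k` is an `R'`-submodule
  let S : Submodule R' P :=
    { carrier := Set.range k
      add_mem' := by
        rintro _ _ ⟨a, rfl⟩ ⟨b, rfl⟩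
        exact ⟨a + b, map_add k a b⟩
      zero_mem' := ⟨0, map_zero k⟩
      smul_mem' := by
        rintro c _ ⟨a, rfl⟩
        obtain ⟨r, rfl⟩ := hφ c
        exact ⟨r • a, hk.map_smul r a⟩ }
  -- two maps `P → P ⧸ S` agreeing on the range of `k`
  obtain ⟨z, -, hz⟩ := hk.existsUnique_lift (P ⧸ S) (0 : N →+ P ⧸ S) (by intro r n; simp)
  have h1 : S.mkQ = z := hz _ (by
    intro n
    rw [Submodule.mkQ_apply, AddMonoidHom.zero_apply, Submodule.Quotient.mk_eq_zero]
    exact ⟨n, rfl⟩)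
  have h2 : (0 : P →ₗ[R'] P ⧸ S) = z := hz _ (by intro n; simp)
  intro p
  have : S.mkQ p = 0 := by rw [h1, ← h2]; rfl
  rw [Submodule.mkQ_apply, Submodule.Quotient.mk_eq_zero] at this
  exact this

end Inj

section Seq

variable {B' C' C'' R : Type u} [CommRing B'] [CommRing C'] [CommRing C''] [CommRing R]
  (mS : B' →+* C') (nS : C' →+* C'') (π' : C' →+* R) (π'' : C'' →+* R)
  (hπ : ∀ c, π'' (nS c) = π' c) (hn : Function.Surjective nS)
  {MJ : Type u} [AddCommGroup MJ] [Module B' MJ] (ιJ : MJ →ₗ[B'] B')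
  (hkern : RingHom.ker nS = Ideal.map mS (LinearMap.range ιJ))
  {MK : Type u} [AddCommGroup MK] [Module C' MK] (ιK : MK →ₗ[C'] C')
  (hιKi : Function.Injective ιK) (hιK : ∀ c, c ∈ LinearMap.range ιK ↔ π' c = 0)
  {MK'' : Type u} [AddCommGroup MK''] [Module C'' MK''] (ιK'' : MK'' →ₗ[C''] C'')
  (hιK''i : Function.Injective ιK'') (hιK'' : ∀ c, c ∈ LinearMap.range ιK'' ↔ π'' c = 0)
  {P₁ P₂ P₃ : Type u} [AddCommGroup P₁] [Module R P₁] [AddCommGroup P₂] [Module R P₂]
  [AddCommGroup P₃] [Module R P₃]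
  (q₁ : MJ → P₁) (hq₁ : Submodule.span R (Set.range q₁) = ⊤)
  (q₂ : MK →+ P₂) (hq₂s : ∀ (c : C') (s : MK), q₂ (c • s) = π' c • q₂ s)
  (hq₂ : Function.Surjective q₂)
  (q₃ : MK'' →+ P₃) (hq₃i : Function.Injective q₃) (hq₃ : Function.Surjective q₃)
  (ψ₁ : P₁ →ₗ[R] P₂) (hψ₁ : ∀ t s, ιK s = mS (ιJ t) → ψ₁ (q₁ t) = q₂ s)
  (ψ₂ : P₂ →ₗ[R] P₃) (hψ₂ : ∀ s s'', ιK'' s'' = nS (ιK s) → ψ₂ (q₂ s) = q₃ s'')

include hπ hkern hιK in
theorem exists_lift_J (t : MJ) : ∃ s : MK, ιK s = mS (ιJ t) := by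
  have h1 : mS (ιJ t) ∈ RingHom.ker nS := by
    rw [hkern]
    exact Ideal.mem_map_of_mem mS ⟨t, rfl⟩
  have h2 : π' (mS (ιJ t)) = 0 := by
    rw [← hπ, (RingHom.mem_ker).mp h1, map_zero]
  exact (hιK _).mpr h2

include hπ hιK hιK'' in
theorem exists_lift_K (s : MK) : ∃ s'' : MK'', ιK'' s'' = nS (ιK s) := by
  apply (hιK'' _).mpr
  rw [hπ]
  exact (hιK _).mp ⟨s, rfl⟩

include hπ hkern hιK hιK''i hιK'' hq₁ hψ₁ hψ₂ in
theorem comp_zero : ψ₂ ∘ₗ ψ₁ = 0 := by
  apply LinearMap.ext_on hq₁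
  rintro _ ⟨t, rfl⟩
  obtain ⟨s, hs⟩ := exists_lift_J mS nS π' π'' hπ ιJ hkern ιK hιK t
  rw [LinearMap.comp_apply, hψ₁ t s hs, LinearMap.zero_apply]
  have h0 : ιK'' 0 = nS (ιK s) := by
    rw [map_zero, hs]
    symm
    rw [← RingHom.mem_ker, hkern]
    exact Ideal.mem_map_of_mem mS ⟨t, rfl⟩
  rw [hψ₂ s 0 h0, map_zero]

include hπ hn hιK hιK'' hq₃ hψ₂ in
theorem surjective : Function.Surjective ψ₂ := by
  intro p
  obtain ⟨s'', rfl⟩ := hq₃ p
  obtain ⟨c, hc⟩ := hn (ιK'' s'')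
  have h1 : π' c = 0 := by
    rw [← hπ, hc]
    exact (hιK'' _).mp ⟨s'', rfl⟩
  obtain ⟨s, hs⟩ := (hιK _).mpr h1
  exact ⟨q₂ s, hψ₂ s s'' (by rw [hs, hc])⟩

include hπ hkern hιKi hιK hιK''i hιK'' hq₁ hq₂s hq₂ hq₃i hψ₁ hψ₂ in
theorem exact : Function.Exact ψ₁ ψ₂ := by
  intro x
  constructor
  · intro hx
    obtain ⟨s, rfl⟩ := hq₂ x
    obtain ⟨s'', hs''⟩ := exists_lift_K nS π' π'' hπ ιK hιK ιK'' hιK'' s
    rw [hψ₂ s s'' hs''] at hx
    have h0 : s'' = 0 := hq₃i (by rw [hx, map_zero])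
    have h1 : ιK s ∈ Ideal.map mS (LinearMap.range ιJ) := by
      rw [← hkern, RingHom.mem_ker, ← hs'', h0, map_zero]
    -- induction on the span
    have hmem : ∀ c ∈ Ideal.map mS (LinearMap.range ιJ), ∃ s : MK, ιK s = c := by
      intro c hc
      rw [← hkern, RingHom.mem_ker] at hc
      apply (hιK _).mpr
      rw [← hπ, hc, map_zero]
    have key : ∀ c ∈ Ideal.map mS (LinearMap.range ιJ), ∀ s : MK, ιK s = c →
        q₂ s ∈ LinearMap.range ψ₁ := by
      intro c hc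
      refine Submodule.span_induction (p := fun c _ => ∀ s : MK, ιK s = c →
        q₂ s ∈ LinearMap.range ψ₁) ?_ ?_ ?_ ?_ hc
      · rintro _ ⟨b, ⟨t, rfl⟩, rfl⟩ s hs
        exact ⟨q₁ t, hψ₁ t s hs⟩
      · intro s hs
        have : s = 0 := hιKi (by rw [hs, map_zero])
        rw [this, map_zero]
        exact Submodule.zero_mem _
      · intro a b ha' hb' ha hb s hs
        obtain ⟨sa, hsa⟩ := hmem a ha'
        obtain ⟨sb, hsb⟩ := hmem b hb'
        have : s = sa + sb := hιKi (by rw [hs, map_add, hsa, hsb])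
        rw [this, map_add]
        exact Submodule.add_mem _ (ha sa hsa) (hb sb hsb)
      · intro c a ha' ha s hs
        obtain ⟨sa, hsa⟩ := hmem a ha'
        have : s = c • sa := hιKi (by rw [hs, _root_.map_smul, hsa])
        rw [this, hq₂s]
        exact Submodule.smul_mem _ _ (ha sa hsa)
    exact key _ h1 s rfl
  · rintro ⟨y, rfl⟩
    exact congr($(comp_zero mS nS π' π'' hπ ιJ hkern ιK hιK ιK'' hιK''i hιK'' q₁ hq₁ q₂ q₃ ψ₁ hψ₁ ψ₂ hψ₂) y)

end Seq

end Groth.Agent.Lib.helper7.ConormalTransAlg
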