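import Groth.Agent.Lib.Helper8.PullbackUnit
import Mathlib.RingTheory.Kaehler.Basic
import Mathlib.RingTheory.Etale.Kaehler

/-!
# Algebraic cores of the exact sequences of differentials, in "receptacle" form (helper7)
-/

set_option autoImplicit false
set_option linter.style.haveILetI false
set_option linter.unusedSectionVars false
universe u
open TensorProduct KaehlerDifferential

namespace Groth.Agent.Lib.helper7.OmegaSeqAlg

open Groth.Agent.Lib.helper8.PullbackUnit

section BC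

variable {B A : Type u} [CommRing B] [CommRing A] [Algebra B A] {N P : Type u} [AddCommGroup N]
  [Module B N] [AddCommGroup P] [Module A P] {k : N →+ P}

/-- `n ↦ 1 ⊗ n` is a base change -/
theorem isBC_tmul (N : Type u) [AddCommGroup N] [Module B N] :
    IsBC (algebraMap B A) ((TensorProduct.mk B A N 1).toAddMonoidHom) :=
  IsBC.of_isBaseChange (TensorProduct.mk B A N 1) (TensorProduct.isBaseChange B N A)

/-- a base change is (uniquely) the tensor product -/
theorem exists_equiv_of_isBC (hk : IsBC (algebraMap B A) k) :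
    ∃ e : P ≃ₗ[A] A ⊗[B] N, ∀ n, e (k n) = (1 : A) ⊗ₜ[B] n := by
  obtain ⟨ψ₀, hψ₀, -⟩ := hk.existsUnique_lift (A ⊗[B] N) ((TensorProduct.mk B A N 1).toAddMonoidHom)
    (isBC_tmul N).map_smul
  exact ⟨LinearEquiv.ofBijective ψ₀ (IsBC.bijective_of_comp hk (isBC_tmul N) ψ₀ hψ₀), hψ₀⟩

/-- two linear maps out of a base change agreeing on the image of `k` are equal -/
theorem ext_of_isBC (hk : IsBC (algebraMap B A) k) {T : Type u} [AddCommGroup T] [Module A T]
    (g₁ g₂ : P →ₗ[A] T) (h : ∀ n, g₁ (k n) = g₂ (k n)) : g₁ = g₂ := by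
  obtain ⟨_, -, hu⟩ := hk.existsUnique_lift T (g₂.toAddMonoidHom.comp k) (by
    intro r n
    change g₂ (k (r • n)) = _ • g₂ (k n)
    rw [hk.map_smul, map_smul])
  rw [hu g₁ h, hu g₂ (fun _ => rfl)]

/-- the image of `k` spans a base change -/
theorem span_range_of_isBC (hk : IsBC (algebraMap B A) k) :
    Submodule.span A (Set.range k) = ⊤ := by
  obtain ⟨e, he⟩ := exists_equiv_of_isBC hk
  rw [eq_top_iff]
  intro p _
  have hp : e p ∈ Submodule.span A (Set.range (fun n : N => (1 : A) ⊗ₜ[B] n)) := by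
    have := TensorProduct.span_tmul_eq_top B A N
    induction e p using TensorProduct.induction_on with
    | zero => exact Submodule.zero_mem _
    | tmul a n =>
      have : a ⊗ₜ[B] n = a • ((1 : A) ⊗ₜ[B] n) := by rw [TensorProduct.smul_tmul', smul_eq_mul, mul_one]
      rw [this]
      exact Submodule.smul_mem _ _ (Submodule.subset_span ⟨n, rfl⟩)
    | add x y hx hy => exact Submodule.add_mem _ hx hy
  have h2 : Submodule.span A (Set.range (fun n : N => (1 : A) ⊗ₜ[B] n)) =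
      Submodule.map e.toLinearMap (Submodule.span A (Set.range k)) := by
    rw [Submodule.map_span]
    congr 1
    ext x
    constructor
    · rintro ⟨n, rfl⟩
      exact ⟨k n, ⟨n, rfl⟩, he n⟩
    · rintro ⟨_, ⟨n, rfl⟩, rfl⟩
      exact ⟨n, (he n).symm⟩
  rw [h2] at hp
  obtain ⟨q, hq, hqp⟩ := hp
  have : q = p := e.injective hqp
  rwa [← this]

end BC

section Comp

variable (C B A : Type u) [CommRing C] [CommRing B] [CommRing A] [Algebra C B] [Algebra B A]
  [Algebra C A] [IsScalarTower C B A]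
  {MY MX MXY P : Type u} [AddCommGroup MY] [Module B MY] [AddCommGroup MX] [Module A MX]
  [AddCommGroup MXY] [Module A MXY] [AddCommGroup P] [Module A P]
  (dY : B →+ MY) (ψY : MY ≃ₗ[B] Ω[B⁄C]) (hψY : ∀ b, ψY (dY b) = D C B b)
  (dX : A →+ MX) (ψX : MX ≃ₗ[A] Ω[A⁄C]) (hψX : ∀ a, ψX (dX a) = D C A a)
  (dXY : A →+ MXY) (ψXY : MXY ≃ₗ[A] Ω[A⁄B]) (hψXY : ∀ a, ψXY (dXY a) = D B A a)
  (k : MY →+ P) (hk : IsBC (algebraMap B A) k)
  (c₁ : P →ₗ[A] MX) (hc₁ : ∀ b, c₁ (k (dY b)) = dX (algebraMap B A b))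
  (c₂ : MX →ₗ[A] MXY) (hc₂ : ∀ a, c₂ (dX a) = dXY a)

include hψX hψXY hc₂ in
theorem comp_right : ∀ x, ψXY (c₂ x) = KaehlerDifferential.map C B A A (ψX x) := by
  have h : (ψXY.toLinearMap ∘ₗ c₂) = (KaehlerDifferential.map C B A A) ∘ₗ ψX.toLinearMap := by
    have hspan : Submodule.span A (Set.range dX) = ⊤ := by
      have h1 := KaehlerDifferential.span_range_derivation C A
      rw [eq_top_iff]
      intro x _
      have hx : ψX x ∈ (⊤ : Submodule A Ω[A⁄C]) := trivial
      rw [← h1] at hx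
      have h2 : Submodule.span A (Set.range (D C A)) =
          Submodule.map ψX.toLinearMap (Submodule.span A (Set.range dX)) := by
        rw [Submodule.map_span]
        congr 1
        ext y
        constructor
        · rintro ⟨a, rfl⟩
          exact ⟨dX a, ⟨a, rfl⟩, hψX a⟩
        · rintro ⟨_, ⟨a, rfl⟩, rfl⟩
          exact ⟨a, (hψX a).symm⟩
      rw [h2] at hx
      obtain ⟨q, hq, hqx⟩ := hx
      have : q = x := ψX.injective hqx
      rwa [← this]
    refine LinearMap.ext_on_range hspan (fun a => ?_)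
    change ψXY (c₂ (dX a)) = KaehlerDifferential.map C B A A (ψX (dX a))
    rw [hc₂, hψXY, hψX, KaehlerDifferential.map_D]
    rfl
  exact fun x => congr($h x)

include hψX hψXY hc₂ in
theorem comp_surjective : Function.Surjective c₂ := by
  intro y
  obtain ⟨w, hw⟩ := KaehlerDifferential.map_surjective C B A (ψXY y)
  refine ⟨ψX.symm w, ψXY.injective ?_⟩
  rw [comp_right C B A dX ψX hψX dXY ψXY hψXY c₂ hc₂, LinearEquiv.apply_symm_apply, hw]

include hψY hψX hk hc₁ in
theorem comp_left (e : P ≃ₗ[A] A ⊗[B] MY) (he : ∀ n, e (k n) = (1 : A) ⊗ₜ[B] n) :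
    ∀ p, ψX (c₁ p) = KaehlerDifferential.mapBaseChange C B A
      ((TensorProduct.AlgebraTensorModule.congr (LinearEquiv.refl A A) ψY) (e p)) := by
  have h : ψX.toLinearMap ∘ₗ c₁ = (KaehlerDifferential.mapBaseChange C B A) ∘ₗ
      (TensorProduct.AlgebraTensorModule.congr (LinearEquiv.refl A A) ψY).toLinearMap ∘ₗ
        e.toLinearMap := by
    refine ext_of_isBC hk _ _ (fun n => ?_)
    change ψX (c₁ (k n)) = KaehlerDifferential.mapBaseChange C B A
      ((TensorProduct.AlgebraTensorModule.congr (LinearEquiv.refl A A) ψY) (e (k n)))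
    rw [he]
    change _ = KaehlerDifferential.mapBaseChange C B A ((1 : A) ⊗ₜ[B] ψY n)
    rw [KaehlerDifferential.mapBaseChange_tmul, one_smul]
    -- both sides are `B`-semilinear in `n`; check on `dY b`
    have hspan : Submodule.span B (Set.range dY) = ⊤ := by
      have h1 := KaehlerDifferential.span_range_derivation C B
      rw [eq_top_iff]
      intro x _
      have hx : ψY x ∈ (⊤ : Submodule B Ω[B⁄C]) := trivial
      rw [← h1] at hx
      have h2 : Submodule.span B (Set.range (D C B)) =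
          Submodule.map ψY.toLinearMap (Submodule.span B (Set.range dY)) := by
        rw [Submodule.map_span]
        congr 1
        ext y
        constructor
        · rintro ⟨a, rfl⟩
          exact ⟨dY a, ⟨a, rfl⟩, hψY a⟩
        · rintro ⟨_, ⟨a, rfl⟩, rfl⟩
          exact ⟨a, (hψY a).symm⟩
      rw [h2] at hx
      obtain ⟨q, hq, hqx⟩ := hx
      have : q = x := ψY.injective hqx
      rwa [← this]
    have hn : n ∈ Submodule.span B (Set.range dY) := by rw [hspan]; trivial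
    induction hn using Submodule.span_induction with
    | mem y hy =>
      obtain ⟨b, rfl⟩ := hy
      rw [hc₁, hψX, hψY, KaehlerDifferential.map_D]
    | zero => simp
    | add y z _ _ hy hz =>
      rw [map_add, map_add, map_add, map_add, map_add, hy, hz]
    | smul b y _ hy =>
      rw [hk.map_smul, map_smul, map_smul, map_smul, hy, map_smul, algebraMap_smul]
  exact fun p => congr($h p)

include hψY hψX hψXY hk hc₁ hc₂ in
/-- **first exact sequence** `A ⊗_B Ω[B/C] → Ω[A/C] → Ω[A/B] → 0`, receptacle form -/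
theorem comp_exact : Function.Exact c₁ c₂ := by
  obtain ⟨e, he⟩ := exists_equiv_of_isBC hk
  have hL := comp_left C B A dY ψY hψY dX ψX hψX k hk c₁ hc₁ e he
  have hR := comp_right C B A dX ψX hψX dXY ψXY hψXY c₂ hc₂
  have hex := KaehlerDifferential.exact_mapBaseChange_map C B A
  intro x
  constructor
  · intro hx
    have h1 : KaehlerDifferential.map C B A A (ψX x) = 0 := by rw [← hR, hx, map_zero]
    obtain ⟨t, ht⟩ := (hex (ψX x)).mp h1
    refine ⟨e.symm ((TensorProduct.AlgebraTensorModule.congr (LinearEquiv.refl A A) ψY).symm t),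
      ψX.injective ?_⟩
    rw [hL, LinearEquiv.apply_symm_apply, LinearEquiv.apply_symm_apply, ht]
  · rintro ⟨p, rfl⟩
    apply ψXY.injective
    rw [hR, hL, map_zero]
    exact (hex _).mpr ⟨_, rfl⟩

include hψY hψX hk hc₁ in
/-- `A ⊗_B Ω[B/C] → Ω[A/C]` is surjective iff `Ω[A/B] = 0`, receptacle form -/
theorem comp_left_surjective_iff : Function.Surjective c₁ ↔ Subsingleton Ω[A⁄B] := by
  obtain ⟨e, he⟩ := exists_equiv_of_isBC hk
  have hL := comp_left C B A dY ψY hψY dX ψX hψX k hk c₁ hc₁ e he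
  have hex := KaehlerDifferential.exact_mapBaseChange_map C B A
  constructor
  · intro hs
    refine ⟨fun z₁ z₂ => ?_⟩
    suffices H : ∀ z : Ω[A⁄B], z = 0 by rw [H z₁, H z₂]
    intro z
    obtain ⟨y, rfl⟩ := KaehlerDifferential.map_surjective C B A z
    obtain ⟨p, hp⟩ := hs (ψX.symm y)
    have : y = ψX (c₁ p) := by rw [hp, LinearEquiv.apply_symm_apply]
    rw [this, hL]
    exact (hex _).mpr ⟨_, rfl⟩
  · intro hsub x
    obtain ⟨t, ht⟩ := (hex (ψX x)).mp (Subsingleton.elim _ _)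
    refine ⟨e.symm ((TensorProduct.AlgebraTensorModule.congr (LinearEquiv.refl A A) ψY).symm t),
      ψX.injective ?_⟩
    rw [hL, LinearEquiv.apply_symm_apply, LinearEquiv.apply_symm_apply, ht]

end Comp

section Conormal

variable (C A R : Type u) [CommRing C] [CommRing A] [CommRing R] [Algebra C A] [Algebra A R]
  [Algebra C R] [IsScalarTower C A R] (hsurj : Function.Surjective (algebraMap A R))
  {MY MX P MI N : Type u} [AddCommGroup MY] [Module A MY] [AddCommGroup MX] [Module R MX]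
  [AddCommGroup P] [Module R P] [AddCommGroup N] [Module R N]
  (dY : A →+ MY) (ψY : MY ≃ₗ[A] Ω[A⁄C]) (hψY : ∀ b, ψY (dY b) = D C A b)
  (dX : R →+ MX) (ψX : MX ≃ₗ[R] Ω[R⁄C]) (hψX : ∀ a, ψX (dX a) = D C R a)
  (k : MY →+ P) (hk : IsBC (algebraMap A R) k)
  (c : P →ₗ[R] MX) (hc : ∀ a, c (k (dY a)) = dX (algebraMap A R a))
  (ι : MI → A) (hι : Set.range ι = (RingHom.ker (algebraMap A R) : Set A))
  (q : MI → N) (hq : Submodule.span R (Set.range q) = ⊤)
  (φ : N →ₗ[R] P) (hφ : ∀ m, φ (q m) = k (dY (ι m)))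

include hsurj hψY hψX hk hc in
theorem conormal_surjective : Function.Surjective c := by
  obtain ⟨e, he⟩ := exists_equiv_of_isBC hk
  have hL := comp_left C A R dY ψY hψY dX ψX hψX k hk c hc e he
  intro x
  obtain ⟨t, ht⟩ := KaehlerDifferential.mapBaseChange_surjective C A R hsurj (ψX x)
  refine ⟨e.symm ((TensorProduct.AlgebraTensorModule.congr (LinearEquiv.refl R R) ψY).symm t),
    ψX.injective ?_⟩
  rw [hL, LinearEquiv.apply_symm_apply, LinearEquiv.apply_symm_apply, ht]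

include hsurj hψY hψX hk hc hι hq hφ in
/-- **second exact sequence** `I/I² → R ⊗_A Ω[A/C] → Ω[R/C] → 0`, receptacle form -/
theorem conormal_exact : Function.Exact φ c := by
  obtain ⟨e, he⟩ := exists_equiv_of_isBC hk
  have hL := comp_left C A R dY ψY hψY dX ψX hψX k hk c hc e he
  have hex := KaehlerDifferential.exact_kerCotangentToTensor_mapBaseChange C A R hsurj
  have hcφ : c ∘ₗ φ = 0 := by
    refine LinearMap.ext_on_range hq (fun m => ?_)
    change c (φ (q m)) = 0
    have hm : ι m ∈ (RingHom.ker (algebraMap A R) : Set A) := by rw [← hι]; exact ⟨m, rfl⟩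
    rw [hφ, hc, RingHom.mem_ker.mp hm, map_zero]
  intro p
  constructor
  · intro hp
    have h1 : KaehlerDifferential.mapBaseChange C A R
        ((TensorProduct.AlgebraTensorModule.congr (LinearEquiv.refl R R) ψY) (e p)) = 0 := by
      rw [← hL, hp, map_zero]
    obtain ⟨t, ht⟩ := (hex _).mp h1
    obtain ⟨x, rfl⟩ := Ideal.toCotangent_surjective _ t
    rw [KaehlerDifferential.kerCotangentToTensor_toCotangent] at ht
    have hx : (x : A) ∈ Set.range ι := by rw [hι]; exact x.2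
    obtain ⟨m, hm⟩ := hx
    refine ⟨q m, ?_⟩
    rw [hφ, hm]
    apply e.injective
    apply (TensorProduct.AlgebraTensorModule.congr (LinearEquiv.refl R R) ψY).injective
    rw [← ht, he]
    change (1 : R) ⊗ₜ[A] ψY (dY x) = _
    rw [hψY]
  · rintro ⟨n, rfl⟩
    exact congr($hcφ n)

end Conormal

section Etale

theorem map_bijective_of_formallyUnramified (R₁ R₂ A₂ : Type u) [CommRing R₁] [CommRing R₂]
    [CommRing A₂] [Algebra R₁ R₂] [Algebra R₂ A₂] [Algebra R₁ A₂] [IsScalarTower R₁ R₂ A₂]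
    [Algebra.FormallyUnramified R₁ R₂] :
    Function.Bijective (KaehlerDifferential.map R₁ R₂ A₂ A₂) := by
  refine ⟨?_, KaehlerDifferential.map_surjective R₁ R₂ A₂⟩
  rw [injective_iff_map_eq_zero]
  intro x hx
  obtain ⟨t, rfl⟩ := (KaehlerDifferential.exact_mapBaseChange_map R₁ R₂ A₂ x).mp hx
  haveI : Subsingleton (A₂ ⊗[R₂] Ω[R₂⁄R₁]) := inferInstance
  rw [Subsingleton.elim t 0, map_zero]

variable (R₁ R₂ A₁ A₂ : Type u) [CommRing R₁] [CommRing R₂] [CommRing A₁] [CommRing A₂]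
  [Algebra R₁ A₁] [Algebra R₂ A₂] [Algebra A₁ A₂] [Algebra R₁ R₂] [Algebra R₁ A₂]
  [IsScalarTower R₁ A₁ A₂] [IsScalarTower R₁ R₂ A₂]
  [Algebra.FormallyEtale A₁ A₂] [Algebra.FormallyUnramified R₁ R₂]
  {M₁ M₂ P : Type u} [AddCommGroup M₁] [Module A₁ M₁] [AddCommGroup M₂] [Module A₂ M₂]
  [AddCommGroup P] [Module A₂ P]
  (d₁ : A₁ →+ M₁) (ψ₁ : M₁ ≃ₗ[A₁] Ω[A₁⁄R₁]) (hψ₁ : ∀ a, ψ₁ (d₁ a) = D R₁ A₁ a)
  (d₂ : A₂ →+ M₂) (ψ₂ : M₂ ≃ₗ[A₂] Ω[A₂⁄R₂]) (hψ₂ : ∀ a, ψ₂ (d₂ a) = D R₂ A₂ a)
  (k : M₁ →+ P) (hk : IsBC (algebraMap A₁ A₂) k)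
  (c : P →ₗ[A₂] M₂) (hc : ∀ a, c (k (d₁ a)) = d₂ (algebraMap A₁ A₂ a))

include hψ₁ hψ₂ hk hc in
/-- for a square with étale horizontal maps the canonical map of differentials is bijective
(receptacle form) -/
theorem etale_sq_bijective : Function.Bijective c := by
  let Ge : Ω[A₂⁄R₁] ≃ₗ[A₂] Ω[A₂⁄R₂] :=
    LinearEquiv.ofBijective (KaehlerDifferential.map R₁ R₂ A₂ A₂)
      (map_bijective_of_formallyUnramified R₁ R₂ A₂)
  have hGe : ∀ x : A₂, Ge (D R₁ A₂ x) = D R₂ A₂ x := fun x => by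
    change KaehlerDifferential.map R₁ R₂ A₂ A₂ (D R₁ A₂ x) = _
    rw [KaehlerDifferential.map_D]; rfl
  let c' : P →ₗ[A₂] Ω[A₂⁄R₁] := Ge.symm.toLinearMap ∘ₗ ψ₂.toLinearMap ∘ₗ c
  have hc' : ∀ a, c' (k (d₁ a)) = (D R₁ A₂).toLinearMap.toAddMonoidHom (algebraMap A₁ A₂ a) := by
    intro a
    change Ge.symm (ψ₂ (c (k (d₁ a)))) = D R₁ A₂ (algebraMap A₁ A₂ a)
    rw [hc, hψ₂, LinearEquiv.symm_apply_eq, hGe]
  obtain ⟨e, he⟩ := exists_equiv_of_isBC hk
  have hL := comp_left R₁ A₁ A₂ d₁ ψ₁ hψ₁ (D R₁ A₂).toLinearMap.toAddMonoidHom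
    (LinearEquiv.refl A₂ Ω[A₂⁄R₁]) (fun _ => rfl) k hk c' hc' e he
  have hbij : Function.Bijective c' := by
    have h1 : (c' : P → Ω[A₂⁄R₁]) = (KaehlerDifferential.tensorKaehlerEquivOfFormallyEtale R₁ A₁ A₂) ∘
        (TensorProduct.AlgebraTensorModule.congr (LinearEquiv.refl A₂ A₂) ψ₁) ∘ e := by
      funext p
      exact hL p
    rw [h1]
    exact (LinearEquiv.bijective _).comp ((LinearEquiv.bijective _).comp (LinearEquiv.bijective _))
  have h2 : (c : P → M₂) = ψ₂.symm ∘ Ge ∘ c' := by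
    funext p
    change c p = ψ₂.symm (Ge (Ge.symm (ψ₂ (c p))))
    rw [LinearEquiv.apply_symm_apply, LinearEquiv.symm_apply_apply]
  rw [h2]
  exact (LinearEquiv.bijective _).comp ((LinearEquiv.bijective _).comp hbij)

end Etale

end Groth.Agent.Lib.helper7.OmegaSeqAlg
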