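import Mathlib
import Groth.Prelude.Def_Omega3
import Groth.Prelude.Def_CAlgX
import Groth.Agent.Lib.Helper7.SmoothLift
import Groth.Agent.Lib.Helper7.ConormalTransAlg
import Groth.Agent.Lib.Helper7.OmegaSeqAlg
import Groth.Agent.Lib.Helper7.UnivThickRing

/-!
# Injectivity of `N_{A/R} ⊗_A C → N_{C/R}` for `A → C` lci (helper7)
-/

set_option autoImplicit false
set_option linter.style.haveILetI false
set_option linter.unusedSectionVars false
universe u
open TensorProduct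

namespace Groth.Agent.Lib.helper7.ConormalLciTransAlg

open Groth.Agent.Lib.helper8.PullbackUnit Groth.Agent.Lib.helper7.UnivThickRing

/-! ### The multiplication map `S' ⊗ M → S'` -/

section MulMap

variable {A' S' : Type u} [CommRing A'] [CommRing S'] [Algebra A' S']
  {M : Type u} [AddCommGroup M] [Module A' M] (ι : M →ₗ[A'] A')

/-- `S' ⊗[A'] M → S'`, `σ ⊗ m ↦ ι m • σ` -/
noncomputable def mulMap : S' ⊗[A'] M →ₗ[S'] S' :=
  (AlgebraTensorModule.rid A' S' S').toLinearMap ∘ₗ AlgebraTensorModule.lTensor S' S' ι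

theorem mulMap_tmul (σ : S') (m : M) :
    mulMap (S' := S') ι (σ ⊗ₜ m) = algebraMap A' S' (ι m) * σ := by
  show (AlgebraTensorModule.rid A' S' S') (σ ⊗ₜ[A'] (ι m)) = _
  rw [AlgebraTensorModule.rid_tmul, Algebra.smul_def]

theorem mulMap_injective [Module.Flat A' S'] (hι : Function.Injective ι) :
    Function.Injective (mulMap (S' := S') ι) := by
  have h1 : Function.Injective (LinearMap.lTensor S' ι) :=
    Module.Flat.lTensor_preserves_injective_linearMap _ hι
  intro x y hxy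
  apply h1
  exact (AlgebraTensorModule.rid A' S' S').injective hxy

theorem range_mulMap (N : Ideal A') (hN : ∀ a, a ∈ N ↔ ∃ m, ι m = a) :
    (LinearMap.range (mulMap (S' := S') ι) : Ideal S') = N.map (algebraMap A' S') := by
  apply le_antisymm
  · rintro _ ⟨z, rfl⟩
    induction z using TensorProduct.induction_on with
    | zero => rw [map_zero]; exact Submodule.zero_mem _
    | tmul σ m =>
      rw [mulMap_tmul]
      exact Ideal.mul_mem_right _ _ (Ideal.mem_map_of_mem _ ((hN _).mpr ⟨m, rfl⟩))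
    | add x y hx hy => rw [map_add]; exact Submodule.add_mem _ hx hy
  · rw [Ideal.map_le_iff_le_comap]
    intro a ha
    obtain ⟨m, rfl⟩ := (hN a).mp ha
    exact ⟨(1 : S') ⊗ₜ m, by rw [mulMap_tmul, mul_one]⟩

end MulMap

/-! ### The key ideal-theoretic lemma -/

section Key

variable {S' S : Type u} [CommRing S'] [CommRing S] (θ : S' →+* S)
  (hθ : Function.Surjective θ) (hsq : ∀ x y, θ x = 0 → θ y = 0 → x * y = 0)
  {n : ℕ} (b : Fin n → S) (hb : CAlgX.IsH1Regular b) (b' : Fin n → S') (hb' : ∀ i, θ (b' i) = b i)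

theorem sum_mem_of_ker (t : Fin n → S') (ht : ∀ k, θ (t k) = 0) :
    ∑ k, t k * b' k ∈ Ideal.span (Set.range b') * RingHom.ker θ := by
  refine Ideal.sum_mem _ (fun k _ => ?_)
  rw [mul_comm (t k)]
  exact Ideal.mul_mem_mul (Ideal.subset_span ⟨k, rfl⟩) (ht k)

include hθ hb hb' in
theorem sum_mem_of_lift (s : Fin n → S') (hs : θ (∑ i, s i * b' i) = 0) :
    ∑ i, s i * b' i ∈ Ideal.span (Set.range b') * RingHom.ker θ := by
  have h0 : ∑ i, (fun i => θ (s i)) i * b i = 0 := by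
    rw [← hs, map_sum]
    exact Finset.sum_congr rfl (fun i _ => by rw [map_mul, hb'])
  have hmem := hb (fun i => θ (s i)) h0
  suffices H : ∀ a ∈ Submodule.span S {v : Fin n → S | ∃ i j : Fin n,
      v = Pi.single i (b j) - Pi.single j (b i)}, ∀ s : Fin n → S', (∀ i, θ (s i) = a i) →
      ∑ i, s i * b' i ∈ Ideal.span (Set.range b') * RingHom.ker θ from
    H _ hmem s (fun i => rfl)
  intro a ha
  induction ha using Submodule.span_induction with
  | mem v hv =>
    obtain ⟨i, j, rfl⟩ := hv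
    intro s hs
    classical
    let s₀ : Fin n → S' := Pi.single i (b' j) - Pi.single j (b' i)
    have hs₀ : ∀ k, θ (s₀ k) = (Pi.single i (b j) - Pi.single j (b i) : Fin n → S) k := by
      intro k
      simp only [s₀, Pi.sub_apply, map_sub, Pi.single_apply]
      split_ifs <;> simp [hb']
    have h1 : ∑ k, s₀ k * b' k = 0 := by
      simp only [s₀, Pi.sub_apply, sub_mul, Finset.sum_sub_distrib, Pi.single_apply, ite_mul,
        zero_mul, Finset.sum_ite_eq', Finset.mem_univ, if_true]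
      ring
    have h2 : ∑ k, s k * b' k = ∑ k, (s k - s₀ k) * b' k := by
      simp only [sub_mul, Finset.sum_sub_distrib, h1, sub_zero]
    rw [h2]
    exact sum_mem_of_ker θ b' _ (fun k => by rw [map_sub, hs, hs₀, sub_self])
  | zero =>
    intro s hs
    exact sum_mem_of_ker θ b' s hs
  | add a₁ a₂ _ _ h₁ h₂ =>
    intro s hs
    choose s₁ hs₁ using fun i => hθ (a₁ i)
    have e : ∑ k, s k * b' k = ∑ k, s₁ k * b' k + ∑ k, (s k - s₁ k) * b' k := by
      simp only [sub_mul, Finset.sum_sub_distrib]; ring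
    rw [e]
    refine Ideal.add_mem _ (h₁ s₁ hs₁) (h₂ _ (fun k => ?_))
    rw [map_sub, hs, hs₁, Pi.add_apply, add_sub_cancel_left]
  | smul r a₁ _ h₁ =>
    intro s hs
    obtain ⟨r', rfl⟩ := hθ r
    choose s₁ hs₁ using fun i => hθ (a₁ i)
    have e : ∑ k, s k * b' k = r' * ∑ k, s₁ k * b' k + ∑ k, (s k - r' * s₁ k) * b' k := by
      simp only [sub_mul, Finset.sum_sub_distrib, Finset.mul_sum, mul_assoc]; ring
    rw [e]
    refine Ideal.add_mem _ (Ideal.mul_mem_left _ _ (h₁ s₁ hs₁)) (sum_mem_of_ker θ b' _ (fun k => ?_))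
    rw [map_sub, map_mul, hs, hs₁, Pi.smul_apply, smul_eq_mul, sub_self]

omit [CommRing S] in
theorem sq_le_aux (J 𝔫 B : Ideal S') (h1 : J ≤ 𝔫 ⊔ B) (h2 : B ≤ J) :
    J ^ 2 ≤ J * 𝔫 ⊔ B * B := by
  rw [pow_two]
  calc J * J ≤ J * (𝔫 ⊔ B) := Ideal.mul_mono_right h1
    _ = J * 𝔫 ⊔ J * B := Ideal.mul_sup _ _ _
    _ ≤ J * 𝔫 ⊔ (𝔫 ⊔ B) * B := sup_le_sup_left (Ideal.mul_mono_left h1) _
    _ = J * 𝔫 ⊔ (𝔫 * B ⊔ B * B) := by rw [Ideal.sup_mul]
    _ ≤ J * 𝔫 ⊔ B * B := by
      refine sup_le le_sup_left (sup_le ?_ le_sup_right)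
      rw [mul_comm 𝔫 B]
      exact le_sup_of_le_left (Ideal.mul_mono_left h2)

include hθ hsq hb hb' in
/-- `𝔫 ∩ J'² ⊆ J' 𝔫` -/
theorem mem_mul_of_mem_sq (J' : Ideal S') (hJ' : J' = (Ideal.span (Set.range b)).comap θ)
    (x : S') (hx : x ∈ J' ^ 2) (hxn : θ x = 0) : x ∈ J' * RingHom.ker θ := by
  obtain ⟨B', hB'⟩ : ∃ B' : Ideal S', B' = Ideal.span (Set.range b') := ⟨_, rfl⟩
  obtain ⟨𝔫, h𝔫⟩ : ∃ 𝔫 : Ideal S', 𝔫 = RingHom.ker θ := ⟨_, rfl⟩
  rw [← h𝔫]
  have hmem𝔫 : ∀ y, y ∈ 𝔫 ↔ θ y = 0 := fun y => by rw [h𝔫, RingHom.mem_ker]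
  have h𝔫J : 𝔫 ≤ J' := by
    intro y hy
    rw [hJ']
    show θ y ∈ Ideal.span (Set.range b)
    rw [(hmem𝔫 y).mp hy]
    exact Ideal.zero_mem _
  have hB'J : B' ≤ J' := by
    rw [hB', Ideal.span_le]
    rintro _ ⟨i, rfl⟩
    rw [hJ']
    show θ (b' i) ∈ Ideal.span (Set.range b)
    rw [hb']
    exact Ideal.subset_span ⟨i, rfl⟩
  have hJsup : J' ≤ 𝔫 ⊔ B' := by
    intro y hy
    rw [hJ', Ideal.mem_comap] at hy
    obtain ⟨c, hc⟩ := (Ideal.mem_span_range_iff_exists_fun (R := S)).mp hy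
    choose c' hc' using fun i => hθ (c i)
    have h1 : θ (y - ∑ i, c' i * b' i) = 0 := by
      rw [map_sub, map_sum, ← hc, sub_eq_zero]
      exact Finset.sum_congr rfl (fun i _ => by rw [map_mul, hc', hb'])
    have hA : y - ∑ i, c' i * b' i ∈ 𝔫 ⊔ B' := Ideal.mem_sup_left ((hmem𝔫 _).mpr h1)
    have hBm : ∑ i, c' i * b' i ∈ B' := by
      refine Ideal.sum_mem B' (fun i _ => Ideal.mul_mem_left B' (c' i) ?_)
      rw [hB']
      exact Ideal.subset_span ⟨i, rfl⟩
    have hB2 : ∑ i, c' i * b' i ∈ 𝔫 ⊔ B' := Ideal.mem_sup_right hBm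
    have h3 := Ideal.add_mem (𝔫 ⊔ B') hA hB2
    rwa [sub_add_cancel] at h3
  have hsq' : J' ^ 2 ≤ J' * 𝔫 ⊔ B' * B' := sq_le_aux J' 𝔫 B' hJsup hB'J
  obtain ⟨y, hy, z, hz, rfl⟩ := Submodule.mem_sup.mp (hsq' hx)
  have hy𝔫 : y ∈ 𝔫 := (Ideal.mul_le_right : J' * 𝔫 ≤ 𝔫) hy
  have hyn : θ y = 0 := (hmem𝔫 y).mp hy𝔫
  have hzB : z ∈ B' := (Ideal.mul_le_left : B' * B' ≤ B') hz
  rw [hB'] at hzB
  obtain ⟨s, rfl⟩ := (Ideal.mem_span_range_iff_exists_fun (R := S')).mp hzB
  have hzn : θ (∑ i, s i * b' i) = 0 := by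
    rw [map_add, hyn, zero_add] at hxn
    exact hxn
  have := sum_mem_of_lift θ hθ b hb b' hb' s hzn
  rw [← hB', ← h𝔫] at this
  exact Ideal.add_mem _ hy ((Ideal.mul_mono_left hB'J : B' * 𝔫 ≤ J' * 𝔫) this)

end Key


/-! ### Maps out of a universal thickening -/

section Thick

variable {R B B' T' : Type u} [CommRing R] [CommRing B] [CommRing B'] [CommRing T']
  [Algebra R B] [Algebra R B'] [Algebra R T']
  (π : B' →ₐ[R] B) (h : OmegaSh.IsUnivThickeningRing R B B' π)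

include h in
/-- a universal thickening maps to any thickening of `B` -/
theorem exists_lift_thick (πT : T' →ₐ[R] B) (hπT : Function.Surjective πT)
    (hsq : RingHom.ker πT.toRingHom ^ 2 = ⊥) : ∃ γ : B' →ₐ[R] T', ∀ y, πT (γ y) = π y := by
  obtain ⟨abar, habar⟩ := exists_desc πT hπT
    (Ideal.Quotient.mkₐ R (RingHom.ker πT.toRingHom)) (fun c hc => by
      show Ideal.Quotient.mk _ c = 0
      rw [Ideal.Quotient.eq_zero_iff_mem]
      exact hc)
  obtain ⟨γ, hγ, -⟩ := h.2.2 T' (RingHom.ker πT.toRingHom) hsq abar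
  refine ⟨γ, fun y => ?_⟩
  obtain ⟨z, hz⟩ := hπT (π y)
  have h1 : Ideal.Quotient.mk _ (γ y) = abar (π y) := AlgHom.congr_fun hγ y
  have h2 : abar (πT z) = Ideal.Quotient.mk _ z := AlgHom.congr_fun habar z
  rw [← hz, h2, Ideal.Quotient.eq] at h1
  have h3 : πT (γ y - z) = 0 := h1
  rw [map_sub, sub_eq_zero] at h3
  rw [h3, hz]

include h in
theorem lift_unique (I : Ideal T') (hsq : I ^ 2 = ⊥) (g₁ g₂ : B' →ₐ[R] T')
    (h12 : ∀ x, g₂ x - g₁ x ∈ I) (hk : ∀ x, π x = 0 → g₁ x ∈ I) : g₁ = g₂ := by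
  obtain ⟨abar, habar⟩ := exists_desc π h.1 ((Ideal.Quotient.mkₐ R I).comp g₁) (fun c hc => by
      show Ideal.Quotient.mk _ (g₁ c) = 0
      rw [Ideal.Quotient.eq_zero_iff_mem]
      exact hk c hc)
  obtain ⟨γ, -, hu⟩ := h.2.2 T' I hsq abar
  have h2 : (Ideal.Quotient.mkₐ R I).comp g₂ = abar.comp π := by
    rw [habar]
    ext x
    show Ideal.Quotient.mk I (g₂ x) = Ideal.Quotient.mk I (g₁ x)
    rw [Ideal.Quotient.eq]
    exact h12 x
  rw [hu g₁ habar.symm, hu g₂ h2]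

end Thick


/-! ### The main injectivity statement -/

section Main

variable {R A' A C' C S : Type u} [CommRing R] [CommRing A'] [CommRing A] [CommRing C']
  [CommRing C] [CommRing S] [Algebra R A'] [Algebra R A] [Algebra R C'] [Algebra R C]
  (πA : A' →ₐ[R] A) (hA : OmegaSh.IsUnivThickeningRing R A A' πA)
  (πC : C' →ₐ[R] C) (hC : OmegaSh.IsUnivThickeningRing R C C' πC)
  (mS : A' →+* C') (hmR : ∀ r, mS (algebraMap R A' r) = algebraMap R C' r)
  (iS : A →+* C) (hcomm : ∀ a, πC (mS a) = iS (πA a))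
  [Algebra A S] [Algebra.IsStandardSmooth A S] (φ : S →+* C) (hφ : Function.Surjective φ)
  (hφA : ∀ a, φ (algebraMap A S a) = iS a)
  {n : ℕ} (b : Fin n → S) (hb : CAlgX.IsH1Regular b)
  (hgen : RingHom.ker φ = Ideal.span (Set.range b))
  {MJ : Type u} [AddCommGroup MJ] [Module A' MJ] (ιJ : MJ →ₗ[A'] A')
  (hιJi : Function.Injective ιJ)
  (hιJ : Set.range ιJ = (RingHom.ker πA.toRingHom : Set A'))
  {PA : Type u} [AddCommGroup PA] [Module A PA] (qA : MJ →+ PA) (hqA : IsBC πA.toRingHom qA)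
  {P₁ : Type u} [AddCommGroup P₁] [Module C P₁] (qi : PA →+ P₁) (hqi : IsBC iS qi)
  {MK : Type u} [AddCommGroup MK] [Module C' MK] (ιK : MK →ₗ[C'] C')
  (hιKi : Function.Injective ιK)
  (hιK : Set.range ιK = (RingHom.ker πC.toRingHom : Set C'))
  {P₂ : Type u} [AddCommGroup P₂] [Module C P₂] (q₂ : MK →+ P₂) (hq₂ : IsBC πC.toRingHom q₂)
  (ψ₁ : P₁ →ₗ[C] P₂) (hψ₁ : ∀ t s, ιK s = mS (ιJ t) → ψ₁ (qi (qA t)) = q₂ s)

include hA hC hmR hcomm hφ hφA hb hgen hιJi hιJ hqA hqi hιKi hιK hq₂ hψ₁ in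
theorem injective : Function.Injective ψ₁ := by
  classical
  letI algA'A : Algebra A' A := πA.toRingHom.toAlgebra
  have hsurjA : Function.Surjective (algebraMap A' A) := hA.1
  have hsqA : RingHom.ker (algebraMap A' A) ^ 2 = ⊥ := hA.2.1
  obtain ⟨S', _, _, θ, hss, hθsurj, hθalg, hθker⟩ :=
    SmoothLift.exists_lift (A' := A') (A := A) (S := S) hsurjA hsqA
  haveI : Algebra.Smooth A' S' := inferInstance
  haveI : Module.Flat A' S' := inferInstance
  obtain ⟨N, hN⟩ : ∃ N : Ideal A', N = RingHom.ker πA.toRingHom := ⟨_, rfl⟩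
  have hmemN : ∀ a, a ∈ N ↔ πA a = 0 := fun a => by rw [hN]; rfl
  have hNι : ∀ a, a ∈ N ↔ ∃ t, ιJ t = a := by
    intro a
    rw [hN, ← SetLike.mem_coe, ← hιJ]
    rfl
  let χ : S' →+* C := φ.comp θ
  have hχsurj : Function.Surjective χ := hφ.comp hθsurj
  have hχalg : ∀ a, χ (algebraMap A' S' a) = iS (πA a) := fun a => by
    show φ (θ (algebraMap A' S' a)) = _
    rw [hθalg, hφA]
    rfl
  obtain ⟨J', hJ'def⟩ : ∃ J' : Ideal S', J' = RingHom.ker χ := ⟨_, rfl⟩
  have hmemJ' : ∀ σ, σ ∈ J' ↔ χ σ = 0 := fun σ => by rw [hJ'def]; rfl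
  have hJ' : J' = (Ideal.span (Set.range b)).comap θ := by
    rw [hJ'def, ← hgen]
    rfl
  have hθker' : RingHom.ker θ = N.map (algebraMap A' S') := by rw [hθker, hN]; rfl
  have hkersq : ∀ x y, θ x = 0 → θ y = 0 → x * y = 0 := by
    intro x y hx hy
    have h1 : x * y ∈ RingHom.ker θ ^ 2 := by
      rw [pow_two]
      exact Ideal.mul_mem_mul hx hy
    rw [hθker, ← Ideal.map_pow, hsqA, Ideal.map_bot] at h1
    exact h1
  choose b' hb' using fun i => hθsurj (b i)
  -- the `R`-algebra structure and the thickening `T' = S' / J'^2`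
  letI algRS' : Algebra R S' := ((algebraMap A' S').comp (algebraMap R A')).toAlgebra
  haveI : IsScalarTower R A' S' := IsScalarTower.of_algebraMap_eq' rfl
  have hχR : ∀ r, χ (algebraMap R S' r) = algebraMap R C r := fun r => by
    show χ (algebraMap A' S' (algebraMap R A' r)) = _
    rw [hχalg, ← hcomm, hmR, AlgHom.commutes]
  let χR : S' →ₐ[R] C := { χ with commutes' := hχR }
  have hJ'le : ∀ x ∈ J' ^ 2, χR x = 0 := fun x hx =>
    (hmemJ' x).mp (Ideal.pow_le_self two_ne_zero hx)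
  let πT : (S' ⧸ J' ^ 2) →ₐ[R] C := Ideal.Quotient.liftₐ (J' ^ 2) χR hJ'le
  have hπTmk : ∀ σ, πT (Ideal.Quotient.mk _ σ) = χ σ := fun σ => rfl
  have hπTsurj : Function.Surjective πT := fun c => by
    obtain ⟨σ, rfl⟩ := hχsurj c
    exact ⟨Ideal.Quotient.mk _ σ, rfl⟩
  have hπTker : RingHom.ker πT.toRingHom = J'.map (Ideal.Quotient.mk (J' ^ 2)) := by
    apply le_antisymm
    · intro x hx
      obtain ⟨σ, rfl⟩ := Ideal.Quotient.mk_surjective x
      have : χ σ = 0 := hx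
      exact Ideal.mem_map_of_mem _ ((hmemJ' σ).mpr this)
    · rw [Ideal.map_le_iff_le_comap]
      intro σ hσ
      show πT (Ideal.Quotient.mk _ σ) = 0
      rw [hπTmk]
      exact (hmemJ' σ).mp hσ
  have hπTsq : RingHom.ker πT.toRingHom ^ 2 = ⊥ := by
    rw [hπTker, ← Ideal.map_pow, Ideal.map_quotient_self]
  have hkerT : ∀ x y : S' ⧸ J' ^ 2, πT x = 0 → πT y = 0 → x * y = 0 := by
    intro x y hx hy
    have h1 : x * y ∈ RingHom.ker πT.toRingHom * RingHom.ker πT.toRingHom :=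
      Ideal.mul_mem_mul hx hy
    rw [← pow_two, hπTsq] at h1
    exact h1
  obtain ⟨γ, hγ⟩ := exists_lift_thick πC hC πT hπTsurj hπTsq
  -- `γ ∘ mS` is the structure map
  let mSR : A' →ₐ[R] C' := { mS with commutes' := hmR }
  let αT : A' →ₐ[R] (S' ⧸ J' ^ 2) :=
    (Ideal.Quotient.mkₐ R (J' ^ 2)).comp (IsScalarTower.toAlgHom R A' S')
  have hαT : ∀ a, αT a = Ideal.Quotient.mk _ (algebraMap A' S' a) := fun a => rfl
  have hγm : γ.comp mSR = αT := by
    refine lift_unique πA hA (RingHom.ker πT.toRingHom) hπTsq _ _ (fun a => ?_) (fun a ha => ?_)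
    · show πT (αT a - γ (mS a)) = 0
      rw [map_sub, hγ, hαT, hπTmk, hχalg, hcomm, sub_self]
    · show πT (γ (mS a)) = 0
      rw [hγ, hcomm, ha, map_zero]
  have hγm' : ∀ a, γ (mS a) = Ideal.Quotient.mk _ (algebraMap A' S' a) := fun a =>
    AlgHom.congr_fun hγm a
  -- `q₂` is bijective
  have hq₂inj : Function.Injective q₂ := by
    refine ConormalTransAlg.injective_of_isBC hC.1 hq₂ (fun r hr s => ?_)
    apply hιKi
    rw [map_smul, map_zero, smul_eq_mul]
    have h1 : ιK s ∈ RingHom.ker πC.toRingHom := by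
      rw [← SetLike.mem_coe, ← hιK]
      exact ⟨s, rfl⟩
    have h2 : r * ιK s ∈ RingHom.ker πC.toRingHom ^ 2 := by
      rw [pow_two]
      exact Ideal.mul_mem_mul hr h1
    rw [hC.2.1] at h2
    exact h2
  have hq₂surj : Function.Surjective q₂ := ConormalTransAlg.surjective_of_isBC hC.1 hq₂
  -- the map `Φ₀ : S' ⊗ MJ → P₁`
  let qq : MJ →+ P₁ := qi.comp qA
  have hqq : ∀ (a : A') (t : MJ), qq (a • t) = χ (algebraMap A' S' a) • qq t := by
    intro a t
    show qi (qA (a • t)) = _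
    rw [hqA.map_smul, hqi.map_smul, hχalg]
    rfl
  let f₀ : S' →+ MJ →+ P₁ :=
    { toFun := fun σ =>
        { toFun := fun t => χ σ • qq t
          map_zero' := by rw [map_zero, smul_zero]
          map_add' := fun t t' => by rw [map_add, smul_add] }
      map_zero' := by
        ext t
        show χ 0 • qq t = 0
        rw [map_zero, zero_smul]
      map_add' := fun σ σ' => by
        ext t
        show χ (σ + σ') • qq t = χ σ • qq t + χ σ' • qq t
        rw [map_add, add_smul] }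
  let Φ₀ : S' ⊗[A'] MJ →+ P₁ := TensorProduct.liftAddHom f₀ (fun a σ t => by
    show χ (a • σ) • qq t = χ σ • qq (a • t)
    rw [hqq, Algebra.smul_def, map_mul, smul_smul, mul_comm])
  have hΦ₀t : ∀ σ t, Φ₀ (σ ⊗ₜ t) = χ σ • qq t := fun σ t => rfl
  have hΦ₀s : ∀ (σ : S') (z : S' ⊗[A'] MJ), Φ₀ (σ • z) = χ σ • Φ₀ z := by
    intro σ z
    induction z using TensorProduct.induction_on with
    | zero => rw [smul_zero, map_zero, smul_zero]
    | tmul σ' t =>
      rw [TensorProduct.smul_tmul', hΦ₀t, hΦ₀t, smul_eq_mul, map_mul, mul_smul]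
    | add x y hx hy => rw [smul_add, map_add, map_add, hx, hy, smul_add]
  -- surjectivity of `Φ₀`
  have hΦ₀surj : Function.Surjective Φ₀ := by
    letI : Algebra A C := iS.toAlgebra
    have hspan : Submodule.span C (Set.range qi) = ⊤ :=
      OmegaSeqAlg.span_range_of_isBC (B := A) (A := C) hqi
    have hqAs : Function.Surjective qA := ConormalTransAlg.surjective_of_isBC hA.1 hqA
    intro p
    have hp : p ∈ Submodule.span C (Set.range qi) := by rw [hspan]; trivial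
    induction hp using Submodule.span_induction with
    | mem x hx =>
      obtain ⟨y, rfl⟩ := hx
      obtain ⟨t, rfl⟩ := hqAs y
      exact ⟨(1 : S') ⊗ₜ t, by rw [hΦ₀t, map_one, one_smul]; rfl⟩
    | zero => exact ⟨0, map_zero _⟩
    | add x y _ _ hx hy =>
      obtain ⟨zx, rfl⟩ := hx
      obtain ⟨zy, rfl⟩ := hy
      exact ⟨zx + zy, map_add _ _ _⟩
    | smul c x _ hx =>
      obtain ⟨zx, rfl⟩ := hx
      obtain ⟨σ, rfl⟩ := hχsurj c
      exact ⟨σ • zx, hΦ₀s σ zx⟩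
  -- the multiplication map
  have hμinj : Function.Injective (mulMap (S' := S') ιJ) := mulMap_injective ιJ hιJi
  have hμrange : (LinearMap.range (mulMap (S' := S') ιJ) : Ideal S') = RingHom.ker θ := by
    rw [hθker']
    exact range_mulMap ιJ N hNι
  -- the key compatibility
  have hstar : ∀ (z : S' ⊗[A'] MJ) (s : MK), ψ₁ (Φ₀ z) = q₂ s →
      γ (ιK s) = Ideal.Quotient.mk (J' ^ 2) (mulMap (S' := S') ιJ z) := by
    intro z
    induction z using TensorProduct.induction_on with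
    | zero =>
      intro s hs
      rw [map_zero, map_zero] at hs
      have : s = 0 := hq₂inj (by rw [← hs, map_zero])
      rw [this, map_zero, map_zero, map_zero, map_zero]
    | tmul σ t =>
      intro s hs
      have hker : πC (mS (ιJ t)) = 0 := by
        rw [hcomm]
        have : ιJ t ∈ N := (hNι _).mpr ⟨t, rfl⟩
        rw [(hmemN _).mp this, map_zero]
      have hmem : mS (ιJ t) ∈ Set.range ιK := by
        rw [hιK]
        exact hker
      obtain ⟨s₀, hs₀⟩ := hmem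
      obtain ⟨c', hc'⟩ := hC.1 (χ σ)
      have h1 : ψ₁ (Φ₀ (σ ⊗ₜ t)) = q₂ (c' • s₀) := by
        rw [hΦ₀t, map_smul, hq₂.map_smul]
        show χ σ • ψ₁ (qi (qA t)) = πC c' • q₂ s₀
        rw [hψ₁ t s₀ hs₀, hc']
      have h2 : s = c' • s₀ := hq₂inj (by rw [← hs, h1])
      rw [h2, map_smul, smul_eq_mul, map_mul, hs₀, hγm', mulMap_tmul, map_mul,
        mul_comm (Ideal.Quotient.mk (J' ^ 2) (algebraMap A' S' (ιJ t)))]
      have h3 : (γ c' - Ideal.Quotient.mk (J' ^ 2) σ) *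
          Ideal.Quotient.mk (J' ^ 2) (algebraMap A' S' (ιJ t)) = 0 := by
        apply hkerT
        · rw [map_sub, hγ, hπTmk, hc', sub_self]
        · rw [hπTmk, hχalg, ← hcomm, hker]
      rw [sub_mul, sub_eq_zero] at h3
      exact h3
    | add z₁ z₂ h₁ h₂ =>
      intro s hs
      obtain ⟨s₁, hs₁⟩ := hq₂surj (ψ₁ (Φ₀ z₁))
      have hs₂ : ψ₁ (Φ₀ z₂) = q₂ (s - s₁) := by
        rw [map_sub, ← hs, hs₁, map_add, map_add, add_sub_cancel_left]
      have e : s = s₁ + (s - s₁) := by abel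
      rw [e, map_add, map_add, h₁ s₁ hs₁.symm, h₂ _ hs₂, map_add, map_add]
  -- conclusion
  rw [injective_iff_map_eq_zero]
  intro x hx
  obtain ⟨z, rfl⟩ := hΦ₀surj x
  have h1 : Ideal.Quotient.mk (J' ^ 2) (mulMap (S' := S') ιJ z) = 0 := by
    rw [← hstar z 0 (by rw [hx, map_zero]), map_zero, map_zero]
  rw [Ideal.Quotient.eq_zero_iff_mem] at h1
  have h2 : θ (mulMap (S' := S') ιJ z) = 0 := by
    have : mulMap (S' := S') ιJ z ∈ (LinearMap.range (mulMap (S' := S') ιJ) : Ideal S') :=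
      ⟨z, rfl⟩
    rw [hμrange] at this
    exact this
  have h3 : mulMap (S' := S') ιJ z ∈ J' * RingHom.ker θ :=
    mem_mul_of_mem_sq θ hθsurj hkersq b hb b' hb' J' hJ' _ h1 h2
  -- pull back to the tensor product
  have h4 : J' * RingHom.ker θ =
      Submodule.map (mulMap (S' := S') ιJ) (J' • (⊤ : Submodule S' (S' ⊗[A'] MJ))) := by
    rw [Submodule.map_smul'', Submodule.map_top, ← hμrange]
    rfl
  rw [h4] at h3
  obtain ⟨z', hz', hzz'⟩ := h3
  have h5 : z' = z := hμinj hzz'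
  rw [← h5]
  refine Submodule.smul_induction_on hz' (fun j hj y _ => ?_) (fun y y' hy hy' => ?_)
  · rw [hΦ₀s, (hmemJ' j).mp hj, zero_smul]
  · rw [map_add, hy, hy', add_zero]

end Main

end Groth.Agent.Lib.helper7.ConormalLciTransAlg
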