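import Groth.Agent.Lib.Helper7.ConormalLciTransAlg
import Groth.Agent.Lib.Helper7.ConormalLciMain
import Groth.Agent.Lib.Helper7.ConormalTrans
import Groth.Agent.Lib.Helper7.ConormalZero

/-!
# Injectivity of `i^* C_{Y/X} → C_{Z/X}` for `i : Z → Y` lci: chart statement (helper7)
-/

set_option autoImplicit false
set_option linter.style.haveILetI false
set_option linter.unusedSectionVars false
universe u
open CategoryTheory CategoryTheory.Limits AlgebraicGeometry TopologicalSpace Opposite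
open Scheme.Modules

namespace Groth.Agent.Lib.helper7.ConormalLciTransChart

open Groth.Agent.Lib.helper8.PullbackUnit OmegaChart OmegaSeq4 OmegaSeq5 OmegaSeq7

/-- a standard smooth basic open neighbourhood -/
theorem exists_standardSmooth_basicOpen {P₀ Y Z₀ : Scheme.{u}} (π₀ : P₀ ⟶ Y) [Smooth π₀]
    (j₀ : Z₀ ⟶ P₀) [QuasiCompact j₀]
    {W : Y.Opens} (hW : IsAffineOpen W) {V₁ : P₀.Opens} (hV₁ : IsAffineOpen V₁)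
    (e : V₁ ≤ π₀ ⁻¹ᵁ W) (x : P₀) (hx : x ∈ V₁) :
    ∃ V : P₀.Opens, IsAffineOpen V ∧ x ∈ V ∧ (H1Chart j₀ V₁ → H1Chart j₀ V) ∧
      ∃ e' : V ≤ π₀ ⁻¹ᵁ W,
        letI := (π₀.appLE W V e').hom.toAlgebra
        Algebra.IsStandardSmooth Γ(Y, W) Γ(P₀, V) := by
  letI algAS₁ : Algebra Γ(Y, W) Γ(P₀, V₁) := (π₀.appLE W V₁ e).hom.toAlgebra
  haveI : Algebra.Smooth Γ(Y, W) Γ(P₀, V₁) := Smooth.smooth_appLE π₀ hW hV₁ e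
  obtain ⟨s, hs, hstd⟩ := Algebra.Smooth.exists_span_eq_top_isStandardSmooth Γ(Y, W) Γ(P₀, V₁)
  obtain ⟨f, hfs, hfx⟩ : ∃ f ∈ s, f ∉ (hV₁.primeIdealOf ⟨x, hx⟩).asIdeal := by
    by_contra hcon
    push Not at hcon
    have h1 : Ideal.span s ≤ (hV₁.primeIdealOf ⟨x, hx⟩).asIdeal := Ideal.span_le.mpr hcon
    rw [hs] at h1
    exact (hV₁.primeIdealOf ⟨x, hx⟩).isPrime.ne_top (top_le_iff.mp h1)
  have hxf : x ∈ P₀.basicOpen f := (ConormalZero.mem_basicOpen_iff hV₁ ⟨x, hx⟩ f).mpr hfx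
  have hle : P₀.basicOpen f ≤ V₁ := P₀.basicOpen_le f
  refine ⟨P₀.basicOpen f, hV₁.basicOpen f, hxf, fun h => h1Chart_basicOpen j₀ hV₁ h f,
    hle.trans e, ?_⟩
  letI algAS : Algebra Γ(Y, W) Γ(P₀, P₀.basicOpen f) :=
    (π₀.appLE W (P₀.basicOpen f) (hle.trans e)).hom.toAlgebra
  haveI : IsScalarTower Γ(Y, W) Γ(P₀, V₁) Γ(P₀, P₀.basicOpen f) :=
    IsScalarTower.of_algebraMap_eq' (by
      change (π₀.appLE W (P₀.basicOpen f) (hle.trans e)).hom =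
        (P₀.presheaf.map (homOfLE hle).op).hom.comp (π₀.appLE W V₁ e).hom
      rw [← CommRingCat.hom_comp, Scheme.Hom.appLE_map])
  haveI := hV₁.isLocalization_basicOpen f
  haveI := hstd f hfs
  let e₁ : Localization.Away f ≃ₐ[Γ(P₀, V₁)] Γ(P₀, P₀.basicOpen f) :=
    IsLocalization.algEquiv (Submonoid.powers f) _ _
  exact Algebra.IsStandardSmooth.of_algEquiv (e₁.restrictScalars Γ(Y, W))


section Chart

variable {Z Y X Z' Y' : Scheme.{u}} (i : Z ⟶ Y) (b : Y ⟶ X)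
  (i' : Z ⟶ Z') (c : Z' ⟶ X) (hZ' : OmegaSh.IsUnivThickening (i ≫ b) i' c)
  (j : Y ⟶ Y') (d : Y' ⟶ X) (hY' : OmegaSh.IsUnivThickening b j d)
  (m : Z' ⟶ Y') (hm₁ : i' ≫ m = i ≫ j) (hm₂ : m ≫ d = c)
  (ψ₁ : (Scheme.Modules.pullback i).obj (Omega.conormal j) ⟶ Omega.conormal i')
  (hψ₁ : OmegaSh.IsConormalMap i' j m i ψ₁)
  {Z₀ P₀ : Scheme.{u}} [IsAffine P₀] (ι₃ : Z₀ ⟶ Z) [IsOpenImmersion ι₃]
  (j₀ : Z₀ ⟶ P₀) [IsClosedImmersion j₀] (π₀ : P₀ ⟶ Y) [Smooth π₀] (w : j₀ ≫ π₀ = ι₃ ≫ i)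
  (hH1 : H1Chart j₀ ⊤)

include hZ' hY' hm₁ hm₂ hψ₁ w hH1 in
theorem exists_chart (x₀ : Z₀) : ∃ T : Z.Opens, IsAffineOpen T ∧ ι₃ x₀ ∈ T ∧
    Function.Injective (linApp ψ₁ T) := by
  have hci' : IsClosedImmersion i' := hZ'.1.1.1
  have hcj : IsClosedImmersion j := hY'.1.1.1
  have hi'c : i' ≫ c = i ≫ b := hZ'.2.1
  have hjd : j ≫ d = b := hY'.2.1
  have hpt : π₀ (j₀ x₀) = i (ι₃ x₀) := by
    rw [← Scheme.Hom.comp_apply, w, Scheme.Hom.comp_apply]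
  -- affine neighbourhoods in `X` and `Y`
  obtain ⟨UX, hUX, hxUX, -⟩ := Opens.isBasis_iff_nbhd.mp X.isBasis_affineOpens
    (show b (π₀ (j₀ x₀)) ∈ (⊤ : X.Opens) from trivial)
  obtain ⟨W₀, hW₀, hyW₀, hW₀U⟩ := Opens.isBasis_iff_nbhd.mp Y.isBasis_affineOpens
    (show π₀ (j₀ x₀) ∈ b ⁻¹ᵁ UX from hxUX)
  obtain ⟨W', hW'W₀⟩ := UnivThick.exists_open_preimage j hY'.1 W₀
  have hW : IsAffineOpen (j ⁻¹ᵁ W') := by rw [hW'W₀]; exact hW₀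
  have hW' : IsAffineOpen W' := ConormalSplitMain.isAffineOpen_of_preimage j hY'.1 W' hW
  have hyW : π₀ (j₀ x₀) ∈ j ⁻¹ᵁ W' := by rw [hW'W₀]; exact hyW₀
  have eWU : j ⁻¹ᵁ W' ≤ b ⁻¹ᵁ UX := by rw [hW'W₀]; exact hW₀U
  -- the basic opens of `P₀`
  obtain ⟨g, hg1, hg2⟩ := (isAffineOpen_top P₀).exists_basicOpen_le (V := π₀ ⁻¹ᵁ (j ⁻¹ᵁ W'))
    ⟨j₀ x₀, hyW⟩ (show j₀ x₀ ∈ (⊤ : P₀.Opens) from trivial)
  have hV₁ : IsAffineOpen (P₀.basicOpen g) := (isAffineOpen_top P₀).basicOpen g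
  obtain ⟨V, hV, hxf, hH1V, eVW, hstd⟩ :=
    exists_standardSmooth_basicOpen π₀ j₀ hW hV₁ hg1 (j₀ x₀) hg2
  obtain ⟨n, bb, hbb, hker⟩ : H1Chart j₀ V :=
    hH1V (h1Chart_basicOpen j₀ (isAffineOpen_top P₀) hH1 g)
  -- the chart on `Z`
  have hT₀ : IsAffineOpen (j₀ ⁻¹ᵁ V) := hV.preimage j₀
  obtain ⟨Td, hTddef⟩ : ∃ Td : Z.Opens, Td = ι₃ ''ᵁ (j₀ ⁻¹ᵁ V) := ⟨_, rfl⟩
  have hTd : IsAffineOpen Td := by rw [hTddef]; exact hT₀.image_of_isOpenImmersion ι₃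
  obtain ⟨V', hV'T⟩ := UnivThick.exists_open_preimage i' hZ'.1 Td
  have hT : IsAffineOpen (i' ⁻¹ᵁ V') := by rw [hV'T]; exact hTd
  have hV' : IsAffineOpen V' := ConormalSplitMain.isAffineOpen_of_preimage i' hZ'.1 V' hT
  have hx₀T : ι₃ x₀ ∈ i' ⁻¹ᵁ V' := by
    rw [hV'T, hTddef]
    exact ⟨x₀, hxf, rfl⟩
  have hmemT : ∀ t ∈ Td, i t ∈ j ⁻¹ᵁ W' := by
    intro t ht
    rw [hTddef] at ht
    obtain ⟨t₀, ht₀, rfl⟩ := ht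
    have h1 : π₀ (j₀ t₀) ∈ j ⁻¹ᵁ W' := eVW ht₀
    rw [← Scheme.Hom.comp_apply, w] at h1
    exact h1
  have eTi : i' ⁻¹ᵁ V' ≤ i ⁻¹ᵁ (j ⁻¹ᵁ W') := by
    intro t ht
    rw [hV'T] at ht
    exact hmemT t ht
  have eVW' : V' ≤ m ⁻¹ᵁ W' := by
    intro y hy
    obtain ⟨t, rfl⟩ := hZ'.1.1.2.surj y
    have ht : t ∈ Td := by rw [← hV'T]; exact hy
    show m (i' t) ∈ W'
    rw [← Scheme.Hom.comp_apply, hm₁]
    exact hmemT t ht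
  have eW'U : W' ≤ d ⁻¹ᵁ UX := by
    intro y hy
    obtain ⟨t, rfl⟩ := hY'.1.1.2.surj y
    show d (j t) ∈ UX
    rw [← Scheme.Hom.comp_apply, hjd]
    exact eWU hy
  have eV'U : V' ≤ c ⁻¹ᵁ UX := by
    intro y hy
    have h1 : m y ∈ W' := eVW' hy
    have h2 : d (m y) ∈ UX := eW'U h1
    rw [← Scheme.Hom.comp_apply, hm₂] at h2
    exact h2
  have eTU : i' ⁻¹ᵁ V' ≤ (i ≫ b) ⁻¹ᵁ UX := fun t ht => eWU (eTi ht)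
  refine ⟨i' ⁻¹ᵁ V', hT, hx₀T, ?_⟩
  -- the ring map `S → C`
  have eTT : i' ⁻¹ᵁ V' ≤ ι₃ ''ᵁ (j₀ ⁻¹ᵁ V) := by rw [hV'T, hTddef]
  have eTTge : ι₃ ''ᵁ (j₀ ⁻¹ᵁ V) ≤ i' ⁻¹ᵁ V' := by rw [hV'T, hTddef]
  let φ : Γ(P₀, V) ⟶ Γ(Z, i' ⁻¹ᵁ V') :=
    j₀.app V ≫ (ι₃.appIso (j₀ ⁻¹ᵁ V)).inv ≫ Z.presheaf.map (homOfLE eTT).op
  have hφsurj : Function.Surjective φ.hom := by
    have h1 : Function.Surjective (j₀.app V).hom := j₀.app_surjective V hV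
    have h2 : Function.Bijective ((ι₃.appIso (j₀ ⁻¹ᵁ V)).inv ≫
        Z.presheaf.map (homOfLE eTT).op).hom := by
      haveI : IsIso (Z.presheaf.map (homOfLE eTT).op) := by
        have : IsIso (homOfLE eTT) := ⟨⟨homOfLE eTTge, rfl, rfl⟩⟩
        infer_instance
      exact ConcreteCategory.bijective_of_isIso _
    intro c₀
    obtain ⟨c₁, hc₁⟩ := h2.2 c₀
    obtain ⟨s, hs⟩ := h1 c₁
    exact ⟨s, by rw [← hc₁, ← hs]; rfl⟩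
  have hφker : RingHom.ker φ.hom = Ideal.span (Set.range bb) := by
    rw [← hker]
    have h2 : Function.Injective ((ι₃.appIso (j₀ ⁻¹ᵁ V)).inv ≫
        Z.presheaf.map (homOfLE eTT).op).hom := by
      haveI : IsIso (Z.presheaf.map (homOfLE eTT).op) := by
        have : IsIso (homOfLE eTT) := ⟨⟨homOfLE eTTge, rfl, rfl⟩⟩
        infer_instance
      exact (ConcreteCategory.bijective_of_isIso _).1
    ext s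
    rw [RingHom.mem_ker, RingHom.mem_ker]
    constructor
    · intro hs
      apply h2
      rw [map_zero]
      exact hs
    · intro hs
      show ((ι₃.appIso (j₀ ⁻¹ᵁ V)).inv ≫ Z.presheaf.map (homOfLE eTT).op).hom
        ((j₀.app V).hom s) = 0
      rw [hs, map_zero]
  -- algebra structures
  letI algRA' : Algebra Γ(X, UX) Γ(Y', W') := (d.appLE UX W' eW'U).hom.toAlgebra
  letI algA'A : Algebra Γ(Y', W') Γ(Y, j ⁻¹ᵁ W') := (j.appLE W' (j ⁻¹ᵁ W') le_rfl).hom.toAlgebra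
  letI algRA : Algebra Γ(X, UX) Γ(Y, j ⁻¹ᵁ W') := (b.appLE UX (j ⁻¹ᵁ W') eWU).hom.toAlgebra
  letI algRC' : Algebra Γ(X, UX) Γ(Z', V') := (c.appLE UX V' eV'U).hom.toAlgebra
  letI algC'C : Algebra Γ(Z', V') Γ(Z, i' ⁻¹ᵁ V') :=
    (i'.appLE V' (i' ⁻¹ᵁ V') le_rfl).hom.toAlgebra
  letI algRC : Algebra Γ(X, UX) Γ(Z, i' ⁻¹ᵁ V') :=
    ((i ≫ b).appLE UX (i' ⁻¹ᵁ V') eTU).hom.toAlgebra
  letI algAS : Algebra Γ(Y, j ⁻¹ᵁ W') Γ(P₀, V) := (π₀.appLE (j ⁻¹ᵁ W') V eVW).hom.toAlgebra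
  haveI tA : IsScalarTower Γ(X, UX) Γ(Y', W') Γ(Y, j ⁻¹ᵁ W') :=
    IsScalarTower.of_algebraMap_eq' (by
      change (b.appLE UX (j ⁻¹ᵁ W') eWU).hom =
        (j.appLE W' (j ⁻¹ᵁ W') le_rfl).hom.comp (d.appLE UX W' eW'U).hom
      rw [← CommRingCat.hom_comp, Scheme.Hom.appLE_comp_appLE]
      exact congrArg _ (OmegaSeq4.appLE_congr hjd.symm UX _ _ _))
  haveI tC : IsScalarTower Γ(X, UX) Γ(Z', V') Γ(Z, i' ⁻¹ᵁ V') :=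
    IsScalarTower.of_algebraMap_eq' (by
      change ((i ≫ b).appLE UX (i' ⁻¹ᵁ V') eTU).hom =
        (i'.appLE V' (i' ⁻¹ᵁ V') le_rfl).hom.comp (c.appLE UX V' eV'U).hom
      rw [← CommRingCat.hom_comp, Scheme.Hom.appLE_comp_appLE]
      exact congrArg _ (OmegaSeq4.appLE_congr hi'c.symm UX _ _ _))
  have hA := UnivThickOmega.isUnivThickeningRing_chart b j d hY' hUX hW' eW'U eWU
  have hC := UnivThickOmega.isUnivThickeningRing_chart (i ≫ b) i' c hZ' hUX hV' eV'U eTU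
  -- compatibilities
  have hmR : ∀ r, (m.appLE W' V' eVW').hom (algebraMap Γ(X, UX) Γ(Y', W') r) =
      algebraMap Γ(X, UX) Γ(Z', V') r := by
    intro r
    change ((d.appLE UX W' eW'U) ≫ (m.appLE W' V' eVW')).hom r = (c.appLE UX V' eV'U).hom r
    rw [Scheme.Hom.appLE_comp_appLE]
    exact congrArg (fun f : Γ(X, UX) ⟶ Γ(Z', V') => f.hom r)
      (OmegaSeq4.appLE_congr hm₂ UX V' _ eV'U)
  have hcomm : ∀ a, (IsScalarTower.toAlgHom Γ(X, UX) Γ(Z', V') Γ(Z, i' ⁻¹ᵁ V'))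
      ((m.appLE W' V' eVW').hom a) = (i.appLE (j ⁻¹ᵁ W') (i' ⁻¹ᵁ V') eTi).hom
        ((IsScalarTower.toAlgHom Γ(X, UX) Γ(Y', W') Γ(Y, j ⁻¹ᵁ W')) a) := by
    intro a
    change ((m.appLE W' V' eVW') ≫ (i'.appLE V' (i' ⁻¹ᵁ V') le_rfl)).hom a =
      ((j.appLE W' (j ⁻¹ᵁ W') le_rfl) ≫ (i.appLE (j ⁻¹ᵁ W') (i' ⁻¹ᵁ V') eTi)).hom a
    rw [Scheme.Hom.appLE_comp_appLE, Scheme.Hom.appLE_comp_appLE]
    exact congrArg (fun f : Γ(Y', W') ⟶ Γ(Z, i' ⁻¹ᵁ V') => f.hom a)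
      (OmegaSeq4.appLE_congr hm₁ W' (i' ⁻¹ᵁ V') _ _)
  have hφA : ∀ a, φ.hom (algebraMap Γ(Y, j ⁻¹ᵁ W') Γ(P₀, V) a) =
      (i.appLE (j ⁻¹ᵁ W') (i' ⁻¹ᵁ V') eTi).hom a := by
    intro a
    change ((π₀.appLE (j ⁻¹ᵁ W') V eVW) ≫ φ).hom a = _
    congr 2
    have e1 : j₀ ⁻¹ᵁ V ≤ (ι₃ ≫ i) ⁻¹ᵁ (j ⁻¹ᵁ W') := fun t ht => by
      have : ι₃ t ∈ Td := by rw [hTddef]; exact ⟨t, ht, rfl⟩
      exact hmemT _ this
    have e2 : j₀ ⁻¹ᵁ V ≤ (j₀ ≫ π₀) ⁻¹ᵁ (j ⁻¹ᵁ W') := fun t ht => eVW ht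
    have eTW' : ι₃ ''ᵁ (j₀ ⁻¹ᵁ V) ≤ i ⁻¹ᵁ (j ⁻¹ᵁ W') := eTTge.trans eTi
    have h1 : (ι₃ ≫ i).appLE (j ⁻¹ᵁ W') (j₀ ⁻¹ᵁ V) e1 =
        (j₀ ≫ π₀).appLE (j ⁻¹ᵁ W') (j₀ ⁻¹ᵁ V) e2 :=
      (OmegaSeq4.appLE_congr w (j ⁻¹ᵁ W') _ _ _).symm
    have h2 : (ι₃ ≫ i).appLE (j ⁻¹ᵁ W') (j₀ ⁻¹ᵁ V) e1 =
        i.appLE (j ⁻¹ᵁ W') (ι₃ ''ᵁ (j₀ ⁻¹ᵁ V)) eTW' ≫ (ι₃.appIso (j₀ ⁻¹ᵁ V)).hom := by
      rw [Scheme.Hom.appIso_hom', Scheme.Hom.appLE_comp_appLE]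
    have h3 : (j₀ ≫ π₀).appLE (j ⁻¹ᵁ W') (j₀ ⁻¹ᵁ V) e2 =
        π₀.appLE (j ⁻¹ᵁ W') V eVW ≫ j₀.app V := by
      rw [j₀.app_eq_appLE, Scheme.Hom.appLE_comp_appLE]
    have h4 : i.appLE (j ⁻¹ᵁ W') (ι₃ ''ᵁ (j₀ ⁻¹ᵁ V)) eTW' =
        π₀.appLE (j ⁻¹ᵁ W') V eVW ≫ j₀.app V ≫ (ι₃.appIso (j₀ ⁻¹ᵁ V)).inv := by
      rw [← Category.assoc, ← h3, ← h1, h2, Category.assoc, Iso.hom_inv_id, Category.comp_id]
    have h5 : i.appLE (j ⁻¹ᵁ W') (i' ⁻¹ᵁ V') eTi =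
        i.appLE (j ⁻¹ᵁ W') (ι₃ ''ᵁ (j₀ ⁻¹ᵁ V)) eTW' ≫ Z.presheaf.map (homOfLE eTT).op :=
      (Scheme.Hom.appLE_map i eTW' (homOfLE eTT).op).symm
    rw [h5, h4]
    simp only [Category.assoc, φ]
  -- module data
  haveI : (Omega.conormal j).IsQuasicoherent := OmegaAffine.conormal_qcoh j
  have happi' : i'.appLE V' (i' ⁻¹ᵁ V') le_rfl = i'.app V' := (i'.app_eq_appLE (U := V')).symm
  have happj : j.appLE W' (j ⁻¹ᵁ W') le_rfl = j.app W' := (j.app_eq_appLE (U := W')).symm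
  have hιJ : Set.range (idealSectₗ j.ker W') =
      (RingHom.ker (IsScalarTower.toAlgHom Γ(X, UX) Γ(Y', W') Γ(Y, j ⁻¹ᵁ W')).toRingHom :
        Set Γ(Y', W')) := by
    change Set.range (OmegaSh.idealSect j.ker W') = _
    rw [OmegaSeq2.range_idealSect j.ker hW', Scheme.Hom.ker_apply]
    change _ = ((RingHom.ker (j.appLE W' (j ⁻¹ᵁ W') le_rfl).hom : Ideal Γ(Y', W')) : Set Γ(Y', W'))
    rw [happj]
  have hιK : Set.range (idealSectₗ i'.ker V') =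
      (RingHom.ker (IsScalarTower.toAlgHom Γ(X, UX) Γ(Z', V') Γ(Z, i' ⁻¹ᵁ V')).toRingHom :
        Set Γ(Z', V')) := by
    change Set.range (OmegaSh.idealSect i'.ker V') = _
    rw [OmegaSeq2.range_idealSect i'.ker hV', Scheme.Hom.ker_apply]
    change _ = ((RingHom.ker (i'.appLE V' (i' ⁻¹ᵁ V') le_rfl).hom : Ideal Γ(Z', V')) : Set Γ(Z', V'))
    rw [happi']
  have hqA : IsBC (IsScalarTower.toAlgHom Γ(X, UX) Γ(Y', W') Γ(Y, j ⁻¹ᵁ W')).toRingHom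
      (ρ j (le_refl (j ⁻¹ᵁ W')) (ClSub.idealMod j.ker)) :=
    isBC_ρ j hW' hW (le_refl (j ⁻¹ᵁ W')) (ClSub.idealMod j.ker)
  have hqi : IsBC (i.appLE (j ⁻¹ᵁ W') (i' ⁻¹ᵁ V') eTi).hom (ρ i eTi (Omega.conormal j)) :=
    isBC_ρ i hW hT eTi (Omega.conormal j)
  have hq₂ : IsBC (IsScalarTower.toAlgHom Γ(X, UX) Γ(Z', V') Γ(Z, i' ⁻¹ᵁ V')).toRingHom
      (ρ i' (le_refl (i' ⁻¹ᵁ V')) (ClSub.idealMod i'.ker)) :=
    isBC_ρ i' hV' hT (le_refl (i' ⁻¹ᵁ V')) (ClSub.idealMod i'.ker)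
  have hψ₁m : ∀ t s, idealSectₗ i'.ker V' s = (m.appLE W' V' eVW').hom (idealSectₗ j.ker W' t) →
      linApp ψ₁ (i' ⁻¹ᵁ V') (ρ i eTi (Omega.conormal j)
        (ρ j (le_refl (j ⁻¹ᵁ W')) (ClSub.idealMod j.ker) t)) =
        ρ i' (le_refl (i' ⁻¹ᵁ V')) (ClSub.idealMod i'.ker) s := fun t s hs =>
    ConormalChart.conormalMap_app i' j m i ψ₁ hψ₁ eVW' (le_refl (j ⁻¹ᵁ W')) eTi
      (le_refl (i' ⁻¹ᵁ V')) t s hs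
  exact ConormalLciTransAlg.injective
    (IsScalarTower.toAlgHom Γ(X, UX) Γ(Y', W') Γ(Y, j ⁻¹ᵁ W')) hA
    (IsScalarTower.toAlgHom Γ(X, UX) Γ(Z', V') Γ(Z, i' ⁻¹ᵁ V')) hC
    (m.appLE W' V' eVW').hom hmR (i.appLE (j ⁻¹ᵁ W') (i' ⁻¹ᵁ V') eTi).hom hcomm
    φ.hom hφsurj hφA bb hbb hφker
    (idealSectₗ j.ker W') (ConormalChart.idealSect_injective j.ker W') hιJ
    (ρ j (le_refl (j ⁻¹ᵁ W')) (ClSub.idealMod j.ker)) hqA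
    (ρ i eTi (Omega.conormal j)) hqi
    (idealSectₗ i'.ker V') (ConormalChart.idealSect_injective i'.ker V') hιK
    (ρ i' (le_refl (i' ⁻¹ᵁ V')) (ClSub.idealMod i'.ker)) hq₂
    (linApp ψ₁ (i' ⁻¹ᵁ V')) hψ₁m

end Chart

end Groth.Agent.Lib.helper7.ConormalLciTransChart
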