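import Groth.Agent.Lib.Helper7.ConormalLciTransChart

/-!
# The transitivity sequence of conormal sheaves is left exact for an lci morphism (helper7)
-/

set_option autoImplicit false
set_option linter.style.haveILetI false
set_option linter.unusedSectionVars false
universe u
open CategoryTheory CategoryTheory.Limits AlgebraicGeometry TopologicalSpace Opposite
open Scheme.Modules

namespace Groth.Agent.Lib.helper7.ConormalLciTransMain

open OmegaSeq7 OmegaChart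

theorem mono_map_of_iso_id {C : Type*} [Category C] (F : C ⥤ C) (e : F ≅ 𝟭 C) {X Y : C}
    (f : X ⟶ Y) [Mono f] : Mono (F.map f) := by
  have h : F.map f ≫ e.hom.app Y = e.hom.app X ≫ f := e.hom.naturality f
  haveI : Mono (F.map f ≫ e.hom.app Y) := by rw [h]; infer_instance
  exact mono_of_mono (F.map f) (e.hom.app Y)

variable {Z Y X Z' Y' : Scheme.{u}} (i : Z ⟶ Y) (b : Y ⟶ X)
  (i' : Z ⟶ Z') (c : Z' ⟶ X) (hZ' : OmegaSh.IsUnivThickening (i ≫ b) i' c)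
  (j : Y ⟶ Y') (d : Y' ⟶ X) (hY' : OmegaSh.IsUnivThickening b j d)
  (m : Z' ⟶ Y') (hm₁ : i' ≫ m = i ≫ j) (hm₂ : m ≫ d = c)
  (ψ₁ : (Scheme.Modules.pullback i).obj (Omega.conormal j) ⟶ Omega.conormal i')
  (hψ₁ : OmegaSh.IsConormalMap i' j m i ψ₁)
  (hlci : ∀ z : Z, Synt.IsKoszulAt i z)

include hZ' hY' hm₁ hm₂ hψ₁ hlci in
/-- `i^* C_{Y/X} → C_{Z/X}` is a monomorphism when `i : Z → Y` is lci -/
theorem mono_conormalMap : Mono ψ₁ := by
  have key : ∀ x : Z, ∃ T : Z.Opens, IsAffineOpen T ∧ x ∈ T ∧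
      Function.Injective (linApp ψ₁ T) := by
    intro x
    obtain ⟨U, P, j₁, π, hxU, -, hreg, hsm, hjπ⟩ := hlci x
    obtain ⟨U₀, hjx, hcl, rs, hrs, hker⟩ := hreg.2 ⟨x, hxU⟩
    have hrs1 : CAlgX.IsH1Regular rs.get := RegImmKinds.seq_h1_of_koszul _ rs hrs
    haveI : IsAffine (U₀.1 : Scheme.{u}) := U₀.2
    haveI := hcl
    haveI := hsm
    have hH1 : H1Chart (j₁ ∣_ U₀.1) ⊤ := ConormalLciMain.h1Chart_restrict j₁ U₀.1 rs hrs1 hker
    have w : (j₁ ∣_ U₀.1) ≫ (U₀.1.ι ≫ π) = ((j₁ ⁻¹ᵁ U₀.1).ι ≫ U.ι) ≫ i := by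
      rw [← Category.assoc, morphismRestrict_ι, Category.assoc, hjπ, Category.assoc]
    obtain ⟨T, hT, hxT, hinj⟩ := ConormalLciTransChart.exists_chart i b i' c hZ' j d hY' m hm₁ hm₂
      ψ₁ hψ₁ ((j₁ ⁻¹ᵁ U₀.1).ι ≫ U.ι) (j₁ ∣_ U₀.1) (U₀.1.ι ≫ π) w hH1 ⟨⟨x, hxU⟩, hjx⟩
    exact ⟨T, hT, hxT, hinj⟩
  choose T hT hxT hinj using key
  haveI : (Omega.conormal j).IsQuasicoherent := OmegaAffine.conormal_qcoh j
  haveI : (Omega.conormal i').IsQuasicoherent := OmegaAffine.conormal_qcoh i'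
  haveI : ((Scheme.Modules.pullback i).obj (Omega.conormal j)).IsQuasicoherent :=
    Groth.Agent.Lib.helper16.QCohPullback.isQuasicoherent_pullback i (Omega.conormal j)
  exact KerSections.mono_of_injective_cover ψ₁ T hT (fun x => ⟨x, hxT x⟩) hinj

include hZ' hY' hm₁ hm₂ hψ₁ hlci in
theorem mono_pullback_id_map : Mono ((Scheme.Modules.pullback (𝟙 Z)).map ψ₁) := by
  haveI := mono_conormalMap i b i' c hZ' j d hY' m hm₁ hm₂ ψ₁ hψ₁ hlci
  exact mono_map_of_iso_id (Scheme.Modules.pullback (𝟙 Z)) (Scheme.Modules.pullbackId Z) ψ₁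

end Groth.Agent.Lib.helper7.ConormalLciTransMain
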