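import Groth.Agent.Lib.Helper7.ConormalSplitAlg
import Groth.Agent.Lib.Helper7.UnivThickOmega
import Groth.Agent.Lib.Helper7.FSmoothHom

/-!
# Chart-level ring retraction for the conormal sequence of a formally smooth morphism (helper7)
-/

set_option autoImplicit false
set_option linter.style.haveILetI false
set_option linter.unusedSectionVars false
universe u
open CategoryTheory CategoryTheory.Limits AlgebraicGeometry TopologicalSpace Opposite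

namespace Groth.Agent.Lib.helper7.ConormalSplitChart

variable {Z X Y Z' Z'' : Scheme.{u}} (i : Z ⟶ X) (p : X ⟶ Y) (hp : MoreMor.IsFormallySmoothHom p)
  (i' : Z ⟶ Z') (a : Z' ⟶ X) (hZ' : OmegaSh.IsUnivThickening i i' a)
  (k : Z' ⟶ Z'') (b : Z'' ⟶ Y) (hZ'' : OmegaSh.IsUnivThickening (i ≫ p) (i' ≫ k) b)
  (hk₂ : k ≫ b = a ≫ p)

include hp hZ' hZ'' hk₂ in
theorem exists_ring_retraction {UY : Y.Opens} (hUY : IsAffineOpen UY) {UX : X.Opens}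
    (hUX : IsAffineOpen UX) (eXY : UX ≤ p ⁻¹ᵁ UY) {O'' : Z''.Opens} (hO'' : IsAffineOpen O'')
    (eO'' : O'' ≤ b ⁻¹ᵁ UY) (hO' : IsAffineOpen (k ⁻¹ᵁ O'')) (eO' : k ⁻¹ᵁ O'' ≤ a ⁻¹ᵁ UX) :
    ∃ r₀ : Γ(Z', k ⁻¹ᵁ O'') →+* Γ(Z'', O''), (∀ y, r₀ ((k.app O'').hom y) = y) ∧
      ∀ x, ((i' ≫ k).app O'').hom (r₀ x) = (i'.app (k ⁻¹ᵁ O'')).hom x := by
  have hia : i' ≫ a = i := hZ'.2.1
  have hib : (i' ≫ k) ≫ b = i ≫ p := hZ''.2.1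
  have eTU : i' ⁻¹ᵁ (k ⁻¹ᵁ O'') ≤ i ⁻¹ᵁ UX := by
    intro x hx
    have h1 : a (i' x) ∈ UX := eO' hx
    rw [← Scheme.Hom.comp_apply, hia] at h1
    exact h1
  have eTU'' : (i' ≫ k) ⁻¹ᵁ O'' ≤ (i ≫ p) ⁻¹ᵁ UY := by
    intro x hx
    have h1 : b ((i' ≫ k) x) ∈ UY := eO'' hx
    rw [← Scheme.Hom.comp_apply, hib] at h1
    exact h1
  -- algebra structures
  letI algRS : Algebra Γ(Y, UY) Γ(X, UX) := (p.appLE UY UX eXY).hom.toAlgebra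
  letI algSC' : Algebra Γ(X, UX) Γ(Z', k ⁻¹ᵁ O'') := (a.appLE UX (k ⁻¹ᵁ O'') eO').hom.toAlgebra
  letI algC'C : Algebra Γ(Z', k ⁻¹ᵁ O'') Γ(Z, i' ⁻¹ᵁ (k ⁻¹ᵁ O'')) :=
    (i'.appLE (k ⁻¹ᵁ O'') (i' ⁻¹ᵁ (k ⁻¹ᵁ O'')) le_rfl).hom.toAlgebra
  letI algSC : Algebra Γ(X, UX) Γ(Z, i' ⁻¹ᵁ (k ⁻¹ᵁ O'')) :=
    (i.appLE UX (i' ⁻¹ᵁ (k ⁻¹ᵁ O'')) eTU).hom.toAlgebra
  letI algRC'' : Algebra Γ(Y, UY) Γ(Z'', O'') := (b.appLE UY O'' eO'').hom.toAlgebra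
  letI algC''C : Algebra Γ(Z'', O'') Γ(Z, i' ⁻¹ᵁ (k ⁻¹ᵁ O'')) :=
    ((i' ≫ k).appLE O'' ((i' ≫ k) ⁻¹ᵁ O'') le_rfl).hom.toAlgebra
  letI algRC : Algebra Γ(Y, UY) Γ(Z, i' ⁻¹ᵁ (k ⁻¹ᵁ O'')) :=
    ((i ≫ p).appLE UY ((i' ≫ k) ⁻¹ᵁ O'') eTU'').hom.toAlgebra
  haveI t1 : IsScalarTower Γ(X, UX) Γ(Z', k ⁻¹ᵁ O'') Γ(Z, i' ⁻¹ᵁ (k ⁻¹ᵁ O'')) :=
    IsScalarTower.of_algebraMap_eq' (by
      change (i.appLE UX (i' ⁻¹ᵁ (k ⁻¹ᵁ O'')) eTU).hom =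
        (i'.appLE (k ⁻¹ᵁ O'') (i' ⁻¹ᵁ (k ⁻¹ᵁ O'')) le_rfl).hom.comp
          (a.appLE UX (k ⁻¹ᵁ O'') eO').hom
      rw [← CommRingCat.hom_comp, Scheme.Hom.appLE_comp_appLE]
      exact congrArg _ (OmegaSeq4.appLE_congr hia.symm UX _ _ _))
  haveI t2 : IsScalarTower Γ(Y, UY) Γ(Z'', O'') Γ(Z, i' ⁻¹ᵁ (k ⁻¹ᵁ O'')) :=
    IsScalarTower.of_algebraMap_eq' (by
      change ((i ≫ p).appLE UY ((i' ≫ k) ⁻¹ᵁ O'') eTU'').hom =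
        ((i' ≫ k).appLE O'' ((i' ≫ k) ⁻¹ᵁ O'') le_rfl).hom.comp (b.appLE UY O'' eO'').hom
      rw [← CommRingCat.hom_comp, Scheme.Hom.appLE_comp_appLE]
      exact congrArg _ (OmegaSeq4.appLE_congr hib.symm UY _ _ _))
  haveI t3 : IsScalarTower Γ(Y, UY) Γ(X, UX) Γ(Z, i' ⁻¹ᵁ (k ⁻¹ᵁ O'')) :=
    IsScalarTower.of_algebraMap_eq' (by
      change ((i ≫ p).appLE UY ((i' ≫ k) ⁻¹ᵁ O'') eTU'').hom =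
        (i.appLE UX (i' ⁻¹ᵁ (k ⁻¹ᵁ O'')) eTU).hom.comp (p.appLE UY UX eXY).hom
      rw [← CommRingCat.hom_comp, Scheme.Hom.appLE_comp_appLE]
      rfl)
  haveI fs : Algebra.FormallySmooth Γ(Y, UY) Γ(X, UX) :=
    FSmoothHom.formallySmooth_appLE p hp hUX hUY eXY
  have h' := UnivThickOmega.isUnivThickeningRing_chart i i' a hZ' hUX hO' eO' eTU
  have h'' := @UnivThickOmega.isUnivThickeningRing_chart Z Y Z'' (i ≫ p) (i' ≫ k) b hZ'' UY hUY O''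
    hO'' eO'' eTU'' t2
  have hκπ : ∀ y, (IsScalarTower.toAlgHom Γ(X, UX) Γ(Z', k ⁻¹ᵁ O'') Γ(Z, i' ⁻¹ᵁ (k ⁻¹ᵁ O'')))
      ((k.app O'').hom y) =
      (IsScalarTower.toAlgHom Γ(Y, UY) Γ(Z'', O'') Γ(Z, i' ⁻¹ᵁ (k ⁻¹ᵁ O''))) y := by
    intro y
    change (i'.appLE (k ⁻¹ᵁ O'') (i' ⁻¹ᵁ (k ⁻¹ᵁ O'')) le_rfl).hom ((k.app O'').hom y) =
      ((i' ≫ k).appLE O'' ((i' ≫ k) ⁻¹ᵁ O'') le_rfl).hom y
    rw [← Scheme.Hom.app_eq_appLE, ← Scheme.Hom.app_eq_appLE, Scheme.Hom.comp_app]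
    rfl
  have hκalg : ∀ r : Γ(Y, UY), (k.app O'').hom (algebraMap Γ(Y, UY) Γ(Z'', O'') r) =
      algebraMap Γ(X, UX) Γ(Z', k ⁻¹ᵁ O'') (algebraMap Γ(Y, UY) Γ(X, UX) r) := by
    intro r
    change (k.app O'').hom ((b.appLE UY O'' eO'').hom r) =
      (a.appLE UX (k ⁻¹ᵁ O'') eO').hom ((p.appLE UY UX eXY).hom r)
    have h1 : k.app O'' = k.appLE O'' (k ⁻¹ᵁ O'') le_rfl := k.app_eq_appLE
    rw [h1, ← CommRingCat.comp_apply, ← CommRingCat.comp_apply, Scheme.Hom.appLE_comp_appLE,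
      Scheme.Hom.appLE_comp_appLE]
    rw [OmegaSeq4.appLE_congr hk₂ UY (k ⁻¹ᵁ O'')]
  obtain ⟨r₀, hr1, hr2⟩ := ConormalSplitAlg.exists_retraction
    (IsScalarTower.toAlgHom Γ(X, UX) Γ(Z', k ⁻¹ᵁ O'') Γ(Z, i' ⁻¹ᵁ (k ⁻¹ᵁ O'')))
    (IsScalarTower.toAlgHom Γ(Y, UY) Γ(Z'', O'') Γ(Z, i' ⁻¹ᵁ (k ⁻¹ᵁ O'')))
    h' h'' (k.app O'').hom hκπ hκalg
  refine ⟨r₀, hr1, fun x => ?_⟩
  have := hr2 x
  change ((i' ≫ k).appLE O'' ((i' ≫ k) ⁻¹ᵁ O'') le_rfl).hom (r₀ x) =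
    (i'.appLE (k ⁻¹ᵁ O'') (i' ⁻¹ᵁ (k ⁻¹ᵁ O'')) le_rfl).hom x at this
  rw [← Scheme.Hom.app_eq_appLE, ← Scheme.Hom.app_eq_appLE] at this
  exact this

end Groth.Agent.Lib.helper7.ConormalSplitChart
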