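import Groth.Agent.Lib.Helper7.OmegaSeqAlg2
import Mathlib.RingTheory.Smooth.Basic

/-!
# Injectivity of `C_{Z/Y} → C_{Z/X}` for `X/Y` formally smooth, receptacle form (helper7)
-/

set_option autoImplicit false
set_option linter.style.haveILetI false
set_option linter.unusedSectionVars false
universe u

namespace Groth.Agent.Lib.helper7.OmegaSeqAlg

open Groth.Agent.Lib.helper8.PullbackUnit

section Smooth

variable (C A R : Type u) [CommRing C] [CommRing A] [CommRing R] [Algebra C A] [Algebra A R]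
  [Algebra C R] [IsScalarTower C A R] [Algebra.FormallySmooth C A]
  (hA : Function.Surjective (algebraMap A R)) (hC : Function.Surjective (algebraMap C R))
  {MI NI MJ PJ : Type u}
  [AddCommGroup MI] [Module A MI] [AddCommGroup NI] [Module R NI]
  [AddCommGroup MJ] [Module C MJ] [AddCommGroup PJ] [Module R PJ]
  (ιI : MI →ₗ[A] A) (hιI : Set.range ιI = (RingHom.ker (algebraMap A R) : Set A))
  (qI : MI →+ NI) (hqI : IsBC (algebraMap A R) qI)
  (ιJ : MJ →ₗ[C] C) (hιJinj : Function.Injective ιJ)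
  (hιJ : Set.range ιJ = (RingHom.ker (algebraMap C R) : Set C))
  (qJ : MJ →+ PJ) (hqJlin : ∀ (c : C) (t : MJ), qJ (c • t) = algebraMap C R c • qJ t)
  (hqJsurj : Function.Surjective qJ)
  (ψm : PJ →ₗ[R] NI) (hψm : ∀ t s, ιI s = algebraMap C A (ιJ t) → ψm (qJ t) = qI s)

include hιJinj hιJ hqJlin in
/-- `qJ` kills sections whose image lies in `J²` -/
theorem qJ_eq_zero_of_mem_sq (t : MJ)
    (ht : ιJ t ∈ (RingHom.ker (algebraMap C R)) ^ 2) : qJ t = 0 := by
  set J := RingHom.ker (algebraMap C R) with hJ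
  have key : ∀ x ∈ J ^ 2, ∀ t : MJ, ιJ t = x → qJ t = 0 := by
    intro x hx
    rw [pow_two] at hx
    induction hx using Submodule.mul_induction_on' with
    | mem_mul_mem c hc c' hc' =>
      intro t ht
      have h1 : c' ∈ Set.range ιJ := by rw [hιJ]; exact hc'
      obtain ⟨t', rfl⟩ := h1
      have h2 : t = c • t' := hιJinj (by rw [ht, map_smul]; rfl)
      rw [h2, hqJlin, RingHom.mem_ker.mp hc, zero_smul]
    | add x hx y hy ihx ihy =>
      intro t ht
      have h1 : x ∈ Set.range ιJ := by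
        rw [hιJ]; exact Ideal.mul_le_right hx
      obtain ⟨tx, rfl⟩ := h1
      have h2 : y ∈ Set.range ιJ := by
        rw [hιJ]; exact Ideal.mul_le_right hy
      obtain ⟨ty, rfl⟩ := h2
      have h3 : t = tx + ty := hιJinj (by rw [ht, map_add])
      rw [h3, map_add, ihx tx rfl, ihy ty rfl, add_zero]
  exact key _ ht t rfl

include hA hC hιI hqI hιJinj hιJ hqJlin hqJsurj hψm in
/-- for `A/C` formally smooth, `C_{Z/Y} → C_{Z/X}` is injective (receptacle form) -/
theorem conormal2_injective : Function.Injective ψm := by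
  set J := RingHom.ker (algebraMap C R) with hJ
  have hqI_surj := surjective_of_isBC hA hqI
  -- the lift `λ : A → C / J²`
  let g : (C ⧸ J ^ 2) →ₐ[C] R :=
    Ideal.Quotient.liftₐ (J ^ 2) (Algebra.ofId C R) (fun x hx => by
      have : x ∈ J := Ideal.pow_le_self two_ne_zero hx
      exact this)
  have hg_mk : ∀ c : C, g (Ideal.Quotient.mk (J ^ 2) c) = algebraMap C R c := fun c => rfl
  have hg : Function.Surjective g := by
    intro r
    obtain ⟨c, rfl⟩ := hC r
    exact ⟨Ideal.Quotient.mk (J ^ 2) c, hg_mk c⟩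
  have hker : ∀ y : C ⧸ J ^ 2, g y = 0 → ∃ c ∈ J, Ideal.Quotient.mk (J ^ 2) c = y := by
    intro y hy
    obtain ⟨c, rfl⟩ := Ideal.Quotient.mk_surjective y
    exact ⟨c, by rw [hJ, RingHom.mem_ker, ← hg_mk, hy], rfl⟩
  have hnil : IsNilpotent (RingHom.ker (g : (C ⧸ J ^ 2) →+* R)) := by
    refine ⟨2, ?_⟩
    rw [Ideal.zero_eq_bot, eq_bot_iff]
    refine le_trans (le_of_eq (pow_two _)) ?_
    rw [Ideal.mul_le]
    intro y hy z hz
    obtain ⟨c, hc, rfl⟩ := hker y hy
    obtain ⟨c', hc', rfl⟩ := hker z hz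
    rw [← map_mul, Ideal.mem_bot, Ideal.Quotient.eq_zero_iff_mem, pow_two]
    exact Ideal.mul_mem_mul hc hc'
  let lam : A →ₐ[C] (C ⧸ J ^ 2) :=
    Algebra.FormallySmooth.liftOfSurjective (IsScalarTower.toAlgHom C A R) g hg hnil
  have hlam : ∀ a : A, g (lam a) = algebraMap A R a := fun a =>
    Algebra.FormallySmooth.liftOfSurjective_apply (IsScalarTower.toAlgHom C A R) g hg hnil a
  -- choice of `t'`
  have hch : ∀ s : MI, ∃ t : MJ, Ideal.Quotient.mk (J ^ 2) (ιJ t) = lam (ιI s) := by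
    intro s
    have h1 : ιI s ∈ (RingHom.ker (algebraMap A R) : Set A) := by rw [← hιI]; exact ⟨s, rfl⟩
    obtain ⟨c, hc, hcs⟩ := hker (lam (ιI s)) (by rw [hlam]; exact h1)
    have h2 : c ∈ Set.range ιJ := by rw [hιJ]; exact hc
    obtain ⟨t, rfl⟩ := h2
    exact ⟨t, hcs⟩
  choose tt htt using hch
  have dagger : ∀ t₁ t₂ : MJ, Ideal.Quotient.mk (J ^ 2) (ιJ t₁) = Ideal.Quotient.mk (J ^ 2) (ιJ t₂) →
      qJ t₁ = qJ t₂ := by
    intro t₁ t₂ h
    rw [← sub_eq_zero, ← map_sub]
    apply qJ_eq_zero_of_mem_sq C R ιJ hιJinj hιJ qJ hqJlin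
    rw [map_sub, ← Ideal.Quotient.eq]
    exact h
  let r₀ : MI →+ PJ :=
    { toFun := fun s => qJ (tt s)
      map_zero' := by
        have := dagger (tt 0) 0 (by rw [htt, map_zero, map_zero, map_zero, map_zero])
        rw [this, map_zero]
      map_add' := fun s₁ s₂ => by
        have := dagger (tt (s₁ + s₂)) (tt s₁ + tt s₂) (by
          rw [htt, map_add, map_add, map_add, map_add, htt, htt])
        rw [this, map_add] }
  have hr₀ : ∀ s, r₀ s = qJ (tt s) := fun _ => rfl
  have hr₀lin : ∀ (a : A) (s : MI), r₀ (a • s) = algebraMap A R a • r₀ s := by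
    intro a s
    obtain ⟨ca, hca⟩ := Ideal.Quotient.mk_surjective (lam a)
    have e1 : Ideal.Quotient.mk (J ^ 2) (ιJ (tt (a • s))) = lam a * lam (ιI s) := by
      rw [htt, map_smul, smul_eq_mul, map_mul]
    have e2 : Ideal.Quotient.mk (J ^ 2) (ιJ (ca • tt s)) = lam a * lam (ιI s) := by
      rw [map_smul, smul_eq_mul, map_mul, hca, htt]
    have := dagger (tt (a • s)) (ca • tt s) (e1.trans e2.symm)
    rw [hr₀, hr₀, this, hqJlin]
    congr 1
    rw [← hg_mk, hca, hlam]
  obtain ⟨r, hr, -⟩ := hqI.existsUnique_lift PJ r₀ hr₀lin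
  -- conclusion
  rw [injective_iff_map_eq_zero]
  intro x hx
  obtain ⟨t, rfl⟩ := hqJsurj x
  have h1 : algebraMap C A (ιJ t) ∈ Set.range ιI := by
    rw [hιI]
    change algebraMap A R (algebraMap C A (ιJ t)) = 0
    rw [← IsScalarTower.algebraMap_apply]
    have : ιJ t ∈ (RingHom.ker (algebraMap C R) : Set C) := by rw [← hιJ]; exact ⟨t, rfl⟩
    exact this
  obtain ⟨s, hs⟩ := h1
  have h2 : ψm (qJ t) = qI s := hψm t s hs
  have h3 : r (ψm (qJ t)) = qJ (tt s) := by rw [h2, hr, hr₀]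
  rw [hx, map_zero] at h3
  have h4 : qJ (tt s) = qJ t := dagger _ _ (by
    rw [htt, hs]
    exact (lam.commutes (ιJ t)).trans rfl)
  rw [← h4, ← h3]

end Smooth

end Groth.Agent.Lib.helper7.OmegaSeqAlg
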