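import Groth.Agent.Lib.Helper7.OmegaSeq5
import Groth.Agent.Lib.Helper7.OmegaSeqAlg4
import Mathlib.AlgebraicGeometry.Morphisms.Smooth

/-!
# `0 → C_{Z/Y} → C_{Z/X} → i^*Ω_{X/Y} → 0` for `X/Y` smooth (helper7)
-/

set_option autoImplicit false
set_option linter.style.haveILetI false
set_option linter.unusedSectionVars false
universe u
open CategoryTheory CategoryTheory.Limits AlgebraicGeometry TopologicalSpace Opposite
open Scheme.Modules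

namespace Groth.Agent.Lib.helper7.OmegaSeq6

open Groth.Agent.Lib.helper8.PullbackUnit OmegaChart OmegaSeq4 OmegaSeq5

section Seq

variable {Z X Y : Scheme.{u}} (p : X ⟶ Y) [Smooth p] (i : Z ⟶ X) (j : Z ⟶ Y) [IsImmersion i]
  [IsImmersion j] [QuasiCompact i] [QuasiCompact j] (hij : i ≫ p = j)
  (ψ : (Scheme.Modules.pullback (𝟙 Z)).obj (Omega.conormal j) ⟶ Omega.conormal i)
  (hψ : OmegaSh.IsConormalMap i j p (𝟙 Z) ψ)

include hij hψ in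
theorem chart_injective {V : X.Opens} (hV : IsAffineOpen V) (hVc : V ≤ i.coborderRange)
    {W : Y.Opens} (hW : IsAffineOpen W) (hWc : W ≤ j.coborderRange) (eVW : V ≤ p ⁻¹ᵁ W)
    (hT : i ⁻¹ᵁ V = j ⁻¹ᵁ W) : Function.Injective (ψ.app (i ⁻¹ᵁ V)).hom := by
  obtain ⟨hTaff, hsi⟩ := ImmChart.of_le_coborder i hV hVc
  obtain ⟨-, hsj⟩ := ImmChart.of_le_coborder j hW hWc
  have eT : i ⁻¹ᵁ V ≤ i ⁻¹ᵁ V := le_rfl
  have eTW : i ⁻¹ᵁ V ≤ j ⁻¹ᵁ W := hT.le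
  have eTW' : i ⁻¹ᵁ V ≤ (i ≫ p) ⁻¹ᵁ W := fun x hx => eVW (eT hx)
  letI algCA := (p.appLE W V eVW).hom.toAlgebra
  letI algAR := (i.appLE V (i ⁻¹ᵁ V) eT).hom.toAlgebra
  letI algCR := (j.appLE W (i ⁻¹ᵁ V) eTW).hom.toAlgebra
  haveI : IsScalarTower Γ(Y, W) Γ(X, V) Γ(Z, i ⁻¹ᵁ V) := IsScalarTower.of_algebraMap_eq' (by
    change (j.appLE W (i ⁻¹ᵁ V) eTW).hom =
      (i.appLE V (i ⁻¹ᵁ V) eT).hom.comp (p.appLE W V eVW).hom
    rw [← CommRingCat.hom_comp, Scheme.Hom.appLE_comp_appLE,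
      appLE_congr hij W (i ⁻¹ᵁ V) eTW' eTW])
  haveI : Algebra.FormallySmooth Γ(Y, W) Γ(X, V) := by
    have h : Algebra.Smooth Γ(Y, W) Γ(X, V) := p.smooth_appLE hW hV eVW
    exact h.formallySmooth
  have happ : i.appLE V (i ⁻¹ᵁ V) eT = i.app V := (i.app_eq_appLE (U := V)).symm
  have hA : Function.Surjective (algebraMap Γ(X, V) Γ(Z, i ⁻¹ᵁ V)) := by
    change Function.Surjective (i.appLE V (i ⁻¹ᵁ V) eT).hom
    rw [happ]; exact hsi
  have hC : Function.Surjective (algebraMap Γ(Y, W) Γ(Z, i ⁻¹ᵁ V)) :=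
    appLE_surjective_of_eq j hsj (i ⁻¹ᵁ V) hT
  have hqI : IsBC (algebraMap Γ(X, V) Γ(Z, i ⁻¹ᵁ V)) (ρ i eT (ClSub.idealMod i.ker)) :=
    isBC_ρ i hV hTaff eT (ClSub.idealMod i.ker)
  have hιI : Set.range (idealSectₗ i.ker V) =
      (RingHom.ker (algebraMap Γ(X, V) Γ(Z, i ⁻¹ᵁ V)) : Set Γ(X, V)) := by
    change Set.range (OmegaSh.idealSect i.ker V) = _
    rw [OmegaSeq2.range_idealSect i.ker hV, Scheme.Hom.ker_apply]
    change _ = ((RingHom.ker (i.appLE V (i ⁻¹ᵁ V) eT).hom : Ideal Γ(X, V)) : Set Γ(X, V))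
    rw [happ]
  have hιJ : Set.range (idealSectₗ j.ker W) =
      (RingHom.ker (algebraMap Γ(Y, W) Γ(Z, i ⁻¹ᵁ V)) : Set Γ(Y, W)) := by
    change Set.range (OmegaSh.idealSect j.ker W) = _
    rw [OmegaSeq2.range_idealSect j.ker hW, Scheme.Hom.ker_apply]
    change _ = ((RingHom.ker (j.appLE W (i ⁻¹ᵁ V) eTW).hom : Ideal Γ(Y, W)) : Set Γ(Y, W))
    rw [ker_appLE_of_eq j (i ⁻¹ᵁ V) hT]
  have e1 : i ⁻¹ᵁ V ≤ (𝟙 Z) ⁻¹ᵁ (i ⁻¹ᵁ V) := le_rfl
  haveI : (Omega.conormal j).IsQuasicoherent := OmegaAffine.conormal_qcoh j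
  have hb1 := isBC_ρ j hW hTaff eTW (ClSub.idealMod j.ker)
  have hb2 := isBC_ρ (𝟙 Z) hTaff hTaff e1 (Omega.conormal j)
  let qJ : Γ(ClSub.idealMod j.ker, W) →+ Γ((Scheme.Modules.pullback (𝟙 Z)).obj (Omega.conormal j),
      i ⁻¹ᵁ V) := (ρ (𝟙 Z) e1 (Omega.conormal j)).comp (ρ j eTW (ClSub.idealMod j.ker))
  have hqJlin : ∀ (c : Γ(Y, W)) (t : Γ(ClSub.idealMod j.ker, W)),
      qJ (c • t) = algebraMap Γ(Y, W) Γ(Z, i ⁻¹ᵁ V) c • qJ t := by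
    intro c t
    change ρ (𝟙 Z) e1 (Omega.conormal j) (ρ j eTW (ClSub.idealMod j.ker) (c • t)) = _
    rw [hb1.map_smul]
    refine (hb2.map_smul _ _).trans ?_
    rw [id_appLE_apply]
    rfl
  have hqJsurj : Function.Surjective qJ := by
    have h1 : Function.Surjective (ρ j eTW (ClSub.idealMod j.ker)) := surjective_of_isBC' hC hb1
    have h2 : Function.Surjective (ρ (𝟙 Z) e1 (Omega.conormal j)) := by
      refine surjective_of_isBC' ?_ hb2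
      intro x
      exact ⟨x, id_appLE_apply _ e1 x⟩
    exact h2.comp h1
  have hψm : ∀ t s, idealSectₗ i.ker V s = algebraMap Γ(Y, W) Γ(X, V) (idealSectₗ j.ker W t) →
      linApp ψ (i ⁻¹ᵁ V) (qJ t) = ρ i eT (ClSub.idealMod i.ker) s := fun t s hs =>
    ConormalChart.conormalMap_app i j p (𝟙 Z) ψ hψ eVW eTW e1 eT t s hs
  exact OmegaSeqAlg.conormal2_injective Γ(Y, W) Γ(X, V) Γ(Z, i ⁻¹ᵁ V) hA hC
    (idealSectₗ i.ker V) hιI (ρ i eT (ClSub.idealMod i.ker)) hqI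
    (idealSectₗ j.ker W) (ConormalChart.idealSect_injective j.ker W) hιJ qJ hqJlin hqJsurj
    (linApp ψ (i ⁻¹ᵁ V)) hψm

include hij hψ in
/-- for `p` smooth the canonical map `C_{Z/Y} → C_{Z/X}` is a monomorphism -/
theorem mono_conormalMap : Mono ψ := by
  haveI : (Omega.conormal i).IsQuasicoherent := OmegaAffine.conormal_qcoh i
  haveI : (Omega.conormal j).IsQuasicoherent := OmegaAffine.conormal_qcoh j
  haveI : ((Scheme.Modules.pullback (𝟙 Z)).obj (Omega.conormal j)).IsQuasicoherent :=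
    Groth.Agent.Lib.helper16.QCohPullback.isQuasicoherent_pullback (𝟙 Z) (Omega.conormal j)
  have haff : ∀ t : Chart2 p i j, IsAffineOpen (i ⁻¹ᵁ t.1.1.1) :=
    fun t => (ImmChart.of_le_coborder i t.1.1.2 t.2.1).1
  exact KerSections.mono_of_injective_cover ψ (fun t : Chart2 p i j => i ⁻¹ᵁ t.1.1.1) haff
    (chart2_cover p i j hij) (fun t => chart_injective p i j hij ψ hψ
      t.1.1.2 t.2.1 t.1.2.2 t.2.2.1 t.2.2.2.1 t.2.2.2.2)

end Seq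

end Groth.Agent.Lib.helper7.OmegaSeq6
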