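import Groth.Agent.Lib.Helper7.ConormalSplitChart
import Groth.Agent.Lib.Helper7.OmegaSeq6

/-!
# Sections-level retraction of the conormal map for a formally smooth morphism (helper7)
-/

set_option autoImplicit false
set_option linter.style.haveILetI false
set_option linter.unusedSectionVars false
universe u
open CategoryTheory CategoryTheory.Limits AlgebraicGeometry TopologicalSpace Opposite
open Scheme.Modules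

namespace Groth.Agent.Lib.helper7.ConormalSplitSec

open Groth.Agent.Lib.helper8.PullbackUnit OmegaChart OmegaSeq4 OmegaSeq5

variable {Z X Y Z' Z'' : Scheme.{u}} (i : Z ⟶ X) (p : X ⟶ Y) (hp : MoreMor.IsFormallySmoothHom p)
  (i' : Z ⟶ Z') (a : Z' ⟶ X) (hZ' : OmegaSh.IsUnivThickening i i' a)
  (k : Z' ⟶ Z'') (b : Z'' ⟶ Y) (hZ'' : OmegaSh.IsUnivThickening (i ≫ p) (i' ≫ k) b)
  (hk₂ : k ≫ b = a ≫ p)
  (ψ : (Scheme.Modules.pullback (𝟙 Z)).obj (Omega.conormal (i' ≫ k)) ⟶ Omega.conormal i')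
  (hψ : OmegaSh.IsConormalMap i' (i' ≫ k) k (𝟙 Z) ψ)

include hp hZ' hZ'' hk₂ hψ in
theorem exists_sections_retraction {UY : Y.Opens} (hUY : IsAffineOpen UY) {UX : X.Opens}
    (hUX : IsAffineOpen UX) (eXY : UX ≤ p ⁻¹ᵁ UY) {O'' : Z''.Opens} (hO'' : IsAffineOpen O'')
    (eO'' : O'' ≤ b ⁻¹ᵁ UY) (hO' : IsAffineOpen (k ⁻¹ᵁ O'')) (eO' : k ⁻¹ᵁ O'' ≤ a ⁻¹ᵁ UX)
    (T₀ : Z.Opens) (hT₀ : T₀ = i' ⁻¹ᵁ (k ⁻¹ᵁ O'')) :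
    ∃ r : Γ(Omega.conormal i', T₀) →ₗ[Γ(Z, T₀)]
        Γ((Scheme.Modules.pullback (𝟙 Z)).obj (Omega.conormal (i' ≫ k)), T₀),
      ∀ x, r ((ψ.app T₀).hom x) = x := by
  subst hT₀
  have hci' : IsClosedImmersion i' := hZ'.1.1.1
  have hci'' : IsClosedImmersion (i' ≫ k) := hZ''.1.1.1
  obtain ⟨r₀, hr1, hr2⟩ := ConormalSplitChart.exists_ring_retraction i p hp i' a hZ' k b hZ'' hk₂
    hUY hUX eXY hO'' eO'' hO' eO'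
  have hTaff : IsAffineOpen (i' ⁻¹ᵁ (k ⁻¹ᵁ O'')) := hO'.preimage i'
  have e' : i' ⁻¹ᵁ (k ⁻¹ᵁ O'') ≤ i' ⁻¹ᵁ (k ⁻¹ᵁ O'') := le_rfl
  have e'' : i' ⁻¹ᵁ (k ⁻¹ᵁ O'') ≤ (i' ≫ k) ⁻¹ᵁ O'' := le_rfl
  have e1 : i' ⁻¹ᵁ (k ⁻¹ᵁ O'') ≤ (𝟙 Z) ⁻¹ᵁ (i' ⁻¹ᵁ (k ⁻¹ᵁ O'')) := le_rfl
  have happ' : i'.appLE (k ⁻¹ᵁ O'') (i' ⁻¹ᵁ (k ⁻¹ᵁ O'')) e' = i'.app (k ⁻¹ᵁ O'') :=
    (i'.app_eq_appLE (U := k ⁻¹ᵁ O'')).symm
  have happ'' : (i' ≫ k).appLE O'' (i' ⁻¹ᵁ (k ⁻¹ᵁ O'')) e'' = (i' ≫ k).app O'' :=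
    ((i' ≫ k).app_eq_appLE (U := O'')).symm
  have hsurj'' : Function.Surjective ((i' ≫ k).appLE O'' (i' ⁻¹ᵁ (k ⁻¹ᵁ O'')) e'').hom := by
    rw [happ'']
    exact (i' ≫ k).app_surjective O'' hO''
  -- base change facts
  have hq' : IsBC (i'.appLE (k ⁻¹ᵁ O'') (i' ⁻¹ᵁ (k ⁻¹ᵁ O'')) e').hom
      (ρ i' e' (ClSub.idealMod i'.ker)) := isBC_ρ i' hO' hTaff e' (ClSub.idealMod i'.ker)
  have hq'' : IsBC ((i' ≫ k).appLE O'' (i' ⁻¹ᵁ (k ⁻¹ᵁ O'')) e'').hom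
      (ρ (i' ≫ k) e'' (ClSub.idealMod (i' ≫ k).ker)) :=
    isBC_ρ (i' ≫ k) hO'' hTaff e'' (ClSub.idealMod (i' ≫ k).ker)
  have hq1 : IsBC ((𝟙 Z : Z ⟶ Z).appLE (i' ⁻¹ᵁ (k ⁻¹ᵁ O'')) (i' ⁻¹ᵁ (k ⁻¹ᵁ O'')) e1).hom
      (ρ (𝟙 Z) e1 (Omega.conormal (i' ≫ k))) :=
    isBC_ρ (𝟙 Z) hTaff hTaff e1 (Omega.conormal (i' ≫ k))
  -- the transfer map on ideal sections
  have hex : ∀ s : Γ(ClSub.idealMod i'.ker, k ⁻¹ᵁ O''),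
      ∃ t : Γ(ClSub.idealMod (i' ≫ k).ker, O''),
        OmegaSh.idealSect (i' ≫ k).ker O'' t = r₀ (OmegaSh.idealSect i'.ker (k ⁻¹ᵁ O'') s) := by
    intro s
    apply ConormalChart.mem_range_idealSect (i' ≫ k) O''
    rw [hr2, ConormalChart.app_idealSect]
    rfl
  choose τf hτ using hex
  have hinj := ConormalChart.idealSect_injective (i' ≫ k).ker O''
  have hτadd : ∀ s₁ s₂, τf (s₁ + s₂) = τf s₁ + τf s₂ := by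
    intro s₁ s₂
    apply hinj
    rw [map_add, hτ, hτ, hτ, map_add, map_add]
  have hτsmul : ∀ (c : Γ(Z', k ⁻¹ᵁ O'')) s, τf (c • s) = r₀ c • τf s := by
    intro c s
    apply hinj
    rw [hτ]
    have h1 : OmegaSh.idealSect i'.ker (k ⁻¹ᵁ O'') (c • s) =
        c * OmegaSh.idealSect i'.ker (k ⁻¹ᵁ O'') s := (idealSectₗ i'.ker (k ⁻¹ᵁ O'')).map_smul c s
    have h2 : OmegaSh.idealSect (i' ≫ k).ker O'' (r₀ c • τf s) =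
        r₀ c * OmegaSh.idealSect (i' ≫ k).ker O'' (τf s) :=
      (idealSectₗ (i' ≫ k).ker O'').map_smul (r₀ c) (τf s)
    rw [h1, h2, map_mul, hτ]
  let qJ : Γ(ClSub.idealMod (i' ≫ k).ker, O'') →+
      Γ((Scheme.Modules.pullback (𝟙 Z)).obj (Omega.conormal (i' ≫ k)), i' ⁻¹ᵁ (k ⁻¹ᵁ O'')) :=
    (ρ (𝟙 Z) e1 (Omega.conormal (i' ≫ k))).comp (ρ (i' ≫ k) e'' (ClSub.idealMod (i' ≫ k).ker))
  let h : Γ(ClSub.idealMod i'.ker, k ⁻¹ᵁ O'') →+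
      Γ((Scheme.Modules.pullback (𝟙 Z)).obj (Omega.conormal (i' ≫ k)), i' ⁻¹ᵁ (k ⁻¹ᵁ O'')) :=
    qJ.comp (AddMonoidHom.mk' τf hτadd)
  have hsemi : ∀ (c : Γ(Z', k ⁻¹ᵁ O'')) s,
      h (c • s) = (i'.appLE (k ⁻¹ᵁ O'') (i' ⁻¹ᵁ (k ⁻¹ᵁ O'')) e').hom c • h s := by
    intro c s
    have hsc : ((i' ≫ k).appLE O'' (i' ⁻¹ᵁ (k ⁻¹ᵁ O'')) e'').hom (r₀ c) =
        (i'.appLE (k ⁻¹ᵁ O'') (i' ⁻¹ᵁ (k ⁻¹ᵁ O'')) e').hom c :=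
      (congrArg (fun f => f.hom (r₀ c)) happ'').trans
        ((hr2 c).trans (congrArg (fun f => f.hom c) happ').symm)
    have h1 : ρ (i' ≫ k) e'' (ClSub.idealMod (i' ≫ k).ker) (r₀ c • τf s) =
        ((i' ≫ k).appLE O'' (i' ⁻¹ᵁ (k ⁻¹ᵁ O'')) e'').hom (r₀ c) •
          ρ (i' ≫ k) e'' (ClSub.idealMod (i' ≫ k).ker) (τf s) := hq''.map_smul _ _
    have h2 := hq1.map_smul (((i' ≫ k).appLE O'' (i' ⁻¹ᵁ (k ⁻¹ᵁ O'')) e'').hom (r₀ c))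
      (ρ (i' ≫ k) e'' (ClSub.idealMod (i' ≫ k).ker) (τf s))
    rw [id_appLE_apply] at h2
    rw [hsc] at h1 h2
    show ρ (𝟙 Z) e1 (Omega.conormal (i' ≫ k))
      (ρ (i' ≫ k) e'' (ClSub.idealMod (i' ≫ k).ker) (τf (c • s))) = _
    rw [hτsmul, h1]
    exact h2
  obtain ⟨r, hr, -⟩ := hq'.existsUnique_lift _ h hsemi
  refine ⟨r, fun x => ?_⟩
  -- every section is of the form `qJ t`
  have hsurjq : Function.Surjective qJ := by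
    have h1 : Function.Surjective (ρ (i' ≫ k) e'' (ClSub.idealMod (i' ≫ k).ker)) :=
      surjective_of_isBC' hsurj'' hq''
    have h2 : Function.Surjective (ρ (𝟙 Z) e1 (Omega.conormal (i' ≫ k))) := by
      refine surjective_of_isBC' ?_ hq1
      intro y
      exact ⟨y, id_appLE_apply _ e1 y⟩
    exact h2.comp h1
  obtain ⟨t, rfl⟩ := hsurjq x
  -- the section of the ideal of `i'` corresponding to `k♯ t`
  have hvan : (i'.app (k ⁻¹ᵁ O'')).hom ((k.app O'').hom (OmegaSh.idealSect (i' ≫ k).ker O'' t)) = 0 := by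
    have := ConormalChart.app_idealSect (i' ≫ k) O'' t
    rw [Scheme.Hom.comp_app] at this
    exact this
  obtain ⟨s, hs⟩ := ConormalChart.mem_range_idealSect i' (k ⁻¹ᵁ O'') _ hvan
  have hψx : (ψ.app (i' ⁻¹ᵁ (k ⁻¹ᵁ O''))).hom (qJ t) = ρ i' e' (ClSub.idealMod i'.ker) s := by
    refine ConormalChart.conormalMap_app i' (i' ≫ k) k (𝟙 Z) ψ hψ (le_refl (k ⁻¹ᵁ O'')) e'' e1 e' t s ?_
    rw [hs, ← Scheme.Hom.app_eq_appLE]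
  have hts : τf s = t := by
    apply hinj
    rw [hτ, hs, hr1]
  calc r ((ψ.app (i' ⁻¹ᵁ (k ⁻¹ᵁ O''))).hom (qJ t))
      = r (ρ i' e' (ClSub.idealMod i'.ker) s) := congrArg r hψx
    _ = h s := hr s
    _ = qJ t := congrArg qJ hts

end Groth.Agent.Lib.helper7.ConormalSplitSec
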