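import Groth.Agent.Lib.Helper7.OmegaSeqAlg5

/-!
# Vanishing of a localization of `I/I²` (helper7)

`exists_annihilator`: `φ : A → R` surjective with finitely generated kernel `I`, `q : I → N` a base
change of (the module) `I` along `φ` (so `N = I/I²`), `𝔭` a prime of `R` with `N_𝔭 = 0`
(elementwise). Then there is `b : A` with `φ b ∉ 𝔭` and `b * I = 0`.
-/

set_option autoImplicit false
set_option linter.style.haveILetI false
set_option linter.unusedSectionVars false
universe u

namespace Groth.Agent.Lib.helper7.ConormalZeroAlg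

open Groth.Agent.Lib.helper8.PullbackUnit Groth.Agent.Lib.helper7.OmegaSeqAlg Polynomial

/-- Cayley–Hamilton step: `a • I ≤ I * I`, `I` f.g. ⟹ some monic-in-`a` polynomial expression
kills `I`, and is congruent to a power of `a` modulo `I`. -/
theorem exists_pow_add_mem_annihilator {A : Type u} [CommRing A] (I : Ideal A) (hfg : I.FG) (a : A)
    (ha : ∀ x ∈ I, a * x ∈ I * I) :
    ∃ (b : A) (m : ℕ), b - a ^ m ∈ I ∧ ∀ x ∈ I, b * x = 0 := by
  haveI : Module.Finite A I := Module.Finite.iff_fg.mpr hfg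
  let f : Module.End A I := algebraMap A (Module.End A I) a
  have hf : LinearMap.range f ≤ I • (⊤ : Submodule A I) := by
    rintro _ ⟨x, rfl⟩
    rw [Submodule.mem_smul_top_iff]
    change a • (x : A) ∈ I • I
    rw [smul_eq_mul, smul_eq_mul]
    exact ha x x.2
  obtain ⟨p, hp, -, hc, hz⟩ :=
    LinearMap.exists_monic_and_natDegree_eq_and_coeff_mem_pow_and_aeval_eq_zero A f I hf
  refine ⟨p.eval a, p.natDegree, ?_, ?_⟩
  · rw [Polynomial.eval_eq_sum_range, Finset.sum_range_succ, hp.coeff_natDegree, one_mul,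
      add_sub_cancel_right]
    refine Ideal.sum_mem _ fun k hk => ?_
    refine Ideal.mul_mem_right _ _ ?_
    have hk' : k < p.natDegree := Finset.mem_range.mp hk
    have h1 := hc k
    have h2 : I ^ (p.natDegree - k) ≤ I := Ideal.pow_le_self (by omega)
    exact h2 h1
  · intro x hx
    have h1 : Polynomial.aeval f p = algebraMap A (Module.End A I) (p.eval a) :=
      Polynomial.aeval_algebraMap_apply (Module.End A I) a p
    have h2 : (Polynomial.aeval f p) ⟨x, hx⟩ = 0 := by rw [hz]; rfl
    rw [h1] at h2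
    have h3 : ((algebraMap A (Module.End A I) (p.eval a)) ⟨x, hx⟩ : I) = (p.eval a) • ⟨x, hx⟩ := rfl
    rw [h3] at h2
    have := congrArg (Subtype.val) h2
    simpa using this

variable {A R : Type u} [CommRing A] [CommRing R] {φ : A →+* R} (hφ : Function.Surjective φ)
  {M N : Type u} [AddCommGroup M] [Module A M] [AddCommGroup N] [Module R N] {q : M →+ N}
  (hq : IsBC φ q) (ι : M →ₗ[A] A) (hι : Set.range ι = (RingHom.ker φ : Set A))

include hφ hq hι in
theorem exists_annihilator (hfg : (RingHom.ker φ).FG) (𝔭 : Ideal R) [𝔭.IsPrime]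
    (h0 : ∀ n : N, ∃ s : R, s ∉ 𝔭 ∧ s • n = 0) :
    ∃ b : A, φ b ∉ 𝔭 ∧ ∀ x ∈ RingHom.ker φ, b * x = 0 := by
  classical
  obtain ⟨G, hG⟩ := hfg
  -- a common denominator for the generators
  have hmem : ∀ g ∈ G, ∃ m : M, ι m = g := by
    intro g hg
    have : g ∈ (RingHom.ker φ : Set A) := by
      rw [← hG]; exact Ideal.subset_span hg
    rw [← hι] at this
    exact this
  choose! mm hmm using hmem
  have key : ∃ s : R, s ∉ 𝔭 ∧ ∀ g ∈ G, s • q (mm g) = 0 := by
    choose ss hss using fun g : A => h0 (q (mm g))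
    refine ⟨∏ g ∈ G, ss g, ?_, ?_⟩
    · intro hcon
      obtain ⟨g, -, hg⟩ := (Ideal.IsPrime.prod_mem_iff).mp hcon
      exact (hss g).1 hg
    · intro g hg
      rw [← Finset.mul_prod_erase G ss hg, mul_comm, mul_smul, (hss g).2, smul_zero]
  obtain ⟨s, hs, hsq⟩ := key
  obtain ⟨a, rfl⟩ := hφ s
  have ha : ∀ x ∈ RingHom.ker φ, a * x ∈ RingHom.ker φ * RingHom.ker φ := by
    intro x hx
    rw [← hG] at hx
    refine Submodule.span_induction (p := fun x _ => a * x ∈ RingHom.ker φ * RingHom.ker φ)
      ?_ ?_ ?_ ?_ hx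
    · intro g hg
      have h1 : q (a • mm g) = 0 := by rw [hq.map_smul]; exact hsq g hg
      have h2 := mem_smul_top_of_isBC_eq_zero hφ hq _ h1
      have h3 : ι (a • mm g) ∈ RingHom.ker φ * RingHom.ker φ := by
        refine Submodule.smul_induction_on h2 (fun r hr m _ => ?_) (fun x y hx hy => ?_)
        · rw [map_smul, smul_eq_mul]
          refine Ideal.mul_mem_mul hr ?_
          have : ι m ∈ Set.range ι := ⟨m, rfl⟩
          rw [hι] at this
          exact this
        · rw [map_add]; exact Ideal.add_mem _ hx hy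
      rw [map_smul, smul_eq_mul, hmm g hg] at h3
      exact h3
    · simp
    · intro x y _ _ hx hy
      rw [mul_add]; exact Ideal.add_mem _ hx hy
    · intro c x _ hx
      rw [smul_eq_mul, mul_left_comm]
      exact Ideal.mul_mem_left _ _ hx
  obtain ⟨b, m, hb, hbI⟩ := exists_pow_add_mem_annihilator (RingHom.ker φ) ⟨G, hG⟩ a ha
  refine ⟨b, ?_, hbI⟩
  have h1 : φ b = φ a ^ m := by
    have := (RingHom.mem_ker).mp hb
    rw [map_sub, map_pow, sub_eq_zero] at this
    exact this
  rw [h1]
  exact fun h => hs (Ideal.IsPrime.mem_of_pow_mem inferInstance m h)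

end Groth.Agent.Lib.helper7.ConormalZeroAlg
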