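import Mathlib
import Groth.Agent.Lib.Helper7.CubeLocusR
import Groth.Agent.Lib.Helper7.CubeTransport2

/-!
# The theorem of the cube for `(X ×_S Y) ×_S Z`, `Y` only geometrically reduced and geometrically
connected (helper7)
-/

set_option autoImplicit false
set_option linter.style.haveILetI false
universe u
open CategoryTheory CategoryTheory.Limits AlgebraicGeometry TopologicalSpace Opposite

namespace Groth.Agent.Lib.helper7.CubeTransport

open Groth.Agent.Lib.helper11.InvMod Groth.Agent.Lib.helper7.CubeBC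
  Groth.Agent.Lib.helper7.CubeLocus

variable {S X Y Z : Scheme.{u}} (pX : X ⟶ S) (pY : Y ⟶ S) (pZ : Z ⟶ S)

/-- **cube, clopen form** for `(X ×_S Y) ×_S Z` with abstract slice maps -/
theorem exists_clopen_R
    [Flat pX] [IsProper pX] [LocallyOfFinitePresentation pX] [GeometricallyIntegral pX]
    [Flat pY] [IsProper pY] [LocallyOfFinitePresentation pY] [GeometricallyReduced pY]
    [GeometricallyConnected pY]
    (x : S ⟶ X) (hx : x ≫ pX = 𝟙 S) (y : S ⟶ Y) (hy : y ≫ pY = 𝟙 S)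
    (L : (pullback (pullback.fst pX pY ≫ pX) pZ).Modules) (hL : PicF.IsInvertible L)
    {D₁ D₂ : Scheme.{u}} (m₁ : D₁ ⟶ pullback (pullback.fst pX pY ≫ pX) pZ)
    (k₁ : pullback pY pZ ⟶ D₁)
    (hk₁f : k₁ ≫ m₁ ≫ pullback.fst _ pZ = pullback.fst pY pZ ≫ iY pX pY x hx)
    (hk₁s : k₁ ≫ m₁ ≫ pullback.snd _ pZ = pullback.snd pY pZ)
    (m₂ : D₂ ⟶ pullback (pullback.fst pX pY ≫ pX) pZ)
    (k₂ : pullback pX pZ ⟶ D₂)
    (hk₂f : k₂ ≫ m₂ ≫ pullback.fst _ pZ = pullback.fst pX pZ ≫ iX pX pY y hy)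
    (hk₂s : k₂ ≫ m₂ ≫ pullback.snd _ pZ = pullback.snd pX pZ)
    (h₁ : Nonempty ((Scheme.Modules.pullback m₁).obj L ≅ Coh.structureModule _))
    (h₂ : Nonempty ((Scheme.Modules.pullback m₂).obj L ≅ Coh.structureModule _))
    (z : Z) (h₃ : Nonempty ((Scheme.Modules.pullback
      ((pullback.snd (pullback.fst pX pY ≫ pX) pZ).fiberι z)).obj L ≅ Coh.structureModule _)) :
    ∃ W : Z.Opens, IsClosed (W : Set Z) ∧ z ∈ W ∧
      Nonempty ((Scheme.Modules.pullback
        ((pullback.snd (pullback.fst pX pY ≫ pX) pZ) ⁻¹ᵁ W).ι).obj L ≅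
          Coh.structureModule _) := by
  -- notation
  let f := pullback.snd pX pZ
  let g := pullback.snd pY pZ
  let q := qT pX pY pZ
  let p := pT pX pY pZ
  have sq : IsPullback q p f g := isPullback_qT_pT pX pY pZ
  let e := sq.isoPullback
  have he1 : e.hom ≫ pullback.fst f g = q := sq.isoPullback_hom_fst
  have he2 : e.hom ≫ pullback.snd f g = p := sq.isoPullback_hom_snd
  have heh : e.hom ≫ pullback.fst f g ≫ f = pullback.snd (pullback.fst pX pY ≫ pX) pZ := by
    rw [← Category.assoc, he1]; exact qT_snd pX pY pZ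
  have hσ : secT pX pZ x hx ≫ f = 𝟙 Z := secT_snd pX pZ x hx
  have hτ : secT pY pZ y hy ≫ g = 𝟙 Z := secT_snd pY pZ y hy
  let u : pullback pX pZ ⟶ pullback f g := pullback.lift (𝟙 _) (f ≫ secT pY pZ y hy)
    (by rw [Category.id_comp, Category.assoc, hτ, Category.comp_id])
  let v : pullback pY pZ ⟶ pullback f g := pullback.lift (g ≫ secT pX pZ x hx) (𝟙 _)
    (by rw [Category.id_comp, Category.assoc, hσ, Category.comp_id])
  have hu1 : u ≫ pullback.fst f g = 𝟙 _ := pullback.lift_fst _ _ _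
  have hu2 : u ≫ pullback.snd f g = f ≫ secT pY pZ y hy := pullback.lift_snd _ _ _
  have hv1 : v ≫ pullback.fst f g = g ≫ secT pX pZ x hx := pullback.lift_fst _ _ _
  have hv2 : v ≫ pullback.snd f g = 𝟙 _ := pullback.lift_snd _ _ _
  -- the slices
  have hk₂f' : ∀ {A : Scheme.{u}} (w : pullback pX pY ⟶ A),
      k₂ ≫ m₂ ≫ pullback.fst _ pZ ≫ w = pullback.fst pX pZ ≫ iX pX pY y hy ≫ w := fun w => by
    have := hk₂f =≫ w
    simpa only [Category.assoc] using this
  have hk₁f' : ∀ {A : Scheme.{u}} (w : pullback pX pY ⟶ A),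
      k₁ ≫ m₁ ≫ pullback.fst _ pZ ≫ w = pullback.fst pY pZ ≫ iY pX pY x hx ≫ w := fun w => by
    have := hk₁f =≫ w
    simpa only [Category.assoc] using this
  have hiX1 : iX pX pY y hy ≫ pullback.fst pX pY = 𝟙 X := pullback.lift_fst _ _ _
  have hiX2 : iX pX pY y hy ≫ pullback.snd pX pY = pX ≫ y := pullback.lift_snd _ _ _
  have hiY1 : iY pX pY x hx ≫ pullback.fst pX pY = pY ≫ x := pullback.lift_fst _ _ _
  have hiY2 : iY pX pY x hx ≫ pullback.snd pX pY = 𝟙 Y := pullback.lift_snd _ _ _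
  have w₂ : u ≫ e.inv = k₂ ≫ m₂ := by
    rw [← cancel_mono e.hom, Category.assoc, Iso.inv_hom_id, Category.comp_id]
    apply pullback.hom_ext
    · rw [hu1, Category.assoc, Category.assoc, he1]
      apply pullback.hom_ext
      · rw [Category.id_comp, Category.assoc, Category.assoc, qT_fst, hk₂f', hiX1,
          Category.comp_id]
      · rw [Category.id_comp, Category.assoc, Category.assoc, qT_snd, hk₂s]
    · rw [hu2, Category.assoc, Category.assoc, he2]
      apply pullback.hom_ext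
      · rw [Category.assoc, Category.assoc, Category.assoc, pT_fst, hk₂f', hiX2, secT_fst,
          ← Category.assoc, ← Category.assoc, pullback.condition]
      · rw [Category.assoc, Category.assoc, Category.assoc, pT_snd, hk₂s, secT_snd,
          Category.comp_id]
  have w₁ : v ≫ e.inv = k₁ ≫ m₁ := by
    rw [← cancel_mono e.hom, Category.assoc, Iso.inv_hom_id, Category.comp_id]
    apply pullback.hom_ext
    · rw [hv1, Category.assoc, Category.assoc, he1]
      apply pullback.hom_ext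
      · rw [Category.assoc, Category.assoc, Category.assoc, qT_fst, hk₁f', hiY1, secT_fst,
          ← Category.assoc, ← Category.assoc, pullback.condition]
      · rw [Category.assoc, Category.assoc, Category.assoc, qT_snd, hk₁s, secT_snd,
          Category.comp_id]
    · rw [hv2, Category.assoc, Category.assoc, he2]
      apply pullback.hom_ext
      · rw [Category.id_comp, Category.assoc, Category.assoc, pT_fst, hk₁f', hiY2,
          Category.comp_id]
      · rw [Category.id_comp, Category.assoc, Category.assoc, pT_snd, hk₁s]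
  have h1' := triv_pullback_of_comp u e.inv k₂ m₂ w₂ L h₂
  have h2' := triv_pullback_of_comp v e.inv k₁ m₁ w₁ L h₁
  -- the fibre
  let c := Z.fromSpecResidueField z
  have hē : (pullback.fst (pullback.fst f g ≫ f) c ≫ e.inv) ≫
      pullback.snd (pullback.fst pX pY ≫ pX) pZ = pullback.snd (pullback.fst f g ≫ f) c ≫ c := by
    rw [← heh, Category.assoc, Iso.inv_hom_id_assoc]
    exact pullback.condition
  let ē : pullback (pullback.fst f g ≫ f) c ⟶
      pullback (pullback.snd (pullback.fst pX pY ≫ pX) pZ) c :=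
    pullback.lift (pullback.fst _ c ≫ e.inv) (pullback.snd _ c) hē
  have h3' : Nonempty ((Scheme.Modules.pullback ((pullback.fst f g ≫ f).fiberι z)).obj
      ((Scheme.Modules.pullback e.inv).obj L) ≅
      Coh.structureModule ((pullback.fst f g ≫ f).fiber z)) :=
    triv_pullback_of_comp (pullback.fst (pullback.fst f g ≫ f) c) e.inv ē
      (pullback.fst (pullback.snd (pullback.fst pX pY ≫ pX) pZ) c)
      (pullback.lift_fst _ _ _).symm L h₃
  obtain ⟨W, hWc, hzW, eW⟩ := exists_clopen_triv_R f g (secT pX pZ x hx) hσ (secT pY pZ y hy) hτ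
    ((Scheme.Modules.pullback e.inv).obj L) (isInvertible_pullback _ hL) u hu1 hu2 v hv1 hv2
    h1' h2' z h3'
  refine ⟨W, hWc, hzW, ?_⟩
  -- transport back
  have hr : Set.range (((pullback.snd (pullback.fst pX pY ≫ pX) pZ) ⁻¹ᵁ W).ι ≫ e.hom) ⊆
      Set.range ((pullback.fst f g ≫ f) ⁻¹ᵁ W).ι := by
    rintro _ ⟨w, rfl⟩
    rw [Scheme.Opens.range_ι]
    change (pullback.fst f g ≫ f) ((((pullback.snd (pullback.fst pX pY ≫ pX) pZ) ⁻¹ᵁ W).ι ≫
      e.hom) w) ∈ W
    rw [← Scheme.Hom.comp_apply, Category.assoc, heh]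
    exact w.2
  let k := IsOpenImmersion.lift ((pullback.fst f g ≫ f) ⁻¹ᵁ W).ι
    (((pullback.snd (pullback.fst pX pY ≫ pX) pZ) ⁻¹ᵁ W).ι ≫ e.hom) hr
  have hk : k ≫ ((pullback.fst f g ≫ f) ⁻¹ᵁ W).ι =
      ((pullback.snd (pullback.fst pX pY ≫ pX) pZ) ⁻¹ᵁ W).ι ≫ e.hom :=
    IsOpenImmersion.lift_fac _ _ _
  obtain ⟨e0⟩ := triv_pullback_of_comp
    ((pullback.snd (pullback.fst pX pY ≫ pX) pZ) ⁻¹ᵁ W).ι e.hom k _ hk.symm
    ((Scheme.Modules.pullback e.inv).obj L) eW
  have eL : L ≅ (Scheme.Modules.pullback e.hom).obj ((Scheme.Modules.pullback e.inv).obj L) :=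
    ((Scheme.Modules.pullbackId _).app L).symm ≪≫
      (Scheme.Modules.pullbackCongr e.hom_inv_id.symm).app L ≪≫
      ((Scheme.Modules.pullbackComp e.hom e.inv).app L).symm
  exact ⟨(Scheme.Modules.pullback _).mapIso eL ≪≫ e0⟩

/-- **the theorem of the cube over a connected base** -/
theorem cube_connected_R
    [ConnectedSpace ↑Z]
    (L : (pullback (pullback.fst pX pY ≫ pX) pZ).Modules)
    (h : ∃ W : Z.Opens, IsClosed (W : Set Z) ∧ (W : Set Z).Nonempty ∧
      Nonempty ((Scheme.Modules.pullback ((pullback.snd (pullback.fst pX pY ≫ pX) pZ) ⁻¹ᵁ W).ι).obj L ≅ Coh.structureModule _)) :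
    Nonempty (L ≅ Coh.structureModule (pullback (pullback.fst pX pY ≫ pX) pZ)) := by
  obtain ⟨W, hWc, hne, ⟨e⟩⟩ := h
  have hW : (W : Set Z) = Set.univ := IsClopen.eq_univ ⟨hWc, W.2⟩ hne
  have hWtop : W = ⊤ := TopologicalSpace.Opens.ext hW
  subst hWtop
  rw [← isTrivOn_top_iff]
  have h1 : IsTrivOn L ((pullback.snd (pullback.fst pX pY ≫ pX) pZ) ⁻¹ᵁ ⊤) :=
    ⟨(Scheme.Modules.restrictFunctorIsoPullback _).app L ≪≫ e⟩
  have hle : (⊤ : (pullback (pullback.fst pX pY ≫ pX) pZ).Opens) ≤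
      (pullback.snd (pullback.fst pX pY ≫ pX) pZ) ⁻¹ᵁ ⊤ := fun _ _ => trivial
  exact IsTrivOn.of_le hle h1

/-- **the theorem of the cube over a connected base**, third hypothesis along a `T`-point -/
theorem cube_of_point_R
    [Flat pX] [IsProper pX] [LocallyOfFinitePresentation pX] [GeometricallyIntegral pX]
    [Flat pY] [IsProper pY] [LocallyOfFinitePresentation pY] [GeometricallyReduced pY]
    [GeometricallyConnected pY]
    [ConnectedSpace ↑Z]
    (x : S ⟶ X) (hx : x ≫ pX = 𝟙 S) (y : S ⟶ Y) (hy : y ≫ pY = 𝟙 S)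
    (L : (pullback (pullback.fst pX pY ≫ pX) pZ).Modules) (hL : PicF.IsInvertible L)
    {D₁ D₂ : Scheme.{u}} (m₁ : D₁ ⟶ pullback (pullback.fst pX pY ≫ pX) pZ)
    (k₁ : pullback pY pZ ⟶ D₁)
    (hk₁f : k₁ ≫ m₁ ≫ pullback.fst _ pZ = pullback.fst pY pZ ≫ iY pX pY x hx)
    (hk₁s : k₁ ≫ m₁ ≫ pullback.snd _ pZ = pullback.snd pY pZ)
    (m₂ : D₂ ⟶ pullback (pullback.fst pX pY ≫ pX) pZ)
    (k₂ : pullback pX pZ ⟶ D₂)
    (hk₂f : k₂ ≫ m₂ ≫ pullback.fst _ pZ = pullback.fst pX pZ ≫ iX pX pY y hy)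
    (hk₂s : k₂ ≫ m₂ ≫ pullback.snd _ pZ = pullback.snd pX pZ)
    (h₁ : Nonempty ((Scheme.Modules.pullback m₁).obj L ≅ Coh.structureModule _))
    (h₂ : Nonempty ((Scheme.Modules.pullback m₂).obj L ≅ Coh.structureModule _))
    {T : Scheme.{u}} [Nonempty T] (c : T ⟶ Z)
    (h₃ : Nonempty ((Scheme.Modules.pullback
      (pullback.fst (pullback.snd (pullback.fst pX pY ≫ pX) pZ) c)).obj L ≅
        Coh.structureModule _)) :
    Nonempty (L ≅ Coh.structureModule (pullback (pullback.fst pX pY ≫ pX) pZ)) := by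
  obtain ⟨t⟩ : Nonempty T := inferInstance
  have hOf : ∀ (T : Scheme.{u}) (t : T ⟶ S) (U : T.Opens), IsIso ((pullback.snd pX t).app U) :=
    fun T t U => hO_of_geometricallyIntegral pX T t U
  have hOg : ∀ (T : Scheme.{u}) (t : T ⟶ S) (U : T.Opens), IsIso ((pullback.snd pY t).app U) := by
    intro T t U
    haveI : GeometricallyConnected (pullback.snd pY t) := inferInstance
    haveI : GeometricallyReduced (pullback.snd pY t) := inferInstance
    exact Groth.Agent.Lib.helper7.SteinU.isIso_app (pullback.snd pY t) U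
  have hO := isIso_app_h pX pY hOf hOg
  have hOZ : ∀ (T' : Scheme.{u}) (c' : T' ⟶ Z) (U : T'.Opens),
      IsIso ((pullback.snd (pullback.snd (pullback.fst pX pY ≫ pX) pZ) c').app U) :=
    fun T' c' U => Groth.Agent.Lib.helper7.DescRank.isIso_app_of_isPullback
      (pullback.fst pX pY ≫ pX) hO
      ((IsPullback.of_hasPullback (pullback.snd (pullback.fst pX pY ≫ pX) pZ) c').paste_horiz
        (IsPullback.of_hasPullback (pullback.fst pX pY ≫ pX) pZ)) U
  -- the section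
  let r₁ : Z ⟶ pullback pY pZ := pullback.lift (pZ ≫ y) (𝟙 Z)
    (by rw [Category.assoc, hy, Category.comp_id, Category.id_comp])
  have hr₁ : r₁ ≫ pullback.snd pY pZ = 𝟙 Z := pullback.lift_snd _ _ _
  have hρ : (r₁ ≫ k₁ ≫ m₁) ≫ pullback.snd (pullback.fst pX pY ≫ pX) pZ = 𝟙 Z := by
    rw [Category.assoc, Category.assoc, hk₁s, hr₁]
  have hρL : Nonempty ((Scheme.Modules.pullback (r₁ ≫ k₁ ≫ m₁)).obj L ≅
      Coh.structureModule Z) := by
    obtain ⟨e⟩ := h₁
    exact ⟨(Scheme.Modules.pullbackCongr (Category.assoc r₁ k₁ m₁).symm).app L ≪≫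
      ((Scheme.Modules.pullbackComp (r₁ ≫ k₁) m₁).app L).symm ≪≫
      (Scheme.Modules.pullback (r₁ ≫ k₁)).mapIso e ≪≫ pullbackUnitIso (r₁ ≫ k₁)⟩
  have h₃' := fibre_triv_of_triv (pullback.snd (pullback.fst pX pY ≫ pX) pZ)
    hOZ L hL (r₁ ≫ k₁ ≫ m₁) hρ hρL c t h₃
  obtain ⟨W, hWc, hzW, hW⟩ := exists_clopen_R pX pY pZ x hx y hy L hL m₁ k₁ hk₁f hk₁s
    m₂ k₂ hk₂f hk₂s h₁ h₂ (c t) h₃'
  exact cube_connected_R pX pY pZ L ⟨W, hWc, ⟨c t, hzW⟩, hW⟩

end Groth.Agent.Lib.helper7.CubeTransport
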