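import Mathlib
import Groth.Agent.Lib.Helper7.NNPicClosed
import Groth.Agent.Lib.Helper7.Seesaw2
import Groth.Agent.Lib.Helper12.InvDual2

/-!
# The points of the locus where an invertible module descends to the base (helper7, for S7188)

* `trivial_of_field`: a finite locally free module on the spectrum of a field whose pullback to a nonempty scheme
  is invertible is trivial.
* `fiber_trivial_of_point`: if `E` pulled back along `x' : Spec K' ⟶ S` comes from a finite locally free module
  on `Spec K'` then `E` is trivial on the fibre of `f` over the image point (integral fibres).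
-/

set_option autoImplicit false
universe u

open CategoryTheory CategoryTheory.Limits Opposite TopologicalSpace AlgebraicGeometry

namespace Groth.Agent.Lib.helper7.DescLocus

open Groth.Agent.Lib.helper11.InvMod Groth.Agent.Lib.helper16.FLF

theorem trivial_of_field (K' : Type u) [Field K'] {Y' : Scheme.{u}} [Nonempty Y']
    (p' : Y' ⟶ Spec (CommRingCat.of K'))
    (N : (Spec (CommRingCat.of K')).Modules) (hN : FlatMod.IsFinLocFree N)
    (hinv : PicF.IsInvertible ((Scheme.Modules.pullback p').obj N)) :
    Nonempty (N ≅ Coh.structureModule (Spec (CommRingCat.of K'))) := by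
  haveI : Subsingleton ↥(Spec (CommRingCat.of K')) :=
    inferInstanceAs (Subsingleton (PrimeSpectrum K'))
  obtain ⟨pt⟩ : Nonempty ↥(Spec (CommRingCat.of K')) := inferInstance
  have htop : ∀ U : (Spec (CommRingCat.of K')).Opens, pt ∈ U → U = ⊤ := by
    intro U hU
    ext y
    simp only [TopologicalSpace.Opens.coe_top, Set.mem_univ, iff_true]
    rw [Subsingleton.elim y pt]
    exact hU
  obtain ⟨U, n, hptU, ⟨e⟩⟩ := hN pt
  have hNn : FlatMod.IsFinLocFreeOfRank n N := fun y =>
    ⟨U, by rw [Subsingleton.elim y pt]; exact hptU, ⟨e⟩⟩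
  have h1 := isFinLocFreeOfRank_pullback p' hNn
  have h2 := (isInvertible_iff_isFinLocFreeOfRank_one _).mp hinv
  have hn : n = 1 := rank_unique_of_isFinLocFreeOfRank _ h1 h2
  subst hn
  have h3 : PicF.IsInvertible N := (isInvertible_iff_isFinLocFreeOfRank_one _).mpr hNn
  obtain ⟨V, hptV, hV⟩ := h3 pt
  obtain rfl := htop V hptV
  exact isTrivOn_top_iff.mp hV

section point

open Groth.Agent.Lib.helper7.Seesaw Groth.Agent.Lib.helper12.PullTensor

variable {X S : Scheme.{u}} (f : X ⟶ S) [IsProper f]

/-- if `E` pulled back along `Spec κ(z) ⟶ Z ⟶ S` comes from a finite locally free module on `Spec κ(z)` then `E`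
is trivial on the fibre of `f` over `j z` (integral fibre) -/
theorem fiber_trivial_of_point (E E' : X.Modules) (hE : PicF.IsInvertible E)
    (hE' : PicF.IsInvertible E')
    (eE : CohB1.tensorMod E' E ≅ Coh.structureModule X)
    {Z : Scheme.{u}} (j : Z ⟶ S) (z : Z) [IsIntegral (f.fiber (j z))]
    (N : (Spec (Z.residueField z)).Modules) (hN : FlatMod.IsFinLocFree N)
    (iso : (Scheme.Modules.pullback (pullback.snd f (Z.fromSpecResidueField z ≫ j))).obj N ≅
      (Scheme.Modules.pullback (pullback.fst f (Z.fromSpecResidueField z ≫ j))).obj E) :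
    Nonempty (CohIII.fiberMod f E (j z) ≅ Coh.structureModule (f.fiber (j z))) := by
  letI : Algebra ↥(S.residueField (j z)) ↥(Z.residueField z) := (j.residueFieldMap z).hom.toAlgebra
  have hx' : Spec.map (j.residueFieldMap z) ≫ S.fromSpecResidueField (j z) =
      Z.fromSpecResidueField z ≫ j := Scheme.Hom.SpecMap_residueFieldMap_fromSpecResidueField j z
  let g : pullback f (Z.fromSpecResidueField z ≫ j) ⟶ f.fiber (j z) :=
    pullback.lift (pullback.fst f (Z.fromSpecResidueField z ≫ j))
      (pullback.snd f (Z.fromSpecResidueField z ≫ j) ≫ Spec.map (j.residueFieldMap z))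
      (by rw [Category.assoc, hx']; exact pullback.condition)
  have hg1 : g ≫ f.fiberι (j z) = pullback.fst f (Z.fromSpecResidueField z ≫ j) :=
    pullback.lift_fst _ _ _
  have hg2 : g ≫ f.fiberToSpecResidueField (j z) =
      pullback.snd f (Z.fromSpecResidueField z ≫ j) ≫ Spec.map (j.residueFieldMap z) :=
    pullback.lift_snd _ _ _
  have houter : IsPullback (g ≫ f.fiberι (j z)) (pullback.snd f (Z.fromSpecResidueField z ≫ j)) f
      (Spec.map (j.residueFieldMap z) ≫ S.fromSpecResidueField (j z)) := by
    rw [hg1, hx']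
    exact IsPullback.of_hasPullback f _
  have hpb : IsPullback g (pullback.snd f (Z.fromSpecResidueField z ≫ j))
      (f.fiberToSpecResidueField (j z))
      (Spec.map (CommRingCat.ofHom (algebraMap ↥(S.residueField (j z)) ↥(Z.residueField z)))) :=
    IsPullback.of_right houter hg2 (IsPullback.of_hasPullback f (S.fromSpecResidueField (j z)))
  haveI : IsProper (f.fiberToSpecResidueField (j z)) :=
    MorphismProperty.of_isPullback (IsPullback.of_hasPullback f (S.fromSpecResidueField (j z)))
      inferInstance
  haveI : Nonempty ↥(f.fiber (j z)) := inferInstance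
  haveI : Nonempty ↥(pullback f (Z.fromSpecResidueField z ≫ j)) :=
    nonempty_of_fieldExt ↥(S.residueField (j z)) ↥(Z.residueField z)
      (f.fiberToSpecResidueField (j z)) (pullback.snd f (Z.fromSpecResidueField z ≫ j)) g hpb
  -- `N` is trivial
  have hinv : PicF.IsInvertible
      ((Scheme.Modules.pullback (pullback.snd f (Z.fromSpecResidueField z ≫ j))).obj N) :=
    isInvertible_of_iso iso.symm (isInvertible_pullback _ hE)
  obtain ⟨eN⟩ := trivial_of_field ↥(Z.residueField z)
    (pullback.snd f (Z.fromSpecResidueField z ≫ j)) N hN hinv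
  -- the fibre module
  let ey : CohB1.tensorMod (CohIII.fiberMod f E' (j z)) (CohIII.fiberMod f E (j z)) ≅
      Coh.structureModule (f.fiber (j z)) :=
    (pullTensorIso (f.fiberι (j z)) E' E hE).symm ≪≫
      (Scheme.Modules.pullback (f.fiberι (j z))).mapIso eE ≪≫ pullbackUnitIso (f.fiberι (j z))
  refine nonempty_iso_of_fieldExt ↥(S.residueField (j z)) ↥(Z.residueField z)
    (f.fiberToSpecResidueField (j z)) (pullback.snd f (Z.fromSpecResidueField z ≫ j)) g hpb
    (CohIII.fiberMod f E (j z)) (CohIII.fiberMod f E' (j z))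
    (isInvertible_pullback _ hE) (isInvertible_pullback _ hE') ey ⟨?_⟩
  exact (Scheme.Modules.pullbackComp g (f.fiberι (j z))).app E ≪≫
    (Scheme.Modules.pullbackCongr hg1).app E ≪≫ iso.symm ≪≫
    (Scheme.Modules.pullback (pullback.snd f (Z.fromSpecResidueField z ≫ j))).mapIso eN ≪≫
    pullbackUnitIso _

end point

end Groth.Agent.Lib.helper7.DescLocus
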