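import Mathlib.FieldTheory.Galois.Basic
import Mathlib.RingTheory.Adjoin.PowerBasis
import Mathlib.FieldTheory.Separable
import Mathlib.Algebra.Polynomial.Splits
import Mathlib.RingTheory.IntegralClosure.IsIntegralClosure.Basic
import Mathlib.Algebra.Central.Defs
import Mathlib.Algebra.Central.Basic
import Mathlib.LinearAlgebra.FiniteDimensional.Basic

/-!
# Degrees of elements and subalgebras of finite-dimensional division algebras (helper7)
-/

set_option autoImplicit false

namespace Groth.Agent.Lib.helper7.DivAlgDeg

open Polynomial

variable {K : Type*} [Field K] {A : Type*} [DivisionRing A] [Algebra K A] [FiniteDimensional K A]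

/-- The dimension of a subalgebra of a finite-dimensional division algebra divides the dimension. -/
theorem finrank_subalgebra_dvd (B : Subalgebra K A) :
    Module.finrank K B ∣ Module.finrank K A := by
  have hdom : IsDomain B := NoZeroDivisors.to_isDomain B
  let _ : DivisionRing B := divisionRingOfFiniteDimensional K B
  exact ⟨Module.finrank B A, (Module.finrank_mul_finrank K B A).symm⟩

/-- `dim_K K[x] = deg minpoly x`, also in a noncommutative division algebra. -/
theorem finrank_adjoin_singleton (x : A) :
    Module.finrank K (Algebra.adjoin K {x}) = (minpoly K x).natDegree := by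
  classical
  obtain ⟨S, hS⟩ : ∃ S : Subalgebra K A, S = Algebra.adjoin K {x} := ⟨_, rfl⟩
  have hxS : x ∈ S := hS ▸ Algebra.subset_adjoin (Set.mem_singleton x)
  have hcomm : ∀ a b : S, a * b = b * a := by
    subst hS
    have := Algebra.isMulCommutative_adjoin K (s := ({x} : Set A)) (fun a ha b hb => by
      rw [Set.mem_singleton_iff] at ha hb; rw [ha, hb])
    intro a b
    exact mul_comm' a b
  let instCR : CommRing S := { (inferInstance : Ring S) with mul_comm := hcomm }
  obtain ⟨x', hx'⟩ : ∃ x' : S, (x' : A) = x := ⟨⟨x, hxS⟩, rfl⟩
  have htop : Algebra.adjoin K {x'} = ⊤ := by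
    subst hS
    have h1 := Algebra.adjoin_adjoin_coe_preimage (R := K) (s := ({x} : Set A))
    have h2 : ((↑) : Algebra.adjoin K ({x} : Set A) → A) ⁻¹' {x} = {x'} := by
      ext y
      simp only [Set.mem_preimage, Set.mem_singleton_iff]
      constructor
      · intro hy
        exact Subtype.ext (hy.trans hx'.symm)
      · intro hy
        rw [hy, hx']
    rw [h2] at h1
    exact h1
  have hmin : minpoly K x' = minpoly K x := by
    rw [← hx']
    exact (minpoly.algHom_eq S.val Subtype.val_injective x').symm
  have hintS : IsIntegral K x' := Algebra.IsIntegral.isIntegral x'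
  rw [← hS, ← hmin]
  exact (PowerBasis.ofAdjoinEqTop hintS htop).finrank

theorem natDegree_minpoly_dvd_finrank (x : A) :
    (minpoly K x).natDegree ∣ Module.finrank K A := by
  rw [← finrank_adjoin_singleton]
  exact finrank_subalgebra_dvd _

/-- If the minimal polynomial of `x` has degree `dim A`, then `A` is commutative. -/
theorem commute_of_natDegree_minpoly_eq (x : A)
    (h : (minpoly K x).natDegree = Module.finrank K A) (a b : A) : a * b = b * a := by
  have htop : (Algebra.adjoin K {x}).toSubmodule = ⊤ := by
    apply Submodule.eq_top_of_finrank_eq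
    change Module.finrank K (Algebra.adjoin K {x}) = _
    rw [finrank_adjoin_singleton, h]
  have hmem : ∀ y : A, y ∈ Algebra.adjoin K {x} := by
    intro y
    change y ∈ (Algebra.adjoin K {x}).toSubmodule
    rw [htop]; trivial
  have := Algebra.isMulCommutative_adjoin K (s := ({x} : Set A)) (fun a ha b hb => by
    rw [Set.mem_singleton_iff] at ha hb; rw [ha, hb])
  have hc := congrArg Subtype.val
    (mul_comm' (⟨a, hmem a⟩ : Algebra.adjoin K {x}) ⟨b, hmem b⟩)
  exact hc

end Groth.Agent.Lib.helper7.DivAlgDeg
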