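import Mathlib.LinearAlgebra.TensorProduct.Pi
import Mathlib.LinearAlgebra.TensorProduct.RightExactness
import Mathlib.LinearAlgebra.TensorProduct.Finiteness
import Mathlib.LinearAlgebra.Matrix.ToLin
import Mathlib.LinearAlgebra.Finsupp.LinearCombination
import Mathlib.LinearAlgebra.Isomorphisms

/-!
# helper7: factoring a map out of a finitely presented module through a free module
(the linear algebra behind Stacks 10.? `Tor_1(α, N) = 0` for all `N` implies `α` factors
through a free module)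
-/

universe u

open TensorProduct

namespace Groth.Agent.Lib.helper7.FactorFree

variable {R : Type u} [CommRing R] {n m : ℕ} (k : Fin m → (Fin n → R))

/-- the linear map `l ↦ (i ↦ ⟨k i, l⟩)`. -/
noncomputable def B : (Fin n → R) →ₗ[R] (Fin m → R) :=
  LinearMap.pi fun i => ∑ j, (k i j) • LinearMap.proj j

lemma B_apply (l : Fin n → R) (i : Fin m) : B k l i = ∑ j, k i j * l j := by
  simp [B, LinearMap.sum_apply]

lemma B_single (j : Fin n) (i : Fin m) : B k (Pi.single j 1) i = k i j := by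
  rw [B_apply]
  simp [Pi.single_apply]

variable {M : Type u} [AddCommGroup M] [Module R M]
variable (π : (Fin n → R) →ₗ[R] M)

/-- the universal element `Σ_j π(e_j) ⊗ B e_j`. -/
noncomputable def ξ : M ⊗[R] LinearMap.range (B k) :=
  ∑ j, π (Pi.single j 1) ⊗ₜ[R] (B k).rangeRestrict (Pi.single j 1)

lemma lTensor_ξ (hk : ∀ i, π (k i) = 0) :
    LinearMap.lTensor M (LinearMap.range (B k)).subtype (ξ k π) = 0 := by
  apply (TensorProduct.piScalarRight R R M (Fin m)).injective
  rw [map_zero]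
  funext i
  simp only [ξ, map_sum, LinearMap.lTensor_tmul, Submodule.subtype_apply,
    LinearMap.codRestrict_apply, piScalarRight_apply, piScalarRightHom_tmul, Finset.sum_apply,
    Pi.zero_apply]
  simp only [B_single]
  have : k i = ∑ j, k i j • (Pi.single j 1 : Fin n → R) := by
    funext j'
    simp [Finset.sum_apply, Pi.single_apply]
  rw [← hk i]
  conv_rhs => rw [this]
  simp [map_sum]

variable {M' : Type u} [AddCommGroup M'] [Module R M'] (α : M →ₗ[R] M')

/-- the pairing with `v`, as a map `M' ⊗ Rⁿ → M'`. -/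
noncomputable def ev (v : Fin n → R) : M' ⊗[R] (Fin n → R) →ₗ[R] M' :=
  (TensorProduct.rid R M').toLinearMap ∘ₗ
    LinearMap.lTensor M' (∑ j, (v j) • LinearMap.proj j : (Fin n → R) →ₗ[R] R)

lemma ev_tmul (v : Fin n → R) (x : M') (w : Fin n → R) :
    ev v (x ⊗ₜ[R] w) = (∑ j, v j * w j) • x := by
  simp [ev, LinearMap.sum_apply]

theorem exists_factor (hπ : Function.Surjective π) (hK : LinearMap.ker π = Submodule.span R (Set.range k))
    (H : LinearMap.rTensor (LinearMap.range (B k)) α (ξ k π) = 0) :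
    ∃ (ι : Type u) (g : M →ₗ[R] (ι →₀ R)) (h : (ι →₀ R) →ₗ[R] M'), α = h ∘ₗ g := by
  classical
  -- ζ
  obtain ⟨ζ, hζ⟩ : ∃ ζ : M' ⊗[R] (Fin n → R),
      ζ = ∑ j, α (π (Pi.single j 1)) ⊗ₜ[R] (Pi.single j 1 : Fin n → R) := ⟨_, rfl⟩
  have hζ0 : LinearMap.lTensor M' (B k).rangeRestrict ζ = 0 := by
    rw [hζ, map_sum]
    rw [ξ, map_sum] at H
    simpa using H
  have hex : Function.Exact (LinearMap.ker (B k)).subtype (B k).rangeRestrict := by
    intro x
    constructor
    · intro hx
      have : B k x = 0 := congrArg Subtype.val hx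
      exact ⟨⟨x, this⟩, rfl⟩
    · rintro ⟨y, rfl⟩
      apply Subtype.ext
      exact y.2
  have hex' := lTensor_exact M' hex (B k).surjective_rangeRestrict
  obtain ⟨η, hη⟩ := (hex' ζ).1 hζ0
  obtain ⟨T, hT⟩ := TensorProduct.exists_finset η
  -- the maps
  let g₀ : (Fin n → R) →ₗ[R] (T → R) :=
    LinearMap.pi fun p => ∑ j, ((p.1.2 : Fin n → R) j) • LinearMap.proj j
  have hg₀ : ∀ v p, g₀ v p = ∑ j, v j * (p.1.2 : Fin n → R) j := by
    intro v p
    simp [g₀, LinearMap.sum_apply, mul_comm]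
  have hKg : LinearMap.ker π ≤ LinearMap.ker g₀ := by
    rw [hK, Submodule.span_le]
    rintro _ ⟨i, rfl⟩
    rw [SetLike.mem_coe, LinearMap.mem_ker]
    funext p
    rw [hg₀]
    have hp : B k (p.1.2 : Fin n → R) = 0 := p.1.2.2
    have := congrFun hp i
    rw [B_apply] at this
    simpa using this
  let e := π.quotKerEquivOfSurjective hπ
  let g₁ : M →ₗ[R] (T → R) := (Submodule.liftQ _ g₀ hKg) ∘ₗ e.symm.toLinearMap
  have hg₁ : ∀ v, g₁ (π v) = g₀ v := by
    intro v
    have : e.symm (π v) = Submodule.Quotient.mk v := by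
      rw [LinearEquiv.symm_apply_eq]
      rfl
    change Submodule.liftQ _ g₀ hKg (e.symm (π v)) = _
    rw [this, Submodule.liftQ_apply]
  let h₁ : (T → R) →ₗ[R] M' := ∑ p : T, (LinearMap.proj p : (T → R) →ₗ[R] R).smulRight p.1.1
  have hh₁ : ∀ c, h₁ c = ∑ p : T, c p • p.1.1 := by
    intro c
    simp [h₁, LinearMap.sum_apply]
  let E := Finsupp.linearEquivFunOnFinite R R T
  refine ⟨T, E.symm.toLinearMap ∘ₗ g₁, h₁ ∘ₗ E.toLinearMap, ?_⟩
  apply LinearMap.ext
  intro x
  obtain ⟨v, rfl⟩ := hπ x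
  change α (π v) = h₁ (E (E.symm (g₁ (π v))))
  rw [LinearEquiv.apply_symm_apply, hg₁, hh₁]
  -- evaluate both descriptions of ζ
  have h1 : ev v ζ = α (π v) := by
    rw [hζ, map_sum]
    simp only [ev_tmul]
    have : v = ∑ j, v j • (Pi.single j 1 : Fin n → R) := by
      funext j'
      simp [Finset.sum_apply, Pi.single_apply]
    conv_rhs => rw [this]
    simp [map_sum, Pi.single_apply]
  have h2 : ev v ζ = ∑ p : T, g₀ v p • p.1.1 := by
    rw [← hη, hT, map_sum, map_sum]
    rw [← Finset.sum_coe_sort T]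
    apply Finset.sum_congr rfl
    intro p _
    rw [LinearMap.lTensor_tmul, ev_tmul, hg₀]
    rfl
  rw [← h1, h2]

end Groth.Agent.Lib.helper7.FactorFree
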