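import Groth.Agent.Lib.Helper7.FilObjElem
import Mathlib.CategoryTheory.Limits.Shapes.Pullback.IsPullback.Basic

/-!
# Fibre products of filtered objects (helper7)
-/

set_option autoImplicit false
universe v u

open CategoryTheory CategoryTheory.Limits

namespace Groth.Agent.Lib.helper7.FilObjPullback

open SpSeq Groth.Agent.Lib.helper7.FilObjElem

variable {A : Type u} [Category.{v} A] [Abelian A]

/-- Morphisms of filtered objects from elementwise compatibility. -/
def homMk {K L : FilObj A} (h : K.obj ⟶ L.obj)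
    (H : ∀ (p : ℤ) (T : A) (x : T ⟶ K.obj), (K.fil p).Factors x → (L.fil p).Factors (x ≫ h)) :
    K ⟶ L :=
  ⟨h, fun p => (le_iff_factors _ _).2 fun T x hx =>
    (Limits.pullback_factors_iff _ _ _).mpr (H p T x hx)⟩

@[simp] theorem homMk_hom {K L : FilObj A} (h : K.obj ⟶ L.obj) (H) : (homMk h H : K ⟶ L).hom = h :=
  rfl

theorem comp_hom {K L M : FilObj A} (f : K ⟶ L) (g : L ⟶ M) : (f ≫ g).hom = f.hom ≫ g.hom := rfl

theorem id_hom (K : FilObj A) : (𝟙 K : K ⟶ K).hom = 𝟙 K.obj := rfl

variable {K L M : FilObj A} (f : L ⟶ K) (g : M ⟶ K)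

/-- The fibre product of filtered objects. -/
noncomputable abbrev pbObj : FilObj A where
  obj := pullback f.hom g.hom
  fil p := (Subobject.pullback (pullback.fst f.hom g.hom)).obj (L.fil p) ⊓
    (Subobject.pullback (pullback.snd f.hom g.hom)).obj (M.fil p)
  anti := fun _ _ h => inf_le_inf ((Subobject.pullback _).monotone (L.anti h))
    ((Subobject.pullback _).monotone (M.anti h))

theorem pbObj_factors_iff (p : ℤ) {T : A} (x : T ⟶ pullback f.hom g.hom) :
    ((pbObj f g).fil p).Factors x ↔ (L.fil p).Factors (x ≫ pullback.fst f.hom g.hom) ∧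
      (M.fil p).Factors (x ≫ pullback.snd f.hom g.hom) := by
  change (_ ⊓ _ : Subobject (pullback f.hom g.hom)).Factors x ↔ _
  rw [Subobject.inf_factors, Limits.pullback_factors_iff, Limits.pullback_factors_iff]

noncomputable def pbFst : pbObj f g ⟶ L :=
  homMk (pullback.fst f.hom g.hom) fun p _ x hx => ((pbObj_factors_iff f g p x).mp hx).1

noncomputable def pbSnd : pbObj f g ⟶ M :=
  homMk (pullback.snd f.hom g.hom) fun p _ x hx => ((pbObj_factors_iff f g p x).mp hx).2

theorem pb_condition : pbFst f g ≫ f = pbSnd f g ≫ g :=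
  FilObj.Hom.ext pullback.condition

/-- The constructed square is a pullback. -/
noncomputable def pbIsLimit : IsLimit (PullbackCone.mk (pbFst f g) (pbSnd f g) (pb_condition f g)) :=
  PullbackCone.IsLimit.mk (pb_condition f g)
    (fun s => homMk (pullback.lift s.fst.hom s.snd.hom (congrArg FilObj.Hom.hom s.condition))
      fun p T x hx => by
        rw [pbObj_factors_iff, Category.assoc, Category.assoc, pullback.lift_fst, pullback.lift_snd]
        exact ⟨hom_factors s.fst p x hx, hom_factors s.snd p x hx⟩)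
    (fun s => FilObj.Hom.ext (pullback.lift_fst _ _ _))
    (fun s => FilObj.Hom.ext (pullback.lift_snd _ _ _))
    (fun s m h1 h2 => FilObj.Hom.ext (by
      apply pullback.hom_ext
      · rw [homMk_hom, pullback.lift_fst]; exact congrArg FilObj.Hom.hom h1
      · rw [homMk_hom, pullback.lift_snd]; exact congrArg FilObj.Hom.hom h2))

theorem hasPullback : HasPullback f g :=
  ⟨⟨⟨_, pbIsLimit f g⟩⟩⟩

/-- The filtered object on `T` concentrated in filtration degree `≤ p`. -/
noncomputable def stepObj (T : A) (p : ℤ) : FilObj A where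
  obj := T
  fil q := if q ≤ p then ⊤ else ⊥
  anti := fun a b h => by
    by_cases hb : b ≤ p
    · have ha : a ≤ p := h.trans hb
      simp [ha, hb]
    · simp [hb]

/-- A generalised element of `F^p L` as a morphism from `stepObj`. -/
noncomputable def stepHom {L : FilObj A} {T : A} (p : ℤ) (u : T ⟶ L.obj)
    (hu : (L.fil p).Factors u) : stepObj T p ⟶ L :=
  homMk u fun q T' x hx => by
    by_cases hq : q ≤ p
    · exact Subobject.factors_of_factors_right x (Subobject.factors_of_le u (L.anti hq) hu)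
    · have : ((stepObj T p).fil q) = ⊥ := by
        change (if q ≤ p then ⊤ else ⊥) = _
        rw [if_neg hq]
        rfl
      rw [this, Subobject.bot_factors_iff_zero] at hx
      rw [hx, zero_comp]
      exact Subobject.factors_zero

theorem stepObj_fil_self (T : A) (p : ℤ) : (stepObj T p).fil p = ⊤ := by
  change (if p ≤ p then ⊤ else ⊥) = _
  rw [if_pos le_rfl]
  rfl

/-- Lifting generalised elements into an arbitrary pullback square of filtered objects. -/
theorem exists_lift {P : FilObj A} {g' : P ⟶ L} {f' : P ⟶ M} (sq : IsPullback g' f' f g)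
    (p : ℤ) {T : A} (u : T ⟶ L.obj) (v : T ⟶ M.obj) (hu : (L.fil p).Factors u)
    (hv : (M.fil p).Factors v) (huv : u ≫ f.hom = v ≫ g.hom) :
    ∃ y : T ⟶ P.obj, (P.fil p).Factors y ∧ y ≫ g'.hom = u ∧ y ≫ f'.hom = v := by
  have hw : stepHom p u hu ≫ f = stepHom p v hv ≫ g := FilObj.Hom.ext huv
  refine ⟨(sq.lift _ _ hw).hom, ?_, congrArg FilObj.Hom.hom (sq.lift_fst _ _ hw),
    congrArg FilObj.Hom.hom (sq.lift_snd _ _ hw)⟩
  have h1 := hom_factors (sq.lift _ _ hw) p (𝟙 (stepObj T p).obj) (by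
    rw [stepObj_fil_self]; exact Subobject.top_factors _)
  rwa [Category.id_comp] at h1

/-- Base change of a strict morphism is strict. -/
theorem isStrict_snd {P : FilObj A} {g' : P ⟶ L} {f' : P ⟶ M} (sq : IsPullback g' f' f g)
    (hf : FilObj.IsStrict f) : FilObj.IsStrict f' := by
  rw [isStrict_iff] at hf ⊢
  intro p T x hx ⟨T₁, π₁, hπ₁, y, hy⟩
  -- `z = y ≫ g'` maps under `f` to `π₁ ≫ x ≫ g`, which is in `F^p K`
  have hz : (y ≫ g'.hom) ≫ f.hom = (π₁ ≫ x) ≫ g.hom := by
    rw [hy, Category.assoc, Category.assoc]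
    exact congrArg (fun t => y ≫ t) (congrArg FilObj.Hom.hom sq.w)
  have hx1 : (M.fil p).Factors (π₁ ≫ x) := Subobject.factors_of_factors_right π₁ hx
  have hzK : (K.fil p).Factors ((π₁ ≫ x) ≫ g.hom) := hom_factors g p _ hx1
  obtain ⟨T₂, π₂, hπ₂, w, hw1, hw2⟩ := hf p T₁ ((π₁ ≫ x) ≫ g.hom) hzK
    ⟨T₁, 𝟙 _, inferInstance, y ≫ g'.hom, by rw [Category.id_comp, hz]⟩
  -- lift `(w, π₂ ≫ π₁ ≫ x)` to `P`
  have hx2 : (M.fil p).Factors (π₂ ≫ π₁ ≫ x) := Subobject.factors_of_factors_right π₂ hx1
  obtain ⟨y', hy'1, hy'2, hy'3⟩ := exists_lift f g sq p w (π₂ ≫ π₁ ≫ x) hw1 hx2 (by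
    rw [← hw2]; simp only [Category.assoc])
  exact ⟨T₂, π₂ ≫ π₁, inferInstance, y', hy'1, by rw [hy'3, Category.assoc]⟩

end Groth.Agent.Lib.helper7.FilObjPullback
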