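import Groth.Agent.Lib.Helper7.FilObjPullback
import Mathlib.CategoryTheory.Abelian.CommSq

/-!
# Pushouts of filtered objects (helper7)
-/

set_option autoImplicit false
universe v u

open CategoryTheory CategoryTheory.Limits

namespace Groth.Agent.Lib.helper7.FilObjPushout

open SpSeq Groth.Agent.Lib.helper7.FilObjElem Groth.Agent.Lib.helper7.FilObjPullback

variable {A : Type u} [Category.{v} A] [Abelian A]

/-- Exactness of a pushout square in an abelian category, elementwise. -/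
theorem exists_of_isPushout {X₁ X₂ X₃ X₄ : A} {f : X₁ ⟶ X₂} {g : X₁ ⟶ X₃} {g' : X₂ ⟶ X₄} {f' : X₃ ⟶ X₄}
    (sq : IsPushout f g g' f') {T : A} (l : T ⟶ X₂) (m : T ⟶ X₃) (h : l ≫ g' = m ≫ f') :
    ∃ (T' : A) (π : T' ⟶ T) (_ : Epi π) (k : T' ⟶ X₁), π ≫ l = k ≫ f ∧ π ≫ m = k ≫ g := by
  obtain ⟨T', π, hπ, (k : T' ⟶ X₁), hk⟩ := sq.exact_shortComplex.exact_up_to_refinements
    (biprod.lift l (-m)) (by
      change biprod.lift l (-m) ≫ biprod.desc g' f' = 0
      rw [biprod.lift_desc, Preadditive.neg_comp, h, add_neg_cancel])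
  replace hk : π ≫ biprod.lift l (-m) = k ≫ biprod.lift f (-g) := hk
  refine ⟨T', π, hπ, k, ?_, ?_⟩
  · have := congrArg (fun t => t ≫ biprod.fst) hk
    simp only [Category.assoc, biprod.lift_fst] at this
    exact this
  · have := congrArg (fun t => t ≫ biprod.snd) hk
    simp only [Category.assoc, biprod.lift_snd] at this
    rw [Preadditive.comp_neg, Preadditive.comp_neg, neg_inj] at this
    exact this


section Im

variable (L M : FilObj A) {X : A} (a : L.obj ⟶ X) (b : M.obj ⟶ X)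

/-- The image filtration `a(F^p L) + b(F^p M)`. -/
noncomputable def imFil (p : ℤ) : Subobject X :=
  imageSubobject (biprod.desc ((L.fil p).arrow ≫ a) ((M.fil p).arrow ≫ b))

theorem imFil_factors_iff (p : ℤ) {T : A} (x : T ⟶ X) :
    (imFil L M a b p).Factors x ↔
      ∃ (T' : A) (π : T' ⟶ T) (_ : Epi π) (l : T' ⟶ L.obj) (m : T' ⟶ M.obj),
        (L.fil p).Factors l ∧ (M.fil p).Factors m ∧ π ≫ x = l ≫ a + m ≫ b := by
  unfold imFil
  rw [imageSubobject_factors_iff]
  constructor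
  · rintro ⟨T', π, hπ, y, hy⟩
    refine ⟨T', π, hπ, (y ≫ biprod.fst) ≫ (L.fil p).arrow, (y ≫ biprod.snd) ≫ (M.fil p).arrow,
      Subobject.factors_comp_arrow _, Subobject.factors_comp_arrow _, ?_⟩
    rw [hy, biprod.desc_eq, Preadditive.comp_add]
    simp only [Category.assoc]
  · rintro ⟨T', π, hπ, l, m, hl, hm, h⟩
    refine ⟨T', π, hπ, biprod.lift ((L.fil p).factorThru l hl) ((M.fil p).factorThru m hm), ?_⟩
    rw [h, biprod.lift_desc, ← Category.assoc, ← Category.assoc, Subobject.factorThru_arrow,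
      Subobject.factorThru_arrow]

/-- The object `X` with the image filtration. -/
noncomputable abbrev imObj : FilObj A where
  obj := X
  fil := imFil L M a b
  anti := fun p q h => by
    rw [le_iff_factors]
    intro T x hx
    rw [imFil_factors_iff] at hx ⊢
    obtain ⟨T', π, hπ, l, m, hl, hm, e⟩ := hx
    exact ⟨T', π, hπ, l, m, Subobject.factors_of_le l (L.anti h) hl,
      Subobject.factors_of_le m (M.anti h) hm, e⟩

theorem imObj_factors_iff (p : ℤ) {T : A} (x : T ⟶ X) :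
    ((imObj L M a b).fil p).Factors x ↔
      ∃ (T' : A) (π : T' ⟶ T) (_ : Epi π) (l : T' ⟶ L.obj) (m : T' ⟶ M.obj),
        (L.fil p).Factors l ∧ (M.fil p).Factors m ∧ π ≫ x = l ≫ a + m ≫ b :=
  imFil_factors_iff L M a b p x

noncomputable def imInl : L ⟶ imObj L M a b :=
  homMk a fun p T x hx => (imObj_factors_iff L M a b p _).mpr
    ⟨T, 𝟙 T, inferInstance, x, 0, hx, Subobject.factors_zero, by
      rw [Category.id_comp, zero_comp, add_zero]⟩

noncomputable def imInr : M ⟶ imObj L M a b :=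
  homMk b fun p T x hx => (imObj_factors_iff L M a b p _).mpr
    ⟨T, 𝟙 T, inferInstance, 0, x, Subobject.factors_zero, hx, by
      rw [Category.id_comp, zero_comp, zero_add]⟩

/-- Maps out of the image filtration. -/
noncomputable def imDesc {N : FilObj A} (h : X ⟶ N.obj) (α : L ⟶ N) (β : M ⟶ N)
    (hα : α.hom = a ≫ h) (hβ : β.hom = b ≫ h) : imObj L M a b ⟶ N :=
  homMk h fun p T x hx => by
    obtain ⟨T', π, hπ, l, m, hl, hm, e⟩ := (imObj_factors_iff L M a b p _).mp hx
    apply factors_of_epi_comp _ π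
    have e' : π ≫ x ≫ h = l ≫ α.hom + m ≫ β.hom := by
      rw [hα, hβ, ← Category.assoc, e, Preadditive.add_comp, Category.assoc, Category.assoc]
    rw [e']
    exact Subobject.factors_add _ _ (hom_factors α p l hl) (hom_factors β p m hm)

end Im

variable {K L M : FilObj A} (f : K ⟶ L) (g : K ⟶ M)

/-- The pushout of filtered objects. -/
noncomputable abbrev poObj : FilObj A :=
  imObj L M (pushout.inl f.hom g.hom) (pushout.inr f.hom g.hom)

theorem po_condition : f ≫ imInl L M (pushout.inl f.hom g.hom) (pushout.inr f.hom g.hom) =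
    g ≫ imInr L M (pushout.inl f.hom g.hom) (pushout.inr f.hom g.hom) :=
  FilObj.Hom.ext pushout.condition

noncomputable def poIsColimit : IsColimit (PushoutCocone.mk _ _ (po_condition f g)) :=
  PushoutCocone.IsColimit.mk (po_condition f g)
    (fun s => imDesc L M _ _ (pushout.desc s.inl.hom s.inr.hom
        (congrArg FilObj.Hom.hom s.condition)) s.inl s.inr
      (pushout.inl_desc _ _ _).symm (pushout.inr_desc _ _ _).symm)
    (fun s => FilObj.Hom.ext (pushout.inl_desc _ _ _))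
    (fun s => FilObj.Hom.ext (pushout.inr_desc _ _ _))
    (fun s m h1 h2 => FilObj.Hom.ext (by
      apply pushout.hom_ext
      · exact (congrArg FilObj.Hom.hom h1).trans (pushout.inl_desc _ _ _).symm
      · exact (congrArg FilObj.Hom.hom h2).trans (pushout.inr_desc _ _ _).symm))

theorem hasPushout : HasPushout f g :=
  ⟨⟨⟨_, poIsColimit f g⟩⟩⟩

/-- The codiscrete filtered object. -/
noncomputable abbrev trivObj (Z : A) : FilObj A where
  obj := Z
  fil _ := ⊤
  anti := fun _ _ _ => le_rfl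

noncomputable def trivHom {N : FilObj A} {Z : A} (h : N.obj ⟶ Z) : N ⟶ trivObj Z :=
  homMk h fun _ _ _ _ => Subobject.top_factors _

variable {f g}

/-- The underlying square of a pushout square of filtered objects is a pushout. -/
theorem isPushout_hom {P : FilObj A} {g' : L ⟶ P} {f' : M ⟶ P} (sq : IsPushout f g g' f') :
    IsPushout f.hom g.hom g'.hom f'.hom := by
  refine ⟨⟨congrArg FilObj.Hom.hom sq.w⟩, ⟨PushoutCocone.IsColimit.mk _
    (fun s => (sq.desc (trivHom s.inl) (trivHom s.inr) (FilObj.Hom.ext s.condition)).hom)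
    (fun s => congrArg FilObj.Hom.hom
      (sq.inl_desc (trivHom s.inl) (trivHom s.inr) (FilObj.Hom.ext s.condition)))
    (fun s => congrArg FilObj.Hom.hom
      (sq.inr_desc (trivHom s.inl) (trivHom s.inr) (FilObj.Hom.ext s.condition)))
    (fun s m h1 h2 => ?_)⟩⟩
  have : trivHom m = sq.desc (trivHom s.inl) (trivHom s.inr) (FilObj.Hom.ext s.condition) := by
    apply sq.hom_ext
    · rw [sq.inl_desc]; exact FilObj.Hom.ext h1
    · rw [sq.inr_desc]; exact FilObj.Hom.ext h2
  exact congrArg FilObj.Hom.hom this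

/-- In a pushout square of filtered objects, the filtration of the pushout is the image filtration. -/
theorem factors_imFil {P : FilObj A} {g' : L ⟶ P} {f' : M ⟶ P} (sq : IsPushout f g g' f')
    (p : ℤ) {T : A} (x : T ⟶ P.obj) (hx : (P.fil p).Factors x) :
    ∃ (T' : A) (π : T' ⟶ T) (_ : Epi π) (l : T' ⟶ L.obj) (m : T' ⟶ M.obj),
      (L.fil p).Factors l ∧ (M.fil p).Factors m ∧ π ≫ x = l ≫ g'.hom + m ≫ f'.hom := by
  have e0 : (f ≫ g').hom = (g ≫ f').hom := congrArg FilObj.Hom.hom sq.w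
  have w' : f ≫ imInl L M g'.hom f'.hom = g ≫ imInr L M g'.hom f'.hom :=
    FilObj.Hom.ext e0
  let φ : P ⟶ imObj L M g'.hom f'.hom := sq.desc _ _ w'
  let ψ : imObj L M g'.hom f'.hom ⟶ P := imDesc L M g'.hom f'.hom (𝟙 P.obj) g' f'
    (Category.comp_id _).symm (Category.comp_id _).symm
  have h1 : φ ≫ ψ = 𝟙 P := by
    apply sq.hom_ext
    · rw [← Category.assoc, sq.inl_desc, Category.comp_id]
      exact FilObj.Hom.ext (Category.comp_id _)
    · rw [← Category.assoc, sq.inr_desc, Category.comp_id]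
      exact FilObj.Hom.ext (Category.comp_id _)
  have h2 : φ.hom = 𝟙 P.obj := by
    have := congrArg FilObj.Hom.hom h1
    change φ.hom ≫ 𝟙 P.obj = 𝟙 P.obj at this
    rwa [Category.comp_id] at this
  have h3 := hom_factors φ p x hx
  rw [h2] at h3
  have h4 : ((imObj L M g'.hom f'.hom).fil p).Factors x := by
    have e : x ≫ 𝟙 P.obj = x := Category.comp_id x
    rwa [e] at h3
  exact (imObj_factors_iff L M g'.hom f'.hom p x).mp h4

/-- Cobase change of a strict morphism is strict. -/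
theorem isStrict_inr {P : FilObj A} {g' : L ⟶ P} {f' : M ⟶ P} (sq : IsPushout f g g' f')
    (hf : FilObj.IsStrict f) : FilObj.IsStrict f' := by
  rw [isStrict_iff] at hf ⊢
  intro p T x hx ⟨T₁, π₁, hπ₁, y, hy⟩
  have hx1 : (P.fil p).Factors (π₁ ≫ x) := Subobject.factors_of_factors_right π₁ hx
  obtain ⟨T₂, π₂, hπ₂, l, m, hl, hm, e⟩ := factors_imFil sq p (π₁ ≫ x) hx1
  -- `l ≫ g' = (π₂ ≫ y - m) ≫ f'`
  have e1 : l ≫ g'.hom = (π₂ ≫ y - m) ≫ f'.hom := by
    rw [Preadditive.sub_comp, Category.assoc, ← hy, e, add_sub_cancel_right]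
  obtain ⟨T₃, π₃, hπ₃, k, hk1, _⟩ := exists_of_isPushout (isPushout_hom sq) l (π₂ ≫ y - m) e1
  obtain ⟨T₄, π₄, hπ₄, k', hk'1, hk'2⟩ := hf p T₃ (π₃ ≫ l)
    (Subobject.factors_of_factors_right π₃ hl) ⟨T₃, 𝟙 _, inferInstance, k, by
      rw [Category.id_comp, hk1]⟩
  refine ⟨T₄, π₄ ≫ π₃ ≫ π₂ ≫ π₁, inferInstance, k' ≫ g.hom + π₄ ≫ π₃ ≫ m,
    Subobject.factors_add _ _ (hom_factors g p k' hk'1)
      (Subobject.factors_of_factors_right _ (Subobject.factors_of_factors_right _ hm)), ?_⟩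
  have hw : f.hom ≫ g'.hom = g.hom ≫ f'.hom := congrArg FilObj.Hom.hom sq.w
  calc (π₄ ≫ π₃ ≫ π₂ ≫ π₁) ≫ x = π₄ ≫ π₃ ≫ (π₂ ≫ π₁ ≫ x) := by simp only [Category.assoc]
    _ = (π₄ ≫ π₃ ≫ l) ≫ g'.hom + (π₄ ≫ π₃ ≫ m) ≫ f'.hom := by
        rw [e, Preadditive.comp_add, Preadditive.comp_add]
        simp only [Category.assoc]
    _ = (k' ≫ g.hom + π₄ ≫ π₃ ≫ m) ≫ f'.hom := by
        rw [hk'2, Preadditive.add_comp]
        simp only [Category.assoc]
        rw [hw]

end Groth.Agent.Lib.helper7.FilObjPushout
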