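import Groth.Agent.Lib.Helper15.FittLink
import Groth.Agent.Lib.Helper16.CohFinite
import Groth.Agent.Lib.Helper16.CohStalk
import Groth.Prelude.Def_Fitting

/-!
# Fitting ideal sheaves of quasi-coherent modules of finite type (helper7)

* `sheafIdeal_ideal`: `(Fitt.sheafIdeal F r).ideal U = Fitt.ideal Γ(X,U) Γ(F,U) r`.
* `mem_support_iff`: `x ∈ (Fitt.sheafIdeal F r).support ↔ Fitt_r Γ(F,U) ≤ 𝔭_x`.
* `not_le_prime_iff` (algebra): `¬ Fitt_k M ≤ p ↔ M_p` is generated by `k` elements.
-/

set_option autoImplicit false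
set_option linter.style.haveILetI false
set_option linter.unusedSectionVars false
universe u
open CategoryTheory CategoryTheory.Limits AlgebraicGeometry TopologicalSpace Opposite
open Scheme.Modules

namespace Groth.Agent.Lib.helper7.FittSheaf

open Groth.Agent.Lib.helper16.CohFinite Groth.Agent.Lib.helper16.CohStalk
  Groth.Agent.Lib.helper15.FittLink

section Alg

variable {R : Type u} [CommRing R] {M : Type u} [AddCommGroup M] [Module R M] [Module.Finite R M]

/-- `Fitt_k M ⊄ p` iff `M_p` is generated by `k` elements -/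
theorem not_le_prime_iff (k : ℕ) (p : Ideal R) [p.IsPrime] :
    ¬ Fitt.ideal R M k ≤ p ↔
      ∃ g : Fin k → LocalizedModule p.primeCompl M,
        Submodule.span (Localization p.primeCompl) (Set.range g) = ⊤ := by
  constructor
  · intro h
    obtain ⟨d, hd, -, g, hg⟩ := exists_smul_mem_span_of_not_le k p h
    exact ⟨_, span_localizedModule_eq_top p.primeCompl g d hd hg⟩
  · rintro ⟨g, hg⟩ hle
    obtain ⟨s, hs, hs'⟩ := exists_mem_fitt_of_span_localizedModule p.primeCompl g hg
    exact hs (hle hs')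

/-- `Fitt_0 M ⊄ p` iff `M_p = 0` -/
theorem not_le_prime_zero_iff (p : Ideal R) [p.IsPrime] :
    ¬ Fitt.ideal R M 0 ≤ p ↔ Subsingleton (LocalizedModule p.primeCompl M) := by
  rw [not_le_prime_iff]
  constructor
  · rintro ⟨g, hg⟩
    have : (⊤ : Submodule (Localization p.primeCompl) (LocalizedModule p.primeCompl M)) = ⊥ := by
      rw [← hg, Set.range_eq_empty, Submodule.span_empty]
    refine ⟨fun a b => ?_⟩
    have ha : a ∈ (⊤ : Submodule (Localization p.primeCompl) (LocalizedModule p.primeCompl M)) :=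
      trivial
    have hb : b ∈ (⊤ : Submodule (Localization p.primeCompl) (LocalizedModule p.primeCompl M)) :=
      trivial
    rw [this, Submodule.mem_bot] at ha hb
    rw [ha, hb]
  · intro h
    exact ⟨Fin.elim0, Subsingleton.elim _ _⟩

/-- `Fitt_k M ⊄ p` iff after inverting some `d ∉ p`, `M` is generated by `k` elements -/
theorem not_le_prime_iff' (k : ℕ) (p : Ideal R) [p.IsPrime] :
    ¬ Fitt.ideal R M k ≤ p ↔
      ∃ d : R, d ∉ p ∧ ∃ g : Fin k → M, ∀ m : M, d • m ∈ Submodule.span R (Set.range g) := by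
  constructor
  · intro h
    obtain ⟨d, hd, -, g, hg⟩ := exists_smul_mem_span_of_not_le k p h
    exact ⟨d, hd, g, hg⟩
  · rintro ⟨d, hd, g, hg⟩
    rw [not_le_prime_iff]
    exact ⟨_, span_localizedModule_eq_top p.primeCompl g d hd hg⟩

/-- `Fitt_0 M ⊄ p` iff every element of `M` is killed by some element outside `p` -/
theorem not_le_prime_zero_iff' (p : Ideal R) [p.IsPrime] :
    ¬ Fitt.ideal R M 0 ≤ p ↔ ∀ m : M, ∃ d ∈ p.primeCompl, d • m = 0 := by
  rw [not_le_prime_zero_iff]
  exact IsLocalizedModule.subsingleton_iff p.primeCompl (LocalizedModule.mkLinearMap p.primeCompl M)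

end Alg

section Sheaf

variable {X : Scheme.{u}} (F : X.Modules) [F.IsQuasicoherent]
  (hft : SheafOfModules.IsFiniteType (R := X.ringCatSheaf) F)

include hft in
theorem fitt_map_basicOpen (U : X.affineOpens) (f : Γ(X, U)) (r : ℕ) :
    (Fitt.ideal Γ(X, U.1) Γ(F, U.1) r).map (X.presheaf.map (homOfLE <| X.basicOpen_le f).op).hom =
      Fitt.ideal Γ(X, X.basicOpen f) Γ(F, X.basicOpen f) r := by
  have h : X.basicOpen f ≤ U.1 := X.basicOpen_le f
  letI := algOfLE (X := X) h
  letI := modOfLE F h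
  haveI := isScalarTower_ofLE F h
  haveI : Module.Finite Γ(X, U.1) Γ(F, U.1) := finite_sections_of_isFiniteType F hft U.2
  haveI : IsLocalization.Away f Γ(X, X.basicOpen f) :=
    U.2.isLocalization_of_eq_basicOpen f (homOfLE h) rfl
  haveI := isLocalizedModule_of_eq_basicOpen F U.2 f h rfl
  exact (fitt_of_isBaseChange (resLin F h)
    (IsLocalizedModule.isBaseChange (Submonoid.powers f) Γ(X, X.basicOpen f) (resLin F h)) r).symm

/-- the Fitting ideals as an ideal sheaf -/
noncomputable def fittData (r : ℕ) : X.IdealSheafData where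
  ideal U := Fitt.ideal Γ(X, U.1) Γ(F, U.1) r
  map_ideal_basicOpen U f := fitt_map_basicOpen F hft U f r

theorem sheafIdeal_eq (r : ℕ) : Fitt.sheafIdeal F r = fittData F hft r :=
  Scheme.IdealSheafData.ofIdeals_ideal (fittData F hft r)

include hft in
theorem sheafIdeal_ideal (r : ℕ) (U : X.affineOpens) :
    (Fitt.sheafIdeal F r).ideal U = Fitt.ideal Γ(X, U.1) Γ(F, U.1) r := by
  rw [sheafIdeal_eq F hft r]; rfl

theorem mem_basicOpen_iff {U : X.Opens} (hU : IsAffineOpen U) (x : U)
    (f : Γ(X, U)) : (x : X) ∈ X.basicOpen f ↔ f ∉ (hU.primeIdealOf x).asIdeal := by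
  have h1 := hU.fromSpec_preimage_basicOpen f
  have h2 := hU.fromSpec_primeIdealOf x
  rw [← h2]
  change hU.primeIdealOf x ∈ hU.fromSpec ⁻¹ᵁ X.basicOpen f ↔ _
  rw [h1]
  rfl

include hft in
theorem mem_support_iff (r : ℕ) {U : X.Opens} (hU : IsAffineOpen U) (x : X) (hx : x ∈ U) :
    x ∈ (Fitt.sheafIdeal F r).support ↔
      Fitt.ideal Γ(X, U) Γ(F, U) r ≤ (hU.primeIdealOf ⟨x, hx⟩).asIdeal := by
  rw [Scheme.IdealSheafData.mem_support_iff_of_mem (U := ⟨U, hU⟩) hx, sheafIdeal_ideal F hft,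
    Scheme.mem_zeroLocus_iff]
  constructor
  · intro h f hf
    by_contra hcon
    exact h f hf ((mem_basicOpen_iff hU ⟨x, hx⟩ f).mpr hcon)
  · intro h f hf hxf
    exact (mem_basicOpen_iff hU ⟨x, hx⟩ f).mp hxf (h hf)

include hft in
/-- the closed set of `Fit_0 F` is the support of `F` -/
theorem mem_support_zero_iff (x : X) :
    x ∈ (Fitt.sheafIdeal F 0).support ↔ ¬ Subsingleton (F.presheaf.stalk x) := by
  obtain ⟨_, ⟨U, hU : IsAffineOpen U, rfl⟩, hxU, -⟩ :=
    X.isBasis_affineOpens.exists_subset_of_mem_open (Set.mem_univ x) isOpen_univ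
  haveI : Module.Finite Γ(X, U) Γ(F, U) := finite_sections_of_isFiniteType F hft hU
  rw [mem_support_iff F hft 0 hU x hxU, ← not_iff_not, not_not, not_le_prime_zero_iff']
  letI := modStalk F x hxU
  haveI hloc := isLocalizedModule_stalk F hU x hxU
  exact (IsLocalizedModule.subsingleton_iff _ (germLin F x hxU)).symm

include hft in
/-- the closed sets of the `Fit_r F` have empty intersection -/
theorem exists_notMem_support (x : X) : ∃ r : ℕ, x ∉ (Fitt.sheafIdeal F r).support := by
  obtain ⟨_, ⟨U, hU : IsAffineOpen U, rfl⟩, hxU, -⟩ :=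
    X.isBasis_affineOpens.exists_subset_of_mem_open (Set.mem_univ x) isOpen_univ
  haveI : Module.Finite Γ(X, U) Γ(F, U) := finite_sections_of_isFiniteType F hft hU
  obtain ⟨n, g, hg⟩ := Module.Finite.exists_fin (R := Γ(X, U)) (M := Γ(F, U))
  refine ⟨n, ?_⟩
  rw [mem_support_iff F hft n hU x hxU, fitt_eq_top_of_span g hg le_rfl]
  intro h
  exact (hU.primeIdealOf ⟨x, hxU⟩).isPrime.ne_top (top_le_iff.mp h)

end Sheaf

end Groth.Agent.Lib.helper7.FittSheaf
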