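import Mathlib.RingTheory.Flat.Basic
import Mathlib.RingTheory.Ideal.Quotient.Operations
import Mathlib.LinearAlgebra.TensorProduct.Quotient
import Mathlib.RingTheory.Ideal.Maps
import Mathlib.LinearAlgebra.TensorProduct.RightExactness

/-!
# Flat formal glueing: the torsion base change lemma

`R → S` flat, `I ⊆ R` an ideal with `R/I ≅ S/IS`.  Then `M → S ⊗_R M` is bijective for every
`I`-power torsion module `M`.
-/

set_option autoImplicit false
universe u v

open TensorProduct

namespace Groth.Agent.Lib.helper7.FormalGlue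

variable {R : Type u} {S : Type u} [CommRing R] [CommRing S] [Algebra R S]

/-- elements of `IS` kill `S ⊗ M` when `I` kills `M`. -/
lemma map_tmul_eq_zero (I : Ideal R) {M : Type v} [AddCommGroup M] [Module R M]
    (hM : ∀ a ∈ I, ∀ m : M, a • m = 0) {z : S} (hz : z ∈ I.map (algebraMap R S)) (m : M) :
    z ⊗ₜ[R] m = 0 := by
  unfold Ideal.map at hz
  induction hz using Submodule.span_induction with
  | mem x hx =>
    obtain ⟨a, ha, rfl⟩ := hx
    rw [Algebra.algebraMap_eq_smul_one, TensorProduct.smul_tmul, hM a ha, tmul_zero]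
  | zero => exact zero_tmul _ _
  | add x y _ _ hx hy => rw [add_tmul, hx, hy, add_zero]
  | smul s x _ hx =>
    have : (s • x) ⊗ₜ[R] m = s • (x ⊗ₜ[R] m) := by
      rw [TensorProduct.smul_tmul']
    rw [this, hx, smul_zero]

/-- The `R`-linear retraction `S → S/IS ≅ R/I`. -/
noncomputable def retr (I : Ideal R)
    (hq : Function.Bijective (Ideal.quotientMap (I.map (algebraMap R S)) (algebraMap R S)
      Ideal.le_comap_map)) : S →ₗ[R] R ⧸ I where
  toFun s := (RingEquiv.ofBijective _ hq).symm (Ideal.Quotient.mk _ s)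
  map_add' x y := by simp
  map_smul' r s := by
    apply (RingEquiv.ofBijective _ hq).injective
    rw [RingEquiv.apply_symm_apply, RingHom.id_apply, Algebra.smul_def, map_mul,
      Algebra.smul_def, map_mul, RingEquiv.apply_symm_apply]
    rfl

lemma retr_one (I : Ideal R)
    (hq : Function.Bijective (Ideal.quotientMap (I.map (algebraMap R S)) (algebraMap R S)
      Ideal.le_comap_map)) : retr I hq 1 = 1 := by
  change (RingEquiv.ofBijective _ hq).symm (Ideal.Quotient.mk _ 1) = 1
  rw [map_one, map_one]

/-- multiplication map `R/I ⊗ M → M` when `I` kills `M`. -/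
noncomputable def mulQ (I : Ideal R) (M : Type v) [AddCommGroup M] [Module R M]
    (hM : ∀ a ∈ I, ∀ m : M, a • m = 0) : (R ⧸ I) ⊗[R] M →ₗ[R] M :=
  TensorProduct.lift (Submodule.liftQ I (LinearMap.lsmul R M) (by
    intro a ha
    rw [LinearMap.mem_ker]
    ext m
    simpa using hM a ha m))

lemma mulQ_one_tmul (I : Ideal R) (M : Type v) [AddCommGroup M] [Module R M]
    (hM : ∀ a ∈ I, ∀ m : M, a • m = 0) (m : M) : mulQ I M hM ((1 : R ⧸ I) ⊗ₜ[R] m) = m := by
  have h1 : (1 : R ⧸ I) = Submodule.Quotient.mk (1 : R) := rfl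
  rw [mulQ, h1, TensorProduct.lift.tmul, Submodule.liftQ_apply, LinearMap.lsmul_apply, one_smul]

/-- Step 1: modules killed by `I`. -/
theorem mk_bijective_of_killed (I : Ideal R)
    (hq : Function.Bijective (Ideal.quotientMap (I.map (algebraMap R S)) (algebraMap R S)
      Ideal.le_comap_map)) (M : Type v) [AddCommGroup M] [Module R M]
    (hM : ∀ a ∈ I, ∀ m : M, a • m = 0) : Function.Bijective (TensorProduct.mk R S M 1) := by
  constructor
  · intro m m' h
    have := congrArg (fun z => mulQ I M hM ((retr I hq).rTensor M z)) h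
    simpa [retr_one, mulQ_one_tmul] using this
  · intro z
    induction z using TensorProduct.induction_on with
    | zero => exact ⟨0, map_zero _⟩
    | tmul s m =>
      obtain ⟨q, hq'⟩ := hq.2 (Ideal.Quotient.mk _ s)
      obtain ⟨r, rfl⟩ := Ideal.Quotient.mk_surjective q
      rw [Ideal.quotientMap_mk, Ideal.Quotient.eq] at hq'
      refine ⟨r • m, ?_⟩
      have h0 := map_tmul_eq_zero (S := S) I hM hq' m
      rw [sub_tmul, sub_eq_zero] at h0
      rw [TensorProduct.mk_apply, ← TensorProduct.smul_tmul, ← Algebra.algebraMap_eq_smul_one, h0]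
    | add x y hx hy =>
      obtain ⟨a, rfl⟩ := hx
      obtain ⟨b, rfl⟩ := hy
      exact ⟨a + b, map_add _ _ _⟩

/-- Step 2: modules killed by `I ^ n`. -/
theorem mk_bijective_of_killed_pow [Module.Flat R S] (I : Ideal R)
    (hq : Function.Bijective (Ideal.quotientMap (I.map (algebraMap R S)) (algebraMap R S)
      Ideal.le_comap_map)) (n : ℕ) : ∀ (M : Type v) [AddCommGroup M] [Module R M]
    (_ : ∀ a ∈ I ^ n, ∀ m : M, a • m = 0), Function.Bijective (TensorProduct.mk R S M 1) := by
  induction n with
  | zero =>
    intro M _ _ hM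
    have h0 : ∀ m : M, m = 0 := fun m => by
      simpa using hM 1 (by simp) m
    constructor
    · intro a b _
      rw [h0 a, h0 b]
    · intro z
      refine ⟨0, ?_⟩
      induction z using TensorProduct.induction_on with
      | zero => simp
      | tmul s m => rw [h0 m, tmul_zero, map_zero]
      | add x y hx hy => rw [← hx, ← hy, map_zero, add_zero]
  | succ n ih =>
    intro M _ _ hM
    obtain ⟨M', hM'def⟩ : ∃ M' : Submodule R M, M' = (I ^ n) • (⊤ : Submodule R M) := ⟨_, rfl⟩
    have hk' : ∀ a ∈ I, ∀ x : M', a • x = 0 := by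
      intro a ha x
      apply Subtype.ext
      rw [Submodule.coe_smul, Submodule.coe_zero]
      have hx : (x : M) ∈ (I ^ n) • (⊤ : Submodule R M) := hM'def ▸ x.2
      refine Submodule.smul_induction_on hx ?_ ?_
      · intro b hb y _
        rw [smul_smul]
        exact hM _ (by rw [pow_succ']; exact Ideal.mul_mem_mul ha hb) y
      · intro y z hy hz
        rw [smul_add, hy, hz, add_zero]
    have hk'' : ∀ a ∈ I ^ n, ∀ x : M ⧸ M', a • x = 0 := by
      intro a ha x
      obtain ⟨y, rfl⟩ := Submodule.Quotient.mk_surjective _ x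
      rw [← Submodule.Quotient.mk_smul, Submodule.Quotient.mk_eq_zero, hM'def]
      exact Submodule.smul_mem_smul ha trivial
    have b' := mk_bijective_of_killed (S := S) I hq M' hk'
    have b'' := ih (M ⧸ M') hk''
    have hex : Function.Exact (M'.subtype.lTensor S) (M'.mkQ.lTensor S) :=
      lTensor_exact S (LinearMap.exact_subtype_mkQ M') (Submodule.mkQ_surjective M')
    have hinj : Function.Injective (M'.subtype.lTensor S) :=
      Module.Flat.lTensor_preserves_injective_linearMap _ (Submodule.subtype_injective M')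
    constructor
    · rw [injective_iff_map_eq_zero]
      intro m hm
      have h1 : TensorProduct.mk R S (M ⧸ M') 1 (M'.mkQ m) = 0 := by
        have := congrArg (M'.mkQ.lTensor S) hm
        simpa using this
      have h2 : M'.mkQ m = 0 := by
        apply b''.1
        rw [h1, map_zero]
      rw [Submodule.mkQ_apply, Submodule.Quotient.mk_eq_zero] at h2
      have h3 : TensorProduct.mk R S M' 1 ⟨m, h2⟩ = 0 := by
        apply hinj
        rw [map_zero]
        simpa using hm
      have h4 : (⟨m, h2⟩ : M') = 0 := by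
        apply b'.1
        rw [h3, map_zero]
      simpa using congrArg Subtype.val h4
    · intro z
      obtain ⟨y'', hy''⟩ := b''.2 (M'.mkQ.lTensor S z)
      obtain ⟨y, rfl⟩ := Submodule.mkQ_surjective M' y''
      have h1 : M'.mkQ.lTensor S (z - TensorProduct.mk R S M 1 y) = 0 := by
        rw [map_sub, ← hy'']
        simp
      obtain ⟨w, hw⟩ := (hex _).1 h1
      obtain ⟨x, rfl⟩ := b'.2 w
      refine ⟨y + (x : M), ?_⟩
      rw [map_add, eq_comm, ← sub_eq_iff_eq_add', ← hw]
      simp

/-- the submodule of elements killed by `I ^ n`. -/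
def torsPow (I : Ideal R) (M : Type v) [AddCommGroup M] [Module R M] (n : ℕ) : Submodule R M where
  carrier := {m | ∀ a ∈ I ^ n, a • m = 0}
  add_mem' := fun {x y} hx hy a ha => by rw [smul_add, hx a ha, hy a ha, add_zero]
  zero_mem' := fun a _ => smul_zero a
  smul_mem' := fun c x hx a ha => by rw [smul_comm, hx a ha, smul_zero]

/-- **Claim T**: `M → S ⊗ M` is bijective for `I`-power torsion `M`. -/
theorem mk_bijective_of_tors [Module.Flat R S] (I : Ideal R)
    (hq : Function.Bijective (Ideal.quotientMap (I.map (algebraMap R S)) (algebraMap R S)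
      Ideal.le_comap_map)) (M : Type v) [AddCommGroup M] [Module R M]
    (hM : ∀ m : M, ∃ n : ℕ, ∀ a ∈ I ^ n, a • m = 0) :
    Function.Bijective (TensorProduct.mk R S M 1) := by
  have hb : ∀ n, Function.Bijective (TensorProduct.mk R S (torsPow I M n) 1) := fun n =>
    mk_bijective_of_killed_pow I hq n _ (fun a ha x => Subtype.ext (x.2 a ha))
  have hinj : ∀ n, Function.Injective ((torsPow I M n).subtype.lTensor S) := fun n =>
    Module.Flat.lTensor_preserves_injective_linearMap _ (Submodule.subtype_injective _)
  constructor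
  · rw [injective_iff_map_eq_zero]
    intro m hm
    obtain ⟨n, hn⟩ := hM m
    have h3 : TensorProduct.mk R S (torsPow I M n) 1 ⟨m, hn⟩ = 0 := by
      apply hinj n
      rw [map_zero]
      simpa using hm
    have h4 : (⟨m, hn⟩ : torsPow I M n) = 0 := by
      apply (hb n).1
      rw [h3, map_zero]
    simpa using congrArg Subtype.val h4
  · intro z
    induction z using TensorProduct.induction_on with
    | zero => exact ⟨0, map_zero _⟩
    | tmul s m =>
      obtain ⟨n, hn⟩ := hM m
      obtain ⟨x, hx⟩ := (hb n).2 (s ⊗ₜ[R] (⟨m, hn⟩ : torsPow I M n))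
      refine ⟨(x : M), ?_⟩
      have := congrArg ((torsPow I M n).subtype.lTensor S) hx
      simpa using this
    | add x y hx hy =>
      obtain ⟨a, rfl⟩ := hx
      obtain ⟨b, rfl⟩ := hy
      exact ⟨a + b, map_add _ _ _⟩

end Groth.Agent.Lib.helper7.FormalGlue
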