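import Groth.Agent.Lib.Helper7.FormalGlue
import Mathlib.RingTheory.Finiteness.Ideal
import Mathlib.LinearAlgebra.TensorProduct.Pi
import Mathlib.Algebra.Module.LocalizedModule.Basic

/-!
# Flat formal glueing: the glueing complex (core algebra)
-/

set_option autoImplicit false
universe u v

open TensorProduct

namespace Groth.Agent.Lib.helper7.FormalGlue

variable {R : Type u} {S : Type u} [CommRing R] [CommRing S] [Algebra R S]

/-- an element killed by powers of generators of `I` is `I`-power torsion. -/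
theorem tors_of_pow_smul {t : ℕ} (f : Fin t → R) (I : Ideal R) (hI : Ideal.span (Set.range f) = I)
    {M : Type v} [AddCommGroup M] [Module R M] (q : M) (h : ∀ i, ∃ k : ℕ, f i ^ k • q = 0) :
    ∃ n : ℕ, ∀ a ∈ I ^ n, a • q = 0 := by
  obtain ⟨A, hA⟩ : ∃ A : Ideal R, A = LinearMap.ker (LinearMap.toSpanSingleton R M q) := ⟨_, rfl⟩
  have hmem : ∀ a, a ∈ A ↔ a • q = 0 := by
    intro a
    rw [hA, LinearMap.mem_ker, LinearMap.toSpanSingleton_apply]
  have hle : I ≤ A.radical := by
    rw [← hI, Ideal.span_le]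
    rintro _ ⟨i, rfl⟩
    obtain ⟨k, hk⟩ := h i
    exact ⟨k, (hmem _).2 hk⟩
  have hfg : I.FG := by
    rw [← hI]
    exact Submodule.fg_span (Set.finite_range f)
  obtain ⟨n, hn⟩ := Ideal.exists_pow_le_of_le_radical_of_fg hle hfg
  exact ⟨n, fun a ha => (hmem a).1 (hn ha)⟩

section D

variable {t : ℕ} (f : Fin t → R) (k : ℕ) (M : Type v) [AddCommGroup M] [Module R M]

/-- the difference map. -/
def δ : (Fin t → M) →ₗ[R] (Fin t × Fin t → M) :=
  LinearMap.pi fun p => (f p.2 ^ k) • LinearMap.proj p.1 - (f p.1 ^ k) • LinearMap.proj p.2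

/-- compatible tuples. -/
def D : Submodule R (Fin t → M) := LinearMap.ker (δ f k M)

variable {f k M}

lemma mem_D {d : Fin t → M} : d ∈ D f k M ↔ ∀ i j, f j ^ k • d i = f i ^ k • d j := by
  unfold D δ
  rw [LinearMap.mem_ker]
  constructor
  · intro h i j
    have := congrFun h (i, j)
    simpa [sub_eq_zero] using this
  · intro h
    funext p
    simpa [sub_eq_zero] using h p.1 p.2

variable (f k M)

/-- `μ ↦ (f_i^k μ)_i`. -/
def ν : M →ₗ[R] D f k M :=
  LinearMap.codRestrict (D f k M) (LinearMap.pi fun i => (f i ^ k) • LinearMap.id) (by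
    intro μ
    rw [mem_D]
    intro i j
    simp only [LinearMap.pi_apply, LinearMap.smul_apply, LinearMap.id_apply]
    rw [smul_smul, smul_smul, mul_comm])

variable {f k M}

@[simp] lemma ν_apply (μ : M) (i : Fin t) : ((ν f k M μ : D f k M) : Fin t → M) i = f i ^ k • μ := rfl

lemma smul_mkQ_eq_zero (j : Fin t) (x : D f k M ⧸ LinearMap.range (ν f k M)) : f j ^ k • x = 0 := by
  obtain ⟨d, rfl⟩ := Submodule.Quotient.mk_surjective _ x
  rw [← Submodule.Quotient.mk_smul, Submodule.Quotient.mk_eq_zero]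
  refine ⟨(d : Fin t → M) j, ?_⟩
  apply Subtype.ext
  funext i
  rw [ν_apply, Submodule.coe_smul, Pi.smul_apply]
  exact (mem_D.1 d.2 i j).symm

lemma smul_ker_ν (j : Fin t) (x : LinearMap.ker (ν f k M)) : f j ^ k • x = 0 := by
  apply Subtype.ext
  have h1 : ν f k M (x : M) = 0 := x.2
  have h2 : ((ν f k M (x : M) : D f k M) : Fin t → M) j = 0 := by rw [h1]; rfl
  rw [ν_apply] at h2
  rw [Submodule.coe_smul, Submodule.coe_zero]
  exact h2

end D

/-- Core of the glueing complex: exact version. -/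
theorem glue_core [Module.Flat R S] {t : ℕ} (f : Fin t → R) (I : Ideal R)
    (hI : Ideal.span (Set.range f) = I)
    (hq : Function.Bijective (Ideal.quotientMap (I.map (algebraMap R S)) (algebraMap R S)
      Ideal.le_comap_map)) (M : Type u) [AddCommGroup M] [Module R M]
    (x : S ⊗[R] M) (N : ℕ) (m : Fin t → M)
    (ha : ∀ i, f i ^ N • x = (1 : S) ⊗ₜ[R] m i)
    (hb : ∀ i j, f j ^ N • m i = f i ^ N • m j) :
    ∃ μ : M, (1 : S) ⊗ₜ[R] μ = x ∧ ∀ i, f i ^ N • μ = m i := by
  classical
  obtain ⟨d, hd⟩ : ∃ d : D f N M, (d : Fin t → M) = m := ⟨⟨m, mem_D.2 hb⟩, rfl⟩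
  -- step 1
  have hsub : Function.Injective ((D f N M).subtype.lTensor S) :=
    Module.Flat.lTensor_preserves_injective_linearMap _ (Submodule.subtype_injective _)
  have h1 : (ν f N M).lTensor S x = (1 : S) ⊗ₜ[R] d := by
    apply hsub
    apply (TensorProduct.piRight R R S (fun _ : Fin t => M)).injective
    rw [LinearMap.lTensor_tmul, Submodule.subtype_apply, hd, TensorProduct.piRight_apply,
      TensorProduct.piRight_apply, TensorProduct.piRightHom_tmul]
    have : ∀ z : S ⊗[R] M, TensorProduct.piRightHom R R S (fun _ : Fin t => M)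
        ((D f N M).subtype.lTensor S ((ν f N M).lTensor S z)) = fun i => f i ^ N • z := by
      intro z
      induction z using TensorProduct.induction_on with
      | zero =>
        simp only [map_zero, smul_zero]
        rfl
      | tmul s μ =>
        rw [LinearMap.lTensor_tmul, LinearMap.lTensor_tmul, TensorProduct.piRightHom_tmul]
        funext i
        rw [Submodule.subtype_apply, ν_apply, TensorProduct.tmul_smul]
      | add a b ha hb =>
        rw [map_add, map_add, map_add, ha, hb]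
        funext i
        simp
    rw [this]
    funext i
    exact ha i
  -- step 2
  obtain ⟨P, hP⟩ : ∃ P : Submodule R (D f N M), P = LinearMap.range (ν f N M) := ⟨_, rfl⟩
  have hX : ∀ y : D f N M ⧸ P, ∃ n : ℕ, ∀ a ∈ I ^ n, a • y = 0 := by
    intro y
    apply tors_of_pow_smul f I hI
    intro i
    subst hP
    exact ⟨N, smul_mkQ_eq_zero i y⟩
  have hXb := mk_bijective_of_tors (S := S) I hq (D f N M ⧸ P) hX
  have h2 : P.mkQ d = 0 := by
    apply hXb.1
    rw [map_zero, TensorProduct.mk_apply]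
    have := congrArg (P.mkQ.lTensor S) h1
    rw [LinearMap.lTensor_tmul] at this
    rw [← this, ← LinearMap.comp_apply, ← LinearMap.lTensor_comp]
    have hz : P.mkQ ∘ₗ ν f N M = 0 := by
      ext μ
      rw [LinearMap.comp_apply, Submodule.mkQ_apply, LinearMap.zero_apply,
        Submodule.Quotient.mk_eq_zero, hP]
      exact ⟨μ, rfl⟩
    rw [hz, LinearMap.lTensor_zero, LinearMap.zero_apply]
  rw [Submodule.mkQ_apply, Submodule.Quotient.mk_eq_zero, hP] at h2
  obtain ⟨μ₁, hμ₁⟩ := h2
  -- step 3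
  have h3 : (ν f N M).lTensor S (x - (1 : S) ⊗ₜ[R] μ₁) = 0 := by
    rw [map_sub, h1, LinearMap.lTensor_tmul, hμ₁, sub_self]
  have hex : Function.Exact ((LinearMap.ker (ν f N M)).subtype.lTensor S) ((ν f N M).lTensor S) :=
    Module.Flat.lTensor_exact S (LinearMap.exact_subtype_ker_map (ν f N M))
  obtain ⟨v, hv⟩ := (hex _).1 h3
  have hK : ∀ y : LinearMap.ker (ν f N M), ∃ n : ℕ, ∀ a ∈ I ^ n, a • y = 0 := by
    intro y
    apply tors_of_pow_smul f I hI
    intro i
    exact ⟨N, smul_ker_ν i y⟩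
  obtain ⟨τ, hτ⟩ := (mk_bijective_of_tors (S := S) I hq _ hK).2 v
  refine ⟨μ₁ + (τ : M), ?_, ?_⟩
  · rw [tmul_add, eq_comm, ← sub_eq_iff_eq_add', ← hv, ← hτ]
    simp
  · intro i
    rw [smul_add, ← hd, ← hμ₁, ν_apply]
    have := smul_ker_ν i τ
    have h4 := congrArg Subtype.val this
    rw [Submodule.coe_smul] at h4
    rw [h4]
    simp

end Groth.Agent.Lib.helper7.FormalGlue
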