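import Groth.Agent.Lib.Helper7.GlueTF

/-!
# helper7: glueable modules and `f`-power torsion (EtGlue)
-/

universe u

namespace Groth.Agent.Lib.helper7.GlueMod

open TensorProduct Groth.Agent.Lib.helper7

variable {R R' : Type u} [CommRing R] [CommRing R'] [Algebra R R'] {f : R}
variable {M : Type u} [AddCommGroup M] [Module R M]

theorem mk_eq_zero_iff (m : M) :
    LocalizedModule.mkLinearMap (Submonoid.powers f) M m = 0 ↔ ∃ n : ℕ, f ^ n • m = 0 := by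
  rw [IsLocalizedModule.eq_zero_iff (Submonoid.powers f)]
  constructor
  · rintro ⟨⟨_, n, rfl⟩, h⟩
    exact ⟨n, h⟩
  · rintro ⟨n, h⟩
    exact ⟨⟨_, n, rfl⟩, h⟩

theorem exists_pow_smul_eq (y : LocalizedModule (Submonoid.powers f) M) :
    ∃ (n : ℕ) (m : M), 0 < n ∧ f ^ n • y = LocalizedModule.mkLinearMap (Submonoid.powers f) M m := by
  obtain ⟨⟨m, ⟨_, n, rfl⟩⟩, h⟩ := IsLocalizedModule.surj (Submonoid.powers f)
    (LocalizedModule.mkLinearMap (Submonoid.powers f) M) y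
  refine ⟨n + 1, f • m, Nat.succ_pos n, ?_⟩
  rw [pow_succ', mul_smul, map_smul]
  exact congrArg (f • ·) h

theorem pow_smul_injective (n : ℕ) (y₁ y₂ : LocalizedModule (Submonoid.powers f) M)
    (h : f ^ n • y₁ = f ^ n • y₂) : y₁ = y₂ :=
  IsLocalizedModule.smul_injective (LocalizedModule.mkLinearMap (Submonoid.powers f) M)
    (⟨f ^ n, n, rfl⟩ : Submonoid.powers f) h

theorem tensorOfLoc_mk (m : M) :
    EtGlue.tensorOfLoc R R' f M (LocalizedModule.mkLinearMap (Submonoid.powers f) M m) =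
      LocalizedModule.mkLinearMap (Submonoid.powers f) (R' ⊗[R] M) ((1 : R') ⊗ₜ[R] m) := by
  unfold EtGlue.tensorOfLoc
  rw [IsLocalizedModule.map_apply]
  rfl

theorem pow_smul_tensor_eq_zero {C : Type u} [AddCommGroup C] [Module R C] (n : ℕ)
    (hC : ∀ c : C, f ^ n • c = 0) (z : R' ⊗[R] C) : f ^ n • z = 0 := by
  induction z using TensorProduct.induction_on with
  | zero => exact smul_zero _
  | tmul r' c => rw [← TensorProduct.tmul_smul, hC, tmul_zero]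
  | add x y hx hy => rw [smul_add, hx, hy, add_zero]

/-- If `1 ⊗ m ∈ f^n (R' ⊗ M)` then `m ∈ f^n M` (given bijectivity on quotients). -/
theorem exists_pow_smul_eq_of_tmul (hq : EtGlue.QuotPowBijective R R' f) (n : ℕ) (m : M)
    (x : R' ⊗[R] M) (hx : (1 : R') ⊗ₜ[R] m = f ^ n • x) : ∃ m₀ : M, f ^ n • m₀ = m := by
  obtain ⟨P, hP⟩ : ∃ P : Submodule R M, P = LinearMap.range (f ^ n • LinearMap.id : M →ₗ[R] M) :=
    ⟨_, rfl⟩
  have hC' : ∀ c : M ⧸ P, f ^ n • c = 0 := by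
    intro c
    obtain ⟨v, rfl⟩ := Submodule.Quotient.mk_surjective _ c
    rw [← Submodule.Quotient.mk_smul, Submodule.Quotient.mk_eq_zero, hP]
    exact ⟨v, rfl⟩
  have hC : ∀ c : M ⧸ P, ∃ k : ℕ, f ^ k • c = 0 := fun c => ⟨n, hC' c⟩
  have h0 : (1 : R') ⊗ₜ[R] (Submodule.Quotient.mk m : M ⧸ P) = 0 := by
    have := congrArg (LinearMap.lTensor R' P.mkQ) hx
    rw [LinearMap.lTensor_tmul, map_smul, pow_smul_tensor_eq_zero n hC'] at this
    exact this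
  have := GluePair.tmul_injective hq hC (h0.trans (tmul_zero _ _).symm)
  rw [Submodule.Quotient.mk_eq_zero, hP] at this
  obtain ⟨m₀, hm₀⟩ := this
  exact ⟨m₀, hm₀⟩

theorem isGlueable_of_tors (hq : EtGlue.QuotPowBijective R R' f)
    (h1 : ∀ m : M, (∃ n : ℕ, f ^ n • m = 0) → (1 : R') ⊗ₜ[R] m = 0 → m = 0)
    (h2 : ∀ x : R' ⊗[R] M, (∃ n : ℕ, f ^ n • x = 0) →
      ∃ m : M, (∃ n : ℕ, f ^ n • m = 0) ∧ (1 : R') ⊗ₜ[R] m = x) :
    EtGlue.IsGlueable R R' f M := by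
  constructor
  · intro m₁ m₂ hm
    simp only [Prod.mk.injEq] at hm
    rw [← sub_eq_zero]
    apply h1
    · rw [← mk_eq_zero_iff, map_sub, hm.2, sub_self]
    · rw [tmul_sub, hm.1, sub_self]
  · intro x y hxy
    obtain ⟨n, m, hn0, hy⟩ := exists_pow_smul_eq y
    have ht : ∃ k : ℕ, f ^ k • (f ^ n • x - (1 : R') ⊗ₜ[R] m) = 0 := by
      refine (mk_eq_zero_iff (M := R' ⊗[R] M) _).mp ?_
      rw [map_sub, map_smul]
      change f ^ n • EtGlue.locOfTensor R R' f M x - _ = 0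
      rw [hxy, ← map_smul, hy, tensorOfLoc_mk, sub_self]
    obtain ⟨s, hs, hst⟩ := h2 _ ht
    obtain ⟨m₀, hm₀⟩ := exists_pow_smul_eq_of_tmul hq n (m + s) x (by
      rw [tmul_add, hst]; abel)
    have ht' : ∃ k : ℕ, f ^ k • (x - (1 : R') ⊗ₜ[R] m₀) = 0 :=
      ⟨n, by rw [smul_sub, ← TensorProduct.tmul_smul, hm₀, tmul_add, hst]; abel⟩
    obtain ⟨s', hs', hst'⟩ := h2 _ ht'
    refine ⟨m₀ + s', by rw [tmul_add, hst']; abel, ?_⟩
    apply pow_smul_injective n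
    rw [hy, ← map_smul, smul_add, hm₀, map_add, map_add, (mk_eq_zero_iff s).mpr hs, add_zero]
    have : ∃ k : ℕ, f ^ k • (f ^ n • s') = 0 := by
      obtain ⟨k, hk⟩ := hs'
      exact ⟨k, by rw [smul_comm, hk, smul_zero]⟩
    rw [(mk_eq_zero_iff _).mpr this, add_zero]

theorem tors_of_isGlueable (hM : EtGlue.IsGlueable R R' f M) :
    (∀ m : M, (∃ n : ℕ, f ^ n • m = 0) → (1 : R') ⊗ₜ[R] m = 0 → m = 0) ∧
    (∀ x : R' ⊗[R] M, (∃ n : ℕ, f ^ n • x = 0) →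
      ∃ m : M, (∃ n : ℕ, f ^ n • m = 0) ∧ (1 : R') ⊗ₜ[R] m = x) := by
  constructor
  · intro m hm h0
    apply hM.1
    simp only [tmul_zero, map_zero, Prod.mk.injEq]
    exact ⟨h0, (mk_eq_zero_iff m).mpr hm⟩
  · intro x hx
    obtain ⟨m, hm1, hm2⟩ := hM.2 x 0 (by
      rw [map_zero]
      exact (mk_eq_zero_iff x).mpr hx)
    exact ⟨m, (mk_eq_zero_iff m).mp hm2, hm1⟩

end Groth.Agent.Lib.helper7.GlueMod
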