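import Groth.Agent.Lib.Helper7.FormalGlueCx
import Groth.Agent.Lib.Helper7.GlueMod

/-!
# Flat formal glueing: lifting extensions with torsion quotient
-/

set_option autoImplicit false
universe u v

open TensorProduct

namespace Groth.Agent.Lib.helper7.FormalGlue

variable {R : Type u} {S : Type u} [CommRing R] [CommRing S] [Algebra R S]

section Ddecomp

variable {t : ℕ} (f : Fin t → R) (k : ℕ) (M : Type v) [AddCommGroup M] [Module R M]

lemma piRightHom_subtype_ν (z : S ⊗[R] M) :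
    TensorProduct.piRightHom R R S (fun _ : Fin t => M)
      ((D f k M).subtype.lTensor S ((ν f k M).lTensor S z)) = fun i => f i ^ k • z := by
  induction z using TensorProduct.induction_on with
  | zero =>
    simp only [map_zero, smul_zero]
    rfl
  | tmul s μ =>
    rw [LinearMap.lTensor_tmul, LinearMap.lTensor_tmul, TensorProduct.piRightHom_tmul]
    funext i
    rw [Submodule.subtype_apply, ν_apply, TensorProduct.tmul_smul]
  | add a b ha hb =>
    rw [map_add, map_add, map_add, ha, hb]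
    funext i
    simp

lemma piRightHom_δ (w : S ⊗[R] (Fin t → M)) :
    TensorProduct.piRightHom R R S (fun _ : Fin t × Fin t => M) ((δ f k M).lTensor S w) =
      δ f k (S ⊗[R] M) (TensorProduct.piRightHom R R S (fun _ : Fin t => M) w) := by
  induction w using TensorProduct.induction_on with
  | zero => simp only [map_zero]
  | tmul s d =>
    rw [LinearMap.lTensor_tmul, TensorProduct.piRightHom_tmul, TensorProduct.piRightHom_tmul]
    funext p
    simp [δ, tmul_sub, TensorProduct.tmul_smul]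
  | add a b ha hb => rw [map_add, map_add, map_add, map_add, ha, hb]

end Ddecomp

/-- decomposition of compatible tuples in `S ⊗ N`. -/
theorem D_decomp [Module.Flat R S] {t : ℕ} (f : Fin t → R) (I : Ideal R)
    (hI : Ideal.span (Set.range f) = I)
    (hq : Function.Bijective (Ideal.quotientMap (I.map (algebraMap R S)) (algebraMap R S)
      Ideal.le_comap_map)) (N : Type u) [AddCommGroup N] [Module R N] (k : ℕ)
    (y : Fin t → S ⊗[R] N) (hy : ∀ i j, f j ^ k • y i = f i ^ k • y j) :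
    ∃ (n : Fin t → N) (y' : S ⊗[R] N), (∀ i j, f j ^ k • n i = f i ^ k • n j) ∧
      ∀ i, y i = (1 : S) ⊗ₜ[R] n i + f i ^ k • y' := by
  classical
  have hyD : y ∈ D f k (S ⊗[R] N) := mem_D.2 hy
  obtain ⟨w₀, hw₀⟩ : ∃ w₀, w₀ = (TensorProduct.piRight R R S (fun _ : Fin t => N)).symm y := ⟨_, rfl⟩
  have hw₀' : TensorProduct.piRightHom R R S (fun _ : Fin t => N) w₀ = y := by
    rw [← TensorProduct.piRight_apply, hw₀, LinearEquiv.apply_symm_apply]
  have h0 : (δ f k N).lTensor S w₀ = 0 := by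
    apply (TensorProduct.piRight R R S (fun _ : Fin t × Fin t => N)).injective
    rw [TensorProduct.piRight_apply, piRightHom_δ, hw₀', map_zero]
    exact hyD
  have hex : Function.Exact ((D f k N).subtype.lTensor S) ((δ f k N).lTensor S) :=
    Module.Flat.lTensor_exact S (LinearMap.exact_subtype_ker_map (δ f k N))
  obtain ⟨w, hw⟩ := (hex _).1 h0
  obtain ⟨P, hP⟩ : ∃ P : Submodule R (D f k N), P = LinearMap.range (ν f k N) := ⟨_, rfl⟩
  have hX : ∀ x : D f k N ⧸ P, ∃ n : ℕ, ∀ a ∈ I ^ n, a • x = 0 := by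
    intro x
    apply tors_of_pow_smul f I hI
    intro i
    subst hP
    exact ⟨k, smul_mkQ_eq_zero i x⟩
  obtain ⟨xb, hxb⟩ := (mk_bijective_of_tors (S := S) I hq (D f k N ⧸ P) hX).2 (P.mkQ.lTensor S w)
  obtain ⟨d, rfl⟩ := Submodule.mkQ_surjective P xb
  have h1 : P.mkQ.lTensor S (w - (1 : S) ⊗ₜ[R] d) = 0 := by
    rw [map_sub, ← hxb]
    simp
  have hex2 : Function.Exact ((ν f k N).lTensor S) (P.mkQ.lTensor S) := by
    apply lTensor_exact S _ (Submodule.mkQ_surjective P)
    intro x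
    rw [Submodule.mkQ_apply, Submodule.Quotient.mk_eq_zero, hP]
    rfl
  obtain ⟨y', hy'⟩ := (hex2 _).1 h1
  refine ⟨(d : Fin t → N), y', mem_D.1 d.2, ?_⟩
  have h2 : w = (1 : S) ⊗ₜ[R] d + (ν f k N).lTensor S y' := by
    rw [hy']; abel
  have h3 := congrArg (fun z => TensorProduct.piRightHom R R S (fun _ : Fin t => N)
    ((D f k N).subtype.lTensor S z)) h2
  beta_reduce at h3
  rw [hw, hw₀', map_add, map_add, piRightHom_subtype_ν, LinearMap.lTensor_tmul,
    TensorProduct.piRightHom_tmul] at h3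
  intro i
  exact congrFun h3 i

section compat

variable {t : ℕ} (f : Fin t → R) (N : Type v) [AddCommGroup N] [Module R N]

/-- the submonoid generated by `f i` and `f j`. -/
abbrev Sij (i j : Fin t) : Submonoid R := Submonoid.powers (f i) ⊔ Submonoid.powers (f j)

/-- `N_{f_i} → N_{f_i f_j}`. -/
noncomputable abbrev ρ₁ (i j : Fin t) :
    LocalizedModule (Submonoid.powers (f i)) N →ₗ[R] LocalizedModule (Sij f i j) N :=
  LocalizedModule.liftOfLE _ _ le_sup_left

/-- `N_{f_j} → N_{f_i f_j}`. -/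
noncomputable abbrev ρ₂ (i j : Fin t) :
    LocalizedModule (Submonoid.powers (f j)) N →ₗ[R] LocalizedModule (Sij f i j) N :=
  LocalizedModule.liftOfLE _ _ le_sup_right

variable {f N}

lemma ρ₁_mk (i j : Fin t) (n : N) (s : Submonoid.powers (f i)) :
    ρ₁ f N i j (LocalizedModule.mk n s) = LocalizedModule.mk n ⟨s.1, le_sup_left (a := Submonoid.powers (f i)) (b := Submonoid.powers (f j)) s.2⟩ := by
  rw [IsLocalizedModule.mk_eq_mk', IsLocalizedModule.mk_eq_mk']
  exact IsLocalizedModule.liftOfLE_mk' _ _ _ _ _ n s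

lemma ρ₂_mk (i j : Fin t) (n : N) (s : Submonoid.powers (f j)) :
    ρ₂ f N i j (LocalizedModule.mk n s) = LocalizedModule.mk n ⟨s.1, le_sup_right (a := Submonoid.powers (f i)) (b := Submonoid.powers (f j)) s.2⟩ := by
  rw [IsLocalizedModule.mk_eq_mk', IsLocalizedModule.mk_eq_mk']
  exact IsLocalizedModule.liftOfLE_mk' _ _ _ _ _ n s

lemma compat_iff (i j : Fin t) (a : ℕ) (ni nj : N) :
    ρ₁ f N i j (LocalizedModule.mk ni ⟨f i ^ a, Submonoid.pow_mem _ (Submonoid.mem_powers (f i)) a⟩) =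
      ρ₂ f N i j (LocalizedModule.mk nj ⟨f j ^ a, Submonoid.pow_mem _ (Submonoid.mem_powers (f j)) a⟩) ↔
    ∃ e : ℕ, (f i * f j) ^ e • (f j ^ a • ni - f i ^ a • nj) = 0 := by
  rw [ρ₁_mk, ρ₂_mk, LocalizedModule.mk_eq]
  constructor
  · rintro ⟨⟨u, hu⟩, h⟩
    obtain ⟨y, ⟨p, rfl⟩, z, ⟨q, rfl⟩, rfl⟩ := Submonoid.mem_sup.1 hu
    simp only [Submonoid.smul_def] at h
    refine ⟨p + q, ?_⟩
    have : (f i * f j) ^ (p + q) = (f i ^ q * f j ^ p) * (f i ^ p * f j ^ q) := by ring
    rw [this, mul_smul, smul_sub, h, sub_self, smul_zero]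
  · rintro ⟨e, he⟩
    refine ⟨⟨(f i * f j) ^ e, ?_⟩, ?_⟩
    · rw [mul_pow]
      exact Submonoid.mul_mem _ (le_sup_left (a := Submonoid.powers (f i)) ⟨e, rfl⟩)
        (le_sup_right (b := Submonoid.powers (f j)) ⟨e, rfl⟩)
    · simp only [Submonoid.smul_def]
      rw [smul_sub, sub_eq_zero] at he
      exact he

lemma exists_uniform_denominator (z : ∀ i, LocalizedModule (Submonoid.powers (f i)) N) :
    ∃ (A : ℕ) (n : Fin t → N), ∀ i, z i = LocalizedModule.mk (n i)
      ⟨f i ^ A, Submonoid.pow_mem _ (Submonoid.mem_powers (f i)) A⟩ := by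
  have h : ∀ i, ∃ (a : ℕ) (n : N), z i = LocalizedModule.mk n
      ⟨f i ^ a, Submonoid.pow_mem _ (Submonoid.mem_powers (f i)) a⟩ := by
    intro i
    induction z i using LocalizedModule.induction_on with
    | h n s =>
      obtain ⟨s, a, rfl⟩ := s
      exact ⟨a, n, rfl⟩
  choose a n hn using h
  refine ⟨∑ i, a i, fun i => f i ^ ((∑ i, a i) - a i) • n i, fun i => ?_⟩
  rw [hn i, LocalizedModule.mk_eq]
  refine ⟨1, ?_⟩
  simp only [Submonoid.smul_def, one_smul]
  rw [smul_smul, ← pow_add,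
    Nat.add_sub_cancel' (Finset.single_le_sum (f := a) (fun _ _ => Nat.zero_le _) (Finset.mem_univ i))]

end compat

section Eglue

variable {t : ℕ} (f : Fin t → R) (N : Type u) [AddCommGroup N] [Module R N]
variable (E' : Type u) [AddCommGroup E'] [Module S E'] [Module R E'] [IsScalarTower R S E']
variable (i' : S ⊗[R] N →ₗ[S] E')

/-- `N_{f_i} → E'_{f_i}`. -/
noncomputable def lam (i : Fin t) : LocalizedModule (Submonoid.powers (f i)) N →ₗ[R]
    LocalizedModule (Submonoid.powers (f i)) E' :=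
  IsLocalizedModule.map (Submonoid.powers (f i))
    (LocalizedModule.mkLinearMap (Submonoid.powers (f i)) N)
    (LocalizedModule.mkLinearMap (Submonoid.powers (f i)) E')
    ((i'.restrictScalars R) ∘ₗ TensorProduct.mk R S N 1)

lemma lam_mk (i : Fin t) (n : N) (s : Submonoid.powers (f i)) :
    lam f N E' i' i (LocalizedModule.mk n s) = LocalizedModule.mk (i' ((1 : S) ⊗ₜ[R] n)) s := by
  unfold lam
  rw [IsLocalizedModule.map_LocalizedModules]
  rfl

/-- the glued module. -/
def Eglue : Submodule R (E' × (∀ i, LocalizedModule (Submonoid.powers (f i)) N)) where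
  carrier := {w | (∀ i, LocalizedModule.mkLinearMap (Submonoid.powers (f i)) E' w.1 =
      lam f N E' i' i (w.2 i)) ∧ ∀ i j, ρ₁ f N i j (w.2 i) = ρ₂ f N i j (w.2 j)}
  add_mem' := by
    rintro a b ⟨ha1, ha2⟩ ⟨hb1, hb2⟩
    refine ⟨fun i => ?_, fun i j => ?_⟩
    · rw [Prod.fst_add, Prod.snd_add, Pi.add_apply, map_add, map_add, ha1 i, hb1 i]
    · rw [Prod.snd_add, Pi.add_apply, Pi.add_apply, map_add, map_add, ha2 i j, hb2 i j]
  zero_mem' := by
    refine ⟨fun i => ?_, fun i j => ?_⟩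
    · rw [Prod.fst_zero, Prod.snd_zero, Pi.zero_apply, map_zero, map_zero]
    · rw [Prod.snd_zero, Pi.zero_apply, Pi.zero_apply, map_zero, map_zero]
  smul_mem' := by
    rintro c a ⟨ha1, ha2⟩
    refine ⟨fun i => ?_, fun i j => ?_⟩
    · rw [Prod.smul_fst, Prod.smul_snd, Pi.smul_apply, map_smul, map_smul, ha1 i]
    · rw [Prod.smul_snd, Pi.smul_apply, Pi.smul_apply, map_smul, map_smul, ha2 i j]

variable {f N E' i'}

lemma mem_Eglue {w : E' × (∀ i, LocalizedModule (Submonoid.powers (f i)) N)} :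
    w ∈ Eglue f N E' i' ↔ (∀ i, LocalizedModule.mkLinearMap (Submonoid.powers (f i)) E' w.1 =
      lam f N E' i' i (w.2 i)) ∧ ∀ i j, ρ₁ f N i j (w.2 i) = ρ₂ f N i j (w.2 j) := Iff.rfl

end Eglue

end Groth.Agent.Lib.helper7.FormalGlue
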