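import Groth.Agent.Lib.Helper7.FormalGlueExt
import Groth.Agent.S7090

/-!
# Flat formal glueing: lifting extensions with torsion quotient (main theorem)
-/

set_option autoImplicit false
universe u v

open TensorProduct

namespace Groth.Agent.Lib.helper7.FormalGlue

variable {R : Type u} {S : Type u} [CommRing R] [CommRing S] [Algebra R S]

theorem ext_lift [Module.Flat R S] {t : ℕ} (f : Fin t → R) (I : Ideal R)
    (hI : Ideal.span (Set.range f) = I)
    (hq : Function.Bijective (Ideal.quotientMap (I.map (algebraMap R S)) (algebraMap R S)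
      Ideal.le_comap_map))
    (N M : Type u) [AddCommGroup N] [Module R N] [AddCommGroup M] [Module R M]
    (hM : ∀ m : M, ∃ n : ℕ, ∀ a ∈ I ^ n, a • m = 0)
    (E' : Type u) [AddCommGroup E'] [Module S E'] [Module R E'] [IsScalarTower R S E']
    (i' : S ⊗[R] N →ₗ[S] E') (p' : E' →ₗ[S] S ⊗[R] M)
    (hi' : Function.Injective i') (hp' : Function.Surjective p')
    (hex' : LinearMap.range i' = LinearMap.ker p') :
    ∃ (E : Type u) (_ : AddCommGroup E) (_ : Module R E) (i : N →ₗ[R] E) (p : E →ₗ[R] M)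
      (g : E →ₗ[R] E'),
      Function.Injective i ∧ Function.Surjective p ∧ LinearMap.range i = LinearMap.ker p ∧
      (∀ n : N, g (i n) = i' ((1 : S) ⊗ₜ[R] n)) ∧ (∀ e : E, p' (g e) = (1 : S) ⊗ₜ[R] p e) := by
  classical
  have hbij := mk_bijective_of_tors (S := S) I hq M hM
  obtain ⟨eM, heM⟩ : ∃ eM : M ≃ₗ[R] S ⊗[R] M, ∀ m, eM m = (1 : S) ⊗ₜ[R] m :=
    ⟨LinearEquiv.ofBijective _ hbij, fun m => rfl⟩
  obtain ⟨iE, hiE⟩ : ∃ iE : N →ₗ[R] Eglue f N E' i', ∀ n, (iE n).1 =
      (i' ((1 : S) ⊗ₜ[R] n), fun i => LocalizedModule.mkLinearMap (Submonoid.powers (f i)) N n) := by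
    refine ⟨LinearMap.codRestrict _ (LinearMap.prod ((i'.restrictScalars R) ∘ₗ TensorProduct.mk R S N 1)
      (LinearMap.pi fun i => LocalizedModule.mkLinearMap (Submonoid.powers (f i)) N)) ?_, fun n => rfl⟩
    intro n
    rw [mem_Eglue]
    refine ⟨fun i => ?_, fun i j => ?_⟩
    · change LocalizedModule.mkLinearMap (Submonoid.powers (f i)) E' (i' ((1 : S) ⊗ₜ[R] n)) =
        lam f N E' i' i (LocalizedModule.mkLinearMap (Submonoid.powers (f i)) N n)
      rw [LocalizedModule.mkLinearMap_apply, LocalizedModule.mkLinearMap_apply, lam_mk]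
    · change ρ₁ f N i j (LocalizedModule.mkLinearMap (Submonoid.powers (f i)) N n) =
        ρ₂ f N i j (LocalizedModule.mkLinearMap (Submonoid.powers (f j)) N n)
      rw [LocalizedModule.mkLinearMap_apply, LocalizedModule.mkLinearMap_apply, ρ₁_mk, ρ₂_mk]
      rfl
  obtain ⟨gE, hgE⟩ : ∃ gE : Eglue f N E' i' →ₗ[R] E', ∀ w, gE w = w.1.1 :=
    ⟨LinearMap.fst R _ _ ∘ₗ (Eglue f N E' i').subtype, fun w => rfl⟩
  obtain ⟨pE, hpE⟩ : ∃ pE : Eglue f N E' i' →ₗ[R] M, ∀ w, eM (pE w) = p' w.1.1 :=
    ⟨eM.symm.toLinearMap ∘ₗ (p'.restrictScalars R) ∘ₗ gE, fun w => by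
      simp only [LinearMap.comp_apply, LinearEquiv.coe_coe, LinearEquiv.apply_symm_apply,
        LinearMap.restrictScalars_apply, hgE]⟩
  refine ⟨Eglue f N E' i', inferInstance, inferInstance, iE, pE, gE, ?_, ?_, ?_, ?_, ?_⟩
  · -- injective
    rw [injective_iff_map_eq_zero]
    intro n hn
    have h1 := congrArg Subtype.val hn
    rw [hiE, Submodule.coe_zero, Prod.mk_eq_zero] at h1
    have h2 : (1 : S) ⊗ₜ[R] n = 0 := by
      apply hi'
      rw [h1.1, map_zero]
    exact (Groth.Agent.S7090.result f I hI hq N).1 n h2 (fun i => congrFun h1.2 i)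
  · -- surjective
    intro m
    obtain ⟨k, hk⟩ := hM m
    have hfk : ∀ i, f i ^ k • m = 0 := fun i =>
      hk _ (Ideal.pow_mem_pow (hI ▸ Ideal.subset_span ⟨i, rfl⟩) k)
    obtain ⟨e0, he0⟩ := hp' ((1 : S) ⊗ₜ[R] m)
    have hex0 : ∀ i, ∃ y, i' y = f i ^ k • e0 := by
      intro i
      have : f i ^ k • e0 ∈ LinearMap.ker p' := by
        rw [LinearMap.mem_ker, LinearMap.map_smul_of_tower, he0, ← TensorProduct.tmul_smul, hfk,
          tmul_zero]
      rw [← hex'] at this
      exact this
    choose y hy using hex0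
    have hyc : ∀ i j, f j ^ k • y i = f i ^ k • y j := by
      intro i j
      apply hi'
      rw [LinearMap.map_smul_of_tower, LinearMap.map_smul_of_tower, hy, hy, smul_comm]
    obtain ⟨n, y', hn, hyn⟩ := D_decomp f I hI hq N k y hyc
    have hmem : ((e0 - i' y', fun i => LocalizedModule.mk (n i)
        ⟨f i ^ k, Submonoid.pow_mem _ (Submonoid.mem_powers (f i)) k⟩) :
        E' × (∀ i, LocalizedModule (Submonoid.powers (f i)) N)) ∈ Eglue f N E' i' := by
      rw [mem_Eglue]
      refine ⟨fun i => ?_, fun i j => ?_⟩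
      · simp only
        rw [lam_mk, LocalizedModule.mkLinearMap_apply, LocalizedModule.mk_eq]
        refine ⟨1, ?_⟩
        simp only [one_smul, Submonoid.smul_def]
        rw [smul_sub, ← hy, ← LinearMap.map_smul_of_tower, ← map_sub, hyn i]
        congr 1
        abel
      · simp only
        rw [compat_iff]
        exact ⟨0, by rw [hn i j, sub_self, smul_zero]⟩
    refine ⟨⟨_, hmem⟩, ?_⟩
    apply eM.injective
    rw [hpE, heM]
    simp only
    rw [map_sub, he0]
    have : p' (i' y') = 0 := by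
      have h : i' y' ∈ LinearMap.range i' := ⟨_, rfl⟩
      rw [hex'] at h
      exact h
    rw [this, sub_zero]
  · -- exactness
    apply le_antisymm
    · rintro _ ⟨n, rfl⟩
      rw [LinearMap.mem_ker]
      apply eM.injective
      rw [hpE, hiE, map_zero]
      have h : i' ((1 : S) ⊗ₜ[R] n) ∈ LinearMap.range i' := ⟨_, rfl⟩
      rw [hex'] at h
      exact h
    · intro w hw
      rw [LinearMap.mem_ker] at hw
      have h0 : p' w.1.1 = 0 := by
        rw [← hpE, hw, map_zero]
      obtain ⟨y, hy⟩ : ∃ y, i' y = w.1.1 := by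
        have : w.1.1 ∈ LinearMap.ker p' := h0
        rw [← hex'] at this
        exact this
      obtain ⟨A, n, hn⟩ := exists_uniform_denominator (f := f) w.1.2
      have hw1 := (mem_Eglue.1 w.2).1
      have hw2 := (mem_Eglue.1 w.2).2
      have hA : ∀ i, EtGlue.locOfTensor R S (f i) N y = EtGlue.tensorOfLoc R S (f i) N
          (LocalizedModule.mk (n i) ⟨f i ^ A, Submonoid.pow_mem _ (Submonoid.mem_powers (f i)) A⟩) := by
        intro i
        have h1 := hw1 i
        rw [hn i, lam_mk, ← hy, LocalizedModule.mkLinearMap_apply, LocalizedModule.mk_eq] at h1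
        obtain ⟨⟨u, c, rfl⟩, hu⟩ := h1
        simp only [Submonoid.smul_def, one_smul] at hu
        have hu' : f i ^ c • f i ^ A • y = f i ^ c • ((1 : S) ⊗ₜ[R] n i) := by
          apply hi'
          rw [LinearMap.map_smul_of_tower, LinearMap.map_smul_of_tower,
            LinearMap.map_smul_of_tower]
          exact hu
        unfold EtGlue.tensorOfLoc EtGlue.locOfTensor
        rw [IsLocalizedModule.map_LocalizedModules, LocalizedModule.mkLinearMap_apply,
          LocalizedModule.mk_eq]
        refine ⟨⟨f i ^ c, c, rfl⟩, ?_⟩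
        simp only [Submonoid.smul_def, one_smul]
        exact hu'
      have hB : ∀ i j, ∃ e : ℕ, (f i * f j) ^ e • (f j ^ A • n i - f i ^ A • n j) = 0 := by
        intro i j
        have := hw2 i j
        rw [hn i, hn j, compat_iff] at this
        exact this
      obtain ⟨μ, hμ1, hμ2⟩ := (Groth.Agent.S7090.result f I hI hq N).2 y A n hA hB
      refine ⟨μ, ?_⟩
      apply Subtype.ext
      rw [hiE]
      apply Prod.ext
      · simp only
        rw [hμ1, hy]
      · funext i
        simp only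
        rw [hμ2 i, ← hn i]
  · intro n
    rw [hgE, hiE]
  · intro e
    rw [hgE, ← heM, hpE]

end Groth.Agent.Lib.helper7.FormalGlue
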