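import Groth.Agent.Lib.Helper7.FormalGlue
import Mathlib.RingTheory.Flat.FaithfullyFlat.Algebra
import Mathlib.RingTheory.TensorProduct.Quotient
import Mathlib.Algebra.Module.Torsion.Basic

/-!
# Flat quotient TFAE helpers
-/

set_option autoImplicit false
universe u v

open TensorProduct

namespace Groth.Agent.Lib.helper7.FormalGlue

variable {R : Type u} {S : Type u} [CommRing R] [CommRing S] [Algebra R S]

instance flat_quot [Module.Flat R S] (I : Ideal R) :
    Module.Flat (R ⧸ I) (S ⧸ I.map (algebraMap R S)) :=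
  Module.Flat.of_linearEquiv
    (Algebra.TensorProduct.quotIdealMapEquivQuotTensor S I).toLinearEquiv

/-- `M ⊗_{R/I} S/IS ≃ S ⊗_R M` for an `R/I`-module `M`. -/
noncomputable def quotTensorEquiv (I : Ideal R) (M : Type v) [AddCommGroup M] [Module R M]
    [Module (R ⧸ I) M] [IsScalarTower R (R ⧸ I) M] :
    M ⊗[R ⧸ I] (S ⧸ I.map (algebraMap R S)) ≃ S ⊗[R] M :=
  ((TensorProduct.congr (LinearEquiv.refl (R ⧸ I) M)
    (Algebra.TensorProduct.quotIdealMapEquivQuotTensor S I).toLinearEquiv).trans
    (TensorProduct.AlgebraTensorModule.cancelBaseChange R (R ⧸ I) (R ⧸ I) M S)).toEquiv.trans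
    (TensorProduct.comm R M S).toEquiv

end Groth.Agent.Lib.helper7.FormalGlue
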