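import Groth.Agent.Lib.Helper7.FormalGlue
import Mathlib.RingTheory.TensorProduct.Basic
import Mathlib.LinearAlgebra.TensorProduct.Tower

/-!
# Flat formal glueing of maps
-/

set_option autoImplicit false
universe u v

open TensorProduct

namespace Groth.Agent.Lib.helper7.FormalGlue

variable {R : Type u} {S : Type u} [CommRing R] [CommRing S] [Algebra R S]

/-- For an `S`-module `C` that is `I`-power torsion over `R`, multiplication `S ⊗_R C → C`
is injective. -/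
theorem mulMap_injective [Module.Flat R S] (I : Ideal R)
    (hq : Function.Bijective (Ideal.quotientMap (I.map (algebraMap R S)) (algebraMap R S)
      Ideal.le_comap_map)) (C : Type u) [AddCommGroup C] [Module S C] [Module R C]
    [IsScalarTower R S C] (hC : ∀ c : C, ∃ n : ℕ, ∀ a ∈ I ^ n, a • c = 0) :
    Function.Injective (LinearMap.liftBaseChange S (LinearMap.id : C →ₗ[R] C)) := by
  rw [injective_iff_map_eq_zero]
  intro z hz
  obtain ⟨c, rfl⟩ := (mk_bijective_of_tors (S := S) I hq C hC).2 z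
  rw [TensorProduct.mk_apply, LinearMap.liftBaseChange_tmul, one_smul, LinearMap.id_apply] at hz
  rw [hz, map_zero]

theorem glue_maps [Module.Flat R S] (I : Ideal R)
    (hq : Function.Bijective (Ideal.quotientMap (I.map (algebraMap R S)) (algebraMap R S)
      Ideal.le_comap_map))
    (N : Type u) [AddCommGroup N] [Module R N] (M' : Type u) [AddCommGroup M'] [Module S M']
    [Module R M'] [IsScalarTower R S M']
    (φ : M' →ₗ[S] S ⊗[R] N)
    (hker : ∀ x : M', φ x = 0 → ∃ n : ℕ, ∀ a ∈ I ^ n, a • x = 0)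
    (hcoker : ∀ y : S ⊗[R] N, ∃ n : ℕ, ∀ a ∈ I ^ n, a • y ∈ LinearMap.range φ) :
    ∃ (M : Type u) (_ : AddCommGroup M) (_ : Module R M) (ψ : M →ₗ[R] N) (e : S ⊗[R] M ≃ₗ[S] M'),
      φ ∘ₗ e.toLinearMap = ψ.baseChange S := by
  -- the fibre product
  obtain ⟨M, hMdef⟩ : ∃ M : Submodule R (M' × N), M = LinearMap.eqLocus
      ((φ.restrictScalars R) ∘ₗ LinearMap.fst R M' N) (TensorProduct.mk R S N 1 ∘ₗ LinearMap.snd R M' N) :=
    ⟨_, rfl⟩
  have hmem : ∀ w : M' × N, w ∈ M ↔ φ w.1 = (1 : S) ⊗ₜ[R] w.2 := by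
    intro w
    rw [hMdef, LinearMap.mem_eqLocus]
    rfl
  obtain ⟨ψ, hψ⟩ : ∃ ψ : M →ₗ[R] N, ∀ w : M, ψ w = w.1.2 :=
    ⟨LinearMap.snd R M' N ∘ₗ M.subtype, fun _ => rfl⟩
  obtain ⟨pr, hpr⟩ : ∃ pr : M →ₗ[R] M', ∀ w : M, pr w = w.1.1 :=
    ⟨LinearMap.fst R M' N ∘ₗ M.subtype, fun _ => rfl⟩
  obtain ⟨θ, hθ⟩ : ∃ θ : S ⊗[R] M →ₗ[S] M', ∀ (s : S) (w : M), θ (s ⊗ₜ[R] w) = s • w.1.1 :=
    ⟨LinearMap.liftBaseChange S pr, fun s w => by rw [LinearMap.liftBaseChange_tmul, hpr]⟩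
  have hcomp : φ ∘ₗ θ = ψ.baseChange S := by
    apply TensorProduct.AlgebraTensorModule.ext
    intro s w
    rw [LinearMap.comp_apply, hθ, map_smul, (hmem w.1).1 w.2, LinearMap.baseChange_tmul, hψ,
      TensorProduct.smul_tmul', smul_eq_mul, mul_one]
  -- kernel of ψ is torsion
  have hKtors : ∀ κ : LinearMap.ker ψ, ∃ n : ℕ, ∀ a ∈ I ^ n, a • κ = 0 := by
    intro κ
    have h0 : κ.1.1.2 = 0 := by
      have := κ.2
      rw [LinearMap.mem_ker, hψ] at this
      exact this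
    have h1 : φ κ.1.1.1 = 0 := by
      rw [(hmem κ.1.1).1 κ.1.2, h0, tmul_zero]
    obtain ⟨n, hn⟩ := hker _ h1
    refine ⟨n, fun a ha => ?_⟩
    rw [← Submodule.coe_eq_zero, Submodule.coe_smul, ← Submodule.coe_eq_zero, Submodule.coe_smul,
      Prod.ext_iff, Prod.smul_fst, Prod.smul_snd, Prod.fst_zero, Prod.snd_zero, h0, smul_zero]
    exact ⟨hn a ha, rfl⟩
  have hθinj : Function.Injective θ := by
    rw [injective_iff_map_eq_zero]
    intro z hz
    have h1 : (ψ.lTensor S) z = 0 := by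
      have := congrArg φ hz
      rw [← LinearMap.comp_apply, hcomp, map_zero] at this
      exact this
    have hex : Function.Exact ((LinearMap.ker ψ).subtype.lTensor S) (ψ.lTensor S) :=
      Module.Flat.lTensor_exact (R := R) S (N := LinearMap.ker ψ) (N' := M) (N'' := N) (LinearMap.exact_subtype_ker_map ψ)
    obtain ⟨v, rfl⟩ := (hex _).1 h1
    obtain ⟨κ, rfl⟩ := (mk_bijective_of_tors (S := S) I hq (LinearMap.ker ψ) hKtors).2 v
    rw [TensorProduct.mk_apply, LinearMap.lTensor_tmul, Submodule.subtype_apply, hθ, one_smul] at hz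
    have h0 : κ.1.1.2 = 0 := by
      have := κ.2
      rw [LinearMap.mem_ker, hψ] at this
      exact this
    have : κ = 0 := by
      rw [← Submodule.coe_eq_zero, ← Submodule.coe_eq_zero, Prod.ext_iff]
      exact ⟨hz, h0⟩
    rw [this, map_zero, map_zero]
  -- cokernel
  obtain ⟨C, hC⟩ : ∃ C : Submodule S (S ⊗[R] N), C = LinearMap.range φ := ⟨_, rfl⟩
  have hCmem : ∀ y, y ∈ C ↔ ∃ m', φ m' = y := fun y => by rw [hC]; rfl
  have hCtors : ∀ c : (S ⊗[R] N) ⧸ C, ∃ n : ℕ, ∀ a ∈ I ^ n, a • c = 0 := by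
    intro c
    obtain ⟨y, rfl⟩ := Submodule.Quotient.mk_surjective _ c
    obtain ⟨n, hn⟩ := hcoker y
    refine ⟨n, fun a ha => ?_⟩
    rw [← Submodule.Quotient.mk_smul, Submodule.Quotient.mk_eq_zero, hC]
    exact hn a ha
  obtain ⟨c, hc⟩ : ∃ c : N →ₗ[R] (S ⊗[R] N) ⧸ C, ∀ n, c n = Submodule.Quotient.mk ((1 : S) ⊗ₜ[R] n) :=
    ⟨(C.mkQ.restrictScalars R) ∘ₗ TensorProduct.mk R S N 1, fun _ => rfl⟩
  have hμ := mulMap_injective (S := S) I hq ((S ⊗[R] N) ⧸ C) hCtors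
  have hfac : ∀ y : S ⊗[R] N, LinearMap.liftBaseChange S (LinearMap.id : _ →ₗ[R] (S ⊗[R] N) ⧸ C)
      (c.lTensor S y) = Submodule.Quotient.mk y := by
    intro y
    induction y using TensorProduct.induction_on with
    | zero => simp
    | tmul s n =>
      rw [LinearMap.lTensor_tmul, LinearMap.liftBaseChange_tmul, LinearMap.id_apply, hc,
        ← Submodule.Quotient.mk_smul, TensorProduct.smul_tmul', smul_eq_mul, mul_one]
    | add a b ha hb => rw [map_add, map_add, ha, hb, Submodule.Quotient.mk_add]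
  have hexQ : Function.Exact ((LinearMap.ker c).subtype.lTensor S) (c.lTensor S) :=
    Module.Flat.lTensor_exact (R := R) S (N := LinearMap.ker c) (N' := N) (N'' := (S ⊗[R] N) ⧸ C) (LinearMap.exact_subtype_ker_map c)
  -- the map M → ker c
  obtain ⟨ψQ, hψQ⟩ : ∃ ψQ : M →ₗ[R] LinearMap.ker c, ∀ w, (ψQ w : N) = ψ w := by
    refine ⟨LinearMap.codRestrict _ ψ ?_, fun _ => rfl⟩
    intro w
    rw [LinearMap.mem_ker, hc, Submodule.Quotient.mk_eq_zero, hCmem, hψ, ← (hmem w.1).1 w.2]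
    exact ⟨_, rfl⟩
  have hψQsurj : Function.Surjective ψQ := by
    intro q
    have hq0 := q.2
    rw [LinearMap.mem_ker, hc, Submodule.Quotient.mk_eq_zero, hCmem] at hq0
    obtain ⟨m', hm'⟩ := hq0
    refine ⟨⟨(m', (q : N)), (hmem _).2 hm'⟩, ?_⟩
    apply Subtype.ext
    rw [hψQ, hψ]
  have hθsurj : Function.Surjective θ := by
    intro m'
    have h1 : c.lTensor S (φ m') = 0 := by
      apply hμ
      rw [hfac, map_zero, Submodule.Quotient.mk_eq_zero, hCmem]
      exact ⟨m', rfl⟩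
    obtain ⟨v, hv⟩ := (hexQ _).1 h1
    obtain ⟨z₁, rfl⟩ := LinearMap.lTensor_surjective S hψQsurj v
    have h2 : φ (θ z₁) = φ m' := by
      rw [← LinearMap.comp_apply, hcomp, ← hv, ← LinearMap.comp_apply, ← LinearMap.lTensor_comp]
      have : (LinearMap.ker c).subtype ∘ₗ ψQ = ψ := by
        ext w
        rw [LinearMap.comp_apply, Submodule.subtype_apply, hψQ]
      rw [this]
      rfl
    have h3 : φ (m' - θ z₁) = 0 := by rw [map_sub, h2, sub_self]
    have hκ : ((m' - θ z₁, (0 : N)) : M' × N) ∈ M := by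
      rw [hmem]
      simp only
      rw [h3, tmul_zero]
    refine ⟨z₁ + (1 : S) ⊗ₜ[R] ⟨_, hκ⟩, ?_⟩
    rw [map_add, hθ, one_smul]
    simp
  refine ⟨M, inferInstance, inferInstance, ψ, LinearEquiv.ofBijective θ ⟨hθinj, hθsurj⟩, ?_⟩
  rw [← hcomp]
  rfl

end Groth.Agent.Lib.helper7.FormalGlue
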