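import Mathlib
import Groth.Agent.Lib.Helper7.Growth6

/-!
# Comparison of two coherent modules which are isomorphic on an open (helper7)

* `exists_comparison_gen`: for coherent `F`, `G` on a Noetherian scheme and an isomorphism `G|_U ≅ F|_U`, a
  zigzag `F ⟶ N ⟵ G` through a coherent `N`, both maps isomorphisms on `U`.
-/

set_option autoImplicit false
set_option linter.unusedSectionVars false
set_option linter.style.haveILetI false
universe u

open CategoryTheory CategoryTheory.Limits AlgebraicGeometry Opposite TopologicalSpace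

namespace Groth.Agent.Lib.helper7.GenComp

open Groth.Agent.Lib.helper11.IsoLocus Groth.Agent.Lib.helper7.Growth
open Scheme.Modules Groth.Agent.Lib.helper7 Groth.Agent.Lib.helper12.PullTensor

variable {X : Scheme.{u}} [IsNoetherian X]

theorem exists_comparison_gen {F G : X.Modules} (hF : Coh.IsCoh F) (hG : Coh.IsCoh G) (U : X.Opens)
    (c : (restrictFunctor U.ι).obj G ⟶ (restrictFunctor U.ι).obj F) [IsIso c] :
    ∃ (N : X.Modules) (a : F ⟶ N) (b : G ⟶ N),
      Coh.IsCoh N ∧ U ≤ isoLocus a ∧ U ≤ isoLocus b := by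
  haveI : F.IsQuasicoherent := hF.1
  haveI : G.IsQuasicoherent := hG.1
  let Nt : X.Modules := (Scheme.Modules.pushforward U.ι).obj ((restrictFunctor U.ι).obj F)
  let a₀ : F ⟶ Nt := (restrictAdjunction U.ι).unit.app F
  let b₀ : G ⟶ Nt :=
    (restrictAdjunction U.ι).unit.app G ≫ (Scheme.Modules.pushforward U.ι).map c
  have ha : U ≤ isoLocus a₀ := le_isoLocus_restrictAdjunction_unit F U
  have hb : U ≤ isoLocus b₀ := by
    rw [le_isoLocus_iff]
    have h1 : IsIso ((restrictFunctor U.ι).map ((restrictAdjunction U.ι).unit.app G)) :=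
      (le_isoLocus_iff _ _).mp (le_isoLocus_restrictAdjunction_unit G U)
    change IsIso ((restrictFunctor U.ι).map (_ ≫ _))
    rw [Functor.map_comp]
    haveI : IsIso ((restrictFunctor U.ι).map ((Scheme.Modules.pushforward U.ι).map c)) := by
      have h2 : IsIso ((Scheme.Modules.pushforward U.ι).map c) := inferInstance
      infer_instance
    infer_instance
  -- the sum map
  let f : F ⊞ G ⟶ Nt := biprod.desc a₀ b₀
  have hsplit := (ShortComplex.Splitting.ofHasBinaryBiproduct F G).shortExact
  have hBc : Coh.IsCoh (F ⊞ G) :=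
    Groth.Agent.Lib.Lead.HilbPos.isCoh_of_extension _ hsplit hF hG
  haveI : (F ⊞ G).IsQuasicoherent := hBc.1
  haveI : Nt.IsQuasicoherent :=
    Groth.Agent.Lib.helper7.QCohPushQC.isQuasicoherent_pushforward U.ι _
  have hKq : (kernel f).IsQuasicoherent := CohKer.isQuasicoherent_kernel f
  have hKc : Coh.IsCoh (kernel f) :=
    Groth.Agent.S0046.result X _ (kernel f) (kernel.ι f) hBc hKq
  have hNc : Coh.IsCoh (Abelian.coimage f) := CohKer.isCoh_cokernel hKc hBc (kernel.ι f)
  have hfac : Abelian.coimage.π f ≫ Abelian.factorThruCoimage f = f := Abelian.coimage.fac f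
  refine ⟨Abelian.coimage f, biprod.inl ≫ Abelian.coimage.π f, biprod.inr ≫ Abelian.coimage.π f,
    hNc, ?_, ?_⟩
  · refine (le_isoLocus_of_comp_mono _ (Abelian.factorThruCoimage f) U ?_).1
    rw [Category.assoc, hfac, biprod.inl_desc]
    exact ha
  · refine (le_isoLocus_of_comp_mono _ (Abelian.factorThruCoimage f) U ?_).1
    rw [Category.assoc, hfac, biprod.inr_desc]
    exact hb

end Groth.Agent.Lib.helper7.GenComp
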