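import Groth.Agent.Lib.Helper7.GlueFP
import Mathlib.RingTheory.RingHom.Flat

/-!
# helper7: a glueable algebra over a glueing pair gives a glueing pair (EtGlue);
descent of flatness / finite presentation / étaleness of ring maps.
-/

universe u

namespace Groth.Agent.Lib.helper7.GlueAlg

open TensorProduct Groth.Agent.Lib.helper7

attribute [local instance] Algebra.TensorProduct.rightAlgebra

section Pair

variable {R R' : Type u} [CommRing R] [CommRing R'] [Algebra R R'] {f : R}
variable {A : Type u} [CommRing A] [Algebra R A]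

theorem algebraMap_right_apply (a : A) : algebraMap A (R' ⊗[R] A) a = (1 : R') ⊗ₜ[R] a := rfl

theorem pow_mul_eq_smul (n : ℕ) (a : A) : algebraMap R A f ^ n * a = f ^ n • a := by
  rw [← map_pow, ← Algebra.smul_def]

theorem pow_mul_eq_smul' (n : ℕ) (z : R' ⊗[R] A) :
    algebraMap A (R' ⊗[R] A) (algebraMap R A f) ^ n * z = f ^ n • z := by
  rw [← map_pow, ← map_pow, ← IsScalarTower.algebraMap_apply R A (R' ⊗[R] A), ← Algebra.smul_def]

theorem quotPowBijective_tensor (hq : EtGlue.QuotPowBijective R R' f) :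
    EtGlue.QuotPowBijective A (R' ⊗[R] A) (algebraMap R A f) := by
  intro n hn
  constructor
  · apply Ideal.quotientMap_injective'
    intro a ha
    rw [Ideal.mem_comap, Ideal.map_span, Set.image_singleton, Ideal.mem_span_singleton'] at ha
    obtain ⟨z, hz⟩ := ha
    rw [map_pow, mul_comm, pow_mul_eq_smul', algebraMap_right_apply] at hz
    obtain ⟨a₀, ha₀⟩ := GlueMod.exists_pow_smul_eq_of_tmul hq n a z hz.symm
    rw [Ideal.mem_span_singleton']
    exact ⟨a₀, by rw [mul_comm, pow_mul_eq_smul, ha₀]⟩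
  · intro z
    obtain ⟨z, rfl⟩ := Ideal.Quotient.mk_surjective z
    suffices h : ∃ a : A, algebraMap A (R' ⊗[R] A) a - z ∈
        Ideal.map (algebraMap A (R' ⊗[R] A)) (Ideal.span {algebraMap R A f ^ n}) by
      obtain ⟨a, ha⟩ := h
      refine ⟨Ideal.Quotient.mk _ a, ?_⟩
      rw [Ideal.quotientMap_mk]
      exact (Ideal.Quotient.eq).2 ha
    induction z using TensorProduct.induction_on with
    | zero => exact ⟨0, by simp⟩
    | tmul r' a =>
      obtain ⟨r, hr⟩ := GluePair.exists_lift_mod hq n hn r'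
      rw [Ideal.mem_span_singleton'] at hr
      obtain ⟨s', hs'⟩ := hr
      refine ⟨r • a, ?_⟩
      rw [Ideal.map_span, Set.image_singleton, Ideal.mem_span_singleton']
      refine ⟨s' ⊗ₜ[R] a, ?_⟩
      rw [map_pow, mul_comm, pow_mul_eq_smul', algebraMap_right_apply, TensorProduct.smul_tmul',
        ← TensorProduct.smul_tmul, ← TensorProduct.sub_tmul]
      congr 1
      rw [Algebra.smul_def, Algebra.smul_def, mul_one, map_pow, mul_comm, hs']
    | add x y hx hy =>
      obtain ⟨a, ha⟩ := hx
      obtain ⟨b, hb⟩ := hy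
      refine ⟨a + b, ?_⟩
      have : algebraMap A (R' ⊗[R] A) (a + b) - (x + y) =
          (algebraMap A (R' ⊗[R] A) a - x) + (algebraMap A (R' ⊗[R] A) b - y) := by
        rw [map_add]; abel
      rw [this]
      exact add_mem ha hb

theorem isGlueingPair_tensor (hq : EtGlue.QuotPowBijective R R' f)
    (hA : EtGlue.IsGlueable R R' f A) :
    EtGlue.IsGlueingPair A (R' ⊗[R] A) (algebraMap R A f) := by
  obtain ⟨h1, h2⟩ := GlueMod.tors_of_isGlueable hA
  refine GlueTors.isGlueingPair_of_tors (quotPowBijective_tensor hq) ?_ ?_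
  · rintro x ⟨n, hn⟩ h0
    rw [pow_mul_eq_smul] at hn
    exact h1 x ⟨n, hn⟩ h0
  · rintro x' ⟨n, hn⟩
    rw [pow_mul_eq_smul'] at hn
    obtain ⟨m, ⟨k, hk⟩, hm⟩ := h2 x' ⟨n, hn⟩
    exact ⟨m, ⟨k, by rw [pow_mul_eq_smul, hk]⟩, hm⟩

end Pair

section BaseChange

variable {R R' : Type u} [CommRing R] [CommRing R'] [Algebra R R']
variable {A B : Type u} [CommRing A] [Algebra R A] [CommRing B] [Algebra R B]
  [Algebra A B] [IsScalarTower R A B]

/-- `(R' ⊗_R A) ⊗_A B ≃ R' ⊗_R B`, as algebras over `R' ⊗_R A` (acting through `id ⊗ φ`). -/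
theorem cancel_commutes (z : R' ⊗[R] A) :
    (Algebra.IsPushout.cancelBaseChangeAlg R R' A (R' ⊗[R] A) B).symm
      (Algebra.TensorProduct.map (AlgHom.id R R') (IsScalarTower.toAlgHom R A B) z) =
      z ⊗ₜ[A] (1 : B) := by
  induction z using TensorProduct.induction_on with
  | zero => simp
  | tmul r' a =>
    rw [Algebra.TensorProduct.map_tmul, Algebra.IsPushout.cancelBaseChangeAlg_symm_tmul]
    simp only [AlgHom.coe_id, id_eq, IsScalarTower.coe_toAlgHom']
    rw [Algebra.algebraMap_eq_smul_one a, TensorProduct.tmul_smul, TensorProduct.smul_tmul']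
    congr 1
    rw [Algebra.smul_def, algebraMap_right_apply, Algebra.TensorProduct.algebraMap_apply,
      Algebra.TensorProduct.tmul_mul_tmul]
    simp
  | add x y hx hy => rw [map_add, map_add, hx, hy, TensorProduct.add_tmul]

/-- `(R' ⊗ A) ⊗_A B ≃ R' ⊗ B` as algebras over `R' ⊗ A`. -/
noncomputable def cancelEquiv [Algebra (R' ⊗[R] A) (R' ⊗[R] B)]
    (halg : ∀ z, algebraMap (R' ⊗[R] A) (R' ⊗[R] B) z =
      Algebra.TensorProduct.map (AlgHom.id R R') (IsScalarTower.toAlgHom R A B) z) :
    ((R' ⊗[R] A) ⊗[A] B) ≃ₐ[R' ⊗[R] A] (R' ⊗[R] B) :=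
  AlgEquiv.ofRingEquiv
    (f := (Algebra.IsPushout.cancelBaseChangeAlg R R' A (R' ⊗[R] A) B).toRingEquiv) (by
    intro z
    rw [Algebra.TensorProduct.algebraMap_apply, Algebra.algebraMap_self, RingHom.id_apply, halg,
      ← cancel_commutes z]
    exact (Algebra.IsPushout.cancelBaseChangeAlg R R' A (R' ⊗[R] A) B).apply_symm_apply _)

theorem cancelEquiv_tmul [Algebra (R' ⊗[R] A) (R' ⊗[R] B)]
    (halg : ∀ z, algebraMap (R' ⊗[R] A) (R' ⊗[R] B) z =
      Algebra.TensorProduct.map (AlgHom.id R R') (IsScalarTower.toAlgHom R A B) z) (b : B) :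
    cancelEquiv halg ((1 : R' ⊗[R] A) ⊗ₜ[A] b) = (1 : R') ⊗ₜ[R] b :=
  Algebra.IsPushout.cancelBaseChangeAlg_tmul R R' A (R' ⊗[R] A) B b

/-- Flatness of `R' ⊗ B` over `R' ⊗ A` is flatness of the base change `(R' ⊗ A) ⊗_A B`. -/
theorem flat_cancel [Algebra (R' ⊗[R] A) (R' ⊗[R] B)]
    (halg : ∀ z, algebraMap (R' ⊗[R] A) (R' ⊗[R] B) z =
      Algebra.TensorProduct.map (AlgHom.id R R') (IsScalarTower.toAlgHom R A B) z)
    [Module.Flat (R' ⊗[R] A) (R' ⊗[R] B)] :
    Module.Flat (R' ⊗[R] A) ((R' ⊗[R] A) ⊗[A] B) :=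
  Module.Flat.of_linearEquiv (cancelEquiv halg).toLinearEquiv

end BaseChange

section Away

variable {A B : Type u} [CommRing A] [CommRing B] [Algebra A B] (g : A)
  [Algebra (Localization.Away g) (Localization.Away (algebraMap A B g))]
  [IsScalarTower A (Localization.Away g) (Localization.Away (algebraMap A B g))]

/-- `A_g ⊗_A B ≃ B_g`. -/
noncomputable def awayEquiv :
    Localization.Away g ⊗[A] B ≃ₐ[Localization.Away g] Localization.Away (algebraMap A B g) :=
  have : IsLocalization (Algebra.algebraMapSubmonoid B (Submonoid.powers g))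
      (Localization.Away (algebraMap A B g)) := by
    rw [Algebra.algebraMapSubmonoid, Submonoid.map_powers]; infer_instance
  have : Algebra.IsPushout A (Localization.Away g) B (Localization.Away (algebraMap A B g)) :=
    (Algebra.isPushout_of_isLocalization (Submonoid.powers g) (Localization.Away g) B
      (Localization.Away (algebraMap A B g))).symm
  Algebra.IsPushout.equiv A (Localization.Away g) B (Localization.Away (algebraMap A B g))

theorem flat_away [Module.Flat (Localization.Away g) (Localization.Away (algebraMap A B g))] :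
    Module.Flat (Localization.Away g) (Localization.Away g ⊗[A] B) :=
  Module.Flat.of_linearEquiv (awayEquiv g).toLinearEquiv

end Away

section Main

variable {R R' : Type u} [CommRing R] [CommRing R'] [Algebra R R'] {f : R}
variable {A B : Type u} [CommRing A] [Algebra R A] [CommRing B] [Algebra R B]

/-- A property of ring maps that is stable under base change passes from `φ` to `id ⊗ φ`. -/
theorem tensor_map_of_isStableUnderBaseChange
    {P : ∀ {R S : Type u} [CommRing R] [CommRing S], (R →+* S) → Prop}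
    (hP : RingHom.IsStableUnderBaseChange @P) (hP' : RingHom.RespectsIso @P) (φ : A →ₐ[R] B)
    (h : P φ.toRingHom) : P (Algebra.TensorProduct.map (AlgHom.id R R') φ).toRingHom := by
  let _ : Algebra A B := φ.toRingHom.toAlgebra
  have : IsScalarTower R A B := IsScalarTower.of_algebraMap_eq (fun r => (φ.commutes r).symm)
  have h' : P (algebraMap A B) := h
  have h2 : P (algebraMap (R' ⊗[R] A) ((R' ⊗[R] A) ⊗[A] B)) := hP.tensorProduct (R' ⊗[R] A) h'
  have h3 := hP'.1 _ (Algebra.IsPushout.cancelBaseChangeAlg R R' A (R' ⊗[R] A) B).toRingEquiv h2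
  convert h3 using 1
  refine RingHom.ext fun z => ?_
  have := cancel_commutes (R' := R') (A := A) (B := B) z
  change Algebra.TensorProduct.map (AlgHom.id R R') φ z = _
  have e : φ = IsScalarTower.toAlgHom R A B := by ext; rfl
  rw [e]
  apply (Algebra.IsPushout.cancelBaseChangeAlg R R' A (R' ⊗[R] A) B).symm.injective
  rw [this]
  simp only [RingHom.coe_comp, Function.comp_apply]
  rw [Algebra.TensorProduct.algebraMap_apply, Algebra.algebraMap_self, RingHom.id_apply]
  exact ((Algebra.IsPushout.cancelBaseChangeAlg R R' A (R' ⊗[R] A) B).symm_apply_apply _).symm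

/-- Flatness of a map of glueable-source algebras descends along a glueing pair. -/
theorem flat_of_glue_ringHom (hRR' : EtGlue.IsGlueingPair R R' f)
    (hA : EtGlue.IsGlueable R R' f A) (φ : A →ₐ[R] B)
    (h1 : (Localization.awayMap φ.toRingHom (algebraMap R A f)).Flat)
    (h2 : (Algebra.TensorProduct.map (AlgHom.id R R') φ).toRingHom.Flat) : φ.toRingHom.Flat := by
  let _ : Algebra A B := φ.toRingHom.toAlgebra
  have : IsScalarTower R A B := IsScalarTower.of_algebraMap_eq (fun r => (φ.commutes r).symm)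
  let _ : Algebra (R' ⊗[R] A) (R' ⊗[R] B) :=
    (Algebra.TensorProduct.map (AlgHom.id R R') φ).toRingHom.toAlgebra
  have hGP := isGlueingPair_tensor hRR'.1 hA
  obtain ⟨g, hg⟩ : ∃ g, g = algebraMap R A f := ⟨_, rfl⟩
  rw [← hg] at h1 hGP
  let _ : Algebra (Localization.Away g) (Localization.Away (algebraMap A B g)) :=
    (Localization.awayMap φ.toRingHom g).toAlgebra
  have : IsScalarTower A (Localization.Away g) (Localization.Away (algebraMap A B g)) :=
    IsScalarTower.of_algebraMap_eq (fun a => by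
      rw [IsScalarTower.algebraMap_apply A B (Localization.Away (algebraMap A B g))]
      change _ = Localization.awayMap φ.toRingHom g (algebraMap A _ a)
      rw [Localization.awayMap, IsLocalization.Away.map, IsLocalization.map_eq]
      rfl)
  have h1' : Module.Flat (Localization.Away g) (Localization.Away (algebraMap A B g)) := h1
  have h2' : Module.Flat (R' ⊗[R] A) (R' ⊗[R] B) := h2
  have : Module.Flat (R' ⊗[R] A) ((R' ⊗[R] A) ⊗[A] B) := flat_cancel (fun z => rfl)
  have : Module.Flat (Localization.Away g) (Localization.Away g ⊗[A] B) := flat_away g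
  change Module.Flat A B
  exact GlueFlat.flat_of_glue hGP B

end Main

end Groth.Agent.Lib.helper7.GlueAlg
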