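import Groth.Agent.Lib.Helper7.GlueAlgFP
import Mathlib.RingTheory.Kaehler.TensorProduct
import Mathlib.RingTheory.RingHom.Unramified
import Mathlib.RingTheory.RingHom.Etale

/-!
# helper7: unramifiedness / étaleness descend along a glueing pair (EtGlue)
-/

universe u

namespace Groth.Agent.Lib.helper7.GlueAlgEt

open TensorProduct Groth.Agent.Lib.helper7

attribute [local instance] Algebra.TensorProduct.rightAlgebra

section Main

variable {R R' : Type u} [CommRing R] [CommRing R'] [Algebra R R'] {f : R}
variable {A B : Type u} [CommRing A] [Algebra R A] [CommRing B] [Algebra R B]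

/-- Formal unramifiedness descends along `QuotPowBijective`. -/
theorem formallyUnramified_of_glue_ringHom (hq : EtGlue.QuotPowBijective R R' f)
    (φ : A →ₐ[R] B)
    (h1 : (Localization.awayMap φ.toRingHom (algebraMap R A f)).FormallyUnramified)
    (h2 : (Algebra.TensorProduct.map (AlgHom.id R R') φ).toRingHom.FormallyUnramified) :
    φ.toRingHom.FormallyUnramified := by
  let _ : Algebra A B := φ.toRingHom.toAlgebra
  have : IsScalarTower R A B := IsScalarTower.of_algebraMap_eq (fun r => (φ.commutes r).symm)
  let _ : Algebra (R' ⊗[R] A) (R' ⊗[R] B) :=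
    (Algebra.TensorProduct.map (AlgHom.id R R') φ).toRingHom.toAlgebra
  let _ : Algebra A (R' ⊗[R] B) :=
    ((algebraMap B (R' ⊗[R] B)).comp (algebraMap A B)).toAlgebra
  have : IsScalarTower A B (R' ⊗[R] B) := IsScalarTower.of_algebraMap_eq (fun a => rfl)
  have : IsScalarTower A (R' ⊗[R] A) (R' ⊗[R] B) := IsScalarTower.of_algebraMap_eq (fun a => by
    change (1 : R') ⊗ₜ[R] (φ a) = Algebra.TensorProduct.map (AlgHom.id R R') φ ((1 : R') ⊗ₜ[R] a)
    rw [Algebra.TensorProduct.map_tmul]; rfl)
  have hpush : Algebra.IsPushout A (R' ⊗[R] A) B (R' ⊗[R] B) :=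
    ⟨IsBaseChange.of_equiv (GlueAlg.cancelEquiv (R' := R') (A := A) (B := B) (fun z => rfl)).toLinearEquiv
      (fun b => GlueAlg.cancelEquiv_tmul (fun z => rfl) b)⟩
  obtain ⟨g, hg⟩ : ∃ g, g = algebraMap R A f := ⟨_, rfl⟩
  rw [← hg] at h1
  let _ : Algebra (Localization.Away g) (Localization.Away (algebraMap A B g)) :=
    (Localization.awayMap φ.toRingHom g).toAlgebra
  have : IsScalarTower A (Localization.Away g) (Localization.Away (algebraMap A B g)) :=
    IsScalarTower.of_algebraMap_eq (fun a => by
      rw [IsScalarTower.algebraMap_apply A B (Localization.Away (algebraMap A B g))]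
      change _ = Localization.awayMap φ.toRingHom g (algebraMap A _ a)
      rw [Localization.awayMap, IsLocalization.Away.map, IsLocalization.map_eq]
      rfl)
  have h1' : Algebra.FormallyUnramified (Localization.Away g)
    (Localization.Away (algebraMap A B g)) := h1
  have h2' : Algebra.FormallyUnramified (R' ⊗[R] A) (R' ⊗[R] B) := h2
  change Algebra.FormallyUnramified A B
  rw [Algebra.formallyUnramified_iff]
  have hloc : IsLocalization (Algebra.algebraMapSubmonoid B (Submonoid.powers g))
      (Localization.Away (algebraMap A B g)) := by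
    rw [Algebra.algebraMapSubmonoid, Submonoid.map_powers]; infer_instance
  -- torsion
  have htors : ∀ ω : Ω[B⁄A], ∃ n : ℕ, f ^ n • ω = 0 := by
    intro ω
    have h0 : ((KaehlerDifferential.map A (Localization.Away g) B
        (Localization.Away (algebraMap A B g))).restrictScalars A) ω = 0 :=
      Subsingleton.elim _ _
    obtain ⟨⟨_, n, rfl⟩, hn⟩ := (IsLocalizedModule.eq_zero_iff (Submonoid.powers g)
      ((KaehlerDifferential.map A (Localization.Away g) B
        (Localization.Away (algebraMap A B g))).restrictScalars A)).1 h0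
    refine ⟨n, ?_⟩
    have hn' : g ^ n • ω = 0 := hn
    rw [← hn', hg, ← map_pow, algebraMap_smul]
  -- base change vanishes
  have h0 : Subsingleton (R' ⊗[R] Ω[B⁄A]) := by
    have e1 := KaehlerDifferential.tensorKaehlerEquivBase A (R' ⊗[R] A) B (R' ⊗[R] B)
    have e2 := Algebra.IsPushout.cancelBaseChange R R' A (R' ⊗[R] A) Ω[B⁄A]
    exact (e2.symm.toEquiv.trans e1.toEquiv).subsingleton
  exact GluePair.subsingleton_of_tors hq htors h0

end Main

end Groth.Agent.Lib.helper7.GlueAlgEt
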