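import Groth.Agent.Lib.Helper7.GlueAlg
import Mathlib.RingTheory.FinitePresentation
import Mathlib.RingTheory.RingHom.FinitePresentation

/-!
# helper7: finite presentation of flat algebras descends along a glueing pair (EtGlue)
-/

universe u

namespace Groth.Agent.Lib.helper7.GlueAlgFP

open TensorProduct Groth.Agent.Lib.helper7

section Generic

variable {A : Type u} [CommRing A] {B : Type u} [CommRing B] [Algebra A B]
variable (C : Type u) [CommRing C] [Algebra A C]
variable {P : Type u} [CommRing P] [Algebra A P]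

theorem range_baseChange_eq_Q (N : Submodule A P) :
    LinearMap.range (N.subtype.baseChange C) = GlueFin.Q (R' := C) N := by
  apply le_antisymm
  · rintro _ ⟨w, rfl⟩
    induction w using TensorProduct.induction_on with
    | zero => simp
    | tmul c n => rw [LinearMap.baseChange_tmul]; exact GlueFin.tmul_mem_Q N c n.2
    | add x y hx hy => rw [map_add]; exact add_mem hx hy
  · rw [GlueFin.Q, Submodule.span_le]
    rintro _ ⟨n, hn, rfl⟩
    exact ⟨1 ⊗ₜ ⟨n, hn⟩, by rw [LinearMap.baseChange_tmul]; rfl⟩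

theorem map_eq_baseChange (π : P →ₐ[A] B) (z : C ⊗[A] P) :
    Algebra.TensorProduct.map (AlgHom.id C C) π z = π.toLinearMap.baseChange C z := by
  induction z using TensorProduct.induction_on with
  | zero => simp
  | tmul c p => simp
  | add x y hx hy => rw [map_add, map_add, hx, hy]

theorem map_eq_zero_iff_mem_Q (π : P →ₐ[A] B) (hπ : Function.Surjective π) (z : C ⊗[A] P) :
    Algebra.TensorProduct.map (AlgHom.id C C) π z = 0 ↔
      z ∈ GlueFin.Q (R' := C) (LinearMap.ker π.toLinearMap) := by
  rw [map_eq_baseChange, ← range_baseChange_eq_Q, LinearMap.baseChange_eq_ltensor]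
  have := lTensor_exact C (LinearMap.exact_subtype_ker_map π.toLinearMap) hπ
  rw [this z]
  rfl

theorem Q_mono {N₁ N₂ : Submodule A P} (h : N₁ ≤ N₂) :
    GlueFin.Q (R' := C) N₁ ≤ GlueFin.Q (R' := C) N₂ :=
  Submodule.span_mono (Set.image_mono h)

/-- Elements of `Q N` involve only finitely many elements of `N`. -/
theorem exists_finset_of_mem_Q (N : Submodule A P) {z : C ⊗[A] P}
    (hz : z ∈ GlueFin.Q (R' := C) N) : ∃ T : Finset P, (T : Set P) ⊆ N ∧
      z ∈ Submodule.span C ((fun m : P => (1 : C) ⊗ₜ[A] m) '' (T : Set P)) := by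
  classical
  obtain ⟨T', hT', hz'⟩ := Submodule.mem_span_finite_of_mem_span hz
  obtain ⟨T, hT, rfl⟩ := Finset.subset_set_image_iff.1 hT'
  exact ⟨T, hT, by simpa using hz'⟩

theorem exists_finset_of_subset_Q (N : Submodule A P) (S : Finset (C ⊗[A] P))
    (hS : (S : Set (C ⊗[A] P)) ⊆ GlueFin.Q (R' := C) N) : ∃ T : Finset P, (T : Set P) ⊆ N ∧
      (S : Set (C ⊗[A] P)) ⊆
        Submodule.span C ((fun m : P => (1 : C) ⊗ₜ[A] m) '' (T : Set P)) := by
  classical
  induction S using Finset.induction_on with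
  | empty => exact ⟨∅, by simp, by simp⟩
  | insert a S _ ih =>
    obtain ⟨T₁, hT₁, h₁⟩ := ih (fun x hx => hS (by simp [Finset.mem_coe.1 hx]))
    obtain ⟨T₂, hT₂, h₂⟩ := exists_finset_of_mem_Q C N (hS (by simp : a ∈ ((insert a S : Finset _) : Set _)))
    refine ⟨T₁ ∪ T₂, by simpa using ⟨hT₁, hT₂⟩, ?_⟩
    intro x hx
    rw [Finset.coe_insert, Set.mem_insert_iff] at hx
    rcases hx with rfl | hx
    · exact Submodule.span_mono (Set.image_mono (by simp)) h₂
    · exact Submodule.span_mono (Set.image_mono (by simp)) (h₁ hx)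

/-- `Q` of an ideal is an ideal. -/
theorem mul_mem_Q_of_ideal (I : Ideal P) (z : C ⊗[A] P) {x : C ⊗[A] P}
    (hx : x ∈ GlueFin.Q (R' := C) (I.restrictScalars A)) :
    z * x ∈ GlueFin.Q (R' := C) (I.restrictScalars A) := by
  have := GlueFin.map_mul_mem_Q (R' := C) (AlgHom.id A P) (I.restrictScalars A)
    (fun a n hn => I.mul_mem_left a hn) z hx
  simpa using this

/-- The kernel of `C ⊗ P → C ⊗ B` is generated by finitely many elements of `ker π`. -/
theorem exists_finset_Q (π : P →ₐ[A] B) (hπ : Function.Surjective π)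
    [Algebra.FinitePresentation A P] [Algebra.FinitePresentation C (C ⊗[A] B)] :
    ∃ T : Finset P, (T : Set P) ⊆ LinearMap.ker π.toLinearMap ∧
      GlueFin.Q (R' := C) (LinearMap.ker π.toLinearMap) ≤
        GlueFin.Q (R' := C) ((Ideal.span (T : Set P)).restrictScalars A) := by
  have hsurj : Function.Surjective (Algebra.TensorProduct.map (AlgHom.id C C) π) := by
    intro y
    obtain ⟨z, hz⟩ := LinearMap.lTensor_surjective C (g := π.toLinearMap) hπ y
    exact ⟨z, by rw [map_eq_baseChange, LinearMap.baseChange_eq_ltensor, hz]⟩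
  obtain ⟨S₁, hS₁⟩ := Algebra.FinitePresentation.ker_fG_of_surjective
    (Algebra.TensorProduct.map (AlgHom.id C C) π) hsurj
  have hS₁Q : (S₁ : Set (C ⊗[A] P)) ⊆ GlueFin.Q (R' := C) (LinearMap.ker π.toLinearMap) := by
    intro x hx
    have : x ∈ RingHom.ker (Algebra.TensorProduct.map (AlgHom.id C C) π).toRingHom := by
      rw [← hS₁]; exact Ideal.subset_span hx
    exact (map_eq_zero_iff_mem_Q C π hπ x).1 this
  obtain ⟨T, hT, hST⟩ := exists_finset_of_subset_Q C _ S₁ hS₁Q
  refine ⟨T, hT, ?_⟩
  intro z hz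
  have hz' : z ∈ Ideal.span (S₁ : Set (C ⊗[A] P)) := by
    rw [hS₁]; exact (map_eq_zero_iff_mem_Q C π hπ z).2 hz
  let I₀ : Ideal (C ⊗[A] P) :=
    { carrier := GlueFin.Q (R' := C) ((Ideal.span (T : Set P)).restrictScalars A)
      add_mem' := fun ha hb => add_mem ha hb
      zero_mem' := zero_mem _
      smul_mem' := fun c x hx => mul_mem_Q_of_ideal C _ c hx }
  have : Ideal.span (S₁ : Set (C ⊗[A] P)) ≤ I₀ := by
    rw [Ideal.span_le]
    intro x hx
    refine Submodule.span_mono (Set.image_mono ?_) (hST hx)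
    intro t ht
    exact Ideal.subset_span ht
  exact this hz'

end Generic

section Glue

variable {A : Type u} [CommRing A] {B : Type u} [CommRing B] [Algebra A B]
variable {A' : Type u} [CommRing A'] [Algebra A A'] {g : A}
variable {P : Type u} [CommRing P] [Algebra A P]

/-- Every element of `A_g ⊗ N` becomes `1 ⊗ n₀` after multiplying by a power of `g`. -/
theorem exists_pow_smul_eq_tmul (N : Type u) [AddCommGroup N] [Module A N]
    (w : Localization.Away g ⊗[A] N) :
    ∃ (k : ℕ) (n₀ : N), g ^ k • w = (1 : Localization.Away g) ⊗ₜ[A] n₀ := by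
  induction w using TensorProduct.induction_on with
  | zero => exact ⟨0, 0, by simp⟩
  | tmul c n =>
    obtain ⟨k, a, hka⟩ := IsLocalization.Away.surj g c
    refine ⟨k, a • n, ?_⟩
    rw [TensorProduct.smul_tmul', Algebra.smul_def, map_pow, mul_comm, hka,
      Algebra.algebraMap_eq_smul_one, TensorProduct.smul_tmul]
  | add w₁ w₂ h₁ h₂ =>
    obtain ⟨k₁, n₁, h₁⟩ := h₁
    obtain ⟨k₂, n₂, h₂⟩ := h₂
    refine ⟨k₁ + k₂, g ^ k₂ • n₁ + g ^ k₁ • n₂, ?_⟩
    rw [smul_add, pow_add]
    nth_rewrite 1 [mul_comm]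
    rw [mul_smul, mul_smul, h₁, h₂, TensorProduct.tmul_add, TensorProduct.tmul_smul,
      TensorProduct.tmul_smul]

theorem exists_pow_smul_eq_zero_of_tmul (p : P) (hp : (1 : Localization.Away g) ⊗ₜ[A] p = 0) :
    ∃ l : ℕ, g ^ l • p = 0 := by
  have : IsLocalizedModule (Submonoid.powers g) (TensorProduct.mk A (Localization.Away g) P 1) :=
    (isLocalizedModule_iff_isBaseChange (Submonoid.powers g) (Localization.Away g) _).2
      (TensorProduct.isBaseChange A P (Localization.Away g))
  obtain ⟨⟨_, l, rfl⟩, hl⟩ := (IsLocalizedModule.eq_zero_iff (Submonoid.powers g)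
    (TensorProduct.mk A (Localization.Away g) P 1)).1 hp
  exact ⟨l, hl⟩

/-- A finitely generated flat algebra whose base changes to `A'` and `A_g` are finitely presented
is finitely presented, when `A/g^n ≃ A'/g^n`. -/
theorem finitePresentation_of_glue_alg (hq : EtGlue.QuotPowBijective A A' g) [Module.Flat A B]
    [Algebra.FiniteType A B] [Algebra.FinitePresentation A' (A' ⊗[A] B)]
    [Algebra.FinitePresentation (Localization.Away g) (Localization.Away g ⊗[A] B)] :
    Algebra.FinitePresentation A B := by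
  classical
  obtain ⟨n, π, hπ⟩ := Algebra.FiniteType.iff_quotient_mvPolynomial''.1
    (inferInstance : Algebra.FiniteType A B)
  obtain ⟨T₁, hT₁, hQ₁⟩ := GlueAlgFP.exists_finset_Q A' π hπ
  obtain ⟨T₂, hT₂, hQ₂⟩ := GlueAlgFP.exists_finset_Q (Localization.Away g) π hπ
  obtain ⟨Jm, hJm⟩ : ∃ Jm, Jm = LinearMap.ker π.toLinearMap := ⟨_, rfl⟩
  rw [← hJm] at hT₁ hT₂ hQ₁ hQ₂
  obtain ⟨I, hI⟩ : ∃ I : Ideal (MvPolynomial (Fin n) A),
      I = Ideal.span ((T₁ ∪ T₂ : Finset _) : Set (MvPolynomial (Fin n) A)) := ⟨_, rfl⟩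
  obtain ⟨N, hN⟩ : ∃ N : Submodule A (MvPolynomial (Fin n) A), N = I.restrictScalars A :=
    ⟨_, rfl⟩
  have hmemN : ∀ x, x ∈ N ↔ x ∈ I := fun x => by rw [hN]; rfl
  have hIJ : N ≤ Jm := by
    intro x hx
    rw [hmemN, hI] at hx
    have hle : Ideal.span ((T₁ ∪ T₂ : Finset _) : Set (MvPolynomial (Fin n) A)) ≤
        RingHom.ker π.toRingHom := by
      rw [Ideal.span_le]
      intro t ht
      rw [Finset.coe_union] at ht
      rcases ht with ht | ht
      · have := hT₁ ht; rw [hJm] at this; exact this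
      · have := hT₂ ht; rw [hJm] at this; exact this
    have := hle hx
    rw [hJm]; exact this
  have h1N : (Ideal.span (T₁ : Set (MvPolynomial (Fin n) A))).restrictScalars A ≤ N := by
    intro x hx
    rw [hmemN, hI]
    exact Ideal.span_mono (by simp) hx
  have h2N : (Ideal.span (T₂ : Set (MvPolynomial (Fin n) A))).restrictScalars A ≤ N := by
    intro x hx
    rw [hmemN, hI]
    exact Ideal.span_mono (by simp) hx
  have key : N.comap Jm.subtype = ⊤ := by
    apply GlueFin.eq_top_of_glue hq
    · intro m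
      have hm : (1 : Localization.Away g) ⊗ₜ[A] (m : MvPolynomial (Fin n) A) ∈
          GlueFin.Q (R' := Localization.Away g) N :=
        GlueAlgFP.Q_mono _ h2N (hQ₂ (GlueFin.tmul_mem_Q Jm 1 m.2))
      rw [← GlueAlgFP.range_baseChange_eq_Q] at hm
      obtain ⟨w, hw⟩ := hm
      obtain ⟨k, n₀, hk⟩ := exists_pow_smul_eq_tmul (g := g) N w
      have h0 : (1 : Localization.Away g) ⊗ₜ[A] (g ^ k • (m : MvPolynomial (Fin n) A) - n₀) = 0 := by
        rw [TensorProduct.tmul_sub, TensorProduct.tmul_smul, ← hw,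
          ← LinearMap.map_smul_of_tower, hk, LinearMap.baseChange_tmul]
        exact sub_self _
      obtain ⟨l, hl⟩ := exists_pow_smul_eq_zero_of_tmul _ h0
      refine ⟨l + k, ?_⟩
      change ((g ^ (l + k) • m : Jm) : MvPolynomial (Fin n) A) ∈ N
      rw [smul_sub, sub_eq_zero, smul_smul, ← pow_add] at hl
      rw [Submodule.coe_smul, hl]
      exact N.smul_mem _ n₀.2
    · rw [eq_top_iff]
      intro z _
      have hinj : Function.Injective (Jm.subtype.baseChange A') := by
        rw [LinearMap.baseChange_eq_ltensor, hJm]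
        exact LinearMap.lTensor_injective_of_exact_of_flat π.toLinearMap hπ _
          (Submodule.injective_subtype _) (LinearMap.exact_subtype_ker_map π.toLinearMap) A'
      have hz : Jm.subtype.baseChange A' z ∈ GlueFin.Q (R' := A') N := by
        apply GlueAlgFP.Q_mono _ h1N
        apply hQ₁
        rw [← GlueAlgFP.range_baseChange_eq_Q]
        exact ⟨z, rfl⟩
      rw [← GlueAlgFP.range_baseChange_eq_Q] at hz
      obtain ⟨w, hw⟩ := hz
      have claim : ∀ w : A' ⊗[A] N, ∃ z' ∈ Submodule.span A'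
          ((fun m : Jm => (1 : A') ⊗ₜ[A] m) '' ((N.comap Jm.subtype : Submodule A Jm) : Set Jm)),
          Jm.subtype.baseChange A' z' = N.subtype.baseChange A' w := by
        intro w
        induction w using TensorProduct.induction_on with
        | zero => exact ⟨0, zero_mem _, by simp⟩
        | tmul a' x =>
          refine ⟨a' ⊗ₜ[A] ⟨x.1, hIJ x.2⟩, ?_, by simp⟩
          have : a' ⊗ₜ[A] (⟨x.1, hIJ x.2⟩ : Jm) = a' • ((1 : A') ⊗ₜ[A] (⟨x.1, hIJ x.2⟩ : Jm)) := by
            rw [TensorProduct.smul_tmul', smul_eq_mul, mul_one]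
          rw [this]
          exact Submodule.smul_mem _ _ (Submodule.subset_span ⟨⟨x.1, hIJ x.2⟩, x.2, rfl⟩)
        | add w₁ w₂ h₁ h₂ =>
          obtain ⟨z₁, hz₁, e₁⟩ := h₁
          obtain ⟨z₂, hz₂, e₂⟩ := h₂
          exact ⟨z₁ + z₂, add_mem hz₁ hz₂, by rw [map_add, map_add, e₁, e₂]⟩
      obtain ⟨z', hz', e⟩ := claim w
      rw [hw] at e
      rw [← hinj e]
      exact hz'
  refine Algebra.FinitePresentation.of_surjective hπ ⟨T₁ ∪ T₂, ?_⟩
  rw [← hI]
  apply le_antisymm
  · intro x hx
    have := hIJ ((hmemN x).2 hx)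
    rw [hJm] at this
    exact this
  · intro x hx
    have hx' : x ∈ Jm := by rw [hJm]; exact hx
    have : (⟨x, hx'⟩ : Jm) ∈ N.comap Jm.subtype := by rw [key]; trivial
    exact (hmemN x).1 this

end Glue

section Main

attribute [local instance] Algebra.TensorProduct.rightAlgebra

variable {R R' : Type u} [CommRing R] [CommRing R'] [Algebra R R'] {f : R}
variable {A B : Type u} [CommRing A] [Algebra R A] [CommRing B] [Algebra R B]

/-- Finite presentation of a flat map of algebras descends along a glueing pair. -/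
theorem fp_of_glue_ringHom (hRR' : EtGlue.IsGlueingPair R R' f)
    (φ : A →ₐ[R] B) (hφ : φ.toRingHom.Flat)
    (h1 : (Localization.awayMap φ.toRingHom (algebraMap R A f)).FinitePresentation)
    (h2 : (Algebra.TensorProduct.map (AlgHom.id R R') φ).toRingHom.FinitePresentation) :
    φ.toRingHom.FinitePresentation := by
  have hft : φ.toRingHom.FiniteType :=
    GlueFin.finiteType_of_glue φ hRR'.1 (RingHom.FiniteType.of_finitePresentation h1)
      (RingHom.FiniteType.of_finitePresentation h2)
  let _ : Algebra A B := φ.toRingHom.toAlgebra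
  have : IsScalarTower R A B := IsScalarTower.of_algebraMap_eq (fun r => (φ.commutes r).symm)
  let _ : Algebra (R' ⊗[R] A) (R' ⊗[R] B) :=
    (Algebra.TensorProduct.map (AlgHom.id R R') φ).toRingHom.toAlgebra
  have hq := GlueAlg.quotPowBijective_tensor (A := A) hRR'.1
  obtain ⟨g, hg⟩ : ∃ g, g = algebraMap R A f := ⟨_, rfl⟩
  rw [← hg] at h1 hq
  let _ : Algebra (Localization.Away g) (Localization.Away (algebraMap A B g)) :=
    (Localization.awayMap φ.toRingHom g).toAlgebra
  have : IsScalarTower A (Localization.Away g) (Localization.Away (algebraMap A B g)) :=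
    IsScalarTower.of_algebraMap_eq (fun a => by
      rw [IsScalarTower.algebraMap_apply A B (Localization.Away (algebraMap A B g))]
      change _ = Localization.awayMap φ.toRingHom g (algebraMap A _ a)
      rw [Localization.awayMap, IsLocalization.Away.map, IsLocalization.map_eq]
      rfl)
  have h1' : Algebra.FinitePresentation (Localization.Away g)
    (Localization.Away (algebraMap A B g)) := h1
  have h2' : Algebra.FinitePresentation (R' ⊗[R] A) (R' ⊗[R] B) := h2
  have : Module.Flat A B := hφ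
  have : Algebra.FiniteType A B := hft
  have : Algebra.FinitePresentation (R' ⊗[R] A) ((R' ⊗[R] A) ⊗[A] B) :=
    Algebra.FinitePresentation.equiv (GlueAlg.cancelEquiv (fun z => rfl)).symm
  have : Algebra.FinitePresentation (Localization.Away g) (Localization.Away g ⊗[A] B) :=
    Algebra.FinitePresentation.equiv (GlueAlg.awayEquiv g).symm
  change Algebra.FinitePresentation A B
  exact finitePresentation_of_glue_alg hq

end Main

end Groth.Agent.Lib.helper7.GlueAlgFP
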