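import Groth.Agent.Lib.Helper7.GlueMod
import Mathlib.Algebra.Module.LocalizedModule.Away
import Mathlib.RingTheory.TensorProduct.Basic

/-!
# helper7: Beauville–Laszlo glueing of modules (EtGlue) — essential surjectivity
-/

universe u

namespace Groth.Agent.Lib.helper7.GlueBL

open TensorProduct Groth.Agent.Lib.helper7

variable {R R' : Type u} [CommRing R] [CommRing R'] [Algebra R R'] {f : R}
variable {M' : Type u} [AddCommGroup M'] [Module R' M'] [Module R M'] [IsScalarTower R R' M']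
variable {M₁ : Type u} [AddCommGroup M₁] [Module R M₁]
variable (α : LocalizedModule (Submonoid.powers (algebraMap R R' f)) M' ≃ₗ[R'] R' ⊗[R] M₁)

/-- `m' ↦ α (m'/1)` as an `R'`-linear map. -/
noncomputable def β' : M' →ₗ[R'] R' ⊗[R] M₁ :=
  α.toLinearMap ∘ₗ LocalizedModule.mkLinearMap (Submonoid.powers (algebraMap R R' f)) M'

/-- `m' ↦ α (m'/1)` as an `R`-linear map. -/
noncomputable def β : M' →ₗ[R] R' ⊗[R] M₁ := (β' α).restrictScalars R

theorem β_apply (m' : M') :
    β α m' = α (LocalizedModule.mkLinearMap (Submonoid.powers (algebraMap R R' f)) M' m') := rfl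

theorem β_smul (r' : R') (m' : M') : β α (r' • m') = r' • β α m' := (β' α).map_smul r' m'

/-- The difference map `M' × M₁ → R' ⊗ M₁`. -/
noncomputable def g : M' × M₁ →ₗ[R] R' ⊗[R] M₁ :=
  β α ∘ₗ LinearMap.fst R M' M₁ - TensorProduct.mk R R' M₁ 1 ∘ₗ LinearMap.snd R M' M₁

/-- The glued module. -/
noncomputable abbrev Mg : Submodule R (M' × M₁) := LinearMap.ker (g α)

/-- First projection. -/
noncomputable def p₁ : Mg α →ₗ[R] M' := LinearMap.fst R M' M₁ ∘ₗ (Mg α).subtype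

/-- Second projection. -/
noncomputable def p₂ : Mg α →ₗ[R] M₁ := LinearMap.snd R M' M₁ ∘ₗ (Mg α).subtype

theorem key (x : Mg α) : β α (p₁ α x) = (1 : R') ⊗ₜ[R] p₂ α x := by
  have := x.2
  rw [LinearMap.mem_ker, g, LinearMap.sub_apply, sub_eq_zero] at this
  exact this

theorem mem_Mg {m' : M'} {m₁ : M₁} : (m', m₁) ∈ Mg α ↔ β α m' = (1 : R') ⊗ₜ[R] m₁ := by
  rw [LinearMap.mem_ker, g, LinearMap.sub_apply, sub_eq_zero]
  rfl

theorem ext_Mg {x y : Mg α} (h1 : p₁ α x = p₁ α y) (h2 : p₂ α x = p₂ α y) : x = y :=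
  Subtype.ext (Prod.ext h1 h2)

theorem β_eq_zero_iff (m' : M') : β α m' = 0 ↔ ∃ n : ℕ, algebraMap R R' f ^ n • m' = 0 := by
  rw [β_apply, LinearEquiv.map_eq_zero_iff,
    IsLocalizedModule.eq_zero_iff (Submonoid.powers (algebraMap R R' f))]
  constructor
  · rintro ⟨⟨_, n, rfl⟩, h⟩
    exact ⟨n, h⟩
  · rintro ⟨n, h⟩
    exact ⟨⟨_, n, rfl⟩, h⟩

theorem algebraMap_pow_smul (n : ℕ) (m' : M') : algebraMap R R' f ^ n • m' = f ^ n • m' := by
  rw [← map_pow, algebraMap_smul]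

/-- Every `1 ⊗ m₁` has a multiple in the image of `β`. -/
theorem exists_β_eq (m₁ : M₁) : ∃ (n : ℕ) (m' : M'), 0 < n ∧ β α m' = (1 : R') ⊗ₜ[R] (f ^ n • m₁) := by
  obtain ⟨⟨m', ⟨_, n, rfl⟩⟩, h⟩ := IsLocalizedModule.surj
    (Submonoid.powers (algebraMap R R' f))
    (LocalizedModule.mkLinearMap (Submonoid.powers (algebraMap R R' f)) M')
    (α.symm ((1 : R') ⊗ₜ[R] m₁))
  have h' : algebraMap R R' f ^ n • α.symm ((1 : R') ⊗ₜ[R] m₁) =
      LocalizedModule.mkLinearMap (Submonoid.powers (algebraMap R R' f)) M' m' := h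
  refine ⟨n + 1, algebraMap R R' f • m', Nat.succ_pos n, ?_⟩
  rw [β_smul, β_apply, ← h', map_smul, LinearEquiv.apply_symm_apply, smul_smul, ← pow_succ',
    ← map_pow, algebraMap_smul, TensorProduct.tmul_smul]

theorem isLocalizedModule_p₂ (hf : Function.Bijective fun x : M₁ => f • x) :
    IsLocalizedModule.Away f (p₂ α) := by
  apply IsLocalizedModule.Away.mk_of_addCommGroup
  · rw [Module.End.isUnit_iff]
    exact hf
  · intro m₁
    obtain ⟨n, m', _, h⟩ := exists_β_eq α m₁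
    exact ⟨n, ⟨(m', f ^ n • m₁), (mem_Mg α).mpr h⟩, rfl⟩
  · intro x hx
    have := key α x
    rw [hx, tmul_zero] at this
    obtain ⟨n, hn⟩ := (β_eq_zero_iff α _).mp this
    refine ⟨n, ext_Mg α ?_ ?_⟩
    · rw [map_smul, map_zero, ← algebraMap_pow_smul (R' := R'), hn]
    · rw [map_smul, hx, smul_zero, map_zero]

/-- The comparison map `R' ⊗ M → M'`. -/
noncomputable def μ : R' ⊗[R] (Mg α) →ₗ[R'] M' := (p₁ α).liftBaseChange R'

theorem μ_tmul (r' : R') (x : Mg α) : μ α (r' ⊗ₜ x) = r' • p₁ α x := rfl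

theorem lTensor_p₂_eq (z : R' ⊗[R] Mg α) : LinearMap.lTensor R' (p₂ α) z = β α (μ α z) := by
  induction z using TensorProduct.induction_on with
  | zero => rw [map_zero, map_zero, map_zero]
  | tmul r' x =>
    rw [LinearMap.lTensor_tmul, μ_tmul, β_smul, key, TensorProduct.smul_tmul', smul_eq_mul, mul_one]
  | add x y hx hy => rw [map_add, map_add, map_add, hx, hy]

theorem exists_decomp (hq : EtGlue.QuotPowBijective R R' f) (ξ : R' ⊗[R] M₁) :
    ∃ (m₁ : M₁) (z : R' ⊗[R] Mg α), ξ = (1 : R') ⊗ₜ[R] m₁ + β α (μ α z) := by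
  induction ξ using TensorProduct.induction_on with
  | zero => exact ⟨0, 0, by rw [tmul_zero, map_zero, map_zero, add_zero]⟩
  | add a b ha hb =>
    obtain ⟨m, z, rfl⟩ := ha
    obtain ⟨m', z', rfl⟩ := hb
    exact ⟨m + m', z + z', by rw [tmul_add, map_add, map_add]; abel⟩
  | tmul r' m₁ =>
    obtain ⟨n, m', hn, h⟩ := exists_β_eq α m₁
    obtain ⟨r, hr⟩ := GluePair.exists_lift_mod hq n hn r'
    obtain ⟨w, hw⟩ := Ideal.mem_span_singleton'.mp hr
    obtain ⟨x₀, hx₀⟩ : ∃ x₀ : Mg α, p₁ α x₀ = m' := ⟨⟨(m', f ^ n • m₁), (mem_Mg α).mpr h⟩, rfl⟩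
    refine ⟨r • m₁, (-w) ⊗ₜ x₀, ?_⟩
    rw [μ_tmul, β_smul, hx₀, h, TensorProduct.smul_tmul', smul_eq_mul, mul_one,
      ← TensorProduct.smul_tmul, ← TensorProduct.smul_tmul, ← add_tmul]
    congr 1
    rw [Algebra.smul_def, Algebra.smul_def, mul_one, map_pow]
    have e : r' = algebraMap R R' r - w * algebraMap R R' f ^ n := by rw [hw]; ring
    rw [e]
    ring

theorem μ_surjective (hq : EtGlue.QuotPowBijective R R' f) : Function.Surjective (μ α) := by
  intro m'
  obtain ⟨m₁, z, h⟩ := exists_decomp α hq (β α m')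
  have hx : (m' - μ α z, m₁) ∈ Mg α := (mem_Mg α).mpr (by rw [map_sub, h]; abel)
  refine ⟨z + 1 ⊗ₜ ⟨_, hx⟩, ?_⟩
  rw [map_add, μ_tmul, one_smul]
  change μ α z + (m' - μ α z) = m'
  abel

omit [Module R M'] [IsScalarTower R R' M'] in
/-- Abstract injectivity criterion. -/
theorem injective_of_abstract (h : EtGlue.IsGlueingPair R R' f) {M : Type u} [AddCommGroup M]
    [Module R M] (q₂ : M →ₗ[R] M₁) (ν : R' ⊗[R] M →ₗ[R'] M') (b : M' → R' ⊗[R] M₁) (hb : b 0 = 0)
    (ha : ∀ z, LinearMap.lTensor R' q₂ z = b (ν z))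
    (hK : ∀ v : M₁, ∃ n : ℕ, f ^ n • v ∈ LinearMap.range q₂)
    (hc : ∀ x : M, q₂ x = 0 → ∃ n : ℕ, f ^ n • x = 0)
    (hd : ∀ x : M, q₂ x = 0 → ν ((1 : R') ⊗ₜ[R] x) = 0 → x = 0) : Function.Injective ν := by
  rw [injective_iff_map_eq_zero]
  intro z hz
  have hψ : LinearMap.lTensor R' q₂ z = 0 := by rw [ha, hz, hb]
  have hfac : q₂ = (LinearMap.range q₂).subtype ∘ₗ q₂.rangeRestrict := rfl
  rw [hfac, LinearMap.lTensor_comp, LinearMap.comp_apply] at hψ
  have h0 := GlueTF.lTensor_injective_of_tors_quot h _ hK (hψ.trans (map_zero _).symm)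
  have hex : Function.Exact (LinearMap.ker q₂.rangeRestrict).subtype q₂.rangeRestrict :=
    LinearMap.exact_subtype_ker_map _
  have hex' := lTensor_exact R' hex (LinearMap.surjective_rangeRestrict q₂)
  obtain ⟨t, rfl⟩ := (hex' z).mp h0
  have hp₂ : ∀ c : LinearMap.ker q₂.rangeRestrict, q₂ c.1 = 0 := fun c => by
    have := c.2
    rw [LinearMap.mem_ker] at this
    exact congrArg Subtype.val this
  have htors : ∀ c : LinearMap.ker q₂.rangeRestrict, ∃ n : ℕ, f ^ n • c = 0 := by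
    intro c
    obtain ⟨n, hn⟩ := hc c.1 (hp₂ c)
    exact ⟨n, Subtype.ext hn⟩
  obtain ⟨t₀, rfl⟩ := GlueTF.exists_tmul_of_tors h.1 htors t
  rw [LinearMap.lTensor_tmul, Submodule.subtype_apply] at hz ⊢
  rw [hd t₀.1 (hp₂ t₀) hz, tmul_zero]

theorem μ_injective (h : EtGlue.IsGlueingPair R R' f) : Function.Injective (μ α) := by
  apply injective_of_abstract h (p₂ α) (μ α) (β α) (map_zero _) (lTensor_p₂_eq α)
  · intro v
    obtain ⟨n, m', _, h⟩ := exists_β_eq α v
    exact ⟨n, ⟨⟨_, (mem_Mg α).mpr h⟩, rfl⟩⟩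
  · intro x hx
    have := key α x
    rw [hx, tmul_zero] at this
    obtain ⟨n, hn⟩ := (β_eq_zero_iff α _).mp this
    refine ⟨n, ext_Mg α ?_ ?_⟩
    · rw [map_smul, map_zero, ← algebraMap_pow_smul (R' := R'), hn]
    · rw [map_smul, hx, smul_zero, map_zero]
  · intro x hx hz
    rw [μ_tmul, one_smul] at hz
    exact ext_Mg α (by rw [hz, map_zero]) (by rw [hx, map_zero])

/-- Beauville–Laszlo: essential surjectivity, with glueability. -/
theorem bl (hRR : EtGlue.IsGlueingPair R R' f) (hf : Function.Bijective fun x : M₁ => f • x) :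
    ∃ (M : Type u) (_ : AddCommGroup M) (_ : Module R M) (_ : EtGlue.IsGlueable R R' f M)
      (e' : R' ⊗[R] M ≃ₗ[R'] M') (e₁ : LocalizedModule (Submonoid.powers f) M ≃ₗ[R] M₁),
      ∀ m : M, α (LocalizedModule.mkLinearMap (Submonoid.powers (algebraMap R R' f)) M'
        (e' ((1 : R') ⊗ₜ[R] m))) =
        (1 : R') ⊗ₜ[R] e₁ (LocalizedModule.mkLinearMap (Submonoid.powers f) M m) := by
  have hloc : IsLocalizedModule (Submonoid.powers f) (p₂ α) := isLocalizedModule_p₂ α hf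
  have hq : EtGlue.QuotPowBijective R R' f := hRR.1
  have hμ : Function.Bijective (μ α) := ⟨μ_injective α hRR, μ_surjective α hq⟩
  refine ⟨Mg α, inferInstance, inferInstance, ?_,
    LinearEquiv.ofBijective (μ α) hμ,
    IsLocalizedModule.iso (Submonoid.powers f) (p₂ α), ?_⟩
  · refine GlueMod.isGlueable_of_tors hq ?_
      (fun x hx => GlueTF.exists_tmul_of_pow_smul_eq_zero hRR x hx)
    rintro m ⟨n, hn⟩ h0
    have h1 : p₁ α m = 0 := by
      have := congrArg (μ α) h0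
      rw [μ_tmul, one_smul, map_zero] at this
      exact this
    have h2 : p₂ α m = 0 := by
      have hinj : Function.Injective fun x : M₁ => f ^ n • x := by
        rw [← smul_iterate]
        exact hf.1.iterate n
      apply hinj
      simp only
      rw [← map_smul, hn, map_zero, smul_zero]
    exact ext_Mg α (by rw [h1, map_zero]) (by rw [h2, map_zero])
  · intro m
    have e1 : IsLocalizedModule.iso (Submonoid.powers f) (p₂ α)
        (LocalizedModule.mkLinearMap (Submonoid.powers f) (Mg α) m) = p₂ α m := by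
      rw [LocalizedModule.mkLinearMap_apply, IsLocalizedModule.iso_mk_one]
    rw [LinearEquiv.ofBijective_apply, μ_tmul, one_smul, e1]
    exact key α m

end Groth.Agent.Lib.helper7.GlueBL
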