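import Groth.Agent.Lib.Helper7.GlueTors
import Mathlib.LinearAlgebra.DirectSum.Finsupp
import Mathlib.LinearAlgebra.TensorProduct.RightExactness
import Mathlib.Algebra.Colimit.TensorProduct
import Mathlib.RingTheory.TensorProduct.Finite
import Mathlib.Algebra.Exact.Basic

/-!
# helper7: glueing pairs — `R' ⊗ -` preserves injections with `f`-power torsion cokernel (EtGlue)

This is the elementary form of `Tor_1^R(R', Q) = 0` for `f`-power torsion `Q`.
-/

universe u

namespace Groth.Agent.Lib.helper7.GlueTF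

open TensorProduct Groth.Agent.Lib.helper7

variable {R R' : Type u} [CommRing R] [CommRing R'] [Algebra R R'] {f : R}

section Tors

variable {C : Type u} [AddCommGroup C] [Module R C]

/-- For `f`-power torsion `C`, the map `C → R' ⊗ C` is surjective. -/
theorem exists_tmul_of_tors (hq : EtGlue.QuotPowBijective R R' f)
    (htors : ∀ c : C, ∃ n : ℕ, f ^ n • c = 0) (z : R' ⊗[R] C) : ∃ c : C, (1 : R') ⊗ₜ[R] c = z := by
  induction z using TensorProduct.induction_on with
  | zero => exact ⟨0, tmul_zero _ _⟩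
  | tmul r' c =>
    obtain ⟨n, hn⟩ := htors c
    obtain ⟨r, hr⟩ := GluePair.exists_lift_mod hq (n + 1) (Nat.succ_pos n) r'
    obtain ⟨w, hw⟩ := Ideal.mem_span_singleton'.mp hr
    refine ⟨r • c, ?_⟩
    have e : r' = algebraMap R R' r - w * algebraMap R R' f ^ (n + 1) := by rw [hw]; ring
    have h0 : (w * algebraMap R R' f ^ (n + 1)) ⊗ₜ[R] c = 0 := by
      rw [← map_pow, mul_comm, ← Algebra.smul_def, TensorProduct.smul_tmul, pow_succ', mul_smul, hn,
        smul_zero, tmul_zero]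
    rw [e, sub_tmul, h0, sub_zero, Algebra.algebraMap_eq_smul_one, TensorProduct.smul_tmul]
  | add x y hx hy =>
    obtain ⟨c₁, rfl⟩ := hx
    obtain ⟨c₂, rfl⟩ := hy
    exact ⟨c₁ + c₂, tmul_add _ _ _⟩

/-- `R' ⊗ -` preserves injections into `f`-power torsion modules. -/
theorem lTensor_injective_of_tors (hq : EtGlue.QuotPowBijective R R' f) {T₁ T₂ : Type u}
    [AddCommGroup T₁] [Module R T₁] [AddCommGroup T₂] [Module R T₂] (ι : T₁ →ₗ[R] T₂)
    (hι : Function.Injective ι) (htors : ∀ c : T₂, ∃ n : ℕ, f ^ n • c = 0) :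
    Function.Injective (LinearMap.lTensor R' ι) := by
  have htors₁ : ∀ c : T₁, ∃ n : ℕ, f ^ n • c = 0 := fun c => by
    obtain ⟨n, hn⟩ := htors (ι c)
    exact ⟨n, hι (by rw [map_smul, hn, map_zero])⟩
  intro x y hxy
  obtain ⟨a, rfl⟩ := exists_tmul_of_tors hq htors₁ x
  obtain ⟨b, rfl⟩ := exists_tmul_of_tors hq htors₁ y
  rw [LinearMap.lTensor_tmul, LinearMap.lTensor_tmul] at hxy
  rw [hι (GluePair.tmul_injective hq htors hxy)]

end Tors

section Free

/-- In `R' ⊗ F` with `F` free, the `f^n`-torsion comes from the `f^n`-torsion of `F`. -/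
theorem exists_tmul_of_smul_eq_zero_finsupp (h : EtGlue.IsGlueingPair R R' f) (I : Type u) (n : ℕ)
    (y : R' ⊗[R] (I →₀ R)) (hy : f ^ n • y = 0) :
    ∃ v : I →₀ R, f ^ n • v = 0 ∧ (1 : R') ⊗ₜ[R] v = y := by
  classical
  obtain ⟨c, hc⟩ : ∃ c, c = TensorProduct.finsuppScalarRight R R R' I y := ⟨_, rfl⟩
  have hc0 : ∀ i, algebraMap R R' f ^ n * c i = 0 := by
    intro i
    have : (f ^ n • c) i = 0 := by rw [hc, ← map_smul, hy, map_zero]; rfl
    rwa [Finsupp.smul_apply, Algebra.smul_def, map_pow] at this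
  choose t ht1 ht2 using fun i => GlueTors.tors_surj_level h n (c i) (hc0 i)
  have ht0 : ∀ i, c i = 0 → t i = 0 := fun i hi =>
    GlueTors.tors_inj h _ ⟨n, ht1 i⟩ (by rw [ht2, hi])
  obtain ⟨v, hv⟩ : ∃ v : I →₀ R, ∀ i, v i = t i :=
    ⟨Finsupp.onFinset c.support t (fun i hi => by
      rw [Finsupp.mem_support_iff]; intro h0; exact hi (ht0 i h0)), fun i => rfl⟩
  refine ⟨v, ?_, ?_⟩
  · ext i
    rw [Finsupp.smul_apply, hv, smul_eq_mul, ht1, Finsupp.zero_apply]
  · apply (TensorProduct.finsuppScalarRight R R R' I).injective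
    rw [← hc]
    ext i
    rw [TensorProduct.finsuppScalarRight_apply_tmul_apply, hv, ← ht2, Algebra.smul_def, mul_one]

/-- In `R' ⊗ F` with `F` free, the `f^n`-torsion comes from the `f^n`-torsion of `F`. -/
theorem exists_tmul_of_smul_eq_zero_free (h : EtGlue.IsGlueingPair R R' f) {I : Type u}
    {F : Type u} [AddCommGroup F] [Module R F] (e : F ≃ₗ[R] (I →₀ R)) (n : ℕ)
    (y : R' ⊗[R] F) (hy : f ^ n • y = 0) :
    ∃ v : F, f ^ n • v = 0 ∧ (1 : R') ⊗ₜ[R] v = y := by
  obtain ⟨v', hv'0, hv'⟩ := exists_tmul_of_smul_eq_zero_finsupp h I n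
    (LinearMap.lTensor R' e.toLinearMap y) (by rw [← map_smul, hy, map_zero])
  refine ⟨e.symm v', by rw [← map_smul, hv'0, map_zero], ?_⟩
  have := congrArg (LinearMap.lTensor R' e.symm.toLinearMap) hv'
  rw [LinearMap.lTensor_tmul, ← LinearMap.comp_apply, ← LinearMap.lTensor_comp] at this
  simpa using this

/-- Free bounded case. -/
theorem lTensor_injective_free (h : EtGlue.IsGlueingPair R R' f) {I : Type u}
    {F : Type u} [AddCommGroup F] [Module R F] (e : F ≃ₗ[R] (I →₀ R)) (n : ℕ)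
    (S : Submodule R F) (hS : ∀ v : F, f ^ n • v ∈ S) :
    Function.Injective (LinearMap.lTensor R' S.subtype) := by
  have hq := h.1
  obtain ⟨lam, hlam⟩ : ∃ lam : F →ₗ[R] S, ∀ v, ((lam v : S) : F) = f ^ n • v :=
    ⟨LinearMap.codRestrict S (f ^ n • LinearMap.id) hS, fun v => rfl⟩
  have hcomp : S.subtype ∘ₗ lam = f ^ n • LinearMap.id :=
    LinearMap.ext fun v => hlam v
  -- the torsion quotients
  have hle : LinearMap.range lam ≤ (LinearMap.range (S.subtype ∘ₗ lam)).comap S.subtype := by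
    rintro _ ⟨v, rfl⟩
    exact ⟨v, rfl⟩
  obtain ⟨ibar, hibar⟩ : ∃ ibar : (↥S ⧸ LinearMap.range lam) →ₗ[R]
      (F ⧸ LinearMap.range (S.subtype ∘ₗ lam)), ibar = Submodule.mapQ _ _ S.subtype hle :=
    ⟨_, rfl⟩
  have hibar_inj : Function.Injective ibar := by
    rw [injective_iff_map_eq_zero]
    intro sb hsb
    obtain ⟨s, rfl⟩ := Submodule.Quotient.mk_surjective _ sb
    rw [hibar, Submodule.mapQ_apply, Submodule.Quotient.mk_eq_zero] at hsb
    obtain ⟨v, hv⟩ := hsb
    rw [Submodule.Quotient.mk_eq_zero]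
    exact ⟨v, Subtype.ext hv⟩
  have htorsF : ∀ c : F ⧸ LinearMap.range (S.subtype ∘ₗ lam), ∃ k : ℕ, f ^ k • c = 0 := by
    intro c
    obtain ⟨v, rfl⟩ := Submodule.Quotient.mk_surjective _ c
    refine ⟨n, ?_⟩
    rw [← Submodule.Quotient.mk_smul, Submodule.Quotient.mk_eq_zero]
    exact ⟨v, by rw [hcomp]; rfl⟩
  rw [injective_iff_map_eq_zero]
  intro x hx
  have h1 : LinearMap.lTensor R' (LinearMap.range lam).mkQ x = 0 := by
    apply lTensor_injective_of_tors hq ibar hibar_inj htorsF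
    rw [map_zero, ← LinearMap.comp_apply, ← LinearMap.lTensor_comp]
    have : ibar ∘ₗ (LinearMap.range lam).mkQ =
        (LinearMap.range (S.subtype ∘ₗ lam)).mkQ ∘ₗ S.subtype := by
      rw [hibar]
      ext s : 1
      rfl
    rw [this, LinearMap.lTensor_comp, LinearMap.comp_apply, hx, map_zero]
  obtain ⟨y, rfl⟩ := (lTensor_exact R' (LinearMap.exact_map_mkQ_range lam)
    (Submodule.mkQ_surjective _) x).mp h1
  have hy : f ^ n • y = 0 := by
    rw [← LinearMap.comp_apply, ← LinearMap.lTensor_comp, hcomp, LinearMap.lTensor_smul,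
      LinearMap.lTensor_id] at hx
    exact hx
  obtain ⟨v, hv0, rfl⟩ := exists_tmul_of_smul_eq_zero_free h e n y hy
  rw [LinearMap.lTensor_tmul]
  have : lam v = 0 := Subtype.ext (by rw [hlam, hv0]; rfl)
  rw [this, tmul_zero]

end Free

section General

variable {N : Type u} [AddCommGroup N] [Module R N]

/-- Bounded case: `f^n N ⊆ S ⊆ N` implies `R' ⊗ S → R' ⊗ N` injective. -/
theorem lTensor_injective_bdd (h : EtGlue.IsGlueingPair R R' f) (n : ℕ) (S : Submodule R N)
    (hS : ∀ v : N, f ^ n • v ∈ S) : Function.Injective (LinearMap.lTensor R' S.subtype) := by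
  obtain ⟨F, _, _, e, π, hπ⟩ : ∃ (F : Type u) (_ : AddCommGroup F) (_ : Module R F)
      (_ : F ≃ₗ[R] (N →₀ R)) (π : F →ₗ[R] N), Function.Surjective π :=
    ⟨N →₀ R, inferInstance, inferInstance, LinearEquiv.refl _ _, Finsupp.linearCombination R id,
      Finsupp.linearCombination_id_surjective R N⟩
  obtain ⟨St, hSt⟩ : ∃ St : Submodule R F, St = S.comap π := ⟨_, rfl⟩
  have hSt' : ∀ v : F, f ^ n • v ∈ St := fun v => by
    rw [hSt, Submodule.mem_comap, map_smul]; exact hS _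
  have hinj := lTensor_injective_free h e n St hSt'
  obtain ⟨πS, hπS⟩ : ∃ πS : St →ₗ[R] S, ∀ v, ((πS v : S) : N) = π v :=
    ⟨π.restrict (fun v hv => by rw [hSt] at hv; exact hv), fun v => rfl⟩
  have hπS_surj : Function.Surjective πS := by
    rintro ⟨s, hs⟩
    obtain ⟨v, rfl⟩ := hπ s
    exact ⟨⟨v, by rw [hSt]; exact hs⟩, Subtype.ext (hπS _)⟩
  have hker : LinearMap.ker π ≤ St := fun v hv => by
    rw [hSt, Submodule.mem_comap, LinearMap.mem_ker.mp hv]; exact zero_mem _
  rw [injective_iff_map_eq_zero]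
  intro x hx
  obtain ⟨xt, rfl⟩ := LinearMap.lTensor_surjective R' hπS_surj x
  have hw : LinearMap.lTensor R' π (LinearMap.lTensor R' St.subtype xt) = 0 := by
    rw [← LinearMap.comp_apply, ← LinearMap.lTensor_comp] at hx ⊢
    have : π ∘ₗ St.subtype = S.subtype ∘ₗ πS := LinearMap.ext fun v => (hπS v).symm
    rw [this]
    exact hx
  obtain ⟨z, hz⟩ := (lTensor_exact R' (LinearMap.exact_subtype_ker_map π) hπ _).mp hw
  have hfac : (LinearMap.ker π).subtype = St.subtype ∘ₗ Submodule.inclusion hker := rfl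
  have hxt : xt = LinearMap.lTensor R' (Submodule.inclusion hker) z := by
    apply hinj
    rw [← LinearMap.comp_apply, ← LinearMap.lTensor_comp, ← hfac, hz]
  rw [hxt, ← LinearMap.comp_apply, ← LinearMap.lTensor_comp]
  have : πS ∘ₗ Submodule.inclusion hker = 0 := by
    ext v
    rw [LinearMap.comp_apply, hπS]
    exact LinearMap.mem_ker.mp v.2
  rw [this, LinearMap.lTensor_zero, LinearMap.zero_apply]

/-- General case: if `N / S` is `f`-power torsion then `R' ⊗ S → R' ⊗ N` is injective.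
(Elementary form of `Tor_1^R(R', N/S) = 0`.) -/
theorem lTensor_injective_of_tors_quot (h : EtGlue.IsGlueingPair R R' f) (S : Submodule R N)
    (hS : ∀ v : N, ∃ n : ℕ, f ^ n • v ∈ S) :
    Function.Injective (LinearMap.lTensor R' S.subtype) := by
  classical
  rw [LinearMap.lTensor_inj_iff_rTensor_inj, injective_iff_map_eq_zero]
  intro x hx
  obtain ⟨J, hJ, hle, y, rfl⟩ := Submodule.exists_fg_le_eq_rTensor_inclusion x
  have hy : J.subtype.rTensor R' y = J.subtype.rTensor R' 0 := by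
    rw [map_zero, ← hx, ← LinearMap.comp_apply, ← LinearMap.rTensor_comp]
    rfl
  obtain ⟨P, hP, hJP, hyP⟩ := hJ.exists_rTensor_fg_inclusion_eq hy
  rw [map_zero] at hyP
  obtain ⟨n, hn⟩ : ∃ n : ℕ, ∀ p ∈ P, f ^ n • p ∈ S := by
    obtain ⟨s, rfl⟩ := hP
    choose k hk using hS
    refine ⟨s.sup k, fun p hp => ?_⟩
    induction hp using Submodule.span_induction with
    | mem x hx =>
      have : k x ≤ s.sup k := Finset.le_sup hx
      obtain ⟨d, hd⟩ := Nat.exists_eq_add_of_le this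
      rw [hd, pow_add, mul_comm, mul_smul]
      exact S.smul_mem _ (hk x)
    | zero => rw [smul_zero]; exact zero_mem _
    | add x y _ _ hx hy => rw [smul_add]; exact add_mem hx hy
    | smul a x _ hx => rw [smul_comm]; exact S.smul_mem _ hx
  obtain ⟨S₁, hS₁⟩ : ∃ S₁ : Submodule R P, ∀ v : P, v ∈ S₁ ↔ (v : N) ∈ S :=
    ⟨S.comap P.subtype, fun v => Iff.rfl⟩
  have hbdd : ∀ v : P, f ^ n • v ∈ S₁ := fun v => by
    rw [hS₁]; exact hn _ v.2
  have hinj := (LinearMap.lTensor_inj_iff_rTensor_inj _ _).mp (lTensor_injective_bdd h n S₁ hbdd)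
  obtain ⟨j₁, hj₁⟩ : ∃ j₁ : J →ₗ[R] S₁, S₁.subtype ∘ₗ j₁ = J.inclusion hJP :=
    ⟨LinearMap.codRestrict S₁ (J.inclusion hJP) (fun v => by
      rw [hS₁]; exact hle v.2), rfl⟩
  obtain ⟨k, hk⟩ : ∃ k : S₁ →ₗ[R] S, ∀ v, ((k v : S) : N) = ((v : P) : N) :=
    ⟨LinearMap.codRestrict S (P.subtype ∘ₗ S₁.subtype) (fun v => (hS₁ _).mp v.2), fun v => rfl⟩
  have h2 : k ∘ₗ j₁ = J.inclusion hle := by
    ext v
    rw [LinearMap.comp_apply, hk]
    have := congrArg (fun g => ((g v : P) : N)) hj₁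
    exact this
  have h0 : j₁.rTensor R' y = 0 := by
    apply hinj
    rw [map_zero, ← LinearMap.comp_apply, ← LinearMap.rTensor_comp, hj₁]
    exact hyP
  rw [← h2, LinearMap.rTensor_comp, LinearMap.comp_apply, h0, map_zero]

end General

section Cor

variable {M : Type u} [AddCommGroup M] [Module R M]

/-- If `K` is `f`-torsion free, so is `R' ⊗ K`. -/
theorem smul_tensor_injective (h : EtGlue.IsGlueingPair R R' f)
    (hK : ∀ k : M, f • k = 0 → k = 0) (z : R' ⊗[R] M) (hz : f • z = 0) : z = 0 := by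
  obtain ⟨mu, hmu⟩ : ∃ mu : M →ₗ[R] M, mu = f • LinearMap.id := ⟨_, rfl⟩
  have hmu_inj : Function.Injective mu := by
    rw [injective_iff_map_eq_zero]
    intro k hk
    rw [hmu] at hk
    exact hK k hk
  have hS : ∀ v : M, f ^ 1 • v ∈ LinearMap.range mu := fun v => ⟨v, by rw [hmu, pow_one]; rfl⟩
  have hinj := lTensor_injective_bdd h 1 (LinearMap.range mu) hS
  have hfac : mu = (LinearMap.range mu).subtype ∘ₗ
      (LinearEquiv.ofInjective mu hmu_inj).toLinearMap := rfl
  have hz' : LinearMap.lTensor R' mu z = 0 := by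
    rw [hmu, LinearMap.lTensor_smul, LinearMap.lTensor_id]
    exact hz
  rw [hfac, LinearMap.lTensor_comp, LinearMap.comp_apply] at hz'
  have h0 := hinj (hz'.trans (map_zero _).symm)
  have hbij : Function.Injective (LinearMap.lTensor R' (LinearEquiv.ofInjective mu hmu_inj).toLinearMap) :=
    (LinearEquiv.lTensor R' (LinearEquiv.ofInjective mu hmu_inj)).injective
  exact hbij (h0.trans (map_zero _).symm)

theorem pow_smul_tensor_injective (h : EtGlue.IsGlueingPair R R' f)
    (hK : ∀ k : M, f • k = 0 → k = 0) (n : ℕ) (z : R' ⊗[R] M) (hz : f ^ n • z = 0) : z = 0 := by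
  induction n with
  | zero => simpa using hz
  | succ n ih =>
    apply ih
    apply smul_tensor_injective h hK
    rw [smul_smul, ← pow_succ']
    exact hz

/-- The `f`-power torsion submodule. -/
def tors (f : R) (M : Type u) [AddCommGroup M] [Module R M] : Submodule R M where
  carrier := {m | ∃ n : ℕ, f ^ n • m = 0}
  zero_mem' := ⟨0, smul_zero _⟩
  add_mem' := by
    rintro a b ⟨n, hn⟩ ⟨k, hk⟩
    refine ⟨n + k, ?_⟩
    rw [smul_add, pow_add, mul_smul, mul_smul, hk, smul_zero, add_zero, smul_comm, hn, smul_zero]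
  smul_mem' := by
    rintro c a ⟨n, hn⟩
    exact ⟨n, by rw [smul_comm, hn, smul_zero]⟩

theorem mem_tors {m : M} : m ∈ tors f M ↔ ∃ n : ℕ, f ^ n • m = 0 := Iff.rfl

/-- For a glueing pair, the `f`-power torsion of `R' ⊗ M` comes from the `f`-power torsion of `M`. -/
theorem exists_tmul_of_pow_smul_eq_zero (h : EtGlue.IsGlueingPair R R' f) (x : R' ⊗[R] M)
    (hx : ∃ n : ℕ, f ^ n • x = 0) : ∃ m : M, (∃ n : ℕ, f ^ n • m = 0) ∧ (1 : R') ⊗ₜ[R] m = x := by
  obtain ⟨n, hn⟩ := hx
  have hK : ∀ k : M ⧸ tors f M, f • k = 0 → k = 0 := by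
    intro k hk
    obtain ⟨m, rfl⟩ := Submodule.Quotient.mk_surjective _ k
    rw [← Submodule.Quotient.mk_smul, Submodule.Quotient.mk_eq_zero] at hk
    obtain ⟨j, hj⟩ := hk
    rw [Submodule.Quotient.mk_eq_zero]
    exact ⟨j + 1, by rw [pow_succ, mul_smul]; exact hj⟩
  have h0 : LinearMap.lTensor R' (tors f M).mkQ x = 0 := by
    apply pow_smul_tensor_injective h hK n
    rw [← map_smul, hn, map_zero]
  obtain ⟨y, rfl⟩ := (lTensor_exact R' (LinearMap.exact_subtype_mkQ (tors f M))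
    (Submodule.mkQ_surjective _) x).mp h0
  obtain ⟨t, rfl⟩ := exists_tmul_of_tors h.1 (fun c : tors f M => by
    obtain ⟨j, hj⟩ := c.2
    exact ⟨j, Subtype.ext hj⟩) y
  exact ⟨t.1, t.2, rfl⟩

end Cor

end Groth.Agent.Lib.helper7.GlueTF
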