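import Groth.Agent.Lib.Helper7.GlueBL
import Groth.Agent.Lib.Helper7.GlueTF
import Mathlib.Algebra.Module.LocalizedModule.IsLocalization
import Mathlib.RingTheory.Localization.Away.Basic

/-!
# helper7: Beauville–Laszlo glueing of algebras (EtGlue)
-/

universe u

namespace Groth.Agent.Lib.helper7.GlueBLAlg

open TensorProduct Groth.Agent.Lib.helper7

variable {R R' : Type u} [CommRing R] [CommRing R'] [Algebra R R'] {f : R}
variable {A₁ : Type u} [CommRing A₁] [Algebra R A₁]
variable {A' : Type u} [CommRing A'] [Algebra R A'] [Algebra R' A'] [IsScalarTower R R' A']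
variable (φ : Localization.Away (algebraMap R A' f) ≃ₐ[R'] R' ⊗[R] A₁)

/-- `A' → A'_f` as an `R'`-linear map. -/
noncomputable def ℓ (f : R) : A' →ₗ[R'] Localization.Away (algebraMap R A' f) :=
  (IsScalarTower.toAlgHom R' A' (Localization.Away (algebraMap R A' f))).toLinearMap

theorem isLocalizedModule_ℓ :
    IsLocalizedModule (Submonoid.powers (algebraMap R R' f)) (ℓ (R' := R') (A' := A') f) := by
  have : IsLocalization (Algebra.algebraMapSubmonoid A' (Submonoid.powers (algebraMap R R' f)))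
      (Localization.Away (algebraMap R A' f)) := by
    rw [Algebra.algebraMapSubmonoid, Submonoid.map_powers,
      ← IsScalarTower.algebraMap_apply R R' A']
    infer_instance
  exact isLocalizedModule_iff_isLocalization.2 this

/-- The module-level glueing isomorphism attached to `φ`. -/
noncomputable def α : LocalizedModule (Submonoid.powers (algebraMap R R' f)) A' ≃ₗ[R'] R' ⊗[R] A₁ :=
  have := isLocalizedModule_ℓ (R := R) (R' := R') (A' := A') (f := f)
  (IsLocalizedModule.iso (Submonoid.powers (algebraMap R R' f)) (ℓ (R' := R') (A' := A') f)).trans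
    φ.toLinearEquiv

theorem β_α (a' : A') : GlueBL.β (α φ) a' =
    φ (algebraMap A' (Localization.Away (algebraMap R A' f)) a') := by
  have := isLocalizedModule_ℓ (R := R) (R' := R') (A' := A') (f := f)
  rw [GlueBL.β_apply, α, LinearEquiv.trans_apply, LocalizedModule.mkLinearMap_apply,
    IsLocalizedModule.iso_mk_one]
  rfl

/-- first algebra map `A' × A₁ → R' ⊗ A₁`. -/
noncomputable def h₁ : A' × A₁ →ₐ[R] R' ⊗[R] A₁ :=
  ((φ.toAlgHom.restrictScalars R).comp
    (IsScalarTower.toAlgHom R A' (Localization.Away (algebraMap R A' f)))).comp (AlgHom.fst R A' A₁)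

/-- second algebra map `A' × A₁ → R' ⊗ A₁`. -/
noncomputable def h₂ : A' × A₁ →ₐ[R] R' ⊗[R] A₁ :=
  (Algebra.TensorProduct.includeRight).comp (AlgHom.snd R A' A₁)

/-- The glued algebra. -/
noncomputable abbrev Ag : Subalgebra R (A' × A₁) := AlgHom.equalizer (h₁ φ) (h₂ (R' := R') (A' := A'))

theorem mem_Ag (x : A' × A₁) : x ∈ Ag φ ↔
    φ (algebraMap A' (Localization.Away (algebraMap R A' f)) x.1) = (1 : R') ⊗ₜ[R] x.2 := by
  rw [AlgHom.mem_equalizer]
  rfl

theorem mem_Ag_iff_mem_Mg (x : A' × A₁) : x ∈ Ag φ ↔ x ∈ GlueBL.Mg (α φ) := by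
  rw [mem_Ag, ← Prod.mk.eta (p := x), GlueBL.mem_Mg, β_α]

/-- The glued algebra is the glued module. -/
noncomputable def ε : Ag φ ≃ₗ[R] GlueBL.Mg (α φ) where
  toFun a := ⟨a.1, (mem_Ag_iff_mem_Mg φ a.1).1 a.2⟩
  invFun x := ⟨x.1, (mem_Ag_iff_mem_Mg φ x.1).2 x.2⟩
  map_add' _ _ := rfl
  map_smul' _ _ := rfl
  left_inv _ := rfl
  right_inv _ := rfl

/-- first projection, as an algebra map. -/
noncomputable def q₁ : Ag φ →ₐ[R] A' := (AlgHom.fst R A' A₁).comp (Ag φ).val

/-- second projection, as an algebra map. -/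
noncomputable def q₂ : Ag φ →ₐ[R] A₁ := (AlgHom.snd R A' A₁).comp (Ag φ).val

theorem q₁_eq (a : Ag φ) : q₁ φ a = GlueBL.p₁ (α φ) (ε φ a) := rfl

theorem q₂_eq (a : Ag φ) : q₂ φ a = GlueBL.p₂ (α φ) (ε φ a) := rfl

theorem key (a : Ag φ) :
    φ (algebraMap A' (Localization.Away (algebraMap R A' f)) (q₁ φ a)) = (1 : R') ⊗ₜ[R] q₂ φ a :=
  (mem_Ag φ a.1).1 a.2

theorem isLocalizedModule_q₂ (hf : Function.Bijective fun x : A₁ => f • x) :
    IsLocalizedModule (Submonoid.powers f) (q₂ φ).toLinearMap := by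
  have := GlueBL.isLocalizedModule_p₂ (α φ) hf
  exact IsLocalizedModule.of_linearEquiv_right (Submonoid.powers f) (GlueBL.p₂ (α φ)) (ε φ)

/-- The comparison map `R' ⊗ A → A'` as an algebra map. -/
noncomputable def μA : R' ⊗[R] (Ag φ) →ₐ[R'] A' :=
  Algebra.TensorProduct.lift (Algebra.ofId R' A') (q₁ φ) (fun _ _ => Commute.all _ _)

theorem μA_tmul (r' : R') (a : Ag φ) : μA φ (r' ⊗ₜ a) = algebraMap R' A' r' * q₁ φ a := by
  simp [μA, Algebra.ofId_apply]

theorem μA_eq (z : R' ⊗[R] (Ag φ)) :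
    μA φ z = GlueBL.μ (α φ) (LinearEquiv.lTensor R' (ε φ) z) := by
  induction z using TensorProduct.induction_on with
  | zero => simp
  | tmul r' a =>
    rw [μA_tmul, LinearEquiv.lTensor_tmul, GlueBL.μ_tmul, Algebra.smul_def, q₁_eq]
  | add x y hx hy => rw [map_add, map_add, map_add, hx, hy]

theorem μA_bijective (h : EtGlue.IsGlueingPair R R' f) : Function.Bijective (μA φ) := by
  have hμ : Function.Bijective (GlueBL.μ (α φ)) :=
    ⟨GlueBL.μ_injective (α φ) h, GlueBL.μ_surjective (α φ) h.1⟩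
  have : (μA φ : R' ⊗[R] (Ag φ) → A') =
      (GlueBL.μ (α φ)) ∘ (LinearEquiv.lTensor R' (ε φ)) := by
    funext z; exact μA_eq φ z
  rw [this]
  exact hμ.comp (LinearEquiv.lTensor R' (ε φ)).bijective

theorem isGlueable_Ag (h : EtGlue.IsGlueingPair R R' f)
    (hf : Function.Bijective fun x : A₁ => f • x) : EtGlue.IsGlueable R R' f (Ag φ) := by
  refine GlueMod.isGlueable_of_tors h.1 ?_
    (fun x hx => GlueTF.exists_tmul_of_pow_smul_eq_zero h x hx)
  rintro m ⟨n, hn⟩ h0
  have h1 : q₁ φ m = 0 := by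
    have := congrArg (μA φ) h0
    rw [μA_tmul, map_one, one_mul, map_zero] at this
    exact this
  have h2 : q₂ φ m = 0 := by
    have hinj : Function.Injective fun x : A₁ => f ^ n • x := by
      rw [← smul_iterate]
      exact hf.1.iterate n
    apply hinj
    simp only
    rw [← map_smul, hn, map_zero, smul_zero]
  exact Subtype.ext (Prod.ext h1 h2)

/-- Beauville–Laszlo glueing of algebras. -/
theorem bl_alg (hRR' : EtGlue.IsGlueingPair R R' f) (h₁ : IsUnit (algebraMap R A₁ f)) :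
    ∃ (A : Type u) (_ : CommRing A) (_ : Algebra R A) (_ : EtGlue.IsGlueable R R' f A)
      (e₁ : Localization.Away (algebraMap R A f) ≃ₐ[R] A₁) (e' : R' ⊗[R] A ≃ₐ[R'] A'),
      ∀ a : A, φ (algebraMap A' (Localization.Away (algebraMap R A' f)) (e' ((1 : R') ⊗ₜ[R] a))) =
        (1 : R') ⊗ₜ[R] e₁ (algebraMap A (Localization.Away (algebraMap R A f)) a) := by
  have hf : Function.Bijective fun x : A₁ => f • x := by
    obtain ⟨u, hu⟩ := h₁
    constructor
    · intro x y hxy
      simp only [Algebra.smul_def, ← hu] at hxy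
      exact (Units.mul_right_inj u).1 hxy
    · intro x
      refine ⟨(u⁻¹ : A₁ˣ) * x, ?_⟩
      simp only [Algebra.smul_def, ← hu]
      rw [← mul_assoc, Units.mul_inv, one_mul]
  let _ : Algebra (Ag φ) A₁ := (q₂ φ).toRingHom.toAlgebra
  have : IsScalarTower R (Ag φ) A₁ :=
    IsScalarTower.of_algebraMap_eq (fun r => ((q₂ φ).commutes r).symm)
  have hloc : IsLocalization (Submonoid.powers (algebraMap R (Ag φ) f)) A₁ := by
    have h1 : IsLocalizedModule (Submonoid.powers f)
        (IsScalarTower.toAlgHom R (Ag φ) A₁).toLinearMap := isLocalizedModule_q₂ φ hf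
    have h2 := isLocalizedModule_iff_isLocalization.1 h1
    rwa [Algebra.algebraMapSubmonoid, Submonoid.map_powers] at h2
  refine ⟨Ag φ, inferInstance, inferInstance, isGlueable_Ag φ hRR' hf,
    (Localization.algEquiv (Submonoid.powers (algebraMap R (Ag φ) f)) A₁).restrictScalars R,
    AlgEquiv.ofBijective (μA φ) (μA_bijective φ hRR'), ?_⟩
  intro a
  have e1 : (AlgEquiv.ofBijective (μA φ) (μA_bijective φ hRR')) ((1 : R') ⊗ₜ[R] a) = q₁ φ a := by
    rw [AlgEquiv.ofBijective_apply, μA_tmul, map_one, one_mul]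
  have e2 : ((Localization.algEquiv (Submonoid.powers (algebraMap R (Ag φ) f)) A₁).restrictScalars R)
      (algebraMap (Ag φ) (Localization.Away (algebraMap R (Ag φ) f)) a) = q₂ φ a := by
    rw [AlgEquiv.restrictScalars_apply, AlgEquiv.commutes]
    rfl
  rw [e1, e2]
  exact key φ a

end Groth.Agent.Lib.helper7.GlueBLAlg
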