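import Groth.Agent.Lib.Helper7.GluePair
import Mathlib.RingTheory.Localization.Finiteness
import Mathlib.RingTheory.Finiteness.FiniteTypeLocal
import Mathlib.LinearAlgebra.TensorProduct.Finiteness
import Mathlib.Algebra.Module.LocalizedModule.Int

/-!
# helper7: glueing pairs — descent of finiteness conditions (EtGlue)
-/

universe u

namespace Groth.Agent.Lib.helper7.GlueFin

open TensorProduct Groth.Agent.Lib.helper7

section Core

variable {R R' : Type u} [CommRing R] [CommRing R'] [Algebra R R'] {f : R}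
variable {M : Type u} [AddCommGroup M] [Module R M]

/-- A submodule `N` of `M` with `M / N` being `f`-power torsion and `R' ⊗ N → R' ⊗ M` surjective
is everything. -/
theorem eq_top_of_glue (hq : EtGlue.QuotPowBijective R R' f) (N : Submodule R M)
    (h1 : ∀ m : M, ∃ n : ℕ, f ^ n • m ∈ N)
    (h2 : Submodule.span R' ((fun m : M => (1 : R') ⊗ₜ[R] m) '' (N : Set M)) = ⊤) : N = ⊤ := by
  have hs : Function.Surjective N.subtype := by
    apply GluePair.surjective_of_glue hq
    · intro m
      obtain ⟨n, hn⟩ := h1 m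
      exact ⟨n, ⟨_, hn⟩, rfl⟩
    · rw [← LinearMap.baseChange_eq_ltensor, ← LinearMap.range_eq_top, eq_top_iff, ← h2,
        Submodule.span_le]
      rintro _ ⟨m, hm, rfl⟩
      exact ⟨1 ⊗ₜ ⟨m, hm⟩, rfl⟩
  rw [eq_top_iff]
  intro m _
  obtain ⟨n, rfl⟩ := hs m
  exact n.2

theorem exists_finset_mem_span (z : R' ⊗[R] M) : ∃ T : Finset M,
    z ∈ Submodule.span R' ((fun m : M => (1 : R') ⊗ₜ[R] m) '' (T : Set M)) := by
  classical
  obtain ⟨S, rfl⟩ := TensorProduct.exists_finset z
  refine ⟨S.image Prod.snd, Submodule.sum_mem _ fun i hi => ?_⟩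
  have : i.1 ⊗ₜ[R] i.2 = i.1 • ((1 : R') ⊗ₜ[R] i.2) := by
    rw [TensorProduct.smul_tmul', smul_eq_mul, mul_one]
  rw [this]
  refine Submodule.smul_mem _ _ (Submodule.subset_span ⟨i.2, ?_, rfl⟩)
  simp only [Finset.coe_image, Set.mem_image, Finset.mem_coe]
  exact ⟨i, hi, rfl⟩

theorem exists_finset_subset_span (S : Finset (R' ⊗[R] M)) : ∃ T : Finset M,
    (S : Set (R' ⊗[R] M)) ⊆
      Submodule.span R' ((fun m : M => (1 : R') ⊗ₜ[R] m) '' (T : Set M)) := by
  classical
  choose T hT using exists_finset_mem_span (R := R) (R' := R') (M := M)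
  refine ⟨S.biUnion T, fun z hz => ?_⟩
  refine Submodule.span_mono (Set.image_mono ?_) (hT z)
  intro m hm
  simp only [Finset.coe_biUnion, Set.mem_iUnion]
  exact ⟨z, hz, hm⟩

end Core

section Loc

/-- Clearing denominators in a finite generating set of a localized module. -/
theorem exists_finset_pow_smul_mem_span {A : Type*} [CommRing A] (g : A) (Ag : Type*) [CommRing Ag]
    [Algebra A Ag] [IsLocalization.Away g Ag] {M Mg : Type*} [AddCommGroup M] [Module A M]
    [AddCommGroup Mg] [Module A Mg] [Module Ag Mg] [IsScalarTower A Ag Mg] (ι : M →ₗ[A] Mg)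
    [IsLocalizedModule.Away g ι] [hfin : Module.Finite Ag Mg] :
    ∃ T : Finset M, ∀ m : M, ∃ n : ℕ, g ^ n • m ∈ Submodule.span A (T : Set M) := by
  classical
  obtain ⟨s₁, s₂⟩ := hfin.1
  refine ⟨IsLocalizedModule.finsetIntegerMultiple (Submonoid.powers g) ι s₁, fun x => ?_⟩
  obtain ⟨⟨_, n₁, rfl⟩, hn₁⟩ := multiple_mem_span_of_mem_localization_span (Submonoid.powers g) Ag
    (s₁ : Set Mg) (IsLocalizedModule.mk' ι x (1 : Submonoid.powers g)) (by rw [s₂]; trivial)
  rw [Submonoid.smul_def, ← IsLocalizedModule.mk'_smul, IsLocalizedModule.mk'_one] at hn₁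
  obtain ⟨⟨_, n₂, rfl⟩, hn₂⟩ := IsLocalizedModule.smul_mem_finsetIntegerMultiple_span
    (Submonoid.powers g) ι _ s₁ hn₁
  rw [Submonoid.smul_def] at hn₂
  exact ⟨n₂ + n₁, by rw [pow_add, mul_smul]; exact hn₂⟩

variable {A B : Type*} [CommRing A] [CommRing B] [Algebra A B] (g : A) (Ag Bg : Type*)
  [CommRing Ag] [CommRing Bg] [Algebra A Ag] [IsLocalization.Away g Ag] [Algebra B Bg]
  [Algebra A Bg] [IsScalarTower A B Bg] [Algebra Ag Bg] [IsScalarTower A Ag Bg]
  [IsLocalization.Away (algebraMap A B g) Bg]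

/-- Clearing denominators in a finite module-generating set of a localized algebra. -/
theorem exists_finset_pow_smul_mem_span_ring [hfin : Module.Finite Ag Bg] :
    ∃ T : Finset B, ∀ b : B, ∃ n : ℕ, g ^ n • b ∈ Submodule.span A (T : Set B) := by
  classical
  obtain ⟨s₁, s₂⟩ := hfin.1
  have hloc : IsLocalization ((Submonoid.powers g).map (algebraMap A B)) Bg := by
    rw [Submonoid.map_powers]; infer_instance
  refine ⟨IsLocalization.finsetIntegerMultiple ((Submonoid.powers g).map (algebraMap A B)) s₁,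
    fun x => ?_⟩
  obtain ⟨⟨_, n₁, rfl⟩, hn₁⟩ := multiple_mem_span_of_mem_localization_span (Submonoid.powers g) Ag
    (s₁ : Set Bg) (algebraMap B Bg x) (by rw [s₂]; trivial)
  rw [Submonoid.smul_def, Algebra.smul_def, IsScalarTower.algebraMap_apply A B, ← map_mul] at hn₁
  obtain ⟨⟨_, n₂, rfl⟩, hn₂⟩ := IsLocalization.smul_mem_finsetIntegerMultiple_span
    (Submonoid.powers g) Bg _ s₁ hn₁
  rw [Submonoid.smul_def, ← Algebra.smul_def, smul_smul, ← pow_add] at hn₂
  exact ⟨n₂ + n₁, hn₂⟩

/-- Clearing denominators in a finite algebra-generating set of a localized algebra. -/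
theorem exists_finset_pow_smul_mem_adjoin [hfin : Algebra.FiniteType Ag Bg] :
    ∃ T : Finset B, ∀ b : B, ∃ n : ℕ, g ^ n • b ∈ Algebra.adjoin A (T : Set B) := by
  classical
  obtain ⟨s₁, s₂⟩ := hfin.1
  have hloc : IsLocalization ((Submonoid.powers g).map (algebraMap A B)) Bg := by
    rw [Submonoid.map_powers]; infer_instance
  refine ⟨IsLocalization.finsetIntegerMultiple ((Submonoid.powers g).map (algebraMap A B)) s₁,
    fun x => ?_⟩
  obtain ⟨⟨_, n₁, rfl⟩, hn₁⟩ := multiple_mem_adjoin_of_mem_localization_adjoin (Submonoid.powers g)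
    Ag (s₁ : Set Bg) (algebraMap B Bg x) (by rw [s₂]; trivial)
  rw [Submonoid.smul_def, Algebra.smul_def, IsScalarTower.algebraMap_apply A B, ← map_mul] at hn₁
  obtain ⟨⟨_, n₂, rfl⟩, hn₂⟩ := IsLocalization.lift_mem_adjoin_finsetIntegerMultiple
    (Submonoid.powers g) _ s₁ hn₁
  rw [Submonoid.smul_def, ← Algebra.smul_def, smul_smul, ← pow_add] at hn₂
  exact ⟨n₂ + n₁, hn₂⟩

end Loc

section Tensor

variable {R R' : Type u} [CommRing R] [CommRing R'] [Algebra R R']
variable {A B : Type u} [CommRing A] [Algebra R A] [CommRing B] [Algebra R B] (φ : A →ₐ[R] B)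

/-- `R'`-span of `1 ⊗ N`. -/
def Q (N : Submodule R B) : Submodule R' (R' ⊗[R] B) :=
  Submodule.span R' ((fun m : B => (1 : R') ⊗ₜ[R] m) '' (N : Set B))

theorem tmul_mem_Q (N : Submodule R B) (r' : R') {n : B} (hn : n ∈ N) :
    r' ⊗ₜ[R] n ∈ Q (R' := R') N := by
  have : r' ⊗ₜ[R] n = r' • ((1 : R') ⊗ₜ[R] n) := by
    rw [TensorProduct.smul_tmul', smul_eq_mul, mul_one]
  rw [this]
  exact Submodule.smul_mem _ _ (Submodule.subset_span ⟨n, hn, rfl⟩)

/-- If `N` is stable under multiplication by `φ a`, then `Q N` is stable under multiplication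
by the image of `R' ⊗ A`. -/
theorem map_mul_mem_Q (N : Submodule R B) (hN : ∀ (a : A) (n : B), n ∈ N → φ a * n ∈ N)
    (z : R' ⊗[R] A) {x : R' ⊗[R] B} (hx : x ∈ Q (R' := R') N) :
    Algebra.TensorProduct.map (AlgHom.id R R') φ z * x ∈ Q (R' := R') N := by
  induction z using TensorProduct.induction_on with
  | zero => rw [map_zero, zero_mul]; exact zero_mem _
  | add z₁ z₂ h₁ h₂ => rw [map_add, add_mul]; exact add_mem h₁ h₂
  | tmul r' a =>
    rw [Algebra.TensorProduct.map_tmul, AlgHom.id_apply]
    induction hx using Submodule.span_induction with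
    | mem x hx =>
      obtain ⟨n, hn, rfl⟩ := hx
      rw [Algebra.TensorProduct.tmul_mul_tmul]
      exact tmul_mem_Q N _ (hN a n hn)
    | zero => rw [mul_zero]; exact zero_mem _
    | add x y _ _ hx hy => rw [mul_add]; exact add_mem hx hy
    | smul c x _ hx => rw [mul_smul_comm]; exact Submodule.smul_mem _ _ hx

/-- If `N` is stable under multiplication, so is `Q N`. -/
theorem mul_mem_Q (N : Submodule R B) (hN : ∀ (m n : B), m ∈ N → n ∈ N → m * n ∈ N)
    {x y : R' ⊗[R] B} (hx : x ∈ Q (R' := R') N) (hy : y ∈ Q (R' := R') N) :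
    x * y ∈ Q (R' := R') N := by
  induction hx using Submodule.span_induction with
  | mem x hx =>
    obtain ⟨m, hm, rfl⟩ := hx
    induction hy using Submodule.span_induction with
    | mem y hy =>
      obtain ⟨n, hn, rfl⟩ := hy
      rw [Algebra.TensorProduct.tmul_mul_tmul]
      exact tmul_mem_Q N _ (hN m n hm hn)
    | zero => rw [mul_zero]; exact zero_mem _
    | add x y _ _ hx hy => rw [mul_add]; exact add_mem hx hy
    | smul c x _ hx => rw [mul_smul_comm]; exact Submodule.smul_mem _ _ hx
  | zero => rw [zero_mul]; exact zero_mem _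
  | add x y _ _ hx hy => rw [add_mul]; exact add_mem hx hy
  | smul c x _ hx => rw [smul_mul_assoc]; exact Submodule.smul_mem _ _ hx

end Tensor

section Main

variable {R R' : Type u} [CommRing R] [CommRing R'] [Algebra R R'] {f : R}
variable {A B : Type u} [CommRing A] [Algebra R A] [CommRing B] [Algebra R B] (φ : A →ₐ[R] B)

theorem finite_tensor (h : φ.toRingHom.Finite) :
    (Algebra.TensorProduct.map (AlgHom.id R R') φ).toRingHom.Finite := by
  classical
  let _ : Algebra A B := φ.toRingHom.toAlgebra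
  let _ : Algebra (R' ⊗[R] A) (R' ⊗[R] B) :=
    (Algebra.TensorProduct.map (AlgHom.id R R') φ).toRingHom.toAlgebra
  change Module.Finite (R' ⊗[R] A) (R' ⊗[R] B)
  have h' : Module.Finite A B := h
  obtain ⟨T, hT⟩ := h'.1
  refine ⟨⟨T.image (fun b => (1 : R') ⊗ₜ[R] b), ?_⟩⟩
  rw [eq_top_iff]
  rintro z -
  induction z using TensorProduct.induction_on with
  | zero => exact zero_mem _
  | add x y hx hy => exact add_mem hx hy
  | tmul r' b =>
    have hb : b ∈ Submodule.span A (T : Set B) := hT ▸ Submodule.mem_top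
    induction hb using Submodule.span_induction with
    | mem t ht =>
      have : r' ⊗ₜ[R] t = (r' ⊗ₜ[R] (1 : A)) • ((1 : R') ⊗ₜ[R] t) := by
        rw [Algebra.smul_def]
        change _ = Algebra.TensorProduct.map (AlgHom.id R R') φ (r' ⊗ₜ 1) * _
        simp
      rw [this]
      refine Submodule.smul_mem _ _ (Submodule.subset_span ?_)
      simp only [Finset.coe_image, Set.mem_image, Finset.mem_coe]
      exact ⟨t, ht, rfl⟩
    | zero => rw [tmul_zero]; exact zero_mem _
    | add x y _ _ hx hy => rw [tmul_add]; exact add_mem hx hy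
    | smul a x _ hx =>
      have : r' ⊗ₜ[R] (a • x) = ((1 : R') ⊗ₜ[R] a) • (r' ⊗ₜ[R] x) := by
        rw [Algebra.smul_def, Algebra.smul_def]
        change _ = Algebra.TensorProduct.map (AlgHom.id R R') φ (1 ⊗ₜ a) * _
        simp
        rfl
      rw [this]
      exact Submodule.smul_mem _ _ hx

theorem finite_of_glue (hq : EtGlue.QuotPowBijective R R' f)
    (h1 : (Localization.awayMap φ.toRingHom (algebraMap R A f)).Finite)
    (h2 : (Algebra.TensorProduct.map (AlgHom.id R R') φ).toRingHom.Finite) :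
    φ.toRingHom.Finite := by
  classical
  let _ : Algebra A B := φ.toRingHom.toAlgebra
  have : IsScalarTower R A B := IsScalarTower.of_algebraMap_eq (fun r => (φ.commutes r).symm)
  let _ : Algebra (R' ⊗[R] A) (R' ⊗[R] B) :=
    (Algebra.TensorProduct.map (AlgHom.id R R') φ).toRingHom.toAlgebra
  obtain ⟨g, hg⟩ : ∃ g, g = algebraMap R A f := ⟨_, rfl⟩
  rw [← hg] at h1
  let _ : Algebra (Localization.Away g) (Localization.Away (algebraMap A B g)) :=
    (Localization.awayMap φ.toRingHom g).toAlgebra
  have : IsScalarTower A (Localization.Away g) (Localization.Away (algebraMap A B g)) :=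
    IsScalarTower.of_algebraMap_eq (fun a => by
      rw [IsScalarTower.algebraMap_apply A B (Localization.Away (algebraMap A B g))]
      change _ = Localization.awayMap φ.toRingHom g (algebraMap A _ a)
      rw [Localization.awayMap, IsLocalization.Away.map, IsLocalization.map_eq]
      rfl)
  have h1' : Module.Finite (Localization.Away g) (Localization.Away (algebraMap A B g)) := h1
  have h2' : Module.Finite (R' ⊗[R] A) (R' ⊗[R] B) := h2
  obtain ⟨S₁, hS₁⟩ := h2'.1
  obtain ⟨T₁, hT₁⟩ := exists_finset_subset_span (R := R) S₁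
  obtain ⟨T₂, hT₂⟩ := exists_finset_pow_smul_mem_span_ring (B := B) g (Localization.Away g)
    (Localization.Away (algebraMap A B g))
  change Module.Finite A B
  refine ⟨⟨T₁ ∪ T₂, ?_⟩⟩
  obtain ⟨N, hN⟩ : ∃ N, N = (Submodule.span A ((T₁ ∪ T₂ : Finset B) : Set B)).restrictScalars R :=
    ⟨_, rfl⟩
  have key : N = ⊤ := by
    apply eq_top_of_glue hq
    · intro b
      obtain ⟨n, hn⟩ := hT₂ b
      refine ⟨n, ?_⟩
      rw [hN, Submodule.restrictScalars_mem]
      have : f ^ n • b = g ^ n • b := by rw [hg, ← map_pow, algebraMap_smul]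
      rw [this]
      exact Submodule.span_mono (by simp) hn
    · change Q (R' := R') N = ⊤
      let Q' : Submodule (R' ⊗[R] A) (R' ⊗[R] B) :=
        { carrier := Q (R' := R') N
          add_mem' := fun ha hb => add_mem ha hb
          zero_mem' := zero_mem _
          smul_mem' := fun z x hx => by
            rw [Algebra.smul_def]
            refine map_mul_mem_Q φ N (fun a n hn => ?_) z hx
            rw [hN, Submodule.restrictScalars_mem] at hn ⊢
            have : φ a * n = a • n := by rw [Algebra.smul_def]; rfl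
            rw [this]
            exact Submodule.smul_mem _ _ hn }
      have hQ' : Q' = ⊤ := by
        rw [eq_top_iff, ← hS₁, Submodule.span_le]
        intro z hz
        refine Submodule.span_mono (Set.image_mono (fun m hm => ?_)) (hT₁ hz)
        rw [hN]
        exact Submodule.subset_span (by simp only [Finset.coe_union, Set.mem_union]; exact Or.inl hm)
      rw [eq_top_iff]
      intro x _
      exact (hQ' ▸ Submodule.mem_top : x ∈ Q')
  rw [eq_top_iff]
  intro b _
  have : b ∈ N := key ▸ Submodule.mem_top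
  rw [hN] at this
  exact this

theorem finiteType_tensor (h : φ.toRingHom.FiniteType) :
    (Algebra.TensorProduct.map (AlgHom.id R R') φ).toRingHom.FiniteType := by
  classical
  let _ : Algebra A B := φ.toRingHom.toAlgebra
  let _ : Algebra (R' ⊗[R] A) (R' ⊗[R] B) :=
    (Algebra.TensorProduct.map (AlgHom.id R R') φ).toRingHom.toAlgebra
  change Algebra.FiniteType (R' ⊗[R] A) (R' ⊗[R] B)
  have h' : Algebra.FiniteType A B := h
  obtain ⟨T, hT⟩ := h'.1
  refine ⟨⟨T.image (fun b => (1 : R') ⊗ₜ[R] b), ?_⟩⟩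
  rw [eq_top_iff]
  rintro z -
  have h1 : ∀ b : B, (1 : R') ⊗ₜ[R] b ∈ Algebra.adjoin (R' ⊗[R] A)
      ((T.image (fun b => (1 : R') ⊗ₜ[R] b) : Finset (R' ⊗[R] B)) : Set (R' ⊗[R] B)) := by
    intro b
    have hb : b ∈ Algebra.adjoin A (T : Set B) := hT ▸ Algebra.mem_top
    induction hb using Algebra.adjoin_induction with
    | mem t ht =>
      refine Algebra.subset_adjoin ?_
      simp only [Finset.coe_image, Set.mem_image, Finset.mem_coe]
      exact ⟨t, ht, rfl⟩
    | algebraMap a =>
      have : (1 : R') ⊗ₜ[R] (algebraMap A B a) =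
          algebraMap (R' ⊗[R] A) (R' ⊗[R] B) (1 ⊗ₜ a) := by
        change _ = Algebra.TensorProduct.map (AlgHom.id R R') φ (1 ⊗ₜ a)
        simp
        rfl
      rw [this]
      exact Subalgebra.algebraMap_mem _ _
    | add x y _ _ hx hy => rw [tmul_add]; exact add_mem hx hy
    | mul x y _ _ hx hy =>
      have : (1 : R') ⊗ₜ[R] (x * y) = (1 ⊗ₜ x) * (1 ⊗ₜ y) := by
        rw [Algebra.TensorProduct.tmul_mul_tmul, one_mul]
      rw [this]
      exact mul_mem hx hy
  induction z using TensorProduct.induction_on with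
  | zero => exact zero_mem _
  | add x y hx hy => exact add_mem hx hy
  | tmul r' b =>
    have : r' ⊗ₜ[R] b = algebraMap (R' ⊗[R] A) (R' ⊗[R] B) (r' ⊗ₜ 1) * (1 ⊗ₜ b) := by
      change _ = Algebra.TensorProduct.map (AlgHom.id R R') φ (r' ⊗ₜ 1) * _
      simp
    rw [this]
    exact mul_mem (Subalgebra.algebraMap_mem _ _) (h1 b)

theorem finiteType_of_glue (hq : EtGlue.QuotPowBijective R R' f)
    (h1 : (Localization.awayMap φ.toRingHom (algebraMap R A f)).FiniteType)
    (h2 : (Algebra.TensorProduct.map (AlgHom.id R R') φ).toRingHom.FiniteType) :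
    φ.toRingHom.FiniteType := by
  classical
  let _ : Algebra A B := φ.toRingHom.toAlgebra
  have : IsScalarTower R A B := IsScalarTower.of_algebraMap_eq (fun r => (φ.commutes r).symm)
  let _ : Algebra (R' ⊗[R] A) (R' ⊗[R] B) :=
    (Algebra.TensorProduct.map (AlgHom.id R R') φ).toRingHom.toAlgebra
  obtain ⟨g, hg⟩ : ∃ g, g = algebraMap R A f := ⟨_, rfl⟩
  rw [← hg] at h1
  let _ : Algebra (Localization.Away g) (Localization.Away (algebraMap A B g)) :=
    (Localization.awayMap φ.toRingHom g).toAlgebra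
  have : IsScalarTower A (Localization.Away g) (Localization.Away (algebraMap A B g)) :=
    IsScalarTower.of_algebraMap_eq (fun a => by
      rw [IsScalarTower.algebraMap_apply A B (Localization.Away (algebraMap A B g))]
      change _ = Localization.awayMap φ.toRingHom g (algebraMap A _ a)
      rw [Localization.awayMap, IsLocalization.Away.map, IsLocalization.map_eq]
      rfl)
  have h1' : Algebra.FiniteType (Localization.Away g) (Localization.Away (algebraMap A B g)) := h1
  have h2' : Algebra.FiniteType (R' ⊗[R] A) (R' ⊗[R] B) := h2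
  obtain ⟨S₁, hS₁⟩ := h2'.1
  obtain ⟨T₁, hT₁⟩ := exists_finset_subset_span (R := R) S₁
  obtain ⟨T₂, hT₂⟩ := exists_finset_pow_smul_mem_adjoin (B := B) g (Localization.Away g)
    (Localization.Away (algebraMap A B g))
  change Algebra.FiniteType A B
  refine ⟨⟨T₁ ∪ T₂, ?_⟩⟩
  obtain ⟨N, hN⟩ : ∃ N, N = (Subalgebra.toSubmodule
      (Algebra.adjoin A ((T₁ ∪ T₂ : Finset B) : Set B))).restrictScalars R := ⟨_, rfl⟩
  have hmem : ∀ b, b ∈ N ↔ b ∈ Algebra.adjoin A ((T₁ ∪ T₂ : Finset B) : Set B) := by
    intro b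
    rw [hN, Submodule.restrictScalars_mem, Subalgebra.mem_toSubmodule]
  have key : N = ⊤ := by
    apply eq_top_of_glue hq
    · intro b
      obtain ⟨n, hn⟩ := hT₂ b
      refine ⟨n, ?_⟩
      rw [hmem]
      have : f ^ n • b = g ^ n • b := by rw [hg, ← map_pow, algebraMap_smul]
      rw [this]
      exact Algebra.adjoin_mono (by simp) hn
    · change Q (R' := R') N = ⊤
      have hNA : ∀ (a : A) (n : B), n ∈ N → φ a * n ∈ N := by
        intro a n hn
        rw [hmem] at hn ⊢
        have : φ a * n = a • n := by rw [Algebra.smul_def]; rfl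
        rw [this]
        exact Subalgebra.smul_mem _ hn _
      have hone : (1 : R' ⊗[R] B) ∈ Q (R' := R') N := by
        rw [Algebra.TensorProduct.one_def]
        exact tmul_mem_Q N 1 ((hmem 1).mpr (one_mem _))
      let Q' : Subalgebra (R' ⊗[R] A) (R' ⊗[R] B) :=
        { carrier := Q (R' := R') N
          add_mem' := fun ha hb => add_mem ha hb
          zero_mem' := zero_mem _
          one_mem' := hone
          mul_mem' := fun hx hy => mul_mem_Q N (fun m n hm hn => by
            rw [hmem] at hm hn ⊢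
            exact mul_mem hm hn) hx hy
          algebraMap_mem' := fun z => by
            have := map_mul_mem_Q φ N hNA z hone
            rw [mul_one] at this
            exact this }
      have hQ' : Q' = ⊤ := by
        rw [eq_top_iff, ← hS₁]
        refine Algebra.adjoin_le ?_
        intro z hz
        refine Submodule.span_mono (Set.image_mono (fun m hm => ?_)) (hT₁ hz)
        change m ∈ N
        rw [hmem]
        exact Algebra.subset_adjoin
          (by simp only [Finset.coe_union, Set.mem_union]; exact Or.inl hm)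
      rw [eq_top_iff]
      intro x _
      exact (hQ' ▸ Algebra.mem_top : x ∈ Q')
  rw [eq_top_iff]
  intro b _
  have : b ∈ N := key ▸ Submodule.mem_top
  rw [hmem] at this
  exact this

end Main

end Groth.Agent.Lib.helper7.GlueFin
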