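import Groth.Agent.Lib.Helper7.GlueFlat
import Groth.Agent.Lib.Helper7.GlueFin
import Mathlib.Algebra.Module.FinitePresentation
import Mathlib.RingTheory.Flat.EquationalCriterion
import Mathlib.RingTheory.LocalProperties.Projective

/-!
# helper7: finite presentation / finite projectivity descend along a glueing pair (EtGlue)
-/

universe u

namespace Groth.Agent.Lib.helper7.GlueFP

open TensorProduct Groth.Agent.Lib.helper7

section

variable {R : Type u} [CommRing R] (A : Type u) [CommRing A] [Algebra R A]
variable {P M : Type u} [AddCommGroup P] [Module R P] [AddCommGroup M] [Module R M]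

/-- If `M` is flat, `P → M` is onto with `P` finite, and `A ⊗ M` is finitely presented over `A`,
then `A ⊗ ker` is a finite `A`-module. -/
theorem finite_baseChange_ker (π : P →ₗ[R] M) (hπ : Function.Surjective π) [Module.Flat R M]
    [Module.Finite R P] [Module.FinitePresentation A (A ⊗[R] M)] :
    Module.Finite A (A ⊗[R] LinearMap.ker π) := by
  have hg : Function.Injective ((LinearMap.ker π).subtype.baseChange A) := by
    rw [LinearMap.baseChange_eq_ltensor]
    exact LinearMap.lTensor_injective_of_exact_of_flat π hπ _ (Submodule.injective_subtype _)
      (LinearMap.exact_subtype_ker_map π) A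
  have hs : Function.Surjective (π.baseChange A) := by
    rw [LinearMap.baseChange_eq_ltensor]
    exact LinearMap.lTensor_surjective A hπ
  have hker : (LinearMap.ker (π.baseChange A)).FG :=
    Module.FinitePresentation.fg_ker (π.baseChange A) hs
  have hex : Function.Exact ((LinearMap.ker π).subtype.baseChange A) (π.baseChange A) := by
    rw [LinearMap.baseChange_eq_ltensor, LinearMap.baseChange_eq_ltensor]
    exact lTensor_exact A (LinearMap.exact_subtype_ker_map π) hπ
  rw [Module.finite_def]
  apply Submodule.fg_of_fg_map_injective _ hg
  rw [Submodule.map_top, ← LinearMap.exact_iff.1 hex]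
  exact hker

end

variable {R R' : Type u} [CommRing R] [CommRing R'] [Algebra R R'] {f : R}
variable (M : Type u) [AddCommGroup M] [Module R M]

/-- Finite generation descends (tensor form of S2006). -/
theorem finite_of_glue_mod (hq : EtGlue.QuotPowBijective R R' f)
    [h1 : Module.Finite R' (R' ⊗[R] M)]
    [h2 : Module.Finite (Localization.Away f) (Localization.Away f ⊗[R] M)] :
    Module.Finite R M := by
  classical
  have h2' : Module.Finite (Localization.Away f) (LocalizedModule (Submonoid.powers f) M) :=
    Module.Finite.equiv (LocalizedModule.equivTensorProduct (Submonoid.powers f) M).symm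
  obtain ⟨S₁, hS₁⟩ := h1.1
  obtain ⟨T₁, hT₁⟩ := GlueFin.exists_finset_subset_span (R := R) S₁
  obtain ⟨T₂, hT₂⟩ := GlueFin.exists_finset_pow_smul_mem_span f (Localization.Away f)
    (LocalizedModule.mkLinearMap (Submonoid.powers f) M)
  refine ⟨⟨T₁ ∪ T₂, ?_⟩⟩
  apply GlueFin.eq_top_of_glue hq
  · intro m
    obtain ⟨n, hn⟩ := hT₂ m
    exact ⟨n, Submodule.span_mono (by simp) hn⟩
  · rw [eq_top_iff, ← hS₁, Submodule.span_le]
    refine hT₁.trans ?_
    apply Submodule.span_mono
    apply Set.image_mono
    intro m hm
    exact Submodule.subset_span (by simp [hm])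

/-- Finite presentation descends for flat modules. -/
theorem finitePresentation_of_glue (hq : EtGlue.QuotPowBijective R R' f) [Module.Flat R M]
    [Module.FinitePresentation R' (R' ⊗[R] M)]
    [Module.FinitePresentation (Localization.Away f) (Localization.Away f ⊗[R] M)] :
    Module.FinitePresentation R M := by
  have : Module.Finite R M := finite_of_glue_mod M hq
  obtain ⟨n, π, hπ⟩ := Module.Finite.exists_fin' R M
  have : Module.Finite R' (R' ⊗[R] LinearMap.ker π) := finite_baseChange_ker R' π hπ
  have : Module.Finite (Localization.Away f) (Localization.Away f ⊗[R] LinearMap.ker π) :=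
    finite_baseChange_ker (Localization.Away f) π hπ
  have hK : Module.Finite R (LinearMap.ker π) := finite_of_glue_mod _ hq
  exact Module.finitePresentation_of_free_of_surjective π hπ (Module.Finite.iff_fg.1 hK)

/-- Finite projectivity descends along a glueing pair. -/
theorem finite_projective_of_glue (h : EtGlue.IsGlueingPair R R' f)
    [Module.Finite R' (R' ⊗[R] M)] [Module.Projective R' (R' ⊗[R] M)]
    [Module.Finite (Localization.Away f) (Localization.Away f ⊗[R] M)]
    [Module.Projective (Localization.Away f) (Localization.Away f ⊗[R] M)] :
    Module.Finite R M ∧ Module.Projective R M := by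
  have : Module.Flat R M := GlueFlat.flat_of_glue h M
  have : Module.FinitePresentation R' (R' ⊗[R] M) := Module.finitePresentation_of_projective _ _
  have : Module.FinitePresentation (Localization.Away f) (Localization.Away f ⊗[R] M) :=
    Module.finitePresentation_of_projective _ _
  have : Module.FinitePresentation R M := finitePresentation_of_glue M h.1
  exact ⟨inferInstance, Module.Flat.projective_of_finitePresentation⟩

end Groth.Agent.Lib.helper7.GlueFP
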