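import Groth.Agent.Lib.Helper7.GlueTF
import Groth.Agent.Lib.Helper7.GlueMod
import Mathlib.RingTheory.Flat.Equalizer
import Mathlib.RingTheory.Flat.Stability
import Mathlib.RingTheory.Flat.Localization
import Mathlib.RingTheory.LocalRing.Module
import Mathlib.RingTheory.Localization.BaseChange

/-!
# helper7: flatness descends along a glueing pair (Beauville–Laszlo, EtGlue)

For a presentation `0 → K → P → X → 0` we write "`Tor_1(N, X) = 0`" as injectivity of
`N ⊗ K → N ⊗ P` (`j.lTensor N`).
-/

universe u

namespace Groth.Agent.Lib.helper7.GlueFlat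

open TensorProduct Groth.Agent.Lib.helper7

section BC

variable {R : Type u} [CommRing R] (A : Type u) [CommRing A] [Algebra R A]
variable (U : Type u) [AddCommGroup U] [Module R U] [Module A U] [IsScalarTower R A U]
variable {Y₁ Y₂ : Type u} [AddCommGroup Y₁] [Module R Y₁] [AddCommGroup Y₂] [Module R Y₂]

/-- `U ⊗_A (A ⊗_R -) = U ⊗_R -`, on injectivity of maps. -/
theorem lTensor_injective_of_baseChange (j : Y₁ →ₗ[R] Y₂)
    (h : Function.Injective ((j.baseChange A).lTensor U)) : Function.Injective (j.lTensor U) := by
  have hcomm : ∀ z, (AlgebraTensorModule.cancelBaseChange R A A U Y₂) ((j.baseChange A).lTensor U z) =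
      j.lTensor U (AlgebraTensorModule.cancelBaseChange R A A U Y₁ z) := by
    intro z
    induction z using TensorProduct.induction_on with
    | zero => simp
    | tmul u w =>
      induction w using TensorProduct.induction_on with
      | zero => simp
      | tmul a y => simp
      | add a b ha hb => simp only [tmul_add, map_add, ha, hb]
    | add a b ha hb => simp only [map_add, ha, hb]
  intro x y hxy
  obtain ⟨x', rfl⟩ := (AlgebraTensorModule.cancelBaseChange R A A U Y₁).surjective x
  obtain ⟨y', rfl⟩ := (AlgebraTensorModule.cancelBaseChange R A A U Y₁).surjective y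
  rw [← hcomm, ← hcomm] at hxy
  rw [h ((AlgebraTensorModule.cancelBaseChange R A A U Y₂).injective hxy)]

variable {K P X : Type u} [AddCommGroup K] [Module R K] [AddCommGroup P] [Module R P]
  [AddCommGroup X] [Module R X]

/-- If `0 → A ⊗ K → A ⊗ P → A ⊗ X → 0` is exact with `A ⊗ X` flat over `A`, then
`U ⊗_R K → U ⊗_R P` is injective for every `A`-module `U`. -/
theorem lTensor_injective_of_flat_baseChange (j : K →ₗ[R] P) (π : P →ₗ[R] X)
    (hex : Function.Exact j π) (hπ : Function.Surjective π)
    (hj : Function.Injective (j.baseChange A)) [Module.Flat A (A ⊗[R] X)] :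
    Function.Injective (j.lTensor U) := by
  apply lTensor_injective_of_baseChange A U j
  refine LinearMap.lTensor_injective_of_exact_of_flat (π.baseChange A) ?_ (j.baseChange A) hj ?_ U
  · rw [LinearMap.baseChange_eq_ltensor]
    exact LinearMap.lTensor_surjective A hπ
  · rw [LinearMap.baseChange_eq_ltensor, LinearMap.baseChange_eq_ltensor]
    exact lTensor_exact A hex hπ

end BC

section General

variable {R : Type u} [CommRing R]
variable {K P X : Type u} [AddCommGroup K] [Module R K] [AddCommGroup P] [Module R P]
  [AddCommGroup X] [Module R X]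
variable {N N₁ N₂ N₃ : Type u} [AddCommGroup N] [Module R N] [AddCommGroup N₁] [Module R N₁]
  [AddCommGroup N₂] [Module R N₂] [AddCommGroup N₃] [Module R N₃]

theorem rTensor_lTensor_comm (j : K →ₗ[R] P) (a : N₁ →ₗ[R] N₂) (x : N₁ ⊗[R] K) :
    a.rTensor P (j.lTensor N₁ x) = j.lTensor N₂ (a.rTensor K x) := by
  rw [← LinearMap.comp_apply, ← LinearMap.comp_apply, LinearMap.rTensor_comp_lTensor,
    LinearMap.lTensor_comp_rTensor]

/-- Transport of `Tor_1`-vanishing along an injective map whose `rTensor` is injective. -/
theorem lTensor_injective_of_rTensor_injective (j : K →ₗ[R] P) (a : N₁ →ₗ[R] N₂)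
    (ha : Function.Injective (a.rTensor K)) (h₂ : Function.Injective (j.lTensor N₂)) :
    Function.Injective (j.lTensor N₁) := by
  rw [injective_iff_map_eq_zero]
  intro x hx
  apply ha
  apply h₂
  rw [← rTensor_lTensor_comm, hx, map_zero, map_zero, map_zero]

/-- Transport along a linear equivalence. -/
theorem lTensor_injective_of_equiv (j : K →ₗ[R] P) (e : N₁ ≃ₗ[R] N₂)
    (h₂ : Function.Injective (j.lTensor N₂)) : Function.Injective (j.lTensor N₁) :=
  lTensor_injective_of_rTensor_injective j e.toLinearMap (LinearEquiv.rTensor K e).injective h₂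

/-- Middle exactness of the `Tor` sequence: if `Tor_1(N₁, X) = 0 = Tor_1(N₃, X)` then
`Tor_1(N₂, X) = 0`. -/
theorem lTensor_injective_of_ses (a : N₁ →ₗ[R] N₂) (b : N₂ →ₗ[R] N₃) (hab : Function.Exact a b)
    (hb : Function.Surjective b) (ha : Function.Injective a) (j : K →ₗ[R] P) [Module.Flat R P]
    (h₁ : Function.Injective (j.lTensor N₁)) (h₃ : Function.Injective (j.lTensor N₃)) :
    Function.Injective (j.lTensor N₂) := by
  rw [injective_iff_map_eq_zero]
  intro x hx
  have h1 : b.rTensor K x = 0 := by
    apply h₃
    rw [← rTensor_lTensor_comm, hx, map_zero, map_zero]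
  obtain ⟨y, rfl⟩ := (rTensor_exact K hab hb x).1 h1
  have h2 : j.lTensor N₁ y = 0 := by
    apply Module.Flat.rTensor_preserves_injective_linearMap (M := P) a ha
    rw [rTensor_lTensor_comm, hx, map_zero]
  rw [(injective_iff_map_eq_zero _).1 h₁ y h2, map_zero]

/-- `Tor_1(R, X) = 0`. -/
theorem lTensor_self_injective (j : K →ₗ[R] P) (hj : Function.Injective j) :
    Function.Injective (j.lTensor R) := by
  have hcomm : ∀ x, TensorProduct.lid R P (j.lTensor R x) = j (TensorProduct.lid R K x) := by
    intro x
    induction x using TensorProduct.induction_on with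
    | zero => simp
    | tmul r k => simp
    | add a b ha hb => simp only [map_add, ha, hb]
  intro x y hxy
  apply (TensorProduct.lid R K).injective
  apply hj
  rw [← hcomm, ← hcomm, hxy]

/-- Kernel of a surjection of flat modules is flat. -/
theorem flat_ker_of_exact (g : K →ₗ[R] P) (p : P →ₗ[R] X) (hg : Function.Injective g)
    (hp : Function.Surjective p) (H : Function.Exact g p) [Module.Flat R P] [Module.Flat R X] :
    Module.Flat R K := by
  rw [Module.Flat.iff_rTensor_preserves_injective_linearMap]
  intro N N' _ _ _ _ i hi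
  have hgN : Function.Injective (g.lTensor N) :=
    LinearMap.lTensor_injective_of_exact_of_flat p hp g hg H N
  have h1 : Function.Injective ((i.rTensor P) ∘ (g.lTensor N)) :=
    (Module.Flat.rTensor_preserves_injective_linearMap (M := P) i hi).comp hgN
  have h2 : (i.rTensor P) ∘ (g.lTensor N) = (g.lTensor N') ∘ (i.rTensor K) := by
    funext y
    simp only [Function.comp_apply]
    exact rTensor_lTensor_comm g i y
  rw [h2] at h1
  exact Function.Injective.of_comp h1

end General

section Loc

variable {R : Type u} [CommRing R] (f : R)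
variable {K P X : Type u} [AddCommGroup K] [Module R K] [AddCommGroup P] [Module R P]
  [AddCommGroup X] [Module R X]
variable {N : Type u} [AddCommGroup N] [Module R N]

/-- `Tor_1(N_f, X) = 0` when `X_f` is flat over `R_f`. -/
theorem lTensor_localizedModule_injective (j : K →ₗ[R] P) (π : P →ₗ[R] X)
    (hj : Function.Injective j) (hex : Function.Exact j π) (hπ : Function.Surjective π)
    [Module.Flat (Localization.Away f) (Localization.Away f ⊗[R] X)] :
    Function.Injective (j.lTensor (LocalizedModule (Submonoid.powers f) N)) := by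
  refine lTensor_injective_of_flat_baseChange (Localization.Away f)
    (LocalizedModule (Submonoid.powers f) N) j π hex hπ ?_
  rw [LinearMap.baseChange_eq_ltensor]
  exact Module.Flat.lTensor_preserves_injective_linearMap j hj

/-- `N ≃ N_f` when `f` acts bijectively on `N`. -/
theorem mkLinearMap_bijective (hN : Function.Bijective fun x : N => f • x) :
    Function.Bijective (LocalizedModule.mkLinearMap (Submonoid.powers f) N) := by
  have hpow : ∀ n : ℕ, Function.Bijective fun x : N => f ^ n • x := by
    intro n
    induction n with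
    | zero =>
      have : (fun x : N => f ^ 0 • x) = id := by funext x; simp
      rw [this]; exact Function.bijective_id
    | succ n ih =>
      have : (fun x : N => f ^ (n + 1) • x) = (fun x : N => f ^ n • x) ∘ (fun x : N => f • x) := by
        funext x
        simp [pow_succ, mul_smul]
      rw [this]
      exact ih.comp hN
  constructor
  · rw [injective_iff_map_eq_zero]
    intro m hm
    obtain ⟨n, hn⟩ := (GlueMod.mk_eq_zero_iff (f := f) m).1 hm
    exact (hpow n).1 (by simpa using hn)
  · intro y
    obtain ⟨n, m, -, hnm⟩ := GlueMod.exists_pow_smul_eq (f := f) y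
    obtain ⟨m₀, hm₀⟩ := (hpow n).2 m
    refine ⟨m₀, ?_⟩
    apply GlueMod.pow_smul_injective (f := f) n
    rw [hnm, ← hm₀]
    simp

/-- `Tor_1(N, X) = 0` when `f` acts bijectively on `N` and `X_f` is flat over `R_f`. -/
theorem lTensor_injective_of_bijective (j : K →ₗ[R] P) (π : P →ₗ[R] X)
    (hj : Function.Injective j) (hex : Function.Exact j π) (hπ : Function.Surjective π)
    [Module.Flat (Localization.Away f) (Localization.Away f ⊗[R] X)]
    (hN : Function.Bijective fun x : N => f • x) : Function.Injective (j.lTensor N) :=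
  lTensor_injective_of_equiv j (LinearEquiv.ofBijective _ (mkLinearMap_bijective f hN))
    (lTensor_localizedModule_injective f j π hj hex hπ)

end Loc

section Pair

variable {R R' : Type u} [CommRing R] [CommRing R'] [Algebra R R'] (f : R)
variable {K P X : Type u} [AddCommGroup K] [Module R K] [AddCommGroup P] [Module R P]
  [AddCommGroup X] [Module R X]

/-- `R → R' × R_f`. -/
noncomputable def gA : R →ₗ[R] R' × Localization.Away f :=
  LinearMap.prod (Algebra.linearMap R R') (Algebra.linearMap R (Localization.Away f))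

/-- `Localization.awayMap` as an `R`-linear map. -/
noncomputable def awayL : Localization.Away f →ₗ[R] Localization.Away (algebraMap R R' f) where
  toFun := Localization.awayMap (algebraMap R R') f
  map_add' := map_add _
  map_smul' r y := by
    simp only [RingHom.id_apply, Algebra.smul_def, map_mul, GlueTors.awayMap_algebraMap]
    rw [IsScalarTower.algebraMap_apply R R' (Localization.Away (algebraMap R R' f))]

/-- `R' × R_f → R'_f`, the difference map. -/
noncomputable def gB : R' × Localization.Away f →ₗ[R] Localization.Away (algebraMap R R' f) :=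
  LinearMap.coprod ((Algebra.linearMap R' (Localization.Away (algebraMap R R' f))).restrictScalars R)
    (-(awayL (R' := R') f))

theorem gA_apply (r : R) : gA (R' := R') f r = (algebraMap R R' r, algebraMap R (Localization.Away f) r) := rfl

theorem gB_apply (x : R') (y : Localization.Away f) :
    gB f (x, y) = algebraMap R' (Localization.Away (algebraMap R R' f)) x -
      Localization.awayMap (algebraMap R R') f y := by
  simp [gB, awayL, sub_eq_add_neg]

variable {f}

theorem gA_injective (h : EtGlue.IsGlueingPair R R' f) : Function.Injective (gA (R' := R') f) :=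
  h.2.1

theorem gB_surjective (h : EtGlue.IsGlueingPair R R' f) : Function.Surjective (gB (R' := R') f) := by
  intro z
  obtain ⟨x, y, hxy⟩ := h.2.2.2 z
  exact ⟨(x, y), by rw [gB_apply, hxy]⟩

theorem gA_gB_exact (h : EtGlue.IsGlueingPair R R' f) :
    Function.Exact (gA (R' := R') f) (gB (R' := R') f) := by
  rintro ⟨x, y⟩
  rw [gB_apply, sub_eq_zero]
  constructor
  · intro hxy
    obtain ⟨r, hr1, hr2⟩ := h.2.2.1 x y hxy
    exact ⟨r, by rw [gA_apply, hr1, hr2]⟩
  · rintro ⟨r, hr⟩
    rw [gA_apply, Prod.mk.injEq] at hr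
    rw [← hr.1, ← hr.2, GlueTors.awayMap_algebraMap]

theorem smul_bijective_away :
    Function.Bijective fun x : Localization.Away (algebraMap R R' f) => f • x := by
  have hu : IsUnit (algebraMap R (Localization.Away (algebraMap R R' f)) f) := by
    rw [IsScalarTower.algebraMap_apply R R' (Localization.Away (algebraMap R R' f))]
    exact IsLocalization.Away.algebraMap_isUnit (algebraMap R R' f)
  obtain ⟨u, hu⟩ := hu
  constructor
  · intro x y hxy
    simp only [Algebra.smul_def, ← hu] at hxy
    exact (Units.mul_right_inj u).1 hxy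
  · intro x
    refine ⟨(u⁻¹ : (Localization.Away (algebraMap R R' f))ˣ) * x, ?_⟩
    simp only [Algebra.smul_def, ← hu]
    rw [← mul_assoc, Units.mul_inv, one_mul]

/-- `Tor_1^R(R', X) = 0` for a glueing pair when `X_f` is flat over `R_f`. -/
theorem lTensor_injective_R' (h : EtGlue.IsGlueingPair R R' f) (j : K →ₗ[R] P) (π : P →ₗ[R] X)
    (hj : Function.Injective j) (hex : Function.Exact j π) (hπ : Function.Surjective π)
    [Module.Flat R P] [Module.Flat (Localization.Away f) (Localization.Away f ⊗[R] X)] :
    Function.Injective (j.lTensor R') := by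
  have h2 : Function.Injective (j.lTensor (R' × Localization.Away f)) :=
    lTensor_injective_of_ses (gA f) (gB f) (gA_gB_exact h) (gB_surjective h) (gA_injective h) j
      (lTensor_self_injective j hj)
      (lTensor_injective_of_bijective f j π hj hex hπ smul_bijective_away)
  refine lTensor_injective_of_rTensor_injective j (LinearMap.inl R R' (Localization.Away f)) ?_ h2
  have hc : (LinearMap.fst R R' (Localization.Away f)).rTensor K ∘ₗ
      (LinearMap.inl R R' (Localization.Away f)).rTensor K = LinearMap.id := by
    rw [← LinearMap.rTensor_comp, LinearMap.fst_comp_inl, LinearMap.rTensor_id]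
  exact Function.LeftInverse.injective
    (g := (LinearMap.fst R R' (Localization.Away f)).rTensor K)
    (fun x => by rw [← LinearMap.comp_apply, hc]; rfl)

/-- `Tor_1^R(N, X) = 0` for `f`-power torsion `N`, when `Tor_1^R(R', X) = 0` and `R' ⊗ X` is flat
over `R'`. -/
theorem lTensor_injective_of_tors (hq : EtGlue.QuotPowBijective R R' f) (j : K →ₗ[R] P)
    (π : P →ₗ[R] X) (hex : Function.Exact j π) (hπ : Function.Surjective π)
    (hjR' : Function.Injective (j.lTensor R')) [Module.Flat R' (R' ⊗[R] X)]
    {N : Type u} [AddCommGroup N] [Module R N] (hN : ∀ c : N, ∃ n : ℕ, f ^ n • c = 0) :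
    Function.Injective (j.lTensor N) := by
  have hb : Function.Bijective (TensorProduct.mk R R' N 1) :=
    ⟨GluePair.tmul_injective hq hN, fun z => GlueTF.exists_tmul_of_tors hq hN z⟩
  refine lTensor_injective_of_equiv j (LinearEquiv.ofBijective _ hb) ?_
  refine lTensor_injective_of_flat_baseChange R' (R' ⊗[R] N) j π hex hπ ?_
  rw [LinearMap.baseChange_eq_ltensor]
  exact hjR'

/-- Flatness of both base changes passes to the kernel of a presentation. -/
theorem flat_baseChange_ker {A : Type u} [CommRing A] [Algebra R A] (j : K →ₗ[R] P)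
    (π : P →ₗ[R] X) (hex : Function.Exact j π) (hπ : Function.Surjective π)
    (hjA : Function.Injective (j.lTensor A)) [Module.Flat R P] [Module.Flat A (A ⊗[R] X)] :
    Module.Flat A (A ⊗[R] K) := by
  refine flat_ker_of_exact (j.baseChange A) (π.baseChange A) ?_ ?_ ?_
  · rw [LinearMap.baseChange_eq_ltensor]; exact hjA
  · rw [LinearMap.baseChange_eq_ltensor]; exact LinearMap.lTensor_surjective A hπ
  · rw [LinearMap.baseChange_eq_ltensor, LinearMap.baseChange_eq_ltensor]
    exact lTensor_exact A hex hπ

/-- For a glueing pair and `X` with `R' ⊗ X` flat over `R'` and `X_f` flat over `R_f`: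
`Tor_1^R(N, X) = 0` for every `N`. -/
theorem lTensor_injective_all (h : EtGlue.IsGlueingPair R R' f) (j : K →ₗ[R] P) (π : P →ₗ[R] X)
    (hj : Function.Injective j) (hex : Function.Exact j π) (hπ : Function.Surjective π)
    [Module.Flat R P] [Module.Flat R' (R' ⊗[R] X)]
    [Module.Flat (Localization.Away f) (Localization.Away f ⊗[R] X)]
    (N : Type u) [AddCommGroup N] [Module R N] : Function.Injective (j.lTensor N) := by
  have hq : EtGlue.QuotPowBijective R R' f := h.1
  have hjR' : Function.Injective (j.lTensor R') := lTensor_injective_R' h j π hj hex hπ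
  -- a presentation of `K`
  obtain ⟨F₂, _, _, _, π₂, hπ₂⟩ : ∃ (F₂ : Type u) (_ : AddCommGroup F₂) (_ : Module R F₂)
      (_ : Module.Flat R F₂) (π₂ : F₂ →ₗ[R] K), Function.Surjective π₂ :=
    ⟨K →₀ R, inferInstance, inferInstance, inferInstance, Finsupp.linearCombination R (id : K → K),
      Finsupp.linearCombination_surjective _ Function.surjective_id⟩
  obtain ⟨S₂, _, _, j₂, hj₂, hex₂⟩ : ∃ (S₂ : Type u) (_ : AddCommGroup S₂) (_ : Module R S₂)
      (j₂ : S₂ →ₗ[R] F₂), Function.Injective j₂ ∧ Function.Exact j₂ π₂ :=
    ⟨LinearMap.ker π₂, inferInstance, inferInstance, (LinearMap.ker π₂).subtype,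
      Submodule.injective_subtype _, LinearMap.exact_subtype_ker_map π₂⟩
  have : Module.Flat R' (R' ⊗[R] K) := flat_baseChange_ker j π hex hπ hjR'
  have : Module.Flat (Localization.Away f) (Localization.Away f ⊗[R] K) :=
    flat_baseChange_ker j π hex hπ (Module.Flat.lTensor_preserves_injective_linearMap j hj)
  have hj₂R' : Function.Injective (j₂.lTensor R') := lTensor_injective_R' h j₂ π₂ hj₂ hex₂ hπ₂
  -- the localization map of `N`
  obtain ⟨Nf, _, _, _, _, ℓ, hℓ0, hℓs, hNf⟩ : ∃ (Nf : Type u) (_ : AddCommGroup Nf) (_ : Module R Nf)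
      (_ : Module (Localization.Away f) Nf) (_ : IsScalarTower R (Localization.Away f) Nf)
      (ℓ : N →ₗ[R] Nf), (∀ m, ℓ m = 0 → ∃ n : ℕ, f ^ n • m = 0) ∧
        (∀ y : Nf, ∃ (n : ℕ) (m : N), f ^ n • y = ℓ m) ∧
        Function.Injective (j.lTensor Nf) :=
    ⟨LocalizedModule (Submonoid.powers f) N, inferInstance, inferInstance, inferInstance,
      inferInstance, LocalizedModule.mkLinearMap (Submonoid.powers f) N,
      fun m hm => (GlueMod.mk_eq_zero_iff (f := f) m).1 hm,
      fun y => by
        obtain ⟨n, m, -, hnm⟩ := GlueMod.exists_pow_smul_eq (f := f) y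
        exact ⟨n, m, hnm⟩,
      lTensor_localizedModule_injective f j π hj hex hπ⟩
  -- the image of `ℓ`
  obtain ⟨Nb, _, _, p, ι, hp, hι, hpι⟩ : ∃ (Nb : Type u) (_ : AddCommGroup Nb) (_ : Module R Nb)
      (p : N →ₗ[R] Nb) (ι : Nb →ₗ[R] Nf), Function.Surjective p ∧ Function.Injective ι ∧
        ∀ m, ι (p m) = ℓ m :=
    ⟨LinearMap.range ℓ, inferInstance, inferInstance, ℓ.rangeRestrict, (LinearMap.range ℓ).subtype,
      LinearMap.surjective_rangeRestrict ℓ, Submodule.injective_subtype _, fun m => rfl⟩
  -- the cokernel of `ι`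
  obtain ⟨Q, _, _, q, hq', hιq⟩ : ∃ (Q : Type u) (_ : AddCommGroup Q) (_ : Module R Q)
      (q : Nf →ₗ[R] Q), Function.Surjective q ∧ Function.Exact ι q :=
    ⟨Nf ⧸ LinearMap.range ι, inferInstance, inferInstance, (LinearMap.range ι).mkQ,
      Submodule.mkQ_surjective _, LinearMap.exact_map_mkQ_range ι⟩
  -- the kernel of `p`
  obtain ⟨T, _, _, t, ht, htp⟩ : ∃ (T : Type u) (_ : AddCommGroup T) (_ : Module R T)
      (t : T →ₗ[R] N), Function.Injective t ∧ Function.Exact t p :=
    ⟨LinearMap.ker p, inferInstance, inferInstance, (LinearMap.ker p).subtype,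
      Submodule.injective_subtype _, LinearMap.exact_subtype_ker_map p⟩
  have hT : ∀ c : T, ∃ n : ℕ, f ^ n • c = 0 := by
    intro c
    have h0 : ℓ (t c) = 0 := by
      rw [← hpι, (htp (t c)).2 ⟨c, rfl⟩, map_zero]
    obtain ⟨n, hn⟩ := hℓ0 _ h0
    exact ⟨n, ht (by rw [map_smul, hn, map_zero])⟩
  have hQ : ∀ c : Q, ∃ n : ℕ, f ^ n • c = 0 := by
    intro c
    obtain ⟨y, rfl⟩ := hq' c
    obtain ⟨n, m, hnm⟩ := hℓs y
    refine ⟨n, ?_⟩
    rw [← map_smul, hnm, ← hpι]
    exact (hιq _).2 ⟨p m, rfl⟩
  have h_T : Function.Injective (j.lTensor T) :=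
    lTensor_injective_of_tors hq j π hex hπ hjR' hT
  have h_Q₂ : Function.Injective (j₂.lTensor Q) :=
    lTensor_injective_of_tors hq j₂ π₂ hex₂ hπ₂ hj₂R' hQ
  have h_ι : Function.Injective (ι.rTensor K) := by
    rw [← LinearMap.lTensor_inj_iff_rTensor_inj]
    exact lTensor_injective_of_exact_of_exact_of_rTensor_injective hex₂ hπ₂ hιq hq'
      ((LinearMap.lTensor_inj_iff_rTensor_inj (M := Q) j₂).1 h_Q₂)
      (Module.Flat.lTensor_preserves_injective_linearMap ι hι)
  have h_Nb : Function.Injective (j.lTensor Nb) :=
    lTensor_injective_of_rTensor_injective j ι h_ι hNf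
  exact lTensor_injective_of_ses t p htp hp ht j h_T h_Nb

/-- **Flat descent along a glueing pair.** -/
theorem flat_of_glue (h : EtGlue.IsGlueingPair R R' f) (M : Type u) [AddCommGroup M] [Module R M]
    [Module.Flat R' (R' ⊗[R] M)]
    [Module.Flat (Localization.Away f) (Localization.Away f ⊗[R] M)] : Module.Flat R M := by
  obtain ⟨F, _, _, _, π, hπ⟩ : ∃ (F : Type u) (_ : AddCommGroup F) (_ : Module R F)
      (_ : Module.Flat R F) (π : F →ₗ[R] M), Function.Surjective π :=
    ⟨M →₀ R, inferInstance, inferInstance, inferInstance, Finsupp.linearCombination R (id : M → M),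
      Finsupp.linearCombination_surjective _ Function.surjective_id⟩
  obtain ⟨S, _, _, j, hj, hex⟩ : ∃ (S : Type u) (_ : AddCommGroup S) (_ : Module R S)
      (j : S →ₗ[R] F), Function.Injective j ∧ Function.Exact j π :=
    ⟨LinearMap.ker π, inferInstance, inferInstance, (LinearMap.ker π).subtype,
      Submodule.injective_subtype _, LinearMap.exact_subtype_ker_map π⟩
  rw [Module.Flat.iff_lTensor_preserves_injective_linearMap]
  intro N N' _ _ _ _ i hi
  exact lTensor_injective_of_exact_of_exact_of_rTensor_injective hex hπ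
    (LinearMap.exact_map_mkQ_range i) (Submodule.mkQ_surjective _)
    ((LinearMap.lTensor_inj_iff_rTensor_inj (M := N' ⧸ LinearMap.range i) j).1
      (lTensor_injective_all h j π hj hex hπ _))
    (Module.Flat.lTensor_preserves_injective_linearMap i hi)

end Pair

end Groth.Agent.Lib.helper7.GlueFlat
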