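import Groth.Prelude.Def_EtGlue
import Mathlib.RingTheory.Ideal.Maps
import Mathlib.LinearAlgebra.TensorProduct.Basic
import Mathlib.LinearAlgebra.Quotient.Basic
import Mathlib.LinearAlgebra.TensorProduct.RightExactness

/-!
# helper7: glueing pairs — `f`-power torsion modules embed into their base change (EtGlue)
-/

universe u

namespace Groth.Agent.Lib.helper7.GluePair

open TensorProduct

variable {R R' : Type u} [CommRing R] [CommRing R'] [Algebra R R'] {f : R}

theorem exists_lift_mod (hq : EtGlue.QuotPowBijective R R' f) (n : ℕ) (hn : 0 < n) (r' : R') :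
    ∃ r : R, algebraMap R R' r - r' ∈ Ideal.span {algebraMap R R' f ^ n} := by
  obtain ⟨x, hx⟩ := (hq n hn).2 (Ideal.Quotient.mk _ r')
  obtain ⟨r, rfl⟩ := Ideal.Quotient.mk_surjective x
  refine ⟨r, ?_⟩
  rw [Ideal.quotientMap_mk, Ideal.Quotient.eq, Ideal.map_span, Set.image_singleton, map_pow] at hx
  exact hx

theorem mem_of_map_mem (hq : EtGlue.QuotPowBijective R R' f) (n : ℕ) (hn : 0 < n) (r : R)
    (hr : algebraMap R R' r ∈ Ideal.span {algebraMap R R' f ^ n}) : r ∈ Ideal.span {f ^ n} := by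
  rw [← Ideal.Quotient.eq_zero_iff_mem]
  apply (hq n hn).1
  rw [Ideal.quotientMap_mk, map_zero, Ideal.Quotient.eq_zero_iff_mem, Ideal.map_span,
    Set.image_singleton, map_pow]
  exact hr

theorem span_pow_le {n m : ℕ} (h : m ≤ n) :
    Ideal.span {algebraMap R R' f ^ n} ≤ Ideal.span {algebraMap R R' f ^ m} := by
  rw [Ideal.span_singleton_le_iff_mem, Ideal.mem_span_singleton]
  exact pow_dvd_pow _ h

section Tors

variable {C : Type u} [AddCommGroup C] [Module R C]

/-- The graph of the `R'`-action on an `f`-power torsion module. -/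
def Rel (f : R) (r' : R') (c y : C) : Prop :=
  ∃ (n : ℕ) (r : R), 0 < n ∧ f ^ n • c = 0 ∧
    algebraMap R R' r - r' ∈ Ideal.span {algebraMap R R' f ^ n} ∧ y = r • c

theorem rel_exists (hq : EtGlue.QuotPowBijective R R' f) (htors : ∀ c : C, ∃ n, f ^ n • c = 0)
    (r' : R') (c : C) : ∃ y, Rel f r' c y := by
  obtain ⟨n, hn⟩ := htors c
  obtain ⟨r, hr⟩ := exists_lift_mod hq (n + 1) (Nat.succ_pos n) r'
  exact ⟨r • c, n + 1, r, Nat.succ_pos n, by rw [pow_succ', mul_smul, hn, smul_zero], hr, rfl⟩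

theorem rel_unique (hq : EtGlue.QuotPowBijective R R' f) {r' : R'} {c y₁ y₂ : C}
    (h₁ : Rel f r' c y₁) (h₂ : Rel f r' c y₂) : y₁ = y₂ := by
  obtain ⟨n₁, r₁, hn₁, hc₁, hr₁, rfl⟩ := h₁
  obtain ⟨n₂, r₂, hn₂, hc₂, hr₂, rfl⟩ := h₂
  obtain ⟨m, hm⟩ : ∃ m, m = min n₁ n₂ := ⟨_, rfl⟩
  have hm0 : 0 < m := by omega
  have hcm : f ^ m • c = 0 := by
    rcases Nat.le_total n₁ n₂ with h | h
    · rw [hm, min_eq_left h]; exact hc₁
    · rw [hm, min_eq_right h]; exact hc₂
  have hsub : algebraMap R R' (r₁ - r₂) ∈ Ideal.span {algebraMap R R' f ^ m} := by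
    have e : algebraMap R R' (r₁ - r₂) = (algebraMap R R' r₁ - r') - (algebraMap R R' r₂ - r') := by
      rw [map_sub]; ring
    rw [e]
    exact Ideal.sub_mem _ (span_pow_le (by omega) hr₁) (span_pow_le (by omega) hr₂)
  have := mem_of_map_mem hq m hm0 _ hsub
  obtain ⟨t, ht⟩ := Ideal.mem_span_singleton'.mp this
  rw [← sub_eq_zero, ← sub_smul, ← ht, mul_smul, hcm, smul_zero]

theorem rel_of (_hq : EtGlue.QuotPowBijective R R' f) {n : ℕ} (hn : 0 < n) {c : C}
    (hc : f ^ n • c = 0) {r : R} {r' : R'}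
    (hr : algebraMap R R' r - r' ∈ Ideal.span {algebraMap R R' f ^ n}) : Rel f r' c (r • c) :=
  ⟨n, r, hn, hc, hr, rfl⟩

/-- The action map `R' → C → C`. -/
noncomputable def act (hq : EtGlue.QuotPowBijective R R' f) (htors : ∀ c : C, ∃ n, f ^ n • c = 0)
    (r' : R') (c : C) : C :=
  (rel_exists hq htors r' c).choose

theorem act_spec (hq : EtGlue.QuotPowBijective R R' f) (htors : ∀ c : C, ∃ n, f ^ n • c = 0)
    (r' : R') (c : C) : Rel f r' c (act hq htors r' c) :=
  (rel_exists hq htors r' c).choose_spec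

theorem act_eq (hq : EtGlue.QuotPowBijective R R' f) (htors : ∀ c : C, ∃ n, f ^ n • c = 0)
    {r' : R'} {c y : C} (h : Rel f r' c y) : act hq htors r' c = y :=
  rel_unique hq (act_spec hq htors r' c) h

theorem pow_smul_of_le {n m : ℕ} (h : n ≤ m) {c : C} (hc : f ^ n • c = 0) : f ^ m • c = 0 := by
  obtain ⟨k, rfl⟩ := Nat.exists_eq_add_of_le h
  rw [pow_add, mul_comm, mul_smul, hc, smul_zero]

/-- The bilinear action. -/
noncomputable def actL (hq : EtGlue.QuotPowBijective R R' f)
    (htors : ∀ c : C, ∃ n, f ^ n • c = 0) : R' →ₗ[R] C →ₗ[R] C :=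
  LinearMap.mk₂ R (act hq htors)
    (by
      intro r'₁ r'₂ c
      obtain ⟨n₁, r₁, hn₁, hc₁, hr₁, h₁⟩ := act_spec hq htors r'₁ c
      obtain ⟨n₂, r₂, hn₂, hc₂, hr₂, h₂⟩ := act_spec hq htors r'₂ c
      rw [h₁, h₂]
      apply act_eq
      obtain ⟨m, hm⟩ : ∃ m, m = min n₁ n₂ := ⟨_, rfl⟩
      have hcm : f ^ m • c = 0 := by
        rcases Nat.le_total n₁ n₂ with h | h
        · rw [hm, min_eq_left h]; exact hc₁
        · rw [hm, min_eq_right h]; exact hc₂
      refine ⟨m, r₁ + r₂, by omega, hcm, ?_, by rw [add_smul]⟩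
      have e : algebraMap R R' (r₁ + r₂) - (r'₁ + r'₂) =
          (algebraMap R R' r₁ - r'₁) + (algebraMap R R' r₂ - r'₂) := by
        rw [map_add]; ring
      rw [e]
      exact Ideal.add_mem _ (span_pow_le (by omega) hr₁) (span_pow_le (by omega) hr₂))
    (by
      intro s r' c
      obtain ⟨n, r, hn, hc, hr, h⟩ := act_spec hq htors r' c
      rw [h]
      apply act_eq
      refine ⟨n, s * r, hn, hc, ?_, by rw [mul_smul]⟩
      have e : algebraMap R R' (s * r) - s • r' = algebraMap R R' s * (algebraMap R R' r - r') := by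
        rw [map_mul, Algebra.smul_def]; ring
      rw [e]
      exact Ideal.mul_mem_left _ _ hr)
    (by
      intro r' c₁ c₂
      obtain ⟨n₁, hn₁⟩ := htors c₁
      obtain ⟨n₂, hn₂⟩ := htors c₂
      obtain ⟨n, hn⟩ : ∃ n, n = max n₁ n₂ + 1 := ⟨_, rfl⟩
      obtain ⟨r, hr⟩ := exists_lift_mod hq n (by omega) r'
      have h1 : f ^ n • c₁ = 0 := pow_smul_of_le (by omega) hn₁
      have h2 : f ^ n • c₂ = 0 := pow_smul_of_le (by omega) hn₂
      rw [act_eq hq htors (rel_of hq (by omega) h1 hr), act_eq hq htors (rel_of hq (by omega) h2 hr),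
        ← smul_add]
      apply act_eq
      exact rel_of hq (n := n) (by omega) (by rw [smul_add, h1, h2, add_zero]) hr)
    (by
      intro s r' c
      obtain ⟨n, r, hn, hc, hr, h⟩ := act_spec hq htors r' c
      rw [h]
      apply act_eq
      exact ⟨n, r, hn, by rw [smul_comm, hc, smul_zero], hr, by rw [smul_comm]⟩)

theorem actL_one (hq : EtGlue.QuotPowBijective R R' f) (htors : ∀ c : C, ∃ n, f ^ n • c = 0)
    (c : C) : actL hq htors 1 c = c := by
  obtain ⟨n, hn⟩ := htors c
  change act hq htors 1 c = c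
  apply act_eq
  refine ⟨n + 1, 1, Nat.succ_pos n, pow_smul_of_le (Nat.le_succ n) hn, ?_, by rw [one_smul]⟩
  rw [map_one, sub_self]
  exact Ideal.zero_mem _

/-- An `f`-power torsion module embeds into its base change along a map inducing isomorphisms
modulo all powers of `f`. -/
theorem tmul_injective (hq : EtGlue.QuotPowBijective R R' f) (htors : ∀ c : C, ∃ n, f ^ n • c = 0) :
    Function.Injective (fun c : C => (1 : R') ⊗ₜ[R] c) := by
  intro c₁ c₂ h
  have := congrArg (TensorProduct.lift (actL hq htors)) h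
  simpa [actL_one] using this

/-- A torsion module whose base change vanishes is zero. -/
theorem subsingleton_of_tors (hq : EtGlue.QuotPowBijective R R' f)
    (htors : ∀ c : C, ∃ n, f ^ n • c = 0) (h0 : Subsingleton (R' ⊗[R] C)) : Subsingleton C :=
  ⟨fun _ _ => tmul_injective hq htors (Subsingleton.elim _ _)⟩

end Tors

section Surj

variable {A B : Type u} [AddCommGroup A] [Module R A] [AddCommGroup B] [Module R B]

/-- A linear map with `f`-power torsion cokernel which becomes surjective after base change to `R'`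
is surjective. -/
theorem surjective_of_glue (hq : EtGlue.QuotPowBijective R R' f) (φ : A →ₗ[R] B)
    (h1 : ∀ b : B, ∃ (n : ℕ) (a : A), f ^ n • b = φ a)
    (h2 : Function.Surjective (LinearMap.lTensor R' φ)) : Function.Surjective φ := by
  rw [← LinearMap.range_eq_top, ← Submodule.Quotient.subsingleton_iff]
  apply subsingleton_of_tors hq
  · intro c
    obtain ⟨b, rfl⟩ := Submodule.Quotient.mk_surjective _ c
    obtain ⟨n, a, hna⟩ := h1 b
    refine ⟨n, ?_⟩
    rw [← Submodule.Quotient.mk_smul, hna, Submodule.Quotient.mk_eq_zero]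
    exact ⟨a, rfl⟩
  · refine ⟨fun z₁ z₂ => ?_⟩
    have hz : ∀ z : R' ⊗[R] (B ⧸ LinearMap.range φ), z = 0 := by
      intro z
      obtain ⟨w, rfl⟩ := LinearMap.lTensor_surjective R' (Submodule.mkQ_surjective (LinearMap.range φ)) z
      obtain ⟨u, rfl⟩ := h2 w
      rw [← LinearMap.comp_apply, ← LinearMap.lTensor_comp]
      have : (LinearMap.range φ).mkQ ∘ₗ φ = 0 := by
        ext a
        simp
      rw [this, LinearMap.lTensor_zero, LinearMap.zero_apply]
    rw [hz z₁, hz z₂]

end Surj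

end Groth.Agent.Lib.helper7.GluePair
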