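import Groth.Agent.Lib.Helper7.TorOne
import Groth.Agent.Lib.Helper7.GlueTF
import Mathlib.Algebra.Module.Projective

/-!
# helper7: `Tor_1` vanishing for glueing pairs (EtGlue)
-/

universe u

namespace Groth.Agent.Lib.helper7.GlueTor

open TensorProduct Groth.Agent.Lib.helper7

section Pres

variable {A : Type u} [CommRing A] {M N P P₀ : Type u} [AddCommGroup M] [Module A M]
  [AddCommGroup N] [Module A N] [AddCommGroup P] [Module A P] [AddCommGroup P₀] [Module A P₀]

/-- Independence of the projective presentation for the injectivity of `M ⊗ ker π → M ⊗ P`. -/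
theorem lTensor_ker_injective_of_pres [Module.Projective A P] [Module.Projective A P₀]
    (π : P →ₗ[A] N) (hπ : Function.Surjective π) (π₀ : P₀ →ₗ[A] N) (hπ₀ : Function.Surjective π₀)
    (hinj : Function.Injective (LinearMap.lTensor M (LinearMap.ker π).subtype)) :
    Function.Injective (LinearMap.lTensor M (LinearMap.ker π₀).subtype) := by
  obtain ⟨a, ha⟩ := Module.projective_lifting_property π π₀ hπ
  obtain ⟨b, hb⟩ := Module.projective_lifting_property π₀ π hπ₀
  have ha' : ∀ z, π (a z) = π₀ z := fun z => LinearMap.congr_fun ha z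
  have hb' : ∀ z, π₀ (b z) = π z := fun z => LinearMap.congr_fun hb z
  obtain ⟨a', ha'r⟩ : ∃ a' : LinearMap.ker π₀ →ₗ[A] LinearMap.ker π,
      (LinearMap.ker π).subtype ∘ₗ a' = a ∘ₗ (LinearMap.ker π₀).subtype :=
    ⟨LinearMap.codRestrict _ (a ∘ₗ (LinearMap.ker π₀).subtype) (fun z => by
      rw [LinearMap.mem_ker, LinearMap.comp_apply, ha']; exact z.2), rfl⟩
  obtain ⟨b', hb'r⟩ : ∃ b' : LinearMap.ker π →ₗ[A] LinearMap.ker π₀,
      (LinearMap.ker π₀).subtype ∘ₗ b' = b ∘ₗ (LinearMap.ker π).subtype :=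
    ⟨LinearMap.codRestrict _ (b ∘ₗ (LinearMap.ker π).subtype) (fun z => by
      rw [LinearMap.mem_ker, LinearMap.comp_apply, hb']; exact z.2), rfl⟩
  obtain ⟨h, hh⟩ : ∃ h : P₀ →ₗ[A] LinearMap.ker π₀,
      (LinearMap.ker π₀).subtype ∘ₗ h = b ∘ₗ a - LinearMap.id :=
    ⟨LinearMap.codRestrict _ (b ∘ₗ a - LinearMap.id) (fun z => by
      rw [LinearMap.mem_ker, LinearMap.sub_apply, map_sub, LinearMap.comp_apply, hb', ha',
        LinearMap.id_apply, sub_self]), rfl⟩
  have hid : b' ∘ₗ a' - LinearMap.id = h ∘ₗ (LinearMap.ker π₀).subtype := by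
    apply LinearMap.ext
    intro z
    apply Subtype.ext
    have e1 := LinearMap.congr_fun hh z.1
    have e2 := LinearMap.congr_fun hb'r (a' z)
    have e3 := LinearMap.congr_fun ha'r z
    simp only [LinearMap.comp_apply, Submodule.subtype_apply, LinearMap.sub_apply,
      LinearMap.id_apply] at e1 e2 e3
    simp only [LinearMap.comp_apply, LinearMap.sub_apply, LinearMap.id_apply,
      Submodule.subtype_apply, Submodule.coe_sub]
    rw [e1, e2, e3]
  rw [injective_iff_map_eq_zero]
  intro x hx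
  have h1 : LinearMap.lTensor M a' x = 0 := by
    apply hinj
    rw [map_zero, ← LinearMap.comp_apply, ← LinearMap.lTensor_comp, ha'r, LinearMap.lTensor_comp,
      LinearMap.comp_apply, hx, map_zero]
  have h2 : LinearMap.lTensor M (b' ∘ₗ a' - LinearMap.id) x = 0 := by
    rw [hid, LinearMap.lTensor_comp, LinearMap.comp_apply, hx, map_zero]
  rw [LinearMap.lTensor_sub, LinearMap.sub_apply, LinearMap.lTensor_comp, LinearMap.comp_apply, h1,
    map_zero, LinearMap.lTensor_id, LinearMap.id_apply, zero_sub, neg_eq_zero] at h2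
  exact h2

end Pres

section Glue

variable {R R' : Type u} [CommRing R] [CommRing R'] [Algebra R R'] {f : R}

/-- `Tor_1(R', N) = 0` for `f`-power torsion `N`. -/
theorem tor_one_of_tors (h : EtGlue.IsGlueingPair R R' f) (N : Type u) [AddCommGroup N]
    [Module R N] (hN : ∀ v : N, ∃ n : ℕ, f ^ n • v = 0) :
    Subsingleton (DRing.Tor R 1 R' N) := by
  apply TorOne.tor_one_subsingleton
  intro P _ _ _ π _
  apply GlueTF.lTensor_injective_of_tors_quot h
  intro v
  obtain ⟨n, hn⟩ := hN (π v)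
  exact ⟨n, by rw [LinearMap.mem_ker, map_smul, hn]⟩

/-- `Tor_1(R', N) = 0` when `N` is a quotient of `R` by an `f`-power torsion ideal. -/
theorem tor_one_of_tors_ker (h : EtGlue.IsGlueingPair R R' f) (N : Type u) [AddCommGroup N]
    [Module R N] (π : R →ₗ[R] N) (hπ : Function.Surjective π)
    (hker : ∀ r : R, π r = 0 → ∃ n : ℕ, f ^ n * r = 0) :
    Subsingleton (DRing.Tor R 1 R' N) := by
  apply TorOne.tor_one_subsingleton
  intro P _ _ _ π₀ hπ₀
  refine lTensor_ker_injective_of_pres π hπ π₀ hπ₀ ?_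
  rw [injective_iff_map_eq_zero]
  intro x hx
  have htors : ∀ c : LinearMap.ker π, ∃ n : ℕ, f ^ n • c = 0 := fun c => by
    obtain ⟨n, hn⟩ := hker c.1 c.2
    exact ⟨n, Subtype.ext hn⟩
  obtain ⟨t, rfl⟩ := GlueTF.exists_tmul_of_tors h.1 htors x
  rw [LinearMap.lTensor_tmul, Submodule.subtype_apply] at hx
  have := congrArg (TensorProduct.rid R R') hx
  rw [TensorProduct.rid_tmul, map_zero, ← Algebra.algebraMap_eq_smul_one] at this
  have ht : (t : R) = 0 := GlueTors.tors_inj h _ (hker t.1 t.2) this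
  have : t = 0 := Subtype.ext ht
  rw [this, tmul_zero]

end Glue

end Groth.Agent.Lib.helper7.GlueTor
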