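import Groth.Agent.Lib.Helper7.GluePair
import Mathlib.RingTheory.Localization.Away.Basic

/-!
# helper7: glueing pairs and `f`-power torsion (EtGlue)
-/

universe u

namespace Groth.Agent.Lib.helper7.GlueTors

open TensorProduct Groth.Agent.Lib.helper7

variable {R R' : Type u} [CommRing R] [CommRing R'] [Algebra R R'] {f : R}

theorem away_eq_zero_iff (r : R) :
    algebraMap R (Localization.Away f) r = 0 ↔ ∃ n : ℕ, f ^ n * r = 0 := by
  rw [IsLocalization.map_eq_zero_iff (Submonoid.powers f)]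
  constructor
  · rintro ⟨⟨_, n, rfl⟩, h⟩
    exact ⟨n, h⟩
  · rintro ⟨n, h⟩
    exact ⟨⟨_, n, rfl⟩, h⟩

theorem awayMap_algebraMap (r : R) :
    Localization.awayMap (algebraMap R R') f (algebraMap R (Localization.Away f) r) =
      algebraMap R' (Localization.Away (algebraMap R R' f)) (algebraMap R R' r) := by
  rw [Localization.awayMap, IsLocalization.Away.map, IsLocalization.map_eq]

theorem tors_inj (h : EtGlue.IsGlueingPair R R' f) (x : R) (hx : ∃ n : ℕ, f ^ n * x = 0)
    (h0 : algebraMap R R' x = 0) : x = 0 := by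
  apply h.2.1
  simp only [map_zero, Prod.mk.injEq]
  exact ⟨h0, (away_eq_zero_iff x).mpr hx⟩

theorem tors_surj (h : EtGlue.IsGlueingPair R R' f) (x' : R')
    (hx' : ∃ n : ℕ, algebraMap R R' f ^ n * x' = 0) :
    ∃ x : R, (∃ n : ℕ, f ^ n * x = 0) ∧ algebraMap R R' x = x' := by
  obtain ⟨r, hr1, hr2⟩ := h.2.2.1 x' 0 (by
    rw [map_zero]
    exact (away_eq_zero_iff (f := algebraMap R R' f) x').mpr hx')
  exact ⟨r, (away_eq_zero_iff r).mp hr2, hr1⟩

/-- Level-preserving version of `tors_surj`. -/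
theorem tors_surj_level (h : EtGlue.IsGlueingPair R R' f) (n : ℕ) (x' : R')
    (hx' : algebraMap R R' f ^ n * x' = 0) :
    ∃ x : R, f ^ n * x = 0 ∧ algebraMap R R' x = x' := by
  obtain ⟨x, ⟨m, hm⟩, rfl⟩ := tors_surj h x' ⟨n, hx'⟩
  refine ⟨x, tors_inj h _ ⟨m, ?_⟩ ?_, rfl⟩
  · rw [mul_left_comm, hm, mul_zero]
  · rw [map_mul, map_pow, hx']

theorem isGlueingPair_of_tors (hq : EtGlue.QuotPowBijective R R' f)
    (h1 : ∀ x : R, (∃ n : ℕ, f ^ n * x = 0) → algebraMap R R' x = 0 → x = 0)
    (h2 : ∀ x' : R', (∃ n : ℕ, algebraMap R R' f ^ n * x' = 0) →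
      ∃ x : R, (∃ n : ℕ, f ^ n * x = 0) ∧ algebraMap R R' x = x') :
    EtGlue.IsGlueingPair R R' f := by
  refine ⟨hq, ?_, ?_, ?_⟩
  · intro r₁ r₂ hr
    simp only [Prod.mk.injEq] at hr
    rw [← sub_eq_zero]
    apply h1
    · rw [← away_eq_zero_iff, map_sub, hr.2, sub_self]
    · rw [map_sub, hr.1, sub_self]
  · intro x y hxy
    obtain ⟨n₀, a₀, hy₀⟩ := IsLocalization.Away.surj f y
    obtain ⟨n, hn⟩ : ∃ n, n = n₀ + 1 := ⟨_, rfl⟩
    obtain ⟨a, ha⟩ : ∃ a, a = f * a₀ := ⟨_, rfl⟩
    have hy : y * algebraMap R (Localization.Away f) f ^ n = algebraMap R (Localization.Away f) a := by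
      rw [hn, ha, pow_succ, ← mul_assoc, hy₀, map_mul, mul_comm]
    have hn0 : 0 < n := by omega
    -- the torsion element `t`
    have ht : ∃ m : ℕ, algebraMap R R' f ^ m * (algebraMap R R' f ^ n * x - algebraMap R R' a) = 0 := by
      rw [← away_eq_zero_iff, map_sub, map_mul, map_pow, hxy, ← awayMap_algebraMap a, ← hy, map_mul,
        map_pow, awayMap_algebraMap f, mul_comm, sub_self]
    obtain ⟨s, hs, hst⟩ := h2 _ ht
    have hmem : a + s ∈ Ideal.span {f ^ n} := by
      apply GluePair.mem_of_map_mem hq n hn0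
      rw [map_add, hst, add_sub_cancel, Ideal.mem_span_singleton]
      exact dvd_mul_right _ _
    obtain ⟨r₀, hr₀⟩ := Ideal.mem_span_singleton'.mp hmem
    have ht' : ∃ m : ℕ, algebraMap R R' f ^ m * (x - algebraMap R R' r₀) = 0 := by
      refine ⟨n, ?_⟩
      have : algebraMap R R' f ^ n * algebraMap R R' r₀ = algebraMap R R' (a + s) := by
        rw [← hr₀, map_mul, map_pow, mul_comm]
      rw [mul_sub, this, map_add, hst]
      ring
    obtain ⟨s', hs', hst'⟩ := h2 _ ht'
    refine ⟨r₀ + s', by rw [map_add, hst']; ring, ?_⟩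
    have hu := IsLocalization.Away.algebraMap_pow_isUnit f (S := Localization.Away f) n
    apply hu.mul_left_injective
    simp only
    rw [hy, ← map_pow, ← map_mul]
    rw [← sub_eq_zero, ← map_sub, away_eq_zero_iff]
    have e : (r₀ + s') * f ^ n - a = s + f ^ n * s' := by
      rw [add_mul, hr₀]; ring
    rw [e]
    obtain ⟨k, hk⟩ := hs
    obtain ⟨k', hk'⟩ := hs'
    refine ⟨k + k', ?_⟩
    rw [mul_add, pow_add]
    have e1 : f ^ k * f ^ k' * s = f ^ k' * (f ^ k * s) := by ring
    have e2 : f ^ k * f ^ k' * (f ^ n * s') = f ^ k * f ^ n * (f ^ k' * s') := by ring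
    rw [e1, e2, hk, hk', mul_zero, mul_zero, add_zero]
  · intro z
    obtain ⟨n₀, x'₀, hz₀⟩ := IsLocalization.Away.surj (algebraMap R R' f) z
    obtain ⟨n, hn⟩ : ∃ n, n = n₀ + 1 := ⟨_, rfl⟩
    obtain ⟨x', hx'⟩ : ∃ x', x' = algebraMap R R' f * x'₀ := ⟨_, rfl⟩
    have hz : z * algebraMap R' (Localization.Away (algebraMap R R' f)) (algebraMap R R' f) ^ n =
        algebraMap R' (Localization.Away (algebraMap R R' f)) x' := by
      rw [hn, hx', pow_succ, ← mul_assoc, hz₀, map_mul, mul_comm]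
    obtain ⟨r, hr⟩ := GluePair.exists_lift_mod hq n (by omega) x'
    obtain ⟨w, hw⟩ := Ideal.mem_span_singleton'.mp hr
    obtain ⟨y, hy⟩ := IsLocalization.Away.algebraMap_pow_isUnit f (S := Localization.Away f) n
    -- y is the unit f^n in R_f
    refine ⟨-w, -(algebraMap R (Localization.Away f) r * ((y⁻¹ : (Localization.Away f)ˣ) : Localization.Away f)), ?_⟩
    have hu := IsLocalization.Away.algebraMap_pow_isUnit (algebraMap R R' f)
      (S := Localization.Away (algebraMap R R' f)) n
    apply hu.mul_left_injective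
    simp only
    rw [hz, sub_mul, map_neg, map_neg, map_mul, awayMap_algebraMap]
    have hyinv : Localization.awayMap (algebraMap R R') f ((y⁻¹ : (Localization.Away f)ˣ) : Localization.Away f) *
        algebraMap R' (Localization.Away (algebraMap R R' f)) (algebraMap R R' f) ^ n = 1 := by
      rw [← map_pow, ← map_pow, ← awayMap_algebraMap, ← map_mul, map_pow, ← hy, Units.inv_mul, map_one]
    have hx'' : x' = algebraMap R R' r - w * algebraMap R R' f ^ n := by
      rw [hw]; ring
    rw [hx'', map_sub, map_mul, map_pow]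
    have : -((algebraMap R' (Localization.Away (algebraMap R R' f))) ((algebraMap R R') r) *
        (Localization.awayMap (algebraMap R R') f) ((y⁻¹ : (Localization.Away f)ˣ) : Localization.Away f)) *
        (algebraMap R' (Localization.Away (algebraMap R R' f))) ((algebraMap R R') f) ^ n =
        -((algebraMap R' (Localization.Away (algebraMap R R' f))) ((algebraMap R R') r)) := by
      rw [neg_mul, mul_assoc, hyinv, mul_one]
    rw [this]
    ring

end Groth.Agent.Lib.helper7.GlueTors
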