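import Mathlib.LinearAlgebra.Matrix.ToLinearEquiv
import Mathlib.LinearAlgebra.Matrix.Nondegenerate
import Mathlib.Data.Fin.SuccPred
import Mathlib.Algebra.BigOperators.Fin

/-!
# helper7: degree inequalities of a Hilbert–Burch matrix (abstract linear algebra part)
-/

namespace Groth.Agent.Lib.helper7.GrSyzHB

open Matrix

variable {R : Type*} [CommRing R] [IsDomain R] {t : ℕ}

omit [IsDomain R] in
/-- sum over `Fin t` of a function vanishing below `i` as a sum over the subtype `{q // i ≤ q}`. -/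
theorem sum_eq_sum_subtype (i : Fin t) (f : Fin t → R) (hf : ∀ q, ¬ i ≤ q → f q = 0) :
    ∑ q, f q = ∑ q : {q : Fin t // i ≤ q}, f q.1 := by
  classical
  rw [← Finset.sum_subtype (Finset.univ.filter (fun q => i ≤ q)) (by simp) f]
  symm
  apply Finset.sum_subset (Finset.filter_subset _ _)
  intro q _ hq
  rw [Finset.mem_filter] at hq
  exact hf q (fun h => hq ⟨Finset.mem_univ q, h⟩)

/-- The square block of the matrix `D` below the zero block. -/
def blk (D : Matrix (Fin (t + 1)) (Fin t) R) (i : Fin t) :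
    Matrix {q : Fin t // i ≤ q} {q : Fin t // i ≤ q} R :=
  fun q q' => D q.1.succ q'.1

theorem det_blk_ne_zero (D : Matrix (Fin (t + 1)) (Fin t) R)
    (hinj : ∀ W : Fin t → R, D *ᵥ W = 0 → W = 0) (i : Fin t)
    (hz : ∀ p q, p ≤ i.castSucc → i ≤ q → D p q = 0) : (blk D i).det ≠ 0 := by
  classical
  intro hdet
  obtain ⟨w, hw0, hw⟩ := Matrix.exists_mulVec_eq_zero_iff.mpr hdet
  apply hw0
  have hW : (fun q' : Fin t => if h : i ≤ q' then w ⟨q', h⟩ else 0) = 0 := by
    apply hinj
    funext p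
    rw [Matrix.mulVec, dotProduct, sum_eq_sum_subtype i]
    · have hsum : ∑ q : {q : Fin t // i ≤ q}, D p q.1 * (if h : i ≤ q.1 then w ⟨q.1, h⟩ else 0) =
          ∑ q : {q : Fin t // i ≤ q}, D p q.1 * w q := by
        refine Finset.sum_congr rfl (fun q _ => ?_)
        rw [dif_pos q.2]
      rw [hsum]
      induction p using Fin.cases with
      | zero =>
        refine Finset.sum_eq_zero (fun q _ => ?_)
        rw [hz 0 q.1 (Fin.zero_le _) q.2, zero_mul]
      | succ q0 =>
        by_cases hq0 : i ≤ q0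
        · have := congrFun hw ⟨q0, hq0⟩
          simpa [blk, Matrix.mulVec, dotProduct] using this
        · refine Finset.sum_eq_zero (fun q _ => ?_)
          rw [hz q0.succ q.1 (Fin.succ_le_castSucc_iff.mpr (not_le.mp hq0)) q.2, zero_mul]
    · intro q hq
      rw [dif_neg hq, mul_zero]
  funext q
  have := congrFun hW q.1
  simpa [dif_pos q.2] using this

/-- The degree inequalities of a Hilbert–Burch matrix. -/
theorem degrees (D : Matrix (Fin (t + 1)) (Fin t) R)
    (hinj : ∀ W : Fin t → R, D *ᵥ W = 0 → W = 0)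
    (hg : ∀ p : Fin (t + 1), ∃ g : Fin (t + 1) → R, g ᵥ* D = 0 ∧ g p ≠ 0)
    (a : Fin (t + 1) → ℤ) (b : Fin t → ℤ)
    (hzero : ∀ p q, b q - a p ≤ 0 → D p q = 0)
    (ha : ∀ p p' : Fin (t + 1), p ≤ p' → a p' ≤ a p) (hb : ∀ q q' : Fin t, q ≤ q' → b q' ≤ b q)
    (i : Fin t) : 1 ≤ b i - a i.castSucc ∧ 1 ≤ b i - a i.succ := by
  classical
  constructor
  · by_contra hcon
    have hz : ∀ p q, p ≤ i.castSucc → i ≤ q → D p q = 0 := by
      intro p q hp hq
      apply hzero
      have := ha p _ hp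
      have := hb i q hq
      omega
    have hdet := det_blk_ne_zero D hinj i hz
    obtain ⟨g, hgD, hgi⟩ := hg i.succ
    apply hgi
    have hg' : (fun q : {q : Fin t // i ≤ q} => g q.1.succ) = 0 := by
      apply Matrix.eq_zero_of_vecMul_eq_zero hdet
      funext q'
      have h0 := congrFun hgD q'.1
      rw [Matrix.vecMul, dotProduct, Fin.sum_univ_succ, hz 0 q'.1 (Fin.zero_le _) q'.2, mul_zero,
        zero_add, sum_eq_sum_subtype i] at h0
      · simpa [blk, Matrix.vecMul, dotProduct] using h0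
      · intro q hq
        rw [hz q.succ q'.1 (Fin.succ_le_castSucc_iff.mpr (not_le.mp hq)) q'.2, mul_zero]
    exact congrFun hg' ⟨i, le_refl i⟩
  · by_contra hcon
    have hz' : ∀ p q, p ≤ i.succ → i ≤ q → D p q = 0 := by
      intro p q hp hq
      apply hzero
      have := ha p _ hp
      have := hb i q hq
      omega
    have hz : ∀ p q, p ≤ i.castSucc → i ≤ q → D p q = 0 := fun p q hp hq =>
      hz' p q (hp.trans (Fin.castSucc_lt_succ.le)) hq
    refine det_blk_ne_zero D hinj i hz ?_
    exact Matrix.det_eq_zero_of_row_eq_zero ⟨i, le_refl i⟩ (fun q' => hz' _ _ (le_refl _) q'.2)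

end Groth.Agent.Lib.helper7.GrSyzHB
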