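import Groth.Agent.Lib.Helper7.GrSyzBasic
import Mathlib.Algebra.Order.Antidiag.FinsuppEquiv
import Mathlib.RingTheory.MvPolynomial.Basic
import Mathlib.LinearAlgebra.Dimension.Constructions
import Mathlib.LinearAlgebra.Dimension.Finrank
import Mathlib.LinearAlgebra.FiniteDimensional.Lemmas
import Mathlib.Algebra.Module.GradedModule

/-!
# helper7: Hilbert function of a graded module with a finite graded free resolution (GrSyz)
-/

universe u v

namespace Groth.Agent.Lib.helper7.GrSyzHilb

open MvPolynomial DirectSum Groth.Agent.Lib.helper7.GrSyzBasic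

section Euler

variable {k : Type*} [Field k] (V : ℕ → Type*) [∀ i, AddCommGroup (V i)] [∀ i, Module k (V i)]
  [∀ i, FiniteDimensional k (V i)] {W : Type*} [AddCommGroup W] [Module k W]
  (ε : V 0 →ₗ[k] W) (δ : ∀ i, V (i + 1) →ₗ[k] V i)

/-- Euler characteristic of a finite exact sequence `0 → V_m → … → V_0 → W → 0` of
finite-dimensional vector spaces. -/
theorem euler_char (hε : Function.Surjective ε) (h0 : LinearMap.ker ε = LinearMap.range (δ 0))
    (hs : ∀ i, LinearMap.ker (δ i) = LinearMap.range (δ (i + 1))) (m : ℕ)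
    (hm : ∀ i, m < i → Module.finrank k (V i) = 0) :
    (Module.finrank k W : ℤ) =
      ∑ i ∈ Finset.range (m + 1), (-1 : ℤ) ^ i * (Module.finrank k (V i) : ℤ) := by
  obtain ⟨z, hz0, hzs⟩ : ∃ z : ℕ → ℕ, z 0 = Module.finrank k (LinearMap.ker ε) ∧
      ∀ j, z (j + 1) = Module.finrank k (LinearMap.ker (δ j)) :=
    ⟨fun n => Nat.rec (Module.finrank k (LinearMap.ker ε))
      (fun j _ => Module.finrank k (LinearMap.ker (δ j))) n, rfl, fun j => rfl⟩
  have hV0 : Module.finrank k (V 0) = Module.finrank k W + z 0 := by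
    have := LinearMap.finrank_range_add_finrank_ker ε
    rw [LinearMap.range_eq_top.mpr hε, finrank_top] at this
    rw [hz0]; omega
  have hVs : ∀ n, Module.finrank k (V (n + 1)) = z n + z (n + 1) := by
    intro n
    have := LinearMap.finrank_range_add_finrank_ker (δ n)
    rw [hzs]
    cases n with
    | zero => rw [hz0, h0]; omega
    | succ j => rw [hzs, hs j]; omega
  have main : ∀ n, ∑ i ∈ Finset.range (n + 1), (-1 : ℤ) ^ i * (Module.finrank k (V i) : ℤ) =
      (Module.finrank k W : ℤ) + (-1 : ℤ) ^ n * ((z n : ℕ) : ℤ) := by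
    intro n
    induction n with
    | zero => simp [hV0]
    | succ n ih =>
      rw [Finset.sum_range_succ, ih, hVs n]
      push_cast
      ring
  have hzm : z m = 0 := by
    have h1 := hVs m
    have h2 := hm (m + 1) (Nat.lt_succ_self m)
    omega
  rw [main m, hzm]
  simp

end Euler

section PieceRank

variable (k : Type u) [Field k] (r : ℕ)

theorem setOf_weight_eq (n : ℕ) :
    {d : Fin (r + 1) →₀ ℕ | Finsupp.weight (fun _ : Fin (r + 1) => (1 : ℤ)) d = (n : ℤ)} =
      ↑((Finset.univ : Finset (Fin (r + 1))).finsuppAntidiag n) := by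
  ext d
  rw [Set.mem_ofPred_eq, weight_one_eq_degree, Finset.mem_coe, Finset.mem_finsuppAntidiag,
    Int.natCast_inj, Finsupp.degree_eq_sum]
  simp

theorem stdGr_eq_restrictSupport (σ : Type v) (n : ℤ) :
    GrSyz.stdGr k σ n =
      restrictSupport k {d : σ →₀ ℕ | Finsupp.weight (fun _ : σ => (1 : ℤ)) d = n} :=
  weightedHomogeneousSubmodule_eq_finsupp_supported k _ n

theorem finite_stdGr (n : ℤ) : Module.Finite k (GrSyz.stdGr k (Fin (r + 1)) n) := by
  rw [stdGr_eq_restrictSupport]
  have : Finite {d : Fin (r + 1) →₀ ℕ | Finsupp.weight (fun _ : Fin (r + 1) => (1 : ℤ)) d = n} := by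
    by_cases hn : 0 ≤ n
    · obtain ⟨m, rfl⟩ := Int.eq_ofNat_of_zero_le hn
      rw [setOf_weight_eq]
      exact Finset.finite_toSet _
    · have : {d : Fin (r + 1) →₀ ℕ | Finsupp.weight (fun _ : Fin (r + 1) => (1 : ℤ)) d = n} = ∅ := by
        ext d
        simp only [Set.mem_ofPred_eq, Set.mem_empty_iff_false, iff_false]
        intro h
        have := weight_one_nonneg d
        omega
      rw [this]
      infer_instance
  exact Module.Finite.of_basis (basisRestrictSupport k _)

theorem finrank_stdGr (n : ℤ) :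
    Module.finrank k (GrSyz.stdGr k (Fin (r + 1)) n) =
      if 0 ≤ n then Nat.choose (r + n.toNat) r else 0 := by
  rw [stdGr_eq_restrictSupport, Module.finrank_eq_nat_card_basis (basisRestrictSupport k _)]
  split_ifs with hn
  · obtain ⟨m, rfl⟩ := Int.eq_ofNat_of_zero_le hn
    rw [setOf_weight_eq, Nat.card_coe_set_eq, Set.ncard_coe_finset,
      Finset.card_finsuppAntidiag_nat_eq_choose, Finset.card_univ, Fintype.card_fin,
      Int.toNat_natCast]
    have : r + 1 + m - 1 = r + m := by omega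
    rw [this, Nat.choose_symm_add]
  · have : {d : Fin (r + 1) →₀ ℕ | Finsupp.weight (fun _ : Fin (r + 1) => (1 : ℤ)) d = n} = ∅ := by
      ext d
      simp only [Set.mem_ofPred_eq, Set.mem_empty_iff_false, iff_false]
      intro h
      have := weight_one_nonneg d
      omega
    rw [this]
    simp

end PieceRank

section Comp

variable {k : Type u} [Field k] {σ : Type v}

local notation "S" => MvPolynomial σ k
local notation "𝒜" => GrSyz.stdGr k σ

/-- The degree-`d` piece of the free module with basis degrees `e`. -/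
noncomputable def G (k : Type u) [Field k] (σ : Type v) {n : ℕ} (e : Fin n → ℤ) (d : ℤ) :
    Submodule k (Fin n → MvPolynomial σ k) :=
  Submodule.pi Set.univ (fun b => GrSyz.stdGr k σ (d - e b))

theorem mem_G {n : ℕ} (e : Fin n → ℤ) (d : ℤ) (v : Fin n → S) :
    v ∈ G k σ e d ↔ ∀ b, v b ∈ 𝒜 (d - e b) := by
  simp [G, Submodule.mem_pi]

/-- The degree-`d` component of a vector. -/
noncomputable def comp {n : ℕ} (e : Fin n → ℤ) (d : ℤ) (v : Fin n → S) : Fin n → S :=
  fun b => (decompose 𝒜 (v b) (d - e b) : S)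

theorem comp_mem {n : ℕ} (e : Fin n → ℤ) (d : ℤ) (v : Fin n → S) : comp e d v ∈ G k σ e d := by
  rw [mem_G]; intro b; exact Submodule.coe_mem _

theorem comp_of_mem {n : ℕ} (e : Fin n → ℤ) (d : ℤ) {v : Fin n → S} (hv : v ∈ G k σ e d) :
    comp e d v = v := by
  funext b
  exact decompose_of_mem_same 𝒜 ((mem_G e d v).mp hv b)

theorem mulVec_comp {n n' : ℕ} (e : Fin n → ℤ) (e' : Fin n' → ℤ) (d : ℤ)
    (A : Matrix (Fin n) (Fin n') S) (hA : ∀ a b, A a b ∈ 𝒜 (e' b - e a)) (v : Fin n' → S) :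
    A.mulVec (comp e' d v) = comp e d (A.mulVec v) := by
  funext a
  simp only [comp, Matrix.mulVec, dotProduct]
  rw [decompose_sum, DFinsupp.finsetSum_apply, AddSubmonoidClass.coe_finsetSum]
  refine Finset.sum_congr rfl (fun b _ => ?_)
  have : d - e a = (e' b - e a) + (d - e' b) := by ring
  rw [this, coe_decompose_mul_add_of_left_mem 𝒜 (hA a b)]

end Comp

section Mod

variable {k : Type u} [Field k] {σ : Type v}
  {M : Type*} [AddCommGroup M] [Module k M] [Module (MvPolynomial σ k) M]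
  [IsScalarTower k (MvPolynomial σ k) M]
  (ℳ : ℤ → Submodule k M) [DirectSum.Decomposition ℳ] [SetLike.GradedSMul (GrSyz.stdGr k σ) ℳ]

local notation "S" => MvPolynomial σ k
local notation "𝒜" => GrSyz.stdGr k σ

omit [IsScalarTower k (MvPolynomial σ k) M] in
theorem coe_decompose_smul (x : S) {m : M} {j : ℤ} (hm : m ∈ ℳ j) (i : ℤ) :
    (decompose ℳ (x • m) (i + j) : M) = (decompose 𝒜 x i : S) • m := by
  classical
  induction x using DirectSum.Decomposition.inductionOn 𝒜 with
  | zero => simp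
  | @homogeneous i' x =>
    have hxm : (x : S) • m ∈ ℳ (i' + j) := SetLike.GradedSMul.smul_mem x.2 hm
    by_cases h : i' = i
    · subst h
      rw [decompose_of_mem_same ℳ hxm, decompose_coe, of_eq_same]
    · rw [decompose_of_mem_ne ℳ hxm (by omega), decompose_coe, of_eq_of_ne _ _ _ (Ne.symm h)]
      simp
  | add x y hx hy =>
    rw [add_smul, decompose_add, add_apply, Submodule.coe_add, hx, hy, decompose_add, add_apply,
      Submodule.coe_add, add_smul]

omit [IsScalarTower k (MvPolynomial σ k) M] in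
theorem aug_comp {n : ℕ} (e : Fin n → ℤ) (d : ℤ) (aug : Fin n → M) (haug : ∀ b, aug b ∈ ℳ (e b))
    (v : Fin n → S) :
    Fintype.linearCombination S aug (comp e d v) =
      (decompose ℳ (Fintype.linearCombination S aug v) d : M) := by
  classical
  simp only [Fintype.linearCombination_apply, comp]
  rw [decompose_sum, DFinsupp.finsetSum_apply, AddSubmonoidClass.coe_finsetSum]
  refine Finset.sum_congr rfl (fun b _ => ?_)
  have : d = (d - e b) + e b := by ring
  conv_rhs => rw [this]
  rw [coe_decompose_smul ℳ (v b) (haug b)]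

end Mod

section PiRank

variable {k : Type u} [Field k] {ι : Type*} [Fintype ι] {φ : ι → Type*}
  [∀ i, AddCommGroup (φ i)] [∀ i, Module k (φ i)]

/-- `Submodule.pi univ p` is the product of the `p i`. -/
def piEquiv (p : ∀ i, Submodule k (φ i)) : ↥(Submodule.pi Set.univ p) ≃ₗ[k] (∀ i, ↥(p i)) where
  toFun x i := ⟨x.1 i, x.2 i trivial⟩
  invFun y := ⟨fun i => (y i).1, fun i _ => (y i).2⟩
  map_add' _ _ := rfl
  map_smul' _ _ := rfl
  left_inv _ := rfl
  right_inv _ := rfl

end PiRank

section Exact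

variable {k : Type u} [Field k] {r : ℕ}
  {M : Type u} [AddCommGroup M] [Module k M] [Module (MvPolynomial (Fin (r + 1)) k) M]
  [IsScalarTower k (MvPolynomial (Fin (r + 1)) k) M]
  {ℳ : ℤ → Submodule k M} [DirectSum.Decomposition ℳ]
  [SetLike.GradedSMul (GrSyz.stdGr k (Fin (r + 1))) ℳ]
  (F : GrSyz.FreeRes (GrSyz.stdGr k (Fin (r + 1))) ℳ) (d : ℤ)

theorem finite_G {n : ℕ} (e : Fin n → ℤ) :
    Module.Finite k ↥(G k (Fin (r + 1)) e d) := by
  have : ∀ b : Fin n, Module.Finite k ↥(GrSyz.stdGr k (Fin (r + 1)) (d - e b)) :=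
    fun b => finite_stdGr k r _
  exact Module.Finite.equiv (piEquiv (fun b => GrSyz.stdGr k (Fin (r + 1)) (d - e b))).symm

theorem finrank_G {n : ℕ} (e : Fin n → ℤ) :
    Module.finrank k ↥(G k (Fin (r + 1)) e d) =
      ∑ b : Fin n, (if e b ≤ d then Nat.choose (r + (d - e b).toNat) r else 0) := by
  have : ∀ b : Fin n, Module.Finite k ↥(GrSyz.stdGr k (Fin (r + 1)) (d - e b)) :=
    fun b => finite_stdGr k r _
  unfold G
  rw [LinearEquiv.finrank_eq (piEquiv (fun b => GrSyz.stdGr k (Fin (r + 1)) (d - e b))),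
    Module.finrank_pi_fintype]
  refine Finset.sum_congr rfl (fun b _ => ?_)
  rw [finrank_stdGr]
  have : (0 ≤ d - e b) ↔ e b ≤ d := by omega
  simp only [this]

omit [IsScalarTower k (MvPolynomial (Fin (r + 1)) k) M] in
theorem dLin_mem (i : ℕ) (v : Fin (F.rk (i + 1)) → MvPolynomial (Fin (r + 1)) k)
    (hv : v ∈ G k (Fin (r + 1)) (F.deg (i + 1)) d) : F.dLin i v ∈ G k (Fin (r + 1)) (F.deg i) d := by
  rw [Matrix.mulVecLin_apply, ← comp_of_mem _ _ hv,
    mulVec_comp (F.deg i) (F.deg (i + 1)) d (F.d i) (F.d_mem i)]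
  exact comp_mem _ _ _

theorem augLin_mem (v : Fin (F.rk 0) → MvPolynomial (Fin (r + 1)) k)
    (hv : v ∈ G k (Fin (r + 1)) (F.deg 0) d) : F.augLin v ∈ ℳ d := by
  rw [← comp_of_mem _ _ hv, aug_comp ℳ (F.deg 0) d F.aug F.aug_mem]
  exact Submodule.coe_mem _

/-- The differential in degree `d`. -/
noncomputable def δ (i : ℕ) : ↥(G k (Fin (r + 1)) (F.deg (i + 1)) d) →ₗ[k] ↥(G k (Fin (r + 1)) (F.deg i) d) :=
  ((F.dLin i).restrictScalars k).restrict (fun v hv => dLin_mem F d i v hv)

/-- The augmentation in degree `d`. -/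
noncomputable def ε : ↥(G k (Fin (r + 1)) (F.deg 0) d) →ₗ[k] ↥(ℳ d) :=
  ((F.augLin).restrictScalars k).restrict (fun v hv => augLin_mem F d v hv)

theorem ε_surjective : Function.Surjective (ε F d) := by
  rintro ⟨m, hm⟩
  obtain ⟨v, hv⟩ := F.aug_surjective m
  refine ⟨⟨comp (F.deg 0) d v, comp_mem _ _ _⟩, Subtype.ext ?_⟩
  change Fintype.linearCombination _ F.aug (comp (F.deg 0) d v) = m
  rw [aug_comp ℳ (F.deg 0) d F.aug F.aug_mem, hv, decompose_of_mem_same ℳ hm]

theorem ker_ε : LinearMap.ker (ε F d) = LinearMap.range (δ F d 0) := by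
  ext ⟨v, hv⟩
  rw [LinearMap.mem_ker, LinearMap.mem_range]
  constructor
  · intro h
    have h0 : Fintype.linearCombination _ F.aug v = 0 := congrArg Subtype.val h
    have hk : v ∈ LinearMap.ker (Fintype.linearCombination _ F.aug) := h0
    rw [F.exact_zero] at hk
    obtain ⟨w, hw⟩ := hk
    refine ⟨⟨comp (F.deg 1) d w, comp_mem _ _ _⟩, Subtype.ext ?_⟩
    change (F.d 0).mulVec (comp (F.deg 1) d w) = v
    rw [mulVec_comp (F.deg 0) (F.deg 1) d (F.d 0) (F.d_mem 0), ← Matrix.mulVecLin_apply, hw,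
      comp_of_mem _ _ hv]
  · rintro ⟨⟨w, hw⟩, h⟩
    have h0 : (F.d 0).mulVec w = v := congrArg Subtype.val h
    refine Subtype.ext ?_
    change Fintype.linearCombination _ F.aug v = 0
    have : v ∈ LinearMap.range (Matrix.mulVecLin (F.d 0)) := ⟨w, h0⟩
    rw [← F.exact_zero] at this
    exact this

omit [IsScalarTower k (MvPolynomial (Fin (r + 1)) k) M] in
theorem ker_δ (i : ℕ) : LinearMap.ker (δ F d i) = LinearMap.range (δ F d (i + 1)) := by
  ext ⟨v, hv⟩
  rw [LinearMap.mem_ker, LinearMap.mem_range]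
  constructor
  · intro h
    have h0 : (F.d i).mulVec v = 0 := congrArg Subtype.val h
    have hk : v ∈ LinearMap.ker (Matrix.mulVecLin (F.d i)) := h0
    rw [F.exact_succ] at hk
    obtain ⟨w, hw⟩ := hk
    refine ⟨⟨comp (F.deg (i + 2)) d w, comp_mem _ _ _⟩, Subtype.ext ?_⟩
    change (F.d (i + 1)).mulVec (comp (F.deg (i + 2)) d w) = v
    rw [mulVec_comp (F.deg (i + 1)) (F.deg (i + 2)) d (F.d (i + 1)) (F.d_mem (i + 1)),
      ← Matrix.mulVecLin_apply, hw, comp_of_mem _ _ hv]
  · rintro ⟨⟨w, hw⟩, h⟩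
    have h0 : (F.d (i + 1)).mulVec w = v := congrArg Subtype.val h
    refine Subtype.ext ?_
    change (F.d i).mulVec v = 0
    have : v ∈ LinearMap.range (Matrix.mulVecLin (F.d (i + 1))) := ⟨w, h0⟩
    rw [← F.exact_succ] at this
    exact this

/-- The Hilbert function of a module with a finite graded free resolution. -/
theorem finrank_piece (m : ℕ) (hF : F.HasLengthLE m) :
    (Module.finrank k ↥(ℳ d) : ℤ) =
      ∑ i ∈ Finset.range (m + 1), (-1 : ℤ) ^ i * ∑ b : Fin (F.rk i),
        (if F.deg i b ≤ d then ((Nat.choose (r + (d - F.deg i b).toNat) r : ℕ) : ℤ) else 0) := by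
  have : ∀ i, FiniteDimensional k ↥(G k (Fin (r + 1)) (F.deg i) d) :=
    fun i => finite_G d (F.deg i)
  have key := euler_char (k := k) (fun i => ↥(G k (Fin (r + 1)) (F.deg i) d))
    (ε F d) (δ F d) (ε_surjective F d) (ker_ε F d) (ker_δ F d) m ?_
  · rw [key]
    refine Finset.sum_congr rfl (fun i _ => ?_)
    rw [finrank_G]
    push_cast
    rfl
  · intro i hi
    rw [finrank_G]
    have : IsEmpty (Fin (F.rk i)) := by rw [hF i hi]; infer_instance
    exact Finset.sum_of_isEmpty _

end Exact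

end Groth.Agent.Lib.helper7.GrSyzHilb
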