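import Mathlib.RingTheory.Polynomial.Pochhammer
import Mathlib.Data.Nat.Choose.Basic
import Mathlib.Tactic.FieldSimp
import Mathlib.Tactic.Ring
import Mathlib.Tactic.Linarith

/-!
# helper7: the polynomial `d ↦ C(r + d - a, r)` (GrSyz Hilbert polynomials)
-/

namespace Groth.Agent.Lib.helper7.GrSyzHilbPoly

open Polynomial

/-- The polynomial `C(X - a + r, r)` over `ℚ`. -/
noncomputable def Q (r : ℕ) (a : ℤ) : Polynomial ℚ :=
  C ((r.factorial : ℚ)⁻¹) * (ascPochhammer ℚ r).comp (X - C (a : ℚ) + 1)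

theorem Q_eval (r : ℕ) (a d : ℤ) (h : a - r ≤ d) :
    (Q r a).eval (d : ℚ) =
      (((if a ≤ d then ((Nat.choose (r + (d - a).toNat) r : ℕ) : ℤ) else 0 : ℤ)) : ℚ) := by
  simp only [Q, eval_mul, eval_C, eval_comp, eval_add, eval_sub, eval_X, eval_one]
  split_ifs with had
  · obtain ⟨n, hn⟩ : ∃ n : ℕ, d - a = n := Int.eq_ofNat_of_zero_le (by omega)
    have h1 : (d : ℚ) - (a : ℚ) + 1 = ((n + 1 : ℕ) : ℚ) := by
      have : ((d - a : ℤ) : ℚ) = ((n : ℤ) : ℚ) := by rw [hn]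
      push_cast at this ⊢
      linarith
    have h2 : (d - a).toNat = n := by rw [hn]; exact Int.toNat_natCast n
    rw [h1, h2, ← ascPochhammer_eval_cast, ascPochhammer_nat_eq_ascFactorial,
      Nat.ascFactorial_eq_factorial_mul_choose, Nat.add_comm n r]
    have hr : (r.factorial : ℚ) ≠ 0 := by exact_mod_cast Nat.factorial_ne_zero r
    push_cast
    field_simp
  · obtain ⟨j, hj⟩ : ∃ j : ℕ, a - d - 1 = j := Int.eq_ofNat_of_zero_le (by omega)
    have hjr : j < r := by omega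
    have h1 : (d : ℚ) - (a : ℚ) + 1 = -(j : ℚ) := by
      have : ((a - d - 1 : ℤ) : ℚ) = ((j : ℤ) : ℚ) := by rw [hj]
      push_cast at this ⊢
      linarith
    rw [h1, ascPochhammer_eval_neg_coe_nat_of_lt hjr]
    simp

end Groth.Agent.Lib.helper7.GrSyzHilbPoly
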