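import Groth.Agent.Lib.Helper7.GrSyzBasic
import Mathlib.Algebra.MvPolynomial.Rename
import Mathlib.Algebra.MvPolynomial.CommRing
import Mathlib.RingTheory.Polynomial.Basic

/-!
# helper7: Hilbert's syzygy theorem for minimal matrix complexes over a polynomial ring (GrSyz)

Induction on the number of variables: reduce modulo the first variable.
-/

universe u

namespace Groth.Agent.Lib.helper7.GrSyzHilbSyz

open MvPolynomial

variable {k : Type u} [Field k]

/-- Kill the first variable. -/
noncomputable def φ (m : ℕ) : MvPolynomial (Fin (m + 1)) k →ₐ[k] MvPolynomial (Fin m) k :=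
  MvPolynomial.aeval (fun i : Fin (m + 1) => Fin.cases (0 : MvPolynomial (Fin m) k) (fun j => X j) i)

/-- Section of `φ`. -/
noncomputable def ι (m : ℕ) : MvPolynomial (Fin m) k →ₐ[k] MvPolynomial (Fin (m + 1)) k :=
  MvPolynomial.rename Fin.succ

theorem φ_X_zero (m : ℕ) : φ (k := k) m (X 0) = 0 := by
  simp [φ]

theorem φ_X_succ (m : ℕ) (j : Fin m) : φ (k := k) m (X j.succ) = X j := by
  simp [φ]

theorem φ_ι (m : ℕ) (p : MvPolynomial (Fin m) k) : φ m (ι m p) = p := by
  unfold φ ι
  rw [aeval_rename]
  have : ((fun i : Fin (m + 1) => Fin.cases (0 : MvPolynomial (Fin m) k) (fun j => X j) i) ∘ Fin.succ)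
      = X := by
    funext j
    simp
  rw [this, aeval_X_left_apply]

theorem constantCoeff_φ (m : ℕ) (p : MvPolynomial (Fin (m + 1)) k) :
    constantCoeff (φ m p) = constantCoeff p := by
  have h : (MvPolynomial.constantCoeff : MvPolynomial (Fin m) k →+* k).comp (φ (k := k) m).toRingHom
      = (MvPolynomial.constantCoeff : MvPolynomial (Fin (m + 1)) k →+* k) := by
    apply MvPolynomial.ringHom_ext
    · intro a
      simp [φ]
    · intro i
      refine Fin.cases ?_ (fun j => ?_) i
      · simp [φ]
      · simp [φ]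
  exact RingHom.congr_fun h p

theorem sub_mem_span (m : ℕ) (p : MvPolynomial (Fin (m + 1)) k) :
    p - ι m (φ m p) ∈ Ideal.span {(X 0 : MvPolynomial (Fin (m + 1)) k)} := by
  induction p using MvPolynomial.induction_on with
  | C a =>
    have : ι m (φ m (C a)) = (C a : MvPolynomial (Fin (m + 1)) k) := by
      simp [φ, ι]
    rw [this, sub_self]
    exact Ideal.zero_mem _
  | add p q hp hq =>
    rw [map_add, map_add]
    have : p + q - (ι m (φ m p) + ι m (φ m q)) = (p - ι m (φ m p)) + (q - ι m (φ m q)) := by ring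
    rw [this]
    exact Ideal.add_mem _ hp hq
  | mul_X p i hp =>
    rw [map_mul, map_mul]
    refine Fin.cases ?_ (fun j => ?_) i
    · rw [φ_X_zero, map_zero, mul_zero, sub_zero]
      exact Ideal.mul_mem_left _ _ (Ideal.subset_span rfl)
    · rw [φ_X_succ]
      have : ι m (X j) = (X j.succ : MvPolynomial (Fin (m + 1)) k) := by
        simp [ι]
      rw [this, ← sub_mul]
      exact Ideal.mul_mem_right _ _ hp

theorem exists_eq_X_mul (m : ℕ) (p : MvPolynomial (Fin (m + 1)) k) (hp : φ m p = 0) :
    ∃ q, p = X 0 * q := by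
  have := sub_mem_span m p
  rw [hp, map_zero, sub_zero, Ideal.mem_span_singleton'] at this
  obtain ⟨q, hq⟩ := this
  exact ⟨q, by rw [← hq, mul_comm]⟩

/-- Hilbert's syzygy theorem, matrix form: in an exact complex of finite free modules over
`k[x_1, …, x_m]` all of whose matrix entries have vanishing constant coefficient, the terms of index
`> m` vanish. -/
theorem syz (m : ℕ) : ∀ (rk : ℕ → ℕ)
    (d : ∀ i, Matrix (Fin (rk i)) (Fin (rk (i + 1))) (MvPolynomial (Fin m) k)),
    (∀ i a b, constantCoeff (d i a b) = 0) →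
    (∀ i, LinearMap.ker (Matrix.mulVecLin (d i)) = LinearMap.range (Matrix.mulVecLin (d (i + 1)))) →
    ∀ i, m < i → rk i = 0 := by
  classical
  induction m with
  | zero =>
    intro rk d hmin hex i hi
    obtain ⟨j, rfl⟩ : ∃ j, i = j + 1 := ⟨i - 1, by omega⟩
    by_contra hne
    obtain ⟨b⟩ : Nonempty (Fin (rk (j + 1))) := ⟨⟨0, Nat.pos_of_ne_zero hne⟩⟩
    have hz : ∀ (i : ℕ) a b, d i a b = 0 := by
      intro i a b
      rw [(d i a b).eq_C_of_isEmpty]
      have := hmin i a b
      rw [constantCoeff_eq] at this
      rw [this, map_zero]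
    have hker : (Pi.single b 1 : Fin (rk (j + 1)) → MvPolynomial (Fin 0) k) ∈
        LinearMap.ker (Matrix.mulVecLin (d j)) := by
      rw [LinearMap.mem_ker, Matrix.mulVecLin_apply, Matrix.mulVec_single_one]
      funext a
      exact hz j a b
    rw [hex j] at hker
    obtain ⟨v, hv⟩ := hker
    have h0 : Matrix.mulVecLin (d (j + 1)) v = 0 := by
      rw [Matrix.mulVecLin_apply]
      funext a
      rw [Matrix.mulVec, dotProduct]
      simp [hz]
    rw [h0] at hv
    have := congrFun hv b
    rw [Pi.single_eq_same, Pi.zero_apply] at this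
    exact zero_ne_one this
  | succ m ih =>
    intro rk d hmin hex i hi
    obtain ⟨j, rfl⟩ : ∃ j, i = j + 1 := ⟨i - 1, by omega⟩
    have hcomp : ∀ i v, (d i).mulVec ((d (i + 1)).mulVec v) = 0 := by
      intro i v
      have : Matrix.mulVecLin (d (i + 1)) v ∈ LinearMap.ker (Matrix.mulVecLin (d i)) := by
        rw [hex i]
        exact ⟨v, rfl⟩
      rw [LinearMap.mem_ker, Matrix.mulVecLin_apply, Matrix.mulVecLin_apply] at this
      exact this
    have hmap : ∀ (i : ℕ) (v : Fin (rk (i + 1)) → MvPolynomial (Fin (m + 1)) k),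
        (φ m) ∘ ((d i).mulVec v) = ((d i).map (φ m)).mulVec ((φ m) ∘ v) := by
      intro i v
      funext a
      exact RingHom.map_mulVec (φ (k := k) m).toRingHom (d i) v a
    refine ih (fun j => rk (j + 1)) (fun j => (d (j + 1)).map (φ m)) ?_ ?_ j (by omega)
    · intro i a b
      rw [Matrix.map_apply, constantCoeff_φ]
      exact hmin (i + 1) a b
    · intro j
      apply le_antisymm
      · intro vbar hv
        rw [LinearMap.mem_ker, Matrix.mulVecLin_apply] at hv
        obtain ⟨v, hvdef⟩ : ∃ v : Fin (rk (j + 1 + 1)) → MvPolynomial (Fin (m + 1)) k, v = (ι m) ∘ vbar :=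
          ⟨_, rfl⟩
        have hφv : (φ m) ∘ v = vbar := by
          funext b
          rw [hvdef]
          exact φ_ι m (vbar b)
        have h1 : ∀ a, ∃ q, (d (j + 1)).mulVec v a = X 0 * q := by
          intro a
          apply exists_eq_X_mul
          have := congrFun (hmap (j + 1) v) a
          rw [hφv, hv] at this
          exact this
        choose w hw using h1
        have hw' : (d (j + 1)).mulVec v = (X 0 : MvPolynomial (Fin (m + 1)) k) • w := by
          funext a
          rw [hw a, Pi.smul_apply, smul_eq_mul]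
        have h2 : (d j).mulVec w = 0 := by
          have := hcomp j v
          rw [hw', Matrix.mulVec_smul] at this
          funext a
          have h3 := congrFun this a
          rw [Pi.smul_apply, smul_eq_mul, Pi.zero_apply] at h3
          exact (mul_eq_zero.mp h3).resolve_left (X_ne_zero 0)
        have h3 : w ∈ LinearMap.range (Matrix.mulVecLin (d (j + 1))) := by
          rw [← hex j, LinearMap.mem_ker, Matrix.mulVecLin_apply]
          exact h2
        obtain ⟨u, hu⟩ := h3
        rw [Matrix.mulVecLin_apply] at hu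
        have h4 : v - (X 0 : MvPolynomial (Fin (m + 1)) k) • u ∈
            LinearMap.range (Matrix.mulVecLin (d (j + 1 + 1))) := by
          rw [← hex (j + 1), LinearMap.mem_ker, Matrix.mulVecLin_apply, Matrix.mulVec_sub,
            Matrix.mulVec_smul, hu, hw', sub_self]
        obtain ⟨t, ht⟩ := h4
        rw [Matrix.mulVecLin_apply] at ht
        refine ⟨(φ m) ∘ t, ?_⟩
        rw [Matrix.mulVecLin_apply]
        change ((d (j + 1 + 1)).map (φ m)).mulVec ((φ m) ∘ t) = vbar
        rw [← hmap (j + 1 + 1) t, ht, ← hφv]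
        funext b
        simp only [Function.comp_apply, Pi.sub_apply, Pi.smul_apply, smul_eq_mul, map_sub, map_mul,
          φ_X_zero, zero_mul, sub_zero]
      · rintro _ ⟨tbar, rfl⟩
        rw [LinearMap.mem_ker, Matrix.mulVecLin_apply, Matrix.mulVecLin_apply]
        have := hmap (j + 1) ((d (j + 1 + 1)).mulVec ((ι m) ∘ tbar))
        rw [hcomp (j + 1), hmap (j + 1 + 1)] at this
        have hφt : (φ m) ∘ ((ι m) ∘ tbar) = tbar := by
          funext b
          exact φ_ι m (tbar b)
        rw [hφt] at this
        rw [← this]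
        funext a
        simp

end Groth.Agent.Lib.helper7.GrSyzHilbSyz
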