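import Groth.Agent.Lib.Helper7.GrSyzBasic
import Mathlib.Algebra.Homology.ShortComplex.ModuleCat
import Mathlib.CategoryTheory.Abelian.Projective.Resolution
import Mathlib.Algebra.Category.ModuleCat.Projective
import Mathlib.Algebra.Category.ModuleCat.Monoidal.Closed
import Mathlib.CategoryTheory.Monoidal.Tor
import Mathlib.RingTheory.Length
import Mathlib.LinearAlgebra.TensorProduct.Pi
import Mathlib.RingTheory.SimpleModule.Basic
import Mathlib.Algebra.Category.ModuleCat.Abelian
import Mathlib.Algebra.Category.ModuleCat.Monoidal.Basic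

/-!
# helper7: Tor of the residue field against a module with a minimal graded free resolution (GrSyz)
-/

universe u

namespace Groth.Agent.Lib.helper7.GrSyzTor

open CategoryTheory Groth.Agent.Lib.helper7.GrSyzBasic

section Res

variable {R : Type u} [CommRing R] {σ' : Type u} [SetLike σ' R]
  {𝒜 : ℤ → σ'}
  {M : Type u} [AddCommGroup M] [Module R M] {τ : Type u} [SetLike τ M] [AddSubgroupClass τ M]
  {ℳ : ℤ → τ} [DirectSum.Decomposition ℳ] [SetLike.GradedSMul 𝒜 ℳ]
  (F : GrSyz.FreeRes 𝒜 ℳ)

theorem dLin_comp (n : ℕ) (v : Fin (F.rk (n + 1 + 1)) → R) : F.dLin n (F.dLin (n + 1) v) = 0 := by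
  have : F.dLin (n + 1) v ∈ LinearMap.ker (F.dLin n) := by
    rw [F.exact_succ n]
    exact ⟨v, rfl⟩
  exact this

/-- The chain complex of free modules underlying a graded free resolution. -/
noncomputable def cx : ChainComplex (ModuleCat.{u} R) ℕ :=
  ChainComplex.of (fun n => ModuleCat.of R (Fin (F.rk n) → R))
    (fun n => ModuleCat.ofHom (F.dLin n))
    (fun n => by
      apply ModuleCat.hom_ext
      apply LinearMap.ext
      intro v
      exact dLin_comp F n v)

theorem cx_d (n : ℕ) : (cx F).d (n + 1) n = ModuleCat.ofHom (F.dLin n) := by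
  exact ChainComplex.of_d (fun n => ModuleCat.of R (Fin (F.rk n) → R))
    (fun n => ModuleCat.ofHom (F.dLin n)) n

theorem augLin_comp (v : Fin (F.rk 1) → R) : F.augLin (F.dLin 0 v) = 0 := by
  have : F.dLin 0 v ∈ LinearMap.ker F.augLin := by
    rw [F.exact_zero]
    exact ⟨v, rfl⟩
  exact this

/-- The augmentation as a chain map to the single complex. -/
noncomputable def π : cx F ⟶ (ChainComplex.single₀ (ModuleCat.{u} R)).obj (ModuleCat.of R M) :=
  ((cx F).toSingle₀Equiv _).symm ⟨ModuleCat.ofHom F.augLin, by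
    rw [cx_d]
    apply ModuleCat.hom_ext
    apply LinearMap.ext
    intro v
    exact augLin_comp F v⟩

theorem π_f_zero : (π F).f 0 = ModuleCat.ofHom F.augLin := by
  unfold π
  exact ChainComplex.toSingle₀Equiv_symm_apply_f_zero _ _

set_option backward.defeqAttrib.useBackward true in
set_option backward.isDefEq.respectTransparency false in
instance quasiIso_π : QuasiIso (π F) where
  quasiIsoAt m := by
    induction m with
    | zero =>
      rw [ChainComplex.quasiIsoAt₀_iff, ShortComplex.quasiIso_iff_of_zeros' _ rfl rfl rfl]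
      constructor
      · rw [ShortComplex.moduleCat_exact_iff_range_eq_ker]
        dsimp
        rw [π_f_zero, cx_d]
        exact F.exact_zero.symm
      · dsimp
        rw [π_f_zero, ModuleCat.epi_iff_surjective]
        exact F.aug_surjective
    | succ m _ =>
      rw [quasiIsoAt_iff_exactAt' (hL := ChainComplex.exactAt_succ_single_obj ..),
          HomologicalComplex.exactAt_iff' _ (m + 2) (m + 1) m (by simp) (by simp)]
      rw [ShortComplex.moduleCat_exact_iff_range_eq_ker]
      dsimp
      rw [cx_d, cx_d]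
      exact (F.exact_succ m).symm

/-- The projective resolution attached to a graded free resolution. -/
noncomputable def projRes : ProjectiveResolution (ModuleCat.of R M) where
  complex := cx F
  projective := fun n => by
    have : Module.Projective R (Fin (F.rk n) → R) := inferInstance
    exact (IsProjective.iff_projective (R := R) (Fin (F.rk n) → R)).mp this
  π := π F

open MonoidalCategory in
/-- After tensoring with `R ⧸ 𝔪` all differentials of a minimal resolution vanish. -/
theorem map_d_eq_zero {𝔪 : Ideal R} (hF : F.IsMinimal 𝔪) (a b : ℕ) :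
    ((((tensoringLeft (ModuleCat.{u} R)).obj (ModuleCat.of R (R ⧸ 𝔪))).mapHomologicalComplex
      (ComplexShape.down ℕ)).obj (cx F)).d a b = 0 := by
  classical
  rw [Functor.mapHomologicalComplex_obj_d]
  by_cases h : b + 1 = a
  · subst h
    rw [cx_d]
    apply ModuleCat.MonoidalCategory.tensor_ext
    intro x v
    change x ⊗ₜ[R] (F.dLin b v) = 0
    have hv : F.dLin b v = ∑ c, (F.dLin b v c) • (Pi.single c (1 : R) : Fin (F.rk b) → R) := by
      funext c'
      simp [Finset.sum_apply, Pi.single_apply]
    rw [hv, TensorProduct.tmul_sum]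
    refine Finset.sum_eq_zero (fun c _ => ?_)
    rw [TensorProduct.tmul_smul, TensorProduct.smul_tmul']
    obtain ⟨y, rfl⟩ := Ideal.Quotient.mk_surjective x
    have : (F.dLin b v c) • (Ideal.Quotient.mk 𝔪 y) = 0 := by
      rw [Algebra.smul_def, Ideal.Quotient.algebraMap_eq, ← map_mul, Ideal.Quotient.eq_zero_iff_mem]
      exact Ideal.mul_mem_right _ _ (dLin_apply_mem F hF b v c)
    rw [this, TensorProduct.zero_tmul]
  · rw [(cx F).shape a b (by simpa using h)]
    exact Functor.map_zero _ _ _

open MonoidalCategory in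
/-- `Tor_i(R/𝔪, M)` has length `rk i` for a resolution minimal w.r.t. a maximal ideal `𝔪`. -/
theorem length_tor {𝔪 : Ideal R} [h𝔪 : 𝔪.IsMaximal] (hF : F.IsMinimal 𝔪) (i : ℕ) :
    Module.length R (((Tor (ModuleCat.{u} R) i).obj (ModuleCat.of R (R ⧸ 𝔪))).obj
      (ModuleCat.of R M)) = (F.rk i : ℕ∞) := by
  have e1 := (projRes F).isoLeftDerivedObj ((tensoringLeft (ModuleCat.{u} R)).obj (ModuleCat.of R (R ⧸ 𝔪))) i
  have e2 := (ShortComplex.LeftHomologyData.ofZeros
    (((((tensoringLeft (ModuleCat.{u} R)).obj (ModuleCat.of R (R ⧸ 𝔪))).mapHomologicalComplex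
      (ComplexShape.down ℕ)).obj (cx F)).sc i) (map_d_eq_zero F hF _ _) (map_d_eq_zero F hF _ _)).homologyIso
  have e3 : (((Tor (ModuleCat.{u} R) i).obj (ModuleCat.of R (R ⧸ 𝔪))).obj (ModuleCat.of R M)) ≃ₗ[R]
      TensorProduct R (R ⧸ 𝔪) (Fin (F.rk i) → R) := (e1 ≪≫ e2).toLinearEquiv
  rw [e3.length_eq, (TensorProduct.piScalarRight R R (R ⧸ 𝔪) (Fin (F.rk i))).length_eq, Module.length_pi]
  have : IsSimpleModule R (R ⧸ 𝔪) := isSimpleModule_iff_isCoatom.mpr (Ideal.isMaximal_def.mp h𝔪)
  rw [Module.length_eq_one, mul_one]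
  simp

end Res

section Irrel

variable (k : Type u) [Field k] (σ : Type u)

/-- The irrelevant ideal of the standard grading of a polynomial ring over a field is maximal. -/
theorem irrel_isMaximal {k : Type*} [Field k] {σ : Type*} :
    ((GrSyz.irrel (GrSyz.stdGr k σ)).toIdeal).IsMaximal := by
  have : (GrSyz.irrel (GrSyz.stdGr k σ)).toIdeal =
      RingHom.ker (MvPolynomial.constantCoeff : MvPolynomial σ k →+* k) := by
    ext p
    rw [mem_irrel_iff, RingHom.mem_ker]
  rw [this]
  exact RingHom.ker_isMaximal_of_surjective _ (fun a => ⟨MvPolynomial.C a, MvPolynomial.constantCoeff_C _ a⟩)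

end Irrel

end Groth.Agent.Lib.helper7.GrSyzTor
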