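import Groth.Agent.Lib.Helper7.GrSyzHilb
import Mathlib.LinearAlgebra.Matrix.NonsingularInverse
import Mathlib.LinearAlgebra.Matrix.Determinant.Basic

/-!
# helper7: uniqueness of the graded Betti numbers of minimal graded free resolutions (GrSyz)
-/

universe u v

namespace Groth.Agent.Lib.helper7.GrSyzUniq

open MvPolynomial DirectSum Groth.Agent.Lib.helper7.GrSyzBasic Groth.Agent.Lib.helper7.GrSyzHilb

section Unit

variable {k : Type u} [Field k] {σ : Type v}

local notation "S" => MvPolynomial σ k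
local notation "𝒜" => GrSyz.stdGr k σ

theorem det_mem_zero {n : ℕ} (e : Fin n → ℤ) (A : Matrix (Fin n) (Fin n) S)
    (hgr : ∀ a b, A a b ∈ 𝒜 (e b - e a)) : A.det ∈ 𝒜 0 := by
  classical
  rw [Matrix.det_apply]
  refine Submodule.sum_mem _ (fun τ _ => ?_)
  have hprod : ∏ i, A (τ i) i ∈ 𝒜 (∑ i, (e i - e (τ i))) :=
    SetLike.prod_mem_graded 𝒜 _ _ (fun i _ => hgr (τ i) i)
  have hsum : ∑ i, (e i - e (τ i)) = 0 := by
    rw [Finset.sum_sub_distrib, Equiv.sum_comp τ e, sub_self]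
  rw [hsum] at hprod
  rcases Int.units_eq_one_or (Equiv.Perm.sign τ) with h | h
  · rw [h, one_smul]; exact hprod
  · rw [h, Units.neg_smul, one_smul]; exact Submodule.neg_mem _ hprod

/-- A square graded matrix congruent to the identity modulo the irrelevant ideal is invertible. -/
theorem isUnit_of_graded_of_congr_one {n : ℕ} (e : Fin n → ℤ) (A : Matrix (Fin n) (Fin n) S)
    (hgr : ∀ a b, A a b ∈ 𝒜 (e b - e a))
    (hcong : ∀ a b, A a b - (1 : Matrix (Fin n) (Fin n) S) a b ∈ (GrSyz.irrel 𝒜).toIdeal) :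
    IsUnit A := by
  classical
  rw [Matrix.isUnit_iff_isUnit_det]
  apply isUnit_of_mem_stdGr_of_not_mem_irrel (det_mem_zero e A hgr)
  rw [mem_irrel_iff, RingHom.map_det]
  have : (constantCoeff : S →+* k).mapMatrix A = 1 := by
    ext a b
    have h := (mem_irrel_iff k σ _).mp (hcong a b)
    rw [map_sub, sub_eq_zero] at h
    rw [RingHom.mapMatrix_apply, Matrix.map_apply, h]
    by_cases hab : a = b
    · subst hab; simp
    · simp [Matrix.one_apply_ne hab]
  rw [this, Matrix.det_one]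
  exact one_ne_zero

end Unit

section Iso

variable {k : Type u} [Field k] {σ : Type v}

local notation "S" => MvPolynomial σ k
local notation "𝒜" => GrSyz.stdGr k σ

theorem mul_graded {n n' n'' : ℕ} (e : Fin n → ℤ) (e' : Fin n' → ℤ) (e'' : Fin n'' → ℤ)
    (Q : Matrix (Fin n) (Fin n') S) (P : Matrix (Fin n') (Fin n'') S)
    (hQ : ∀ a c, Q a c ∈ 𝒜 (e' c - e a)) (hP : ∀ c b, P c b ∈ 𝒜 (e'' b - e' c)) (a : Fin n)
    (b : Fin n'') : (Q * P) a b ∈ 𝒜 (e'' b - e a) := by
  rw [Matrix.mul_apply]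
  refine Submodule.sum_mem _ (fun c _ => ?_)
  have := SetLike.mul_mem_graded (hQ a c) (hP c b)
  have h2 : e' c - e a + (e'' b - e' c) = e'' b - e a := by ring
  rwa [h2] at this

theorem vec_eq_sum {n : ℕ} (v : Fin n → S) : v = ∑ b, v b • (Pi.single b 1 : Fin n → S) := by
  classical
  funext a
  simp [Finset.sum_apply, Pi.single_apply]

/-- Graded lifting through a graded surjection. -/
theorem exists_lift {N : Type*} [AddCommGroup N] [Module S N] (H : ℤ → Set N)
    {n n' : ℕ} (e : Fin n → ℤ) (e' : Fin n' → ℤ)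
    (π : (Fin n → S) →ₗ[S] N) (π' : (Fin n' → S) →ₗ[S] N)
    (hπ : ∀ b, π (Pi.single b 1) ∈ H (e b))
    (hrange : LinearMap.range π ≤ LinearMap.range π')
    (hcomp' : ∀ w D, π' w ∈ H D → π' (comp e' D w) = π' w) :
    ∃ P : Matrix (Fin n') (Fin n) S, (∀ c b, P c b ∈ 𝒜 (e b - e' c)) ∧
      ∀ v, π' (P.mulVec v) = π v := by
  classical
  have hex : ∀ b, ∃ w : Fin n' → S, π' w = π (Pi.single b 1) := fun b =>
    hrange ⟨Pi.single b 1, rfl⟩
  choose w hw using hex
  refine ⟨Matrix.of fun c b => comp e' (e b) (w b) c, fun c b => Submodule.coe_mem _, ?_⟩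
  intro v
  rw [mulVec_eq_linearCombination, Fintype.linearCombination_apply, map_sum]
  conv_rhs => rw [vec_eq_sum v, map_sum]
  refine Finset.sum_congr rfl (fun b _ => ?_)
  rw [map_smul, map_smul]
  congr 1
  have h1 : (fun a => (Matrix.of fun c b => comp e' (e b) (w b) c) a b) = comp e' (e b) (w b) := rfl
  rw [h1, hcomp' (w b) (e b) (by rw [hw b]; exact hπ b), hw b]

/-- Comparison of two minimal graded free covers of the same graded module. -/
theorem exists_graded_comparison {N : Type*} [AddCommGroup N] [Module S N] (H : ℤ → Set N)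
    {n n' : ℕ} (e : Fin n → ℤ) (e' : Fin n' → ℤ)
    (π : (Fin n → S) →ₗ[S] N) (π' : (Fin n' → S) →ₗ[S] N)
    (hπ : ∀ b, π (Pi.single b 1) ∈ H (e b)) (hπ' : ∀ c, π' (Pi.single c 1) ∈ H (e' c))
    (hrange : LinearMap.range π = LinearMap.range π')
    (hmin : ∀ v, π v = 0 → ∀ b, v b ∈ (GrSyz.irrel 𝒜).toIdeal)
    (hmin' : ∀ v, π' v = 0 → ∀ c, v c ∈ (GrSyz.irrel 𝒜).toIdeal)
    (hcomp : ∀ w D, π w ∈ H D → π (comp e D w) = π w)
    (hcomp' : ∀ w D, π' w ∈ H D → π' (comp e' D w) = π' w) :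
    ∃ (P : Matrix (Fin n') (Fin n) S) (Q : Matrix (Fin n) (Fin n') S),
      (∀ c b, P c b ∈ 𝒜 (e b - e' c)) ∧ (∀ b c, Q b c ∈ 𝒜 (e' c - e b)) ∧
      (∀ v, π' (P.mulVec v) = π v) ∧ (∀ v, π (Q.mulVec v) = π' v) ∧
      IsUnit (Q * P) ∧ IsUnit (P * Q) ∧
      (∀ a b, (Q * P) a b - (1 : Matrix (Fin n) (Fin n) S) a b ∈ (GrSyz.irrel 𝒜).toIdeal) := by
  classical
  obtain ⟨P, hP, hPπ⟩ := exists_lift H e e' π π' hπ hrange.le hcomp'
  obtain ⟨Q, hQ, hQπ⟩ := exists_lift H e' e π' π hπ' hrange.ge hcomp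
  have hcong : ∀ a b, (Q * P) a b - (1 : Matrix (Fin n) (Fin n) S) a b ∈
      (GrSyz.irrel 𝒜).toIdeal := by
    intro a b
    have hk : π ((Q * P).mulVec (Pi.single b 1) - Pi.single b 1) = 0 := by
      rw [map_sub, ← Matrix.mulVec_mulVec, hQπ, hPπ, sub_self]
    have := hmin _ hk a
    rwa [Matrix.mulVec_single_one, Pi.sub_apply, Pi.single_apply, ← Matrix.one_apply] at this
  have hcong' : ∀ a b, (P * Q) a b - (1 : Matrix (Fin n') (Fin n') S) a b ∈
      (GrSyz.irrel 𝒜).toIdeal := by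
    intro a b
    have hk : π' ((P * Q).mulVec (Pi.single b 1) - Pi.single b 1) = 0 := by
      rw [map_sub, ← Matrix.mulVec_mulVec, hPπ, hQπ, sub_self]
    have := hmin' _ hk a
    rwa [Matrix.mulVec_single_one, Pi.sub_apply, Pi.single_apply, ← Matrix.one_apply] at this
  exact ⟨P, Q, hP, hQ, hPπ, hQπ,
    isUnit_of_graded_of_congr_one e (Q * P) (mul_graded e e' e Q P hQ hP) hcong,
    isUnit_of_graded_of_congr_one e' (P * Q) (mul_graded e' e e' P Q hP hQ) hcong', hcong⟩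

end Iso

section Res

variable {k : Type u} [Field k] {r : ℕ}
  {M : Type u} [AddCommGroup M] [Module k M] [Module (MvPolynomial (Fin (r + 1)) k) M]
  [IsScalarTower k (MvPolynomial (Fin (r + 1)) k) M]
  {ℳ : ℤ → Submodule k M} [DirectSum.Decomposition ℳ]
  [SetLike.GradedSMul (GrSyz.stdGr k (Fin (r + 1))) ℳ]
  (F F' : GrSyz.FreeRes (GrSyz.stdGr k (Fin (r + 1))) ℳ)

local notation "S" => MvPolynomial (Fin (r + 1)) k
local notation "𝒜" => GrSyz.stdGr k (Fin (r + 1))

theorem injective_of_isUnit_mul {n n' : ℕ} (P : Matrix (Fin n') (Fin n) S)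
    (Q : Matrix (Fin n) (Fin n') S) (h : IsUnit (Q * P)) : Function.Injective P.mulVec := by
  intro v v' hv
  apply Matrix.mulVec_injective_of_isUnit h
  rw [← Matrix.mulVec_mulVec, ← Matrix.mulVec_mulVec, hv]

theorem surjective_of_isUnit_mul {n n' : ℕ} (P : Matrix (Fin n') (Fin n) S)
    (Q : Matrix (Fin n) (Fin n') S) (h : IsUnit (P * Q)) : Function.Surjective P.mulVec := by
  intro y
  obtain ⟨z, hz⟩ := Matrix.mulVec_surjective_iff_isUnit.mpr h y
  exact ⟨Q.mulVec z, by rw [Matrix.mulVec_mulVec, hz]⟩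

/-- The comparison data between the `i`-th terms of two resolutions. -/
def Cmp (i : ℕ) : Prop :=
  ∃ (P : Matrix (Fin (F'.rk i)) (Fin (F.rk i)) S) (Q : Matrix (Fin (F.rk i)) (Fin (F'.rk i)) S),
    (∀ c b, P c b ∈ 𝒜 (F.deg i b - F'.deg i c)) ∧ (∀ b c, Q b c ∈ 𝒜 (F'.deg i c - F.deg i b)) ∧
    IsUnit (Q * P) ∧ IsUnit (P * Q) ∧
    (∀ a b, (Q * P) a b - (1 : Matrix (Fin (F.rk i)) (Fin (F.rk i)) S) a b ∈
      (GrSyz.irrel 𝒜).toIdeal) ∧
    (∀ v, v ∈ LinearMap.range (F.dLin i) ↔ P.mulVec v ∈ LinearMap.range (F'.dLin i))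

variable {F F'}

omit [IsScalarTower k (MvPolynomial (Fin (r + 1)) k) M] in
theorem cmp_zero (hF : F.IsMinimal (GrSyz.irrel 𝒜).toIdeal)
    (hF' : F'.IsMinimal (GrSyz.irrel 𝒜).toIdeal) : Cmp F F' 0 := by
  classical
  have hmin : ∀ (G : GrSyz.FreeRes 𝒜 ℳ), G.IsMinimal (GrSyz.irrel 𝒜).toIdeal →
      ∀ v, G.augLin v = 0 → ∀ b, v b ∈ (GrSyz.irrel 𝒜).toIdeal := by
    intro G hG v hv b
    have : v ∈ LinearMap.ker G.augLin := hv
    rw [G.exact_zero] at this
    obtain ⟨w, rfl⟩ := this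
    exact dLin_apply_mem G hG 0 w b
  have hcomp : ∀ (G : GrSyz.FreeRes 𝒜 ℳ), ∀ w D, G.augLin w ∈ (ℳ D : Set M) →
      G.augLin (comp (G.deg 0) D w) = G.augLin w := by
    intro G w D hw
    rw [aug_comp ℳ (G.deg 0) D G.aug G.aug_mem w, decompose_of_mem_same ℳ hw]
  have hπ : ∀ (G : GrSyz.FreeRes 𝒜 ℳ), ∀ b, G.augLin (Pi.single b 1) ∈ (ℳ (G.deg 0 b) : Set M) := by
    intro G b
    rw [Fintype.linearCombination_apply_single, one_smul]
    exact G.aug_mem b
  obtain ⟨P, Q, hP, hQ, hPπ, -, hu, hu', hcong⟩ := exists_graded_comparison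
    (fun D => (ℳ D : Set M)) (F.deg 0) (F'.deg 0) F.augLin F'.augLin (hπ F) (hπ F')
    (by rw [LinearMap.range_eq_top.mpr F.aug_surjective,
      LinearMap.range_eq_top.mpr F'.aug_surjective])
    (hmin F hF) (hmin F' hF') (hcomp F) (hcomp F')
  refine ⟨P, Q, hP, hQ, hu, hu', hcong, fun v => ?_⟩
  change v ∈ LinearMap.range (Matrix.mulVecLin (F.d 0)) ↔
    P.mulVec v ∈ LinearMap.range (Matrix.mulVecLin (F'.d 0))
  rw [← F.exact_zero, ← F'.exact_zero, LinearMap.mem_ker, LinearMap.mem_ker, hPπ]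

omit [IsScalarTower k (MvPolynomial (Fin (r + 1)) k) M] in
theorem cmp_succ (hF : F.IsMinimal (GrSyz.irrel 𝒜).toIdeal)
    (hF' : F'.IsMinimal (GrSyz.irrel 𝒜).toIdeal) (i : ℕ) (h : Cmp F F' i) : Cmp F F' (i + 1) := by
  classical
  obtain ⟨P, Q, hP, hQ, hu, hu', -, hiff⟩ := h
  have hPinj := injective_of_isUnit_mul P Q hu
  have hPsurj := surjective_of_isUnit_mul P Q hu'
  have hgrPd := mul_graded (F'.deg i) (F.deg i) (F.deg (i + 1)) P (F.d i) hP (F.d_mem i)
  -- the two covers of `range (F'.dLin i)`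
  have hπ : ∀ b, Matrix.mulVecLin (P * F.d i) (Pi.single b 1) ∈
      (G k (Fin (r + 1)) (F'.deg i) (F.deg (i + 1) b) : Set (Fin (F'.rk i) → S)) := by
    intro b
    rw [Matrix.mulVecLin_apply, Matrix.mulVec_single_one]
    exact (mem_G _ _ _).mpr (fun c => hgrPd c b)
  have hπ' : ∀ b, Matrix.mulVecLin (F'.d i) (Pi.single b 1) ∈
      (G k (Fin (r + 1)) (F'.deg i) (F'.deg (i + 1) b) : Set (Fin (F'.rk i) → S)) := by
    intro b
    rw [Matrix.mulVecLin_apply, Matrix.mulVec_single_one]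
    exact (mem_G _ _ _).mpr (fun c => F'.d_mem i c b)
  have hrange : LinearMap.range (Matrix.mulVecLin (P * F.d i)) =
      LinearMap.range (Matrix.mulVecLin (F'.d i)) := by
    apply le_antisymm
    · rintro _ ⟨v, rfl⟩
      rw [Matrix.mulVecLin_apply, ← Matrix.mulVec_mulVec]
      exact (hiff _).mp ⟨v, rfl⟩
    · intro y hy
      obtain ⟨u, rfl⟩ := hPsurj y
      obtain ⟨v, rfl⟩ := (hiff u).mpr hy
      exact ⟨v, by rw [Matrix.mulVecLin_apply, ← Matrix.mulVec_mulVec]; rfl⟩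
  have hmin : ∀ v, Matrix.mulVecLin (P * F.d i) v = 0 → ∀ b, v b ∈ (GrSyz.irrel 𝒜).toIdeal := by
    intro v hv b
    rw [Matrix.mulVecLin_apply, ← Matrix.mulVec_mulVec] at hv
    have h0 : (F.d i).mulVec v = 0 := hPinj (by rw [hv, Matrix.mulVec_zero])
    have : v ∈ LinearMap.ker (Matrix.mulVecLin (F.d i)) := h0
    rw [F.exact_succ] at this
    obtain ⟨w, rfl⟩ := this
    exact dLin_apply_mem F hF (i + 1) w b
  have hmin' : ∀ v, Matrix.mulVecLin (F'.d i) v = 0 → ∀ b, v b ∈ (GrSyz.irrel 𝒜).toIdeal := by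
    intro v hv b
    have : v ∈ LinearMap.ker (Matrix.mulVecLin (F'.d i)) := hv
    rw [F'.exact_succ] at this
    obtain ⟨w, rfl⟩ := this
    exact dLin_apply_mem F' hF' (i + 1) w b
  have hcomp : ∀ w D, Matrix.mulVecLin (P * F.d i) w ∈
      (G k (Fin (r + 1)) (F'.deg i) D : Set (Fin (F'.rk i) → S)) →
      Matrix.mulVecLin (P * F.d i) (comp (F.deg (i + 1)) D w) =
        Matrix.mulVecLin (P * F.d i) w := by
    intro w D hw
    rw [Matrix.mulVecLin_apply, Matrix.mulVecLin_apply,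
      mulVec_comp (F'.deg i) (F.deg (i + 1)) D _ hgrPd]
    exact comp_of_mem _ _ hw
  have hcomp' : ∀ w D, Matrix.mulVecLin (F'.d i) w ∈
      (G k (Fin (r + 1)) (F'.deg i) D : Set (Fin (F'.rk i) → S)) →
      Matrix.mulVecLin (F'.d i) (comp (F'.deg (i + 1)) D w) = Matrix.mulVecLin (F'.d i) w := by
    intro w D hw
    rw [Matrix.mulVecLin_apply, Matrix.mulVecLin_apply,
      mulVec_comp (F'.deg i) (F'.deg (i + 1)) D _ (F'.d_mem i)]
    exact comp_of_mem _ _ hw
  obtain ⟨P₁, Q₁, hP₁, hQ₁, hPπ, -, hu₁, hu₁', hcong₁⟩ := exists_graded_comparison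
    (fun D => (G k (Fin (r + 1)) (F'.deg i) D : Set (Fin (F'.rk i) → S)))
    (F.deg (i + 1)) (F'.deg (i + 1)) (Matrix.mulVecLin (P * F.d i)) (Matrix.mulVecLin (F'.d i))
    hπ hπ' hrange hmin hmin' hcomp hcomp'
  refine ⟨P₁, Q₁, hP₁, hQ₁, hu₁, hu₁', hcong₁, fun v => ?_⟩
  change v ∈ LinearMap.range (Matrix.mulVecLin (F.d (i + 1))) ↔
    P₁.mulVec v ∈ LinearMap.range (Matrix.mulVecLin (F'.d (i + 1)))
  rw [← F.exact_succ, ← F'.exact_succ, LinearMap.mem_ker, LinearMap.mem_ker, hPπ,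
    Matrix.mulVecLin_apply, Matrix.mulVecLin_apply, ← Matrix.mulVec_mulVec]
  constructor
  · intro h0
    rw [h0, Matrix.mulVec_zero]
  · intro h0
    exact hPinj (by rw [h0, Matrix.mulVec_zero])

omit [IsScalarTower k (MvPolynomial (Fin (r + 1)) k) M] in
theorem cmp (hF : F.IsMinimal (GrSyz.irrel 𝒜).toIdeal)
    (hF' : F'.IsMinimal (GrSyz.irrel 𝒜).toIdeal) (i : ℕ) : Cmp F F' i := by
  induction i with
  | zero => exact cmp_zero hF hF'
  | succ i ih => exact cmp_succ hF hF' i ih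

end Res

section Count

variable {k : Type u} [Field k] {σ : Type v}

local notation "S" => MvPolynomial σ k
local notation "𝒜" => GrSyz.stdGr k σ

theorem sum_eq_sum_subtype {ι : Type*} [Fintype ι] (p : ι → Prop) [DecidablePred p] (f : ι → k)
    (hf : ∀ b, ¬ p b → f b = 0) : ∑ b, f b = ∑ b : {b // p b}, f b.1 := by
  classical
  rw [← Finset.sum_subtype (Finset.univ.filter p) (by simp) f]
  symm
  apply Finset.sum_subset (Finset.filter_subset _ _)
  intro b _ hb
  rw [Finset.mem_filter] at hb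
  exact hf b (fun h => hb ⟨Finset.mem_univ b, h⟩)

/-- Degree count from a graded comparison which is invertible modulo the irrelevant ideal. -/
theorem card_le_of_comparison {n n' : ℕ} (e : Fin n → ℤ) (e' : Fin n' → ℤ)
    (P : Matrix (Fin n') (Fin n) S) (Q : Matrix (Fin n) (Fin n') S)
    (hP : ∀ c b, P c b ∈ 𝒜 (e b - e' c))
    (hcong : ∀ a b, (Q * P) a b - (1 : Matrix (Fin n) (Fin n) S) a b ∈ (GrSyz.irrel 𝒜).toIdeal)
    (j : ℤ) :
    (Finset.univ.filter fun b : Fin n => e b = j).card ≤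
      (Finset.univ.filter fun c : Fin n' => e' c = j).card := by
  classical
  -- reduce modulo the irrelevant ideal
  obtain ⟨Pb, hPb⟩ : ∃ Pb : Matrix (Fin n') (Fin n) k, Pb = P.map constantCoeff := ⟨_, rfl⟩
  obtain ⟨Qb, hQb⟩ : ∃ Qb : Matrix (Fin n) (Fin n') k, Qb = Q.map constantCoeff := ⟨_, rfl⟩
  have hQP : Qb * Pb = 1 := by
    rw [hQb, hPb, ← Matrix.map_mul]
    ext a b
    have h := (mem_irrel_iff k σ _).mp (hcong a b)
    rw [map_sub, sub_eq_zero] at h
    rw [Matrix.map_apply, h]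
    by_cases hab : a = b
    · subst hab; simp
    · simp [Matrix.one_apply_ne hab]
  have hblock : ∀ c b, Pb c b ≠ 0 → e b = e' c := by
    intro c b hne
    rw [hPb, Matrix.map_apply] at hne
    have hnm : P c b ∉ (GrSyz.irrel 𝒜).toIdeal := by rwa [mem_irrel_iff]
    have := (eq_C_of_mem_stdGr_of_not_mem_irrel (hP c b) hnm).1
    omega
  -- the block of degree `j`
  let L : ({b : Fin n // e b = j} → k) →ₗ[k] ({c : Fin n' // e' c = j} → k) :=
    Matrix.mulVecLin (Pb.submatrix Subtype.val Subtype.val)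
  have hL : Function.Injective L := by
    rw [← LinearMap.ker_eq_bot, LinearMap.ker_eq_bot']
    intro x hx
    -- extend by zero
    have hx0 : Pb.mulVec (fun b => if h : e b = j then x ⟨b, h⟩ else 0) = 0 := by
      funext c
      rw [Matrix.mulVec, dotProduct, Pi.zero_apply]
      by_cases hc : e' c = j
      · rw [sum_eq_sum_subtype (fun b => e b = j)]
        · have := congrFun hx ⟨c, hc⟩
          simp only [L, Matrix.mulVecLin_apply, Matrix.mulVec, dotProduct,
            Matrix.submatrix_apply, Pi.zero_apply] at this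
          rw [← this]
          refine Finset.sum_congr rfl (fun b _ => ?_)
          rw [dif_pos b.2]
        · intro b hb
          rw [dif_neg hb, mul_zero]
      · refine Finset.sum_eq_zero (fun b _ => ?_)
        by_cases hb : e b = j
        · have : Pb c b = 0 := by
            by_contra hne
            exact hc ((hblock c b hne).symm.trans hb)
          rw [this, zero_mul]
        · rw [dif_neg hb, mul_zero]
    have hx1 : (fun b => if h : e b = j then x ⟨b, h⟩ else 0) = (0 : Fin n → k) := by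
      have := congrArg Qb.mulVec hx0
      rwa [Matrix.mulVec_mulVec, hQP, Matrix.one_mulVec, Matrix.mulVec_zero] at this
    funext b
    have := congrFun hx1 b.1
    simpa [dif_pos b.2] using this
  have := LinearMap.finrank_le_finrank_of_injective hL
  rw [Module.finrank_fintype_fun_eq_card, Module.finrank_fintype_fun_eq_card,
    Fintype.card_subtype, Fintype.card_subtype] at this
  exact this

end Count

section Betti

variable {k : Type u} [Field k] {r : ℕ}
  {M : Type u} [AddCommGroup M] [Module k M] [Module (MvPolynomial (Fin (r + 1)) k) M]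
  [IsScalarTower k (MvPolynomial (Fin (r + 1)) k) M]
  {ℳ : ℤ → Submodule k M} [DirectSum.Decomposition ℳ]
  [SetLike.GradedSMul (GrSyz.stdGr k (Fin (r + 1))) ℳ]
  {F F' : GrSyz.FreeRes (GrSyz.stdGr k (Fin (r + 1))) ℳ}

omit [IsScalarTower k (MvPolynomial (Fin (r + 1)) k) M] in
theorem betti_le (hF : F.IsMinimal (GrSyz.irrel (GrSyz.stdGr k (Fin (r + 1)))).toIdeal)
    (hF' : F'.IsMinimal (GrSyz.irrel (GrSyz.stdGr k (Fin (r + 1)))).toIdeal) (i : ℕ) (j : ℤ) :
    F.betti i j ≤ F'.betti i j := by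
  obtain ⟨P, Q, hP, -, -, -, hcong, -⟩ := cmp hF hF' i
  exact card_le_of_comparison (F.deg i) (F'.deg i) P Q hP hcong j

omit [IsScalarTower k (MvPolynomial (Fin (r + 1)) k) M] in
/-- The graded Betti numbers of two minimal graded free resolutions agree. -/
theorem betti_eq (hF : F.IsMinimal (GrSyz.irrel (GrSyz.stdGr k (Fin (r + 1)))).toIdeal)
    (hF' : F'.IsMinimal (GrSyz.irrel (GrSyz.stdGr k (Fin (r + 1)))).toIdeal) (i : ℕ) (j : ℤ) :
    F.betti i j = F'.betti i j :=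
  le_antisymm (betti_le hF hF' i j) (betti_le hF' hF i j)

end Betti

end Groth.Agent.Lib.helper7.GrSyzUniq
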