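import Mathlib
import Groth.Agent.Lib.Helper7.Growth5
import Groth.Agent.Lib.Helper7.SnapperQuot
import Groth.Agent.Lib.Helper7.KerTensor
import Groth.Agent.Lib.Helper7.IdealMod

/-!
# Big invertible modules: sections vanishing on small closed subschemes (helper7)

* `exists_section_ideal_of_big` (S17277)
-/

set_option autoImplicit false
set_option linter.unusedSectionVars false
set_option linter.style.haveILetI false
universe u

open Filter Topology
open CategoryTheory CategoryTheory.Limits AlgebraicGeometry Opposite TopologicalSpace Module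

namespace Groth.Agent.Lib.helper7.Growth

open Groth.Agent.Lib.Lead.ModTensor Groth.Agent.Lib.Helper18 Groth.Agent.Lib.helper11.IsoLocus
open Scheme.Modules Groth.Agent.Lib.helper7.SnapperMain Groth.Agent.Lib.helper7

section Big

variable (k : Type u) [Field k] (X : Scheme.{u}) [X.Over (Spec (CommRingCat.of k))]
  [IsProper (X ↘ Spec (CommRingCat.of k))]

/-- a big invertible module has, in some positive power, a nonzero section vanishing on a given closed
subscheme of smaller dimension (S17277) -/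
theorem exists_section_ideal_of_big (d : ℕ) {L : X.Modules} (hL : PicF.IsInvertible L)
    (hbig : ∃ c : ℝ, 0 < c ∧ ∀ᶠ n : ℕ in atTop,
      c * (n : ℝ) ^ d < (Module.finrank k (Coh.HH X (CohB1.tensorPow L n) 0) : ℝ))
    (Z : X.IdealSheafData) (hZ : topologicalKrullDim (Z.support : Set X) < (d : WithBot ℕ∞)) :
    ∃ m : ℕ, 0 < m ∧
      Nontrivial (Coh.HH X (CohB1.tensorMod (ClSub.idealMod Z) (CohB1.tensorPow L m)) 0) := by
  haveI := Groth.Agent.Lib.Lead.CurveEuler.isNoetherian k X
  obtain ⟨c, hc, hev⟩ := hbig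
  have hQ := Groth.Agent.Lib.helper7.SnapperQuot.isCoh_quotMod Z
  have hI : Coh.IsCoh (ClSub.idealMod Z) := Groth.Agent.Lib.helper7.KerTensor.isCoh_idealMod Z
  have hO := Groth.Agent.Lib.helper8.Dev.isCoh_structureModule X
  obtain ⟨C, hC⟩ := growth_general k d X L hL trivial (ClSub.quotMod Z) hQ
    (lt_of_le_of_lt (Groth.Agent.Lib.helper7.SnapperQuot.dim_support_quotMod_le Z) hZ) 0
  have h0 := tendsto_seq_zero (fun m => hh k X (ClSub.quotMod Z) L 0 m) d 0 C hC
  have hsmall : ∀ᶠ m : ℕ in atTop,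
      (hh k X (ClSub.quotMod Z) L 0 m : ℝ) * (d.factorial : ℝ) / (m : ℝ) ^ d < c :=
    (tendsto_order.mp h0).2 c hc
  obtain ⟨m, hm1, hm2, hm3⟩ := (hev.and (hsmall.and (eventually_ge_atTop 1))).exists
  refine ⟨m, hm3, ?_⟩
  have hmid := hh_mid_le k X (Groth.Agent.Lib.helper7.IdealMod.idealSeq Z)
    (Groth.Agent.Lib.helper7.IdealMod.idealSeq_shortExact Z) hI hO hQ hL 0 m
  have hOeq : hh k X (Coh.structureModule X) L 0 m =
      Module.finrank k (Coh.HH X (CohB1.tensorPow L m) 0) :=
    (HH.isoEquivOver k (leftUnitor (CohB1.tensorPow L m)) 0).finrank_eq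
  have hm0 : (0 : ℝ) < (m : ℝ) ^ d := by
    have : (0 : ℝ) < m := by exact_mod_cast hm3
    positivity
  have hq : (hh k X (ClSub.quotMod Z) L 0 m : ℝ) < c * (m : ℝ) ^ d := by
    rw [div_lt_iff₀ hm0] at hm2
    refine lt_of_le_of_lt ?_ hm2
    have h1 : (1 : ℝ) ≤ (d.factorial : ℝ) := by
      exact_mod_cast Nat.one_le_iff_ne_zero.mpr (Nat.factorial_ne_zero d)
    exact le_mul_of_one_le_right (by positivity) h1
  have hlt : hh k X (ClSub.quotMod Z) L 0 m < hh k X (Coh.structureModule X) L 0 m := by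
    rw [hOeq]
    exact_mod_cast hq.trans hm1
  have hpos : 0 < hh k X (ClSub.idealMod Z) L 0 m := by
    have hmid' : hh k X (Coh.structureModule X) L 0 m ≤
        hh k X (ClSub.idealMod Z) L 0 m + hh k X (ClSub.quotMod Z) L 0 m := hmid
    omega
  exact Module.nontrivial_of_finrank_pos (R := k) hpos

end Big

end Groth.Agent.Lib.helper7.Growth
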