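import Groth.Agent.Lib.Helper7.OmegaSeq
import Mathlib.AlgebraicGeometry.Morphisms.Etale

/-!
# The canonical map of differentials for a square with étale horizontal maps (helper7)
-/

set_option autoImplicit false
set_option linter.style.haveILetI false
set_option linter.unusedSectionVars false
universe u
open CategoryTheory CategoryTheory.Limits AlgebraicGeometry TopologicalSpace Opposite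
open Scheme.Modules

namespace Groth.Agent.Lib.helper7.OmegaSeq3

open Groth.Agent.Lib.helper8.PullbackUnit OmegaChart

theorem appLE_congr {X Y : Scheme.{u}} {φ ψ : X ⟶ Y} (h : φ = ψ) (U : Y.Opens) (V : X.Opens)
    (e : V ≤ φ ⁻¹ᵁ U) (e' : V ≤ ψ ⁻¹ᵁ U) : φ.appLE U V e = ψ.appLE U V e' := by
  subst h; rfl

section EtaleSq

variable {X₁ S₁ X₂ S₂ : Scheme.{u}} (p₁ : X₁ ⟶ S₁) (p₂ : X₂ ⟶ S₂) (f : X₂ ⟶ X₁) (g : S₂ ⟶ S₁)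
  [Etale f] [Etale g] (hsq : f ≫ p₁ = p₂ ≫ g)
  {Ω₁ : X₁.Modules} (d₁ : OmegaSh.Der p₁ Ω₁) (hd₁ : OmegaSh.IsUniversal d₁)
  {Ω₂ : X₂.Modules} (d₂ : OmegaSh.Der p₂ Ω₂) (hd₂ : OmegaSh.IsUniversal d₂)
  (c : (Scheme.Modules.pullback f).obj Ω₁ ⟶ Ω₂) (hc : OmegaSh.IsDiffCompat f d₁ d₂ c)

include hsq hd₁ hd₂ hc in
theorem chart_etale {U₁ : X₁.Opens} (hU₁ : IsAffineOpen U₁) {U₂ : X₂.Opens}
    (hU₂ : IsAffineOpen U₂) {V₁ : S₁.Opens} (hV₁ : IsAffineOpen V₁) {V₂ : S₂.Opens}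
    (hV₂ : IsAffineOpen V₂) (e₁ : U₁ ≤ p₁ ⁻¹ᵁ V₁) (e₂ : U₂ ≤ p₂ ⁻¹ᵁ V₂) (eU : U₂ ≤ f ⁻¹ᵁ U₁)
    (eV : V₂ ≤ g ⁻¹ᵁ V₁) : Function.Bijective (c.app U₂).hom := by
  have e₁₂ : U₂ ≤ (f ≫ p₁) ⁻¹ᵁ V₁ := fun x hx => e₁ (eU hx)
  have e₂₁ : U₂ ≤ (p₂ ≫ g) ⁻¹ᵁ V₁ := fun x hx => eV (e₂ hx)
  letI algRA₁ := (p₁.appLE V₁ U₁ e₁).hom.toAlgebra
  letI algRA₂ := (p₂.appLE V₂ U₂ e₂).hom.toAlgebra
  letI algAA := (f.appLE U₁ U₂ eU).hom.toAlgebra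
  letI algRR := (g.appLE V₁ V₂ eV).hom.toAlgebra
  letI algR₁A₂ := ((f ≫ p₁).appLE V₁ U₂ e₁₂).hom.toAlgebra
  haveI : IsScalarTower Γ(S₁, V₁) Γ(X₁, U₁) Γ(X₂, U₂) := IsScalarTower.of_algebraMap_eq' (by
    change ((f ≫ p₁).appLE V₁ U₂ e₁₂).hom = (f.appLE U₁ U₂ eU).hom.comp (p₁.appLE V₁ U₁ e₁).hom
    rw [← CommRingCat.hom_comp, Scheme.Hom.appLE_comp_appLE])
  haveI : IsScalarTower Γ(S₁, V₁) Γ(S₂, V₂) Γ(X₂, U₂) := IsScalarTower.of_algebraMap_eq' (by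
    change ((f ≫ p₁).appLE V₁ U₂ e₁₂).hom = (p₂.appLE V₂ U₂ e₂).hom.comp (g.appLE V₁ V₂ eV).hom
    rw [← CommRingCat.hom_comp, Scheme.Hom.appLE_comp_appLE, appLE_congr hsq V₁ U₂ e₁₂ e₂₁])
  haveI : Algebra.FormallyEtale Γ(X₁, U₁) Γ(X₂, U₂) := by
    have h := HasRingHomProperty.appLE (P := @Etale) f inferInstance ⟨U₁, hU₁⟩ ⟨U₂, hU₂⟩ eU
    have h' : Algebra.Etale Γ(X₁, U₁) Γ(X₂, U₂) := h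
    exact h'.formallyEtale
  haveI : Algebra.FormallyUnramified Γ(S₁, V₁) Γ(S₂, V₂) := by
    have h := HasRingHomProperty.appLE (P := @Etale) g inferInstance ⟨V₁, hV₁⟩ ⟨V₂, hV₂⟩ eV
    have h' : Algebra.Etale Γ(S₁, V₁) Γ(S₂, V₂) := h
    haveI := h'.formallyEtale
    infer_instance
  obtain ⟨ψ₁, hψ₁⟩ := OmegaStruct.exists_sectionsEquiv p₁ d₁ hd₁ hU₁ hV₁ e₁
  obtain ⟨ψ₂, hψ₂⟩ := OmegaStruct.exists_sectionsEquiv p₂ d₂ hd₂ hU₂ hV₂ e₂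
  haveI : Ω₁.IsQuasicoherent := OmegaQCoh.isQuasicoherent_of_isUniversal p₁ d₁ hd₁
  have hk : IsBC (algebraMap Γ(X₁, U₁) Γ(X₂, U₂)) (ρ f eU Ω₁) := isBC_ρ f hU₁ hU₂ eU Ω₁
  have hc' : ∀ b : Γ(X₁, U₁), linApp c U₂ (ρ f eU Ω₁ (d₁.app U₁ b)) =
      d₂.app U₂ (algebraMap Γ(X₁, U₁) Γ(X₂, U₂) b) := fun b => diffCompat_app f d₁ d₂ c hc eU b
  exact OmegaSeqAlg.etale_sq_bijective Γ(S₁, V₁) Γ(S₂, V₂) Γ(X₁, U₁) Γ(X₂, U₂) (d₁.app U₁) ψ₁ hψ₁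
    (d₂.app U₂) ψ₂ hψ₂ (ρ f eU Ω₁) hk (linApp c U₂) hc'

/-- charts for the square -/
abbrev Chart4 := {t : (X₂.affineOpens × X₁.affineOpens) × (S₂.affineOpens × S₁.affineOpens) //
  t.1.2.1 ≤ p₁ ⁻¹ᵁ t.2.2.1 ∧ t.1.1.1 ≤ p₂ ⁻¹ᵁ t.2.1.1 ∧ t.1.1.1 ≤ f ⁻¹ᵁ t.1.2.1 ∧
    t.2.1.1 ≤ g ⁻¹ᵁ t.2.2.1}

include hsq in
theorem chart4_cover (x : X₂) : ∃ t : Chart4 p₁ p₂ f g, x ∈ t.1.1.1.1 := by
  obtain ⟨V₁, hV₁, hxV₁, -⟩ := Opens.isBasis_iff_nbhd.mp S₁.isBasis_affineOpens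
    (show g (p₂ x) ∈ (⊤ : S₁.Opens) from trivial)
  obtain ⟨V₂, hV₂, hxV₂, hV₂₁⟩ := Opens.isBasis_iff_nbhd.mp S₂.isBasis_affineOpens
    (show p₂ x ∈ g ⁻¹ᵁ V₁ from hxV₁)
  have hx1 : p₁ (f x) ∈ V₁ := by
    have : p₁ (f x) = g (p₂ x) := by
      rw [← Scheme.Hom.comp_apply, ← Scheme.Hom.comp_apply, hsq]
    rw [this]; exact hxV₁
  obtain ⟨U₁, hU₁, hxU₁, hU₁V⟩ := Opens.isBasis_iff_nbhd.mp X₁.isBasis_affineOpens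
    (show f x ∈ p₁ ⁻¹ᵁ V₁ from hx1)
  obtain ⟨U₂, hU₂, hxU₂, hU₂'⟩ := Opens.isBasis_iff_nbhd.mp X₂.isBasis_affineOpens
    (show x ∈ f ⁻¹ᵁ U₁ ⊓ p₂ ⁻¹ᵁ V₂ from ⟨hxU₁, hxV₂⟩)
  exact ⟨⟨((⟨U₂, hU₂⟩, ⟨U₁, hU₁⟩), (⟨V₂, hV₂⟩, ⟨V₁, hV₁⟩)), hU₁V,
    hU₂'.trans inf_le_right, hU₂'.trans inf_le_left, hV₂₁⟩, hxU₂⟩

include hsq hd₁ hd₂ hc in
/-- **For a square with étale horizontal maps, `f^*Ω_{X₁/S₁} → Ω_{X₂/S₂}` is an isomorphism.** -/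
theorem isIso_of_etale_etale : IsIso c := by
  haveI : Ω₁.IsQuasicoherent := OmegaQCoh.isQuasicoherent_of_isUniversal p₁ d₁ hd₁
  haveI : Ω₂.IsQuasicoherent := OmegaQCoh.isQuasicoherent_of_isUniversal p₂ d₂ hd₂
  haveI : ((Scheme.Modules.pullback f).obj Ω₁).IsQuasicoherent :=
    Groth.Agent.Lib.helper16.QCohPullback.isQuasicoherent_pullback f Ω₁
  exact KerSections.isIso_of_bijective_cover c (fun t : Chart4 p₁ p₂ f g => t.1.1.1.1)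
    (fun t => t.1.1.1.2) (chart4_cover p₁ p₂ f g hsq)
    (fun t => chart_etale p₁ p₂ f g hsq d₁ hd₁ d₂ hd₂ c hc t.1.1.2.2 t.1.1.1.2 t.1.2.2.2
      t.1.2.1.2 t.2.1 t.2.2.1 t.2.2.2.1 t.2.2.2.2)

end EtaleSq

end Groth.Agent.Lib.helper7.OmegaSeq3
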