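import Groth.Agent.Lib.Helper7.OmegaBCAlg
import Groth.Agent.Lib.Helper7.OmegaSeq3
import Mathlib

/-!
# Base change of the sheaf of differentials (helper7)

`isIso_of_isPullback`: for a cartesian square `X' = X ×_S S'`, the canonical map
`g'^* Ω_{X/S} → Ω_{X'/S'}` is an isomorphism (receptacle form).
-/

set_option autoImplicit false
set_option linter.style.haveILetI false
set_option linter.unusedSectionVars false
universe u
open CategoryTheory CategoryTheory.Limits AlgebraicGeometry TopologicalSpace Opposite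
open Scheme.Modules

namespace Groth.Agent.Lib.helper7.OmegaBC

open Groth.Agent.Lib.helper8.PullbackUnit OmegaChart

variable {X S X' S' : Scheme.{u}} (f : X ⟶ S) (g : S' ⟶ S) (g' : X' ⟶ X) (f' : X' ⟶ S')
  (hsq : IsPullback g' f' f g)

/-- charts of a cartesian square -/
abbrev BCChart := {q : X.affineOpens × S'.affineOpens × S.affineOpens //
  q.1.1 ≤ f ⁻¹ᵁ q.2.2.1 ∧ q.2.1.1 ≤ g ⁻¹ᵁ q.2.2.1}

/-- the open of `X'` attached to a chart -/
def chartOpen (q : BCChart f g) : X'.Opens := g' ⁻¹ᵁ q.1.1.1 ⊓ f' ⁻¹ᵁ q.1.2.1.1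

include hsq in
theorem chartOpen_affine (q : BCChart f g) : IsAffineOpen (chartOpen f g g' f' q) := by
  have : IsAffine q.1.1.1.toScheme := q.1.1.2
  have : IsAffine q.1.2.1.1.toScheme := q.1.2.1.2
  have : IsAffine q.1.2.2.1.toScheme := q.1.2.2.2
  exact .of_isIso (Scheme.Hom.isPullback_resLE hsq q.2.2 q.2.1
    (UY := chartOpen f g g' f' q) rfl).isoPullback.hom

include hsq in
theorem chart_cover (x : X') : ∃ q : BCChart f g, x ∈ chartOpen f g g' f' q := by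
  obtain ⟨W, hW, hxW, -⟩ := Opens.isBasis_iff_nbhd.mp S.isBasis_affineOpens
    (show f (g' x) ∈ (⊤ : S.Opens) from trivial)
  obtain ⟨V, hV, hxV, hVW⟩ := Opens.isBasis_iff_nbhd.mp X.isBasis_affineOpens
    (show g' x ∈ f ⁻¹ᵁ W from hxW)
  have hxW' : g (f' x) ∈ W := by
    have : f (g' x) = g (f' x) := by
      rw [← Scheme.Hom.comp_apply, ← Scheme.Hom.comp_apply, hsq.w]
    rw [← this]; exact hxW
  obtain ⟨W', hW', hxW'', hW'W⟩ := Opens.isBasis_iff_nbhd.mp S'.isBasis_affineOpens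
    (show f' x ∈ g ⁻¹ᵁ W from hxW')
  exact ⟨⟨(⟨V, hV⟩, ⟨W', hW'⟩, ⟨W, hW⟩), hVW, hW'W⟩, hxV, hxW''⟩

variable {Ω : X.Modules} (d : OmegaSh.Der f Ω) (hd : OmegaSh.IsUniversal d)
  {Ω' : X'.Modules} (d' : OmegaSh.Der f' Ω') (hd' : OmegaSh.IsUniversal d')
  (c : (Scheme.Modules.pullback g').obj Ω ⟶ Ω') (hc : OmegaSh.IsDiffCompat g' d d' c)

set_option backward.isDefEq.respectTransparency false in
include hsq hd hd' hc in
theorem chart_bijective (q : BCChart f g) :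
    Function.Bijective (c.app (chartOpen f g g' f' q)).hom := by
  obtain ⟨⟨⟨V, hV⟩, ⟨W', hW'⟩, ⟨W, hW⟩⟩, hVW, hW'W⟩ := q
  have hV' : IsAffineOpen (chartOpen f g g' f' ⟨(⟨V, hV⟩, ⟨W', hW'⟩, ⟨W, hW⟩), hVW, hW'W⟩) :=
    chartOpen_affine f g g' f' hsq _
  set V' := chartOpen f g g' f' ⟨(⟨V, hV⟩, ⟨W', hW'⟩, ⟨W, hW⟩), hVW, hW'W⟩ with hV'def
  have e1 : V' ≤ g' ⁻¹ᵁ V := inf_le_left
  have e2 : V' ≤ f' ⁻¹ᵁ W' := inf_le_right
  letI : Algebra Γ(S, W) Γ(X, V) := (f.appLE W V hVW).hom.toAlgebra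
  letI : Algebra Γ(S, W) Γ(S', W') := (g.appLE W W' hW'W).hom.toAlgebra
  letI : Algebra Γ(X, V) Γ(X', V') := (g'.appLE V V' e1).hom.toAlgebra
  letI : Algebra Γ(S', W') Γ(X', V') := (f'.appLE W' V' e2).hom.toAlgebra
  letI : Algebra Γ(S, W) Γ(X', V') :=
    ((algebraMap Γ(X, V) Γ(X', V')).comp (algebraMap Γ(S, W) Γ(X, V))).toAlgebra
  haveI : IsScalarTower Γ(S, W) Γ(X, V) Γ(X', V') := .of_algebraMap_eq' rfl
  have hpo := (isIso_pushoutSection_iff hsq hW'W hVW (UY := V') rfl).mp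
    (isIso_pushoutSection_of_isAffineOpen _ _ _ _ hW hW' hV)
  have hw : (algebraMap Γ(X, V) Γ(X', V')).comp (algebraMap Γ(S, W) Γ(X, V)) =
      (algebraMap Γ(S', W') Γ(X', V')).comp (algebraMap Γ(S, W) Γ(S', W')) :=
    congr($(hpo.w).hom)
  haveI : IsScalarTower Γ(S, W) Γ(S', W') Γ(X', V') := .of_algebraMap_eq' hw
  haveI hP : Algebra.IsPushout Γ(S, W) Γ(X, V) Γ(S', W') Γ(X', V') :=
    CommRingCat.isPushout_iff_isPushout.mp hpo
  haveI : Algebra.IsPushout Γ(S, W) Γ(S', W') Γ(X, V) Γ(X', V') := hP.symm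
  obtain ⟨ψ₁, hψ₁⟩ := OmegaStruct.exists_sectionsEquiv f d hd hV hW hVW
  obtain ⟨ψ₂, hψ₂⟩ := OmegaStruct.exists_sectionsEquiv f' d' hd' hV' hW' e2
  haveI : Ω.IsQuasicoherent := OmegaQCoh.isQuasicoherent_of_isUniversal f d hd
  have hk : IsBC (algebraMap Γ(X, V) Γ(X', V')) (ρ g' e1 Ω) := isBC_ρ g' hV hV' e1 Ω
  have hc' : ∀ b : Γ(X, V), linApp c V' (ρ g' e1 Ω (d.app V b)) =
      d'.app V' (algebraMap Γ(X, V) Γ(X', V') b) := fun b => diffCompat_app g' d d' c hc e1 b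
  exact OmegaSeqAlg.pushout_sq_bijective Γ(S, W) Γ(S', W') Γ(X, V) Γ(X', V') (d.app V) ψ₁ hψ₁
    (d'.app V') ψ₂ hψ₂ (ρ g' e1 Ω) hk (linApp c V') hc'

include hsq hd hd' hc in
/-- **base change of differentials**: for a cartesian square, `g'^*Ω_{X/S} → Ω_{X'/S'}` is an
isomorphism -/
theorem isIso_of_isPullback : IsIso c := by
  haveI : Ω.IsQuasicoherent := OmegaQCoh.isQuasicoherent_of_isUniversal f d hd
  haveI : Ω'.IsQuasicoherent := OmegaQCoh.isQuasicoherent_of_isUniversal f' d' hd'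
  haveI : ((Scheme.Modules.pullback g').obj Ω).IsQuasicoherent :=
    Groth.Agent.Lib.helper16.QCohPullback.isQuasicoherent_pullback g' Ω
  exact KerSections.isIso_of_bijective_cover c (fun q : BCChart f g => chartOpen f g g' f' q)
    (fun q => chartOpen_affine f g g' f' hsq q) (chart_cover f g g' f' hsq)
    (fun q => chart_bijective f g g' f' hsq d hd d' hd' c hc q)

end Groth.Agent.Lib.helper7.OmegaBC
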