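import Mathlib.AlgebraicGeometry.Group.Smooth
import Mathlib.AlgebraicGeometry.Noetherian
import Groth.Agent.Lib.Helper7.GrpPerfect

set_option autoImplicit false
universe u
open CategoryTheory AlgebraicGeometry Limits

namespace Groth.Agent.Lib.helper7.GrpPerfect

/-- if `s` kills the nilradical of `A`, then any localization away from `s` is reduced -/
lemma isReduced_away_of_smul_nilradical {A : Type*} [CommRing A] (s : A)
    (hs : ∀ n ∈ nilradical A, s * n = 0) (B : Type*) [CommRing B] [Algebra A B]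
    [IsLocalization.Away s B] : IsReduced B := by
  refine ⟨fun y hy => ?_⟩
  obtain ⟨a, ⟨_, ⟨n, rfl⟩⟩, rfl⟩ := IsLocalization.exists_mk'_eq (Submonoid.powers s) y
  obtain ⟨m, hm⟩ := hy
  rw [← IsLocalization.mk'_pow, IsLocalization.mk'_eq_zero_iff] at hm
  obtain ⟨⟨_, ⟨k, rfl⟩⟩, hk⟩ := hm
  simp only at hk
  have h1 : s * a ∈ nilradical A := by
    refine ⟨k + m, ?_⟩
    rw [mul_pow, pow_add, pow_add]
    calc s ^ k * s ^ m * (a ^ k * a ^ m) = (s ^ k * a ^ m) * (s ^ m * a ^ k) := by ring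
      _ = 0 := by rw [hk, zero_mul]
  have h2 := hs _ h1
  rw [IsLocalization.mk'_eq_zero_iff]
  exact ⟨⟨s ^ 2, 2, rfl⟩, by simp only; rw [pow_two, mul_assoc]; exact h2⟩

/-- Noetherian ring with reduced localization at a prime `p`: some `s ∉ p` kills the nilradical -/
lemma exists_smul_nilradical {A : Type*} [CommRing A] [IsNoetherianRing A] (p : Ideal A) [p.IsPrime]
    (B : Type*) [CommRing B] [Algebra A B] [IsLocalization.AtPrime B p] [IsReduced B] :
    ∃ s : A, s ∉ p ∧ ∀ n ∈ nilradical A, s * n = 0 := by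
  have hfg : (nilradical A).FG := IsNoetherian.noetherian _
  obtain ⟨T, hT⟩ := hfg
  have key : ∀ n ∈ nilradical A, ∃ s : A, s ∉ p ∧ s * n = 0 := by
    intro n hn
    have h0 : algebraMap A B n = 0 := by
      have : IsNilpotent (algebraMap A B n) := IsNilpotent.map (mem_nilradical.mp hn) _
      exact this.eq_zero
    rw [IsLocalization.map_eq_zero_iff p.primeCompl] at h0
    obtain ⟨⟨s, hs⟩, h⟩ := h0
    exact ⟨s, hs, h⟩
  have hTsub : ∀ t ∈ T, t ∈ nilradical A := fun t ht => hT ▸ Ideal.subset_span ht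
  choose! σ hσ1 hσ2 using key
  refine ⟨∏ t ∈ T, σ t, ?_, ?_⟩
  · intro h
    rw [Ideal.IsPrime.prod_mem_iff] at h
    obtain ⟨t, ht, h⟩ := h
    exact hσ1 t (hTsub t ht) h
  · intro n hn
    rw [← hT] at hn
    refine Submodule.span_induction ?_ ?_ ?_ ?_ hn
    · intro t ht
      obtain ⟨c, hc⟩ := Finset.dvd_prod_of_mem σ ht
      rw [hc, mul_comm (σ t) c, mul_assoc, hσ2 t (hTsub t ht), mul_zero]
    · simp
    · intro x y _ _ hx hy; rw [mul_add, hx, hy, add_zero]
    · intro a x _ hx; rw [smul_eq_mul, mul_left_comm, hx, mul_zero]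

end Groth.Agent.Lib.helper7.GrpPerfect

namespace Groth.Agent.Lib.helper7.GrpPerfect
open TopologicalSpace

lemma exists_isReduced_nhd {X : Scheme.{u}} [IsLocallyNoetherian X] (x : X)
    [_root_.IsReduced (X.presheaf.stalk x)] : ∃ U : X.Opens, x ∈ U ∧ IsReduced U := by
  obtain ⟨_, ⟨W, hW, rfl⟩, hxW, -⟩ :=
    X.isBasis_affineOpens.exists_subset_of_mem_open (Set.mem_univ x) isOpen_univ
  have : IsNoetherianRing Γ(X, W) := IsLocallyNoetherian.component_noetherian ⟨W, hW⟩
  let := TopCat.Presheaf.algebra_section_stalk X.presheaf ⟨x, hxW⟩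
  have hloc : IsLocalization.AtPrime (X.presheaf.stalk x) (hW.primeIdealOf ⟨x, hxW⟩).asIdeal :=
    hW.isLocalization_stalk ⟨x, hxW⟩
  obtain ⟨s, hs, hsn⟩ := exists_smul_nilradical (hW.primeIdealOf ⟨x, hxW⟩).asIdeal
    (X.presheaf.stalk x)
  refine ⟨X.basicOpen s, ?_, ?_⟩
  · rw [X.mem_basicOpen s x hxW]
    exact IsLocalization.map_units (M := (hW.primeIdealOf ⟨x, hxW⟩).asIdeal.primeCompl)
      (X.presheaf.stalk x) ⟨s, hs⟩
  · have := hW.isLocalization_basicOpen s
    have hred : _root_.IsReduced Γ(X, X.basicOpen s) := isReduced_away_of_smul_nilradical s hsn _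
    have : IsAffine (X.basicOpen s) := hW.basicOpen s
    have : _root_.IsReduced Γ(X.basicOpen s, ⊤) := by
      have e := (X.basicOpen s).topIso
      exact isReduced_of_injective e.hom.hom e.commRingCatIsoToRingEquiv.injective
    exact isReduced_of_isAffine_isReduced _

end Groth.Agent.Lib.helper7.GrpPerfect

namespace Groth.Agent.Lib.helper7.GrpPerfect

/-- a scheme l.f.t. over a perfect field with a point whose local ring is reduced has nonempty
smooth locus -/
lemma nonempty_smoothLocus_of_isReduced_stalk {K : Type u} [Field K] [PerfectField K]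
    {X : Scheme.{u}} (f : X ⟶ Spec (.of K)) [LocallyOfFiniteType f] (x : X)
    [_root_.IsReduced (X.presheaf.stalk x)] : (f.smoothLocus : Set X).Nonempty := by
  have : IsLocallyNoetherian X := LocallyOfFiniteType.isLocallyNoetherian f
  obtain ⟨U, hxU, hU⟩ := exists_isReduced_nhd x
  have : Nonempty U := ⟨⟨x, hxU⟩⟩
  obtain ⟨y, hy⟩ := (U.ι ≫ f).dense_smoothLocus_of_perfectField.nonempty
  rw [← Scheme.Hom.preimage_smoothLocus_eq] at hy
  exact ⟨U.ι y, hy⟩

end Groth.Agent.Lib.helper7.GrpPerfect
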