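import Groth.Agent.Lib.Helper7.GrpdOmega
import Groth.Agent.Lib.Helper7.GrpOmega
import Groth.Agent.Lib.Helper7.CartierSmooth

/-!
# Groupoid schemes over a field of characteristic zero are smooth (helper7)

* `GrpdShear.i_i`, `GrpdShear.iIso`: the inverse of a groupoid scheme is an involution.
* `omega_comp_iso`: `Ω_{f ≫ e} ≅ Ω_f` for an isomorphism `e` of the base.
* `smooth_t`, `smooth_s`: for a groupoid scheme with `U ≅ Spec k`, `char k = 0`, and `t` locally of
  finite type, `t` and `s` are smooth.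
-/

set_option autoImplicit false
set_option linter.style.haveILetI false
set_option linter.unusedSectionVars false
universe u
open CategoryTheory CategoryTheory.Limits AlgebraicGeometry

namespace Groth.Agent.Lib.helper7.GrpdShear

variable {S : Scheme.{u}} (G : Grpd.GroupoidScheme S)

/-- the inverse is an involution -/
theorem i_i : G.i ≫ G.i = 𝟙 G.R := by
  have hit : ∀ {Z : Scheme.{u}} (q : G.U ⟶ Z), G.i ≫ G.t ≫ q = G.s ≫ q := fun q => by
    rw [← Category.assoc, G.i_t]
  have his : ∀ {Z : Scheme.{u}} (q : G.U ⟶ Z), G.i ≫ G.s ≫ q = G.t ≫ q := fun q => by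
    rw [← Category.assoc, G.i_s]
  have h1 : (𝟙 G.R) ≫ G.s = G.i ≫ G.t := by rw [Category.id_comp, G.i_t]
  have h2 : G.i ≫ G.s = (G.i ≫ G.i) ≫ G.t := by rw [Category.assoc, G.i_t]
  have A := m_assoc G (𝟙 G.R) G.i (G.i ≫ G.i) h1 h2
  have hmi : m G (𝟙 G.R) G.i h1 = (G.i ≫ G.i) ≫ G.t ≫ G.e := by
    rw [m_congr G rfl (Category.id_comp G.i).symm h1
      (by rw [Category.id_comp, Category.id_comp, G.i_t]), m_i, Category.id_comp,
      Category.assoc, hit, his]
  have hmi2 : m G G.i (G.i ≫ G.i) h2 = (𝟙 G.R) ≫ G.s ≫ G.e := by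
    rw [m_i, Category.id_comp, hit]
  rw [m_congr G hmi rfl _ (by
      simp only [Category.assoc, G.e_s, Category.comp_id]), e_m] at A
  rw [A, m_congr G rfl hmi2 _
    (by simp only [Category.assoc, G.e_t, Category.comp_id]), m_e]

/-- the inverse as an isomorphism -/
noncomputable def iIso : G.R ≅ G.R where
  hom := G.i
  inv := G.i
  hom_inv_id := i_i G
  inv_hom_id := i_i G

end Groth.Agent.Lib.helper7.GrpdShear

namespace Groth.Agent.Lib.helper7.GrpdCartier

open GrpdShear

/-- differentials do not change when the base is replaced by an isomorphic one -/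
theorem omega_comp_iso {X Y Z : Scheme.{u}} (f : X ⟶ Y) (e : Y ≅ Z) [QuasiSeparated f]
    [QuasiSeparated (f ≫ e.hom)] :
    Nonempty (Omega.sheaf (f ≫ e.hom) ≅ Omega.sheaf f) := by
  have hsq : IsPullback (𝟙 X) f (f ≫ e.hom) e.hom :=
    IsPullback.of_horiz_isIso ⟨by rw [Category.id_comp]⟩
  have hG := OmegaUniv.isUniversal_dOmega (f ≫ e.hom)
  have hT := OmegaUniv.isUniversal_dOmega f
  obtain ⟨c, hc, -⟩ := OmegaPush.existsUnique_isDiffCompat (f ≫ e.hom) f (𝟙 X) e.hom
    (by rw [Category.id_comp]) (OmegaSh.dOmega (f ≫ e.hom)) (OmegaSh.dOmega f) hG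
  have hiso : IsIso c := OmegaBC.isIso_of_isPullback (f ≫ e.hom) e.hom (𝟙 X) f hsq
    (OmegaSh.dOmega (f ≫ e.hom)) hG (OmegaSh.dOmega f) hT c hc
  exact ⟨((Scheme.Modules.pullbackId X).app (Omega.sheaf (f ≫ e.hom))).symm ≪≫
    @asIso _ _ _ _ c hiso⟩

variable {S : Scheme.{u}} (G : Grpd.GroupoidScheme S) (k : Type u) [Field k] [CharZero k]
  (eU : G.U ≅ Spec (CommRingCat.of k)) [LocallyOfFiniteType G.t]

include eU in
/-- **`t` is smooth** for a groupoid scheme over a field of characteristic zero. -/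
theorem smooth_t : Smooth G.t := by
  haveI : LocallyOfFiniteType (G.t ≫ eU.hom) := inferInstance
  haveI : IsLocallyNoetherian G.R := LocallyOfFiniteType.isLocallyNoetherian (G.t ≫ eU.hom)
  haveI : QuasiSeparatedSpace G.R := inferInstance
  haveI : QuasiSeparated G.t := inferInstance
  haveI : QuasiSeparated (G.t ≫ eU.hom) := inferInstance
  obtain ⟨ψ⟩ := GrpdOmega.omega_iso G
  haveI : (Omega.conormal G.e).IsQuasicoherent := OmegaAffine.conormal_qcoh _
  obtain ⟨I, ⟨θ⟩⟩ := GrpOmega.exists_iso_free_of_iso_Spec (CommRingCat.of k) (Field.toIsField k) eU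
    (Omega.conormal G.e)
  obtain ⟨χ⟩ := omega_comp_iso G.t eU
  have θ' : Omega.sheaf (G.t ≫ eU.hom) ≅ ∐ fun _ : I => Coh.structureModule G.R :=
    χ ≪≫ ψ.symm ≪≫ (Scheme.Modules.pullback G.s).mapIso θ ≪≫ GrpOmega.pullbackFreeIso G.s I
  have h := CartierSmooth.smooth_of_omega_free (G.t ≫ eU.hom) I θ'
  have h2 : G.t = (G.t ≫ eU.hom) ≫ eU.inv := by
    rw [Category.assoc, eU.hom_inv_id, Category.comp_id]
  rw [h2]
  infer_instance

include eU in
/-- **`s` is smooth** for a groupoid scheme over a field of characteristic zero. -/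
theorem smooth_s : Smooth G.s := by
  haveI := smooth_t G k eU
  have : G.s = (iIso G).hom ≫ G.t := G.i_t.symm
  rw [this]
  infer_instance

end Groth.Agent.Lib.helper7.GrpdCartier
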