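import Groth.Agent.Lib.Helper7.GrpdShear
import Groth.Agent.Lib.Helper7.OmegaSection
import Groth.Agent.Lib.Helper7.OmegaBC

/-!
# Differentials of a groupoid scheme (helper7)

For a groupoid scheme `(U, R, s, t, c, e, i)` with `t` quasi-separated:
`s^* C_{U/R} ≅ Ω_{R/U}` (`R` over `U` via `t`).  No flatness is needed.
-/

set_option autoImplicit false
set_option linter.style.haveILetI false
set_option linter.unusedSectionVars false
universe u
open CategoryTheory CategoryTheory.Limits AlgebraicGeometry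

namespace Groth.Agent.Lib.helper7.GrpdOmega

open GrpdShear

variable {S : Scheme.{u}} (G : Grpd.GroupoidScheme S) [QuasiSeparated G.t]

/-- **`s^* C_{U/R} ≅ Ω_{R/U}` for a groupoid scheme.** -/
theorem omega_iso :
    Nonempty ((Scheme.Modules.pullback G.s).obj (Omega.conormal G.e) ≅ Omega.sheaf G.t) := by
  let t := G.t
  let s := G.s
  let p₁ := pullback.fst s t
  let p₂ := pullback.snd s t
  let q₁ := pullback.fst t t
  let q₂ := pullback.snd t t
  have hΩ := OmegaUniv.isUniversal_dOmega t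
  have hQ := OmegaUniv.isUniversal_dOmega q₁
  have hP := OmegaUniv.isUniversal_dOmega p₁
  -- base change of `t` along `t`
  obtain ⟨c₁, hc₁, -⟩ := OmegaPush.existsUnique_isDiffCompat t q₁ q₂ t pullback.condition
    (OmegaSh.dOmega t) (OmegaSh.dOmega q₁) hΩ
  haveI : IsIso c₁ := OmegaBC.isIso_of_isPullback t t q₂ q₁ (IsPullback.of_hasPullback t t).flip
    (OmegaSh.dOmega t) hΩ (OmegaSh.dOmega q₁) hQ c₁ hc₁
  -- base change of `t` along `s`
  obtain ⟨c₁', hc₁', -⟩ := OmegaPush.existsUnique_isDiffCompat t p₁ p₂ s pullback.condition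
    (OmegaSh.dOmega t) (OmegaSh.dOmega p₁) hΩ
  haveI : IsIso c₁' := OmegaBC.isIso_of_isPullback t s p₂ p₁ (IsPullback.of_hasPullback s t).flip
    (OmegaSh.dOmega t) hΩ (OmegaSh.dOmega p₁) hP c₁' hc₁'
  -- the shear
  have hsqσ : p₁ ≫ 𝟙 G.R = (shear G).hom ≫ q₁ := by rw [Category.comp_id, shear_fst]
  obtain ⟨c₂, hc₂, -⟩ := OmegaPush.existsUnique_isDiffCompat q₁ p₁ (shear G).hom (𝟙 G.R) hsqσ
    (OmegaSh.dOmega q₁) (OmegaSh.dOmega p₁) hQ
  haveI : IsIso c₂ := OmegaBC.isIso_of_isPullback q₁ (𝟙 G.R) (shear G).hom p₁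
    (IsPullback.of_horiz_isIso ⟨hsqσ.symm⟩) (OmegaSh.dOmega q₁) hQ (OmegaSh.dOmega p₁) hP c₂ hc₂
  -- the conormal sheaf of the identity section
  obtain ⟨ψ⟩ := OmegaSection.conormal_section_iso t G.e G.e_t
  let Ω := Omega.sheaf t
  let ΩQ := Omega.sheaf q₁
  let ΩP := Omega.sheaf p₁
  let Δ := pullback.diagonal t
  have hΔ : Δ ≫ q₂ = 𝟙 G.R := pullback.diagonal_snd t
  have i1 : Ω ≅ (Scheme.Modules.pullback (𝟙 G.R)).obj Ω := ((Scheme.Modules.pullbackId G.R).app Ω).symm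
  have i2 : (Scheme.Modules.pullback (𝟙 G.R)).obj Ω ≅ (Scheme.Modules.pullback (Δ ≫ q₂)).obj Ω :=
    (Scheme.Modules.pullbackCongr hΔ.symm).app Ω
  have i3 : (Scheme.Modules.pullback (Δ ≫ q₂)).obj Ω ≅
      (Scheme.Modules.pullback Δ).obj ((Scheme.Modules.pullback q₂).obj Ω) :=
    ((Scheme.Modules.pullbackComp Δ q₂).app Ω).symm
  have i4 : (Scheme.Modules.pullback Δ).obj ((Scheme.Modules.pullback q₂).obj Ω) ≅
      (Scheme.Modules.pullback Δ).obj ΩQ := (Scheme.Modules.pullback Δ).mapIso (asIso c₁)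
  have i5 : (Scheme.Modules.pullback Δ).obj ΩQ ≅
      (Scheme.Modules.pullback (sec G ≫ (shear G).hom)).obj ΩQ :=
    (Scheme.Modules.pullbackCongr (sec_shear G).symm).app ΩQ
  have i6 : (Scheme.Modules.pullback (sec G ≫ (shear G).hom)).obj ΩQ ≅
      (Scheme.Modules.pullback (sec G)).obj ((Scheme.Modules.pullback (shear G).hom).obj ΩQ) :=
    ((Scheme.Modules.pullbackComp (sec G) (shear G).hom).app ΩQ).symm
  have i7 : (Scheme.Modules.pullback (sec G)).obj ((Scheme.Modules.pullback (shear G).hom).obj ΩQ) ≅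
      (Scheme.Modules.pullback (sec G)).obj ΩP := (Scheme.Modules.pullback (sec G)).mapIso (asIso c₂)
  have i8 : (Scheme.Modules.pullback (sec G)).obj ΩP ≅
      (Scheme.Modules.pullback (sec G)).obj ((Scheme.Modules.pullback p₂).obj Ω) :=
    (Scheme.Modules.pullback (sec G)).mapIso (asIso c₁').symm
  have i9 : (Scheme.Modules.pullback (sec G)).obj ((Scheme.Modules.pullback p₂).obj Ω) ≅
      (Scheme.Modules.pullback (sec G ≫ p₂)).obj Ω := (Scheme.Modules.pullbackComp (sec G) p₂).app Ω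
  have i10 : (Scheme.Modules.pullback (sec G ≫ p₂)).obj Ω ≅
      (Scheme.Modules.pullback (s ≫ G.e)).obj Ω := (Scheme.Modules.pullbackCongr (sec_snd G)).app Ω
  have i11 : (Scheme.Modules.pullback (s ≫ G.e)).obj Ω ≅
      (Scheme.Modules.pullback s).obj ((Scheme.Modules.pullback G.e).obj Ω) :=
    ((Scheme.Modules.pullbackComp s G.e).app Ω).symm
  have i12 : (Scheme.Modules.pullback s).obj ((Scheme.Modules.pullback G.e).obj Ω) ≅
      (Scheme.Modules.pullback s).obj (Omega.conormal G.e) :=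
    (Scheme.Modules.pullback s).mapIso ψ.symm
  exact ⟨(i1 ≪≫ i2 ≪≫ i3 ≪≫ i4 ≪≫ i5 ≪≫ i6 ≪≫ i7 ≪≫ i8 ≪≫ i9 ≪≫ i10 ≪≫ i11 ≪≫ i12).symm⟩

end Groth.Agent.Lib.helper7.GrpdOmega
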