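import Groth.Agent.S2155
import Groth.Agent.Lib.Helper7.GrpdCartier
import Groth.Agent.Lib.Helper7.GrpdShear

/-! Groupoid schemes over a perfect field with reduced `R`: `s`, `t` smooth (helper7). -/

set_option autoImplicit false
universe u
open CategoryTheory CategoryTheory.Limits AlgebraicGeometry

namespace Groth.Agent.Lib.helper7.GrpdPerfect
open Groth.Agent.Lib.helper7.GrpdShear

theorem smoothLocus_congr {X Y : Scheme.{u}} {f g : X ⟶ Y} (h : f = g)
    [LocallyOfFinitePresentation f] [LocallyOfFinitePresentation g] :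
    f.smoothLocus = g.smoothLocus := by
  subst h; rfl

variable {S : Scheme.{u}} (G : Grpd.GroupoidScheme S)

theorem shear_snd : (shear G).hom ≫ pullback.snd G.t G.t = G.c := by
  change shearHom G ≫ _ = _
  unfold shearHom
  rw [pullback.lift_snd]
  unfold m
  have : pullback.lift (pullback.fst G.s G.t) (pullback.snd G.s G.t) pullback.condition =
      𝟙 _ := by
    apply pullback.hom_ext <;> simp
  rw [this, Category.id_comp]

/-- for `(a,b)` composable: `ab` is a smooth point of `t` iff `b` is. -/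
theorem c_mem_smoothLocus_iff [LocallyOfFinitePresentation G.t] [Flat G.t] [Flat G.s]
    (z : ↥(pullback G.s G.t)) :
    G.c z ∈ G.t.smoothLocus ↔ (pullback.snd G.s G.t) z ∈ G.t.smoothLocus := by
  have h1 : (pullback.fst G.s G.t).smoothLocus = (pullback.snd G.s G.t) ⁻¹ᵁ G.t.smoothLocus :=
    Groth.Agent.S2155.result G.t G.s (pullback.fst G.s G.t) (pullback.snd G.s G.t)
      (IsPullback.of_hasPullback G.s G.t).flip (Or.inr inferInstance)
  have h2 : (pullback.fst G.t G.t).smoothLocus = (pullback.snd G.t G.t) ⁻¹ᵁ G.t.smoothLocus :=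
    Groth.Agent.S2155.result G.t G.t (pullback.fst G.t G.t) (pullback.snd G.t G.t)
      (IsPullback.of_hasPullback G.t G.t).flip (Or.inr inferInstance)
  have h3 : (shear G).hom ⁻¹ᵁ (pullback.fst G.t G.t).smoothLocus =
      (pullback.fst G.s G.t).smoothLocus := by
    rw [Scheme.Hom.preimage_smoothLocus_eq]
    exact smoothLocus_congr (shear_fst G)
  have e1 : (pullback.snd G.s G.t) z ∈ G.t.smoothLocus ↔ z ∈ (pullback.fst G.s G.t).smoothLocus := by
    rw [h1]; rfl
  rw [e1, ← h3, Scheme.Hom.mem_preimage, h2, Scheme.Hom.mem_preimage, ← Scheme.Hom.comp_apply,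
    shear_snd]

/-- `T`-valued version: given `w', r'` with the same source there is a composable pair
`(a, r')` with `a r' = w'`. -/
theorem exists_lift {T : Scheme.{u}} (w' r' : T ⟶ G.R) (hwr : w' ≫ G.s = r' ≫ G.s) :
    ∃ z' : T ⟶ pullback G.s G.t, z' ≫ pullback.snd G.s G.t = r' ∧ z' ≫ G.c = w' := by
  have h1 : w' ≫ G.s = (r' ≫ G.i) ≫ G.t := by rw [Category.assoc, G.i_t, hwr]
  have h2 : m G w' (r' ≫ G.i) h1 ≫ G.s = r' ≫ G.t := by rw [m_s, Category.assoc, G.i_s]
  refine ⟨pullback.lift (m G w' (r' ≫ G.i) h1) r' h2, pullback.lift_snd _ _ _, ?_⟩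
  change m G (m G w' (r' ≫ G.i) h1) r' h2 = w'
  rw [m_assoc G w' (r' ≫ G.i) r' h1 (by rw [Category.assoc, G.i_s])]
  have h3 : m G (r' ≫ G.i) r' (by rw [Category.assoc, G.i_s]) = w' ≫ G.s ≫ G.e := by
    rw [i_m, ← Category.assoc, ← hwr, Category.assoc]
  rw [m_congr G rfl h3 _ (by rw [Category.assoc, Category.assoc, G.e_t, Category.comp_id])]
  exact m_e G w'

/-- given points `w, r` of `R` with the same source, there is a composable pair `(a, r)` with
`a r = w`. -/
theorem exists_point (w r : G.R) (h : G.s w = G.s r) :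
    ∃ z : ↥(pullback G.s G.t), (pullback.snd G.s G.t) z = r ∧ G.c z = w := by
  obtain ⟨y, hy1, hy2⟩ := Scheme.Pullback.exists_preimage_pullback (f := G.s) (g := G.s) w r h
  obtain ⟨z', hz1, hz2⟩ := exists_lift G
    ((pullback G.s G.s).fromSpecResidueField y ≫ pullback.fst G.s G.s)
    ((pullback G.s G.s).fromSpecResidueField y ≫ pullback.snd G.s G.s)
    (by rw [Category.assoc, Category.assoc, pullback.condition])
  have hy' : ∀ pt, ((pullback G.s G.s).fromSpecResidueField y) pt = y :=
    fun pt => Scheme.fromSpecResidueField_apply _ _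
  obtain ⟨pt⟩ : Nonempty ↥(Spec ((pullback G.s G.s).residueField y)) := inferInstance
  refine ⟨z' pt, ?_, ?_⟩
  · rw [← Scheme.Hom.comp_apply, hz1, Scheme.Hom.comp_apply, hy', hy2]
  · rw [← Scheme.Hom.comp_apply, hz2, Scheme.Hom.comp_apply, hy', hy1]

/-- if `U` is a point and `t` has a smooth point, then `t` is smooth -/
theorem smooth_t_of_nonempty [Subsingleton G.U] [LocallyOfFinitePresentation G.t] [Flat G.t]
    [Flat G.s] (hne : (G.t.smoothLocus : Set G.R).Nonempty) : Smooth G.t := by
  rw [← Scheme.Hom.smoothLocus_eq_top_iff, ← top_le_iff]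
  rintro r -
  obtain ⟨w, hw⟩ := hne
  obtain ⟨z, hz1, hz2⟩ := exists_point G w r (Subsingleton.elim _ _)
  have := (c_mem_smoothLocus_iff G z).mp (by rw [hz2]; exact hw)
  rwa [hz1] at this

/-- **Groupoid on a perfect field with reduced `R`**: `s` and `t` are smooth. -/
theorem smooth_st (k : Type u) [Field k] [PerfectField k] (eU : G.U ≅ Spec (CommRingCat.of k))
    [LocallyOfFiniteType G.s] [LocallyOfFiniteType G.t] [IsReduced G.R] :
    Smooth G.s ∧ Smooth G.t := by
  have hsub : Subsingleton G.U := (Scheme.homeoOfIso eU).subsingleton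
  have hne : Nonempty G.U := (Scheme.homeoOfIso eU).nonempty
  have : Nonempty G.R := hne.map G.e
  have : IsLocallyNoetherian G.U := isLocallyNoetherian_of_isOpenImmersion eU.hom
  have hfl : ∀ {X : Scheme.{u}} (f : X ⟶ G.U), Flat f := by
    intro X f
    have h1 : Flat (f ≫ eU.hom) := inferInstance
    have h2 : f = (f ≫ eU.hom) ≫ eU.inv := by
      rw [Category.assoc, eU.hom_inv_id, Category.comp_id]
    rw [h2]
    infer_instance
  have := hfl G.t
  have := hfl G.s
  have hloc : G.t.smoothLocus = (𝟙 G.R) ⁻¹ᵁ (G.t ≫ eU.hom).smoothLocus :=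
    Groth.Agent.S2155.result (G.t ≫ eU.hom) eU.hom G.t (𝟙 G.R)
      (IsPullback.of_horiz_isIso ⟨by rw [Category.id_comp]⟩) (Or.inr inferInstance)
  have hst : Smooth G.t := by
    apply smooth_t_of_nonempty G
    obtain ⟨y, hy⟩ := (G.t ≫ eU.hom).dense_smoothLocus_of_perfectField.nonempty
    exact ⟨y, by rw [hloc]; exact hy⟩
  refine ⟨?_, hst⟩
  have : G.s = (GrpdShear.iIso G).hom ≫ G.t := G.i_t.symm
  rw [this]
  infer_instance

end Groth.Agent.Lib.helper7.GrpdPerfect
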