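import Mathlib
import Groth.Prelude.Def_ModelsG
import Groth.Prelude.Def_ega3
import Groth.Agent.Lib.Helper18.HHZero
import Groth.Agent.Lib.Helper8.PullModComp2
import Groth.Agent.Lib.Helper11.InvMod

/-!
# `Models.hRank` / `Curv2.genus` versus `CohIII.fiberRank` and global functions (helper7)

* `hRank_zero`: `hRank k Z g O_Z 0 = dim_k Γ(Z, O_Z)`.
* `hRank_zero_fiber`: the same for a fibre, with the frozen algebra structure `CohIII.algebraFiberGlobal`.
* `hRank_eq_fiberRank`: `hRank κ(y) X_y M p = fiberRank f F p y` when `F|_{X_y} ≅ M`.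
* `hRank_structureModule_eq_fiberRank`: `hRank κ(y) X_y O_{X_y} p = fiberRank f O_X p y`.
-/

set_option autoImplicit false
universe u

open CategoryTheory CategoryTheory.Limits Opposite TopologicalSpace AlgebraicGeometry

namespace Groth.Agent.Lib.helper7.HRank

open Groth.Agent.Lib.Helper18 Groth.Agent.Lib.helper11.InvMod
  Groth.Agent.Lib.helper8.PullModComp

theorem hRank_zero (k : Type u) [Field k] (Z : Scheme.{u}) (g : Z ⟶ Spec (CommRingCat.of k)) :
    letI : Algebra k Γ(Z, ⊤) := (Coh.toGlobal g).toAlgebra
    Models.hRank k Z g (Coh.structureModule Z) 0 = Module.finrank k Γ(Z, ⊤) := by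
  letI : Algebra k Γ(Z, ⊤) := (Coh.toGlobal g).toAlgebra
  letI : Z.Over (Spec (CommRingCat.of k)) := ⟨g⟩
  let e0 := HH.equiv₀ (Coh.structureModule Z)
  let e : Coh.HH Z (Coh.structureModule Z) 0 ≃ₗ[k] Γ(Z, ⊤) :=
    { toFun := fun z => e0 z
      invFun := fun c => e0.symm c
      map_add' := fun a b => map_add e0 a b
      map_smul' := fun c z => by
        have h1 : c • z = Coh.toGlobal g c • z := rfl
        rw [h1, e0.map_smul, RingHom.id_apply]
        rfl
      left_inv := fun z => e0.symm_apply_apply z
      right_inv := fun c => e0.apply_symm_apply c }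
  exact e.finrank_eq

variable {X Y : Scheme.{u}} (f : X ⟶ Y)

theorem hRank_zero_fiber (y : Y) :
    Models.hRank ↥(Y.residueField y) (f.fiber y) (f.fiberToSpecResidueField y)
      (Coh.structureModule (f.fiber y)) 0 = Module.finrank (Y.residueField y) Γ(f.fiber y, ⊤) :=
  hRank_zero ↥(Y.residueField y) (f.fiber y) (f.fiberToSpecResidueField y)

theorem hRank_eq_fiberRank (F : X.Modules) (y : Y) (M : (f.fiber y).Modules)
    (α : CohIII.fiberMod f F y ≅ M) (p : ℕ) :
    Models.hRank ↥(Y.residueField y) (f.fiber y) (f.fiberToSpecResidueField y) M p =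
      CohIII.fiberRank f F p y := by
  letI : (f.fiber y).Over (Spec (CommRingCat.of ↥(Y.residueField y))) :=
    ⟨f.fiberToSpecResidueField y⟩
  let e0 := mapEquiv α p
  let e : CohIII.fiberH f F y p ≃ₗ[Y.residueField y] Coh.HH (f.fiber y) M p :=
    { toFun := fun z => e0 z
      invFun := fun c => e0.symm c
      map_add' := fun a b => map_add e0 a b
      map_smul' := fun c z => by
        have h1 : c • z = Coh.toGlobal (X := f.fiber y) (A := Y.residueField y)
          (f.fiberToSpecResidueField y) c • z := rfl
        rw [h1, e0.map_smul, RingHom.id_apply]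
        rfl
      left_inv := fun z => e0.symm_apply_apply z
      right_inv := fun c => e0.apply_symm_apply c }
  exact e.finrank_eq.symm

theorem hRank_structureModule_eq_fiberRank (y : Y) (p : ℕ) :
    Models.hRank ↥(Y.residueField y) (f.fiber y) (f.fiberToSpecResidueField y)
      (Coh.structureModule (f.fiber y)) p =
      CohIII.fiberRank f (Coh.structureModule X) p y :=
  hRank_eq_fiberRank f (Coh.structureModule X) y _ (pullbackUnitIso (f.fiberι y)) p

end Groth.Agent.Lib.helper7.HRank
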