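import Mathlib
import Groth.Agent.Lib.Helper7.TwistNum
import Groth.Agent.Lib.Helper7.RegInt
import Groth.Agent.Lib.Helper7.SnapperCartier2
import Groth.Agent.Lib.Helper18.ProjBasic
import Groth.Agent.Lib.Helper8.DimLt
import Groth.Agent.Lib.Lead.VBCurve7
import Groth.Agent.Lib.Helper11.TwistH1
import Groth.Agent.Lib.Helper19.ProjSpaceProper

/-!
# Cohomology of `O_X(n)` for a hypersurface `X ⊆ P^N` (helper7)
-/

set_option autoImplicit false
set_option linter.unusedSectionVars false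
set_option linter.style.haveILetI false
universe u

open CategoryTheory CategoryTheory.Limits AlgebraicGeometry Opposite TopologicalSpace Module

namespace Groth.Agent.Lib.helper7.HypersurfCoh

open Groth.Agent.Lib.Lead.ModTensor Groth.Agent.Lib.helper28.TwistPn
open Groth.Agent.Lib.helper7

variable (F : Type u) [Field F] (N : ℕ) (k : ℕ) (I : (CohB1.ProjSpace N F).IdealSheafData)
  (eI : ClSub.idealMod I ≅ Twist.twistProjSpace N F (-(k : ℤ))) (n : ℤ)

include eI in
/-- the twisted ideal sequence `0 → O(n - k) → O(n) → O_X ⊗ O(n) → 0` -/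
theorem exists_shortExact :
    ∃ (f : Twist.twistProjSpace N F (n - k) ⟶ Twist.twistProjSpace N F n)
      (g : Twist.twistProjSpace N F n ⟶
        CohB1.tensorMod (ClSub.quotMod I) (Twist.twistProjSpace N F n)) (w : f ≫ g = 0),
      (ShortComplex.mk f g w).ShortExact := by
  have hL := isInvertible N F n
  haveI : Mono (ClSub.idealModι I) := IdealMod.mono_idealModι I
  have hm : Mono (tensorMap (ClSub.idealModι I) (𝟙 (Twist.twistProjSpace N F n))) :=
    Groth.Agent.Lib.helper11.TwistH1.mono_tensorMap_left (ClSub.idealModι I) hL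
  have key : ∃ w : tensorMap (ClSub.idealModι I) (𝟙 (Twist.twistProjSpace N F n)) ≫
      tensorMap (ClSub.toSubscheme I) (𝟙 (Twist.twistProjSpace N F n)) = 0,
      (ShortComplex.mk _ _ w).ShortExact :=
    Groth.Agent.Lib.helper7.SnapperCartier2.shortExact_tensor_of_mono (IdealMod.idealSeq I)
      (IdealMod.idealSeq_shortExact I) (Twist.twistProjSpace N F n) hm
  obtain ⟨w, hS⟩ := key
  have hnk : -(k : ℤ) + n = n - k := by ring
  let a : CohB1.tensorMod (ClSub.idealMod I) (Twist.twistProjSpace N F n) ≅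
      Twist.twistProjSpace N F (n - k) :=
    Groth.Agent.Lib.Lead.ModTensor.tensorIso eI (Iso.refl _) ≪≫
      Groth.Agent.Lib.helper28.TwistPn.tensorIso N F (-(k : ℤ)) n ≪≫ eqToIso (by rw [hnk])
  let b : CohB1.tensorMod (Coh.structureModule _) (Twist.twistProjSpace N F n) ≅
      Twist.twistProjSpace N F n := leftUnitor _
  have hz : (a.inv ≫ tensorMap (ClSub.idealModι I) (𝟙 _) ≫ b.hom) ≫
      (b.inv ≫ tensorMap (ClSub.toSubscheme I) (𝟙 (Twist.twistProjSpace N F n))) = 0 := by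
    simp only [Category.assoc, Iso.hom_inv_id_assoc]
    rw [w, comp_zero]
  refine ⟨a.inv ≫ tensorMap (ClSub.idealModι I) (𝟙 _) ≫ b.hom,
    b.inv ≫ tensorMap (ClSub.toSubscheme I) (𝟙 _), hz, ?_⟩
  let S₁ : ShortComplex (CohB1.ProjSpace N F).Modules :=
    ShortComplex.mk (tensorMap (ClSub.idealModι I) (𝟙 (Twist.twistProjSpace N F n)))
      (tensorMap (ClSub.toSubscheme I) (𝟙 (Twist.twistProjSpace N F n))) w
  let S₂ : ShortComplex (CohB1.ProjSpace N F).Modules :=
    ShortComplex.mk (a.inv ≫ tensorMap (ClSub.idealModι I) (𝟙 _) ≫ b.hom)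
      (b.inv ≫ tensorMap (ClSub.toSubscheme I) (𝟙 (Twist.twistProjSpace N F n))) hz
  have e : S₁ ≅ S₂ := ShortComplex.isoMk a b (Iso.refl _)
    (by simp [S₁, S₂]) (by simp [S₁, S₂])
  exact ShortComplex.shortExact_of_iso e hS

include eI in
theorem ne_bot : I ≠ ⊥ := by
  rintro rfl
  haveI : IsIso (ClSub.toSubscheme (⊥ : (CohB1.ProjSpace N F).IdealSheafData)) :=
    Groth.Agent.Lib.helper7.RegInt.isIso_toSubscheme_bot
  have hz : IsZero (ClSub.idealMod (⊥ : (CohB1.ProjSpace N F).IdealSheafData)) :=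
    isZero_kernel_of_mono (ClSub.toSubscheme (⊥ : (CohB1.ProjSpace N F).IdealSheafData))
  have hz' : IsZero (Twist.twistProjSpace N F (-(k : ℤ))) := hz.of_iso eI.symm
  haveI : Nonempty (CohB1.ProjSpace N F) := inferInstance
  exact Groth.Agent.Lib.Lead.VBCurve.not_isZero_of_rank_pos one_pos
    ((Groth.Agent.Lib.helper16.FLF.isInvertible_iff_isFinLocFreeOfRank_one _).mp
      (isInvertible N F (-(k : ℤ)))) hz'

include eI in
theorem dim_support_lt (hN : 1 ≤ N) :
    topologicalKrullDim ↥((I.support : Closeds (CohB1.ProjSpace N F)) : Set (CohB1.ProjSpace N F)) ≤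
      ((N - 1 : ℕ) : WithBot ℕ∞) := by
  have hne : ((I.support : Closeds (CohB1.ProjSpace N F)) : Set (CohB1.ProjSpace N F)) ≠ Set.univ := by
    intro h
    apply ne_bot F N k I eI
    rw [← Scheme.IdealSheafData.support_eq_top_iff]
    ext1
    exact h
  have h1 := Groth.Agent.Lib.helper8.DimLt.topologicalKrullDim_add_one_le
    (Set.subset_univ _) I.support.isClosed
    (IrreducibleSpace.isIrreducible_univ (CohB1.ProjSpace N F)) hne
  have h2 : topologicalKrullDim ↥(Set.univ : Set (CohB1.ProjSpace N F)) ≤ (N : WithBot ℕ∞) := by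
    rw [← Groth.Agent.Lib.Helper18.ProjBasic.topologicalKrullDim_projSpace (k := F) (n := N)]
    exact topologicalKrullDim_subspace_le _ _
  have h3 := h1.trans h2
  generalize topologicalKrullDim
    ↥((I.support : Closeds (CohB1.ProjSpace N F)) : Set (CohB1.ProjSpace N F)) = x at h3 ⊢
  induction x using WithBot.recBotCoe with
  | bot => exact bot_le
  | coe y =>
    induction y using ENat.recTopCoe with
    | top =>
      exfalso
      have : ((⊤ : ℕ∞) : WithBot ℕ∞) + 1 = ((⊤ : ℕ∞) : WithBot ℕ∞) := by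
        rw [← WithBot.coe_one, ← WithBot.coe_add, top_add]
      rw [this] at h3
      have h4 : (⊤ : ℕ∞) ≤ (N : ℕ∞) := by exact_mod_cast h3
      exact absurd h4 (by simp)
    | coe m =>
      have h4 : ((m + 1 : ℕ) : WithBot ℕ∞) ≤ (N : WithBot ℕ∞) := by
        push_cast
        exact h3
      have h5 : m + 1 ≤ N := by exact_mod_cast h4
      have h6 : m ≤ N - 1 := by omega
      have h7 : ((m : ℕ∞) : WithBot ℕ∞) ≤ (((N - 1 : ℕ) : ℕ∞) : WithBot ℕ∞) :=
        WithBot.coe_le_coe.mpr (by exact_mod_cast h6)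
      exact h7

include eI in
/-- `H^p(P^N, O_X ⊗ O(n)) = 0` for `p ≥ N` -/
theorem subsingleton_HH_top (hN : 1 ≤ N) (p : ℕ) (hp : N ≤ p) :
    Subsingleton (Coh.HH (CohB1.ProjSpace N F)
      (CohB1.tensorMod (ClSub.quotMod I) (Twist.twistProjSpace N F n)) p) := by
  haveI : IsNoetherian (CohB1.ProjSpace N F) := by
    haveI hprop : IsProper (CohB1.ProjSpace.toSpec N F) :=
      Groth.Agent.Lib.helper19.ProjSpaceProper.proper_toSpec N F
    haveI : IsLocallyNoetherian (CohB1.ProjSpace N F) :=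
      LocallyOfFiniteType.isLocallyNoetherian (CohB1.ProjSpace.toSpec N F)
    haveI : CompactSpace (CohB1.ProjSpace N F) :=
      QuasiCompact.compactSpace_of_compactSpace (CohB1.ProjSpace.toSpec N F)
    exact {}
  set G := CohB1.tensorMod (ClSub.quotMod I) (Twist.twistProjSpace N F n) with hG
  have hQc : Coh.IsCoh (ClSub.quotMod I) :=
    Groth.Agent.Lib.helper8.Dev.isCoh_push_structureModule I.subschemeι
  have hLc : Coh.IsCoh (Twist.twistProjSpace N F n) :=
    Groth.Agent.Lib.Lead.CurveInv.isCoh_of_isInvertible _ (isInvertible N F n)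
  have hGc : Coh.IsCoh G := Groth.Agent.Lib.Helper18.DegCalc.isCoh_tensorMod hQc hLc
  have hsupp : CohB1.support G ⊆ ((I.support : Closeds (CohB1.ProjSpace N F)) : Set _) :=
    (Groth.Agent.Lib.helper7.SnapperNewton.support_tensorMod_subset hQc hLc).trans
      (Groth.Agent.Lib.helper7.SnapperQuot.support_quotMod_subset I)
  let U₀ : (CohB1.ProjSpace N F).Opens :=
    ⟨((I.support : Closeds (CohB1.ProjSpace N F)) : Set _)ᶜ, I.support.isClosed.isOpen_compl⟩
  have hU₀c : IsCompact (U₀ : Set (CohB1.ProjSpace N F)) := NoetherianSpace.isCompact _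
  have hd : topologicalKrullDim ↥((U₀ : Set (CohB1.ProjSpace N F))ᶜ) ≤ ((N - 1 : ℕ) : WithBot ℕ∞) := by
    have e : ((U₀ : Set (CohB1.ProjSpace N F))ᶜ) =
        ((I.support : Closeds (CohB1.ProjSpace N F)) : Set _) := compl_compl _
    rw [e]
    exact dim_support_lt F N k I eI hN
  have hvan : Groth.Agent.Lib.helper27.AffStratVan.VanOn U₀ G := fun W hW =>
    Groth.Agent.Lib.Lead.VBCurve.subsingleton_sections_of_stalks G W (fun x hx => by
      have hx' : x ∉ CohB1.support G := fun h => hW hx (hsupp h)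
      simpa [CohB1.support] using hx')
  exact Groth.Agent.Lib.helper27.AffStratVan.subsingleton_HH_of_vanOn_of_dim_le U₀ hU₀c (N - 1) hd G
    hGc.1 hvan p (by omega)

section LinAlg

variable {K : Type*} [Field K] {V₁ V₂ V₃ V₄ V₅ : Type*}
  [AddCommGroup V₁] [Module K V₁] [AddCommGroup V₂] [Module K V₂] [AddCommGroup V₃] [Module K V₃]
  [AddCommGroup V₄] [Module K V₄] [AddCommGroup V₅] [Module K V₅]

/-- `0 → V₁ → V₂ → V₃ → 0` exact: `dim V₁ + dim V₃ = dim V₂` -/
theorem finrank_add_of_exact [Module.Finite K V₂] (f : V₁ →ₗ[K] V₂) (g : V₂ →ₗ[K] V₃)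
    (hf : Function.Injective f) (hfg : Function.Exact f g) (hg : Function.Surjective g) :
    finrank K V₁ + finrank K V₃ = finrank K V₂ := by
  have h1 := LinearMap.finrank_range_add_finrank_ker g
  rw [LinearMap.exact_iff.mp hfg, LinearMap.range_eq_top.mpr hg, finrank_top,
    LinearMap.finrank_range_of_inj hf] at h1
  omega

/-- `0 → V₁ → V₂ → V₃ → V₄ → V₅ → 0` exact: `dim V₃ + dim V₁ + dim V₅ = dim V₂ + dim V₄` -/
theorem finrank_of_exact_five [Module.Finite K V₂] [Module.Finite K V₃] [Module.Finite K V₄]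
    (f : V₁ →ₗ[K] V₂) (g : V₂ →ₗ[K] V₃) (δ : V₃ →ₗ[K] V₄) (f' : V₄ →ₗ[K] V₅)
    (hf : Function.Injective f) (hfg : Function.Exact f g) (hgδ : Function.Exact g δ)
    (hδf : Function.Exact δ f') (hf' : Function.Surjective f') :
    finrank K V₃ + finrank K V₁ + finrank K V₅ = finrank K V₂ + finrank K V₄ := by
  have h1 := LinearMap.finrank_range_add_finrank_ker g
  have h2 := LinearMap.finrank_range_add_finrank_ker δ
  have h3 := LinearMap.finrank_range_add_finrank_ker f'
  rw [LinearMap.exact_iff.mp hfg, LinearMap.finrank_range_of_inj hf] at h1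
  rw [LinearMap.exact_iff.mp hgδ] at h2
  rw [LinearMap.exact_iff.mp hδf, LinearMap.range_eq_top.mpr hf', finrank_top] at h3
  omega

end LinAlg

section Main

open Groth.Agent.Lib.Helper18 Groth.Agent.Lib.helper7.TwistNum

variable (d : ℕ) (J : (CohB1.ProjSpace (d + 1) F).IdealSheafData)
  (eJ : ClSub.idealMod J ≅ Twist.twistProjSpace (d + 1) F (-(k : ℤ)))

include eJ in
/-- cohomology of `O_X(n)` for a hypersurface `X ⊆ P^{d+1}` of degree `k`, `d ≥ 1` -/
theorem main_pos (hd : 1 ≤ d) :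
    (∀ p : ℕ, p ≠ 0 → p ≠ d →
      Subsingleton (Coh.HH (CohB1.ProjSpace (d + 1) F)
        (CohB1.tensorMod (ClSub.quotMod J) (Twist.twistProjSpace (d + 1) F n)) p)) ∧
    (Module.Finite F (Coh.HH (CohB1.ProjSpace (d + 1) F)
        (CohB1.tensorMod (ClSub.quotMod J) (Twist.twistProjSpace (d + 1) F n)) 0) ∧
      Module.finrank F (Coh.HH (CohB1.ProjSpace (d + 1) F)
        (CohB1.tensorMod (ClSub.quotMod J) (Twist.twistProjSpace (d + 1) F n)) 0) =
        (Nat.choose (n + ((d : ℤ) + 1)).toNat (d + 1) -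
          Nat.choose (n - (k : ℤ) + ((d : ℤ) + 1)).toNat (d + 1))) ∧
    (Module.Finite F (Coh.HH (CohB1.ProjSpace (d + 1) F)
        (CohB1.tensorMod (ClSub.quotMod J) (Twist.twistProjSpace (d + 1) F n)) d) ∧
      Module.finrank F (Coh.HH (CohB1.ProjSpace (d + 1) F)
        (CohB1.tensorMod (ClSub.quotMod J) (Twist.twistProjSpace (d + 1) F n)) d) =
        (Nat.choose (((k : ℤ) - 2 - (d : ℤ) - n) + ((d : ℤ) + 1)).toNat (d + 1) -
          Nat.choose (((k : ℤ) - 2 - (d : ℤ) - n) - (k : ℤ) + ((d : ℤ) + 1)).toNat (d + 1))) := by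
  have hN : 1 ≤ d + 1 := by omega
  obtain ⟨f, g, w, hS⟩ := exists_shortExact F (d + 1) k J eJ n
  set S : ShortComplex (CohB1.ProjSpace (d + 1) F).Modules := ShortComplex.mk f g w with hSdef
  have hAfin : ∀ p, Module.Finite F (Coh.HH (CohB1.ProjSpace (d + 1) F) S.X₁ p) := fun p =>
    finite_HH_twist F (d + 1) hN (n - k) p
  have hBfin : ∀ p, Module.Finite F (Coh.HH (CohB1.ProjSpace (d + 1) F) S.X₂ p) := fun p =>
    finite_HH_twist F (d + 1) hN n p
  have hAvan : ∀ p, p ≠ 0 → p ≠ d + 1 →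
      Subsingleton (Coh.HH (CohB1.ProjSpace (d + 1) F) S.X₁ p) := fun p h0 h1 =>
    subsingleton_HH_twist F (d + 1) (n - k) p h0 h1
  have hBvan : ∀ p, p ≠ 0 → p ≠ d + 1 →
      Subsingleton (Coh.HH (CohB1.ProjSpace (d + 1) F) S.X₂ p) := fun p h0 h1 =>
    subsingleton_HH_twist F (d + 1) n p h0 h1
  have hCtop : ∀ p, d + 1 ≤ p → Subsingleton (Coh.HH (CohB1.ProjSpace (d + 1) F) S.X₃ p) :=
    fun p hp => subsingleton_HH_top F (d + 1) k J eJ n hN p hp
  refine ⟨?_, ?_, ?_⟩
  · intro p hp0 hpd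
    by_cases hp : d + 1 ≤ p
    · exact hCtop p hp
    · exact HH.subsingleton_X₃ hS p (hBvan p hp0 (by omega)) (hAvan (p + 1) (by omega) (by omega))
  · haveI := hBfin 0
    have hfin : Module.Finite F (Coh.HH (CohB1.ProjSpace (d + 1) F) S.X₃ 0) :=
      HH.finite_X₃ hS F 0 (hBfin 0) (hAfin 1)
    refine ⟨hfin, ?_⟩
    have hsurj : Function.Surjective (HH.mapOver F S.g 0) :=
      HH.surjective_map_g hS 0 (hAvan 1 (by omega) (by omega))
    have h1 := finrank_add_of_exact (HH.mapOver F S.f 0) (HH.mapOver F S.g 0)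
      (HH.injective_mapOver_f_zero hS F) (HH.exactOver₂ hS F 0) hsurj
    have hA := (finrank_H0_twist F (d + 1) hN (n - k)).2
    have hB := (finrank_H0_twist F (d + 1) hN n).2
    have e1 : n - (k : ℤ) + ((d + 1 : ℕ) : ℤ) = n - (k : ℤ) + ((d : ℤ) + 1) := by push_cast; ring
    have e2 : n + ((d + 1 : ℕ) : ℤ) = n + ((d : ℤ) + 1) := by push_cast; ring
    rw [e1] at hA
    rw [e2] at hB
    change finrank F (Coh.HH _ S.X₁ 0) = _ at hA
    change finrank F (Coh.HH _ S.X₂ 0) = _ at hB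
    change finrank F (Coh.HH _ S.X₃ 0) = _
    omega
  · haveI := hAfin (d + 1)
    have hfin : Module.Finite F (Coh.HH (CohB1.ProjSpace (d + 1) F) S.X₃ d) :=
      HH.finite_X₃ hS F d (hBfin d) (hAfin (d + 1))
    refine ⟨hfin, ?_⟩
    have hinj : Function.Injective (HH.δOver hS F d) :=
      HH.injective_δ hS d (hBvan d (by omega) (by omega))
    have hsurj : Function.Surjective (HH.mapOver F S.f (d + 1)) :=
      HH.surjective_map_f hS (d + 1) (hCtop (d + 1) le_rfl)
    have h1 := finrank_add_of_exact (HH.δOver hS F d) (HH.mapOver F S.f (d + 1))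
      hinj (HH.exactOver₁ hS F d) hsurj
    have hA := (finrank_HN_twist F (d + 1) hN (n - k)).2
    have hB := (finrank_HN_twist F (d + 1) hN n).2
    have e1 : -(n - (k : ℤ)) - 1 = ((k : ℤ) - 2 - (d : ℤ) - n) + ((d : ℤ) + 1) := by ring
    have e2 : -n - 1 = ((k : ℤ) - 2 - (d : ℤ) - n) - (k : ℤ) + ((d : ℤ) + 1) := by ring
    rw [e1] at hA
    rw [e2] at hB
    change finrank F (Coh.HH _ S.X₁ (d + 1)) = _ at hA
    change finrank F (Coh.HH _ S.X₂ (d + 1)) = _ at hB
    change finrank F (Coh.HH _ S.X₃ d) = _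
    omega

variable (J₁ : (CohB1.ProjSpace 1 F).IdealSheafData)
  (eJ₁ : ClSub.idealMod J₁ ≅ Twist.twistProjSpace 1 F (-(k : ℤ)))

include eJ₁ in
/-- cohomology of `O_X(n)` for a hypersurface `X ⊆ P^1` of degree `k` -/
theorem main_zero :
    (Module.Finite F (Coh.HH (CohB1.ProjSpace 1 F)
        (CohB1.tensorMod (ClSub.quotMod J₁) (Twist.twistProjSpace 1 F n)) 0) ∧
      Module.finrank F (Coh.HH (CohB1.ProjSpace 1 F)
        (CohB1.tensorMod (ClSub.quotMod J₁) (Twist.twistProjSpace 1 F n)) 0) =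
        (Nat.choose (n + 1).toNat 1 - Nat.choose (n - (k : ℤ) + 1).toNat 1) +
        (Nat.choose ((k : ℤ) - 2 - n + 1).toNat 1 -
          Nat.choose ((k : ℤ) - 2 - n - (k : ℤ) + 1).toNat 1)) ∧
    (∀ p : ℕ, 1 ≤ p →
      Subsingleton (Coh.HH (CohB1.ProjSpace 1 F)
        (CohB1.tensorMod (ClSub.quotMod J₁) (Twist.twistProjSpace 1 F n)) p)) := by
  have hN : 1 ≤ 1 := le_rfl
  obtain ⟨f, g, w, hS⟩ := exists_shortExact F 1 k J₁ eJ₁ n
  set S : ShortComplex (CohB1.ProjSpace 1 F).Modules := ShortComplex.mk f g w with hSdef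
  have hAfin : ∀ p, Module.Finite F (Coh.HH (CohB1.ProjSpace 1 F) S.X₁ p) := fun p =>
    finite_HH_twist F 1 hN (n - k) p
  have hBfin : ∀ p, Module.Finite F (Coh.HH (CohB1.ProjSpace 1 F) S.X₂ p) := fun p =>
    finite_HH_twist F 1 hN n p
  have hCtop : ∀ p, 1 ≤ p → Subsingleton (Coh.HH (CohB1.ProjSpace 1 F) S.X₃ p) :=
    fun p hp => subsingleton_HH_top F 1 k J₁ eJ₁ n hN p hp
  refine ⟨?_, hCtop⟩
  haveI := hBfin 0
  haveI := hAfin 1
  haveI hfin : Module.Finite F (Coh.HH (CohB1.ProjSpace 1 F) S.X₃ 0) :=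
    HH.finite_X₃ hS F 0 (hBfin 0) (hAfin 1)
  refine ⟨hfin, ?_⟩
  have hsurj : Function.Surjective (HH.mapOver F S.f 1) :=
    HH.surjective_map_f hS 1 (hCtop 1 le_rfl)
  have hinj := HH.injective_mapOver_f_zero hS F
  have h1 : finrank F (Coh.HH (CohB1.ProjSpace 1 F) S.X₃ 0) +
      finrank F (Coh.HH (CohB1.ProjSpace 1 F) S.X₁ 0) +
      finrank F (Coh.HH (CohB1.ProjSpace 1 F) S.X₂ 1) =
      finrank F (Coh.HH (CohB1.ProjSpace 1 F) S.X₂ 0) +
      finrank F (Coh.HH (CohB1.ProjSpace 1 F) S.X₁ 1) :=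
    finrank_of_exact_five (HH.mapOver F S.f 0) (HH.mapOver F S.g 0) (HH.δOver hS F 0)
      (HH.mapOver F S.f 1) hinj (HH.exactOver₂ hS F 0) (HH.exactOver₃ hS F 0)
      (HH.exactOver₁ hS F 0) hsurj
  have h2 : finrank F (Coh.HH (CohB1.ProjSpace 1 F) S.X₁ 0) ≤
      finrank F (Coh.HH (CohB1.ProjSpace 1 F) S.X₂ 0) :=
    LinearMap.finrank_le_finrank_of_injective hinj
  have h3 : finrank F (Coh.HH (CohB1.ProjSpace 1 F) S.X₂ 1) ≤
      finrank F (Coh.HH (CohB1.ProjSpace 1 F) S.X₁ 1) := by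
    have := LinearMap.finrank_range_le (HH.mapOver F S.f 1)
    rwa [LinearMap.range_eq_top.mpr hsurj, finrank_top] at this
  have hA0 := (finrank_H0_twist F 1 hN (n - k)).2
  have hB0 := (finrank_H0_twist F 1 hN n).2
  have hA1 := (finrank_HN_twist F 1 hN (n - k)).2
  have hB1 := (finrank_HN_twist F 1 hN n).2
  have e1 : n - (k : ℤ) + ((1 : ℕ) : ℤ) = n - (k : ℤ) + 1 := by push_cast; ring
  have e2 : n + ((1 : ℕ) : ℤ) = n + 1 := by push_cast; ring
  have e3 : -(n - (k : ℤ)) - 1 = (k : ℤ) - 2 - n + 1 := by ring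
  have e4 : -n - 1 = (k : ℤ) - 2 - n - (k : ℤ) + 1 := by ring
  rw [e1] at hA0
  rw [e2] at hB0
  rw [e3] at hA1
  rw [e4] at hB1
  change finrank F (Coh.HH _ S.X₁ 0) = _ at hA0
  change finrank F (Coh.HH _ S.X₂ 0) = _ at hB0
  change finrank F (Coh.HH _ S.X₁ 1) = _ at hA1
  change finrank F (Coh.HH _ S.X₂ 1) = _ at hB1
  change finrank F (Coh.HH _ S.X₃ 0) = _
  omega

end Main

end Groth.Agent.Lib.helper7.HypersurfCoh
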