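import Mathlib.AlgebraicGeometry.Morphisms.Immersion
import Mathlib.AlgebraicGeometry.Morphisms.ClosedImmersion

/-!
# Affine charts adapted to an immersion (helper7)

* `of_le_coborder`: for an immersion `j : X ⟶ Y` and an affine open `V ≤ j.coborderRange`,
  `j ⁻¹ᵁ V` is affine and `Γ(Y,V) → Γ(X, j⁻¹V)` is surjective.
* `exists_chart`: such `V` exist around `j x` inside any given open.
* `exists_chart₂`: for immersions `i : Z ⟶ X`, `j : Z ⟶ Y` with `i ≫ p = j`, around every point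
  of `Z` there are adapted affine charts `V ⊆ X`, `W ⊆ Y` with `V ≤ p⁻¹W` and `i⁻¹V = j⁻¹W`.
-/

set_option autoImplicit false
universe u
open CategoryTheory AlgebraicGeometry TopologicalSpace Opposite

namespace Groth.Agent.Lib.helper7.ImmChart

variable {X Y : Scheme.{u}} (j : X ⟶ Y) [IsImmersion j]

theorem of_le_coborder {V : Y.Opens} (hV : IsAffineOpen V) (hle : V ≤ j.coborderRange) :
    IsAffineOpen (j ⁻¹ᵁ V) ∧ Function.Surjective (j.app V).hom := by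
  let W := j.coborderRange
  let l := j.liftCoborder
  let V' : W.toScheme.Opens := W.ι ⁻¹ᵁ V
  have hV' : IsAffineOpen V' :=
    hV.preimage_of_isOpenImmersion W.ι (by rw [Scheme.Opens.opensRange_ι]; exact hle)
  have himg : W.ι ''ᵁ V' = V := by
    rw [Scheme.Hom.image_preimage_eq_opensRange_inf, Scheme.Opens.opensRange_ι]
    exact inf_eq_right.mpr hle
  have hpre : l ⁻¹ᵁ V' = j ⁻¹ᵁ V := by rw [j.liftCoborder_preimage V', himg]
  refine ⟨hpre ▸ hV'.preimage l, ?_⟩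
  have h1 := liftCoborder_app (f := j) V'
  have h2 : Function.Surjective (l.app V').hom := l.app_surjective V' hV'
  -- transport along `himg`
  suffices H : ∀ (V₀ : Y.Opens) (h : W.ι ''ᵁ V' = V₀), Function.Surjective (j.app V₀).hom from
    H V himg
  intro V₀ h
  subst h
  intro t
  obtain ⟨s, hs⟩ := h2 ((X.presheaf.map (eqToHom <| j.liftCoborder_preimage V').op).hom t)
  refine ⟨s, ?_⟩
  have h3 : (l.app V').hom s = (X.presheaf.map (eqToHom <| j.liftCoborder_preimage V').op).hom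
      ((j.app (W.ι ''ᵁ V')).hom s) := by
    rw [h1]; rfl
  rw [h3] at hs
  have hinj : Function.Injective
      (X.presheaf.map (eqToHom <| j.liftCoborder_preimage V').op).hom := by
    have : IsIso (X.presheaf.map (eqToHom <| j.liftCoborder_preimage V').op) := inferInstance
    exact (ConcreteCategory.bijective_of_isIso _).1
  exact hinj hs

theorem mem_coborderRange (x : X) : j x ∈ j.coborderRange := by
  have hl : j.liftCoborder ≫ j.coborderRange.ι = j := j.liftCoborder_ι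
  have : j x = j.coborderRange.ι (j.liftCoborder x) := by
    rw [← Scheme.Hom.comp_apply, hl]
  rw [this]
  exact (j.liftCoborder x).2

theorem exists_chart (x : X) (O : Y.Opens) (hx : j x ∈ O) :
    ∃ V : Y.Opens, IsAffineOpen V ∧ j x ∈ V ∧ V ≤ O ∧ IsAffineOpen (j ⁻¹ᵁ V) ∧
      Function.Surjective (j.app V).hom := by
  obtain ⟨V, hV, hxV, hVO⟩ := Opens.isBasis_iff_nbhd.mp Y.isBasis_affineOpens
    (show j x ∈ O ⊓ j.coborderRange from ⟨hx, mem_coborderRange j x⟩)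
  obtain ⟨h1, h2⟩ := of_le_coborder j hV (hVO.trans inf_le_right)
  exact ⟨V, hV, hxV, hVO.trans inf_le_left, h1, h2⟩

/-- charts of the target whose preimage is small -/
theorem exists_chart_pre (y : X) (O : X.Opens) (hy : y ∈ O) (O' : Y.Opens) (hy' : j y ∈ O') :
    ∃ U : Y.Opens, IsAffineOpen U ∧ j y ∈ U ∧ U ≤ O' ∧ U ≤ j.coborderRange ∧ j ⁻¹ᵁ U ≤ O := by
  obtain ⟨U₀, hU₀, hyU₀, hU₀le⟩ := Opens.isBasis_iff_nbhd.mp Y.isBasis_affineOpens
    (show j y ∈ O' ⊓ j.coborderRange from ⟨hy', mem_coborderRange j y⟩)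
  obtain ⟨hTaff, hsurj⟩ := of_le_coborder j hU₀ (hU₀le.trans inf_le_right)
  obtain ⟨hbar, hb1, hb2⟩ := hTaff.exists_basicOpen_le (V := O) ⟨y, hy⟩ hyU₀
  obtain ⟨h, rfl⟩ := hsurj hbar
  have hpre : j ⁻¹ᵁ Y.basicOpen h = X.basicOpen ((j.app U₀).hom h) := Scheme.preimage_basicOpen j h
  refine ⟨Y.basicOpen h, hU₀.basicOpen h, ?_, ?_, ?_, ?_⟩
  · have : y ∈ j ⁻¹ᵁ Y.basicOpen h := by rw [hpre]; exact hb2
    exact this
  · exact (Y.basicOpen_le h).trans (hU₀le.trans inf_le_left)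
  · exact (Y.basicOpen_le h).trans (hU₀le.trans inf_le_right)
  · rw [hpre]; exact hb1

theorem exists_chart₂ {Z X Y : Scheme.{u}} (p : X ⟶ Y) (i : Z ⟶ X) (j : Z ⟶ Y) [IsImmersion i]
    [IsImmersion j] (hij : i ≫ p = j) (z : Z) :
    ∃ (V : X.Opens) (W : Y.Opens), IsAffineOpen V ∧ IsAffineOpen W ∧ V ≤ i.coborderRange ∧
      W ≤ j.coborderRange ∧ V ≤ p ⁻¹ᵁ W ∧ i ⁻¹ᵁ V = j ⁻¹ᵁ W ∧ z ∈ i ⁻¹ᵁ V := by
  subst hij
  obtain ⟨W₀, hW₀, hzW₀, hW₀c⟩ := Opens.isBasis_iff_nbhd.mp Y.isBasis_affineOpens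
    (mem_coborderRange (i ≫ p) z)
  obtain ⟨hTaff, hsurj⟩ := of_le_coborder (i ≫ p) hW₀ hW₀c
  have hz1 : i z ∈ i.coborderRange ⊓ p ⁻¹ᵁ W₀ := ⟨mem_coborderRange i z, hzW₀⟩
  obtain ⟨V₀, hV₀, hzV₀, hV₀le⟩ := Opens.isBasis_iff_nbhd.mp X.isBasis_affineOpens hz1
  have hT₀le : i ⁻¹ᵁ V₀ ≤ (i ≫ p) ⁻¹ᵁ W₀ := fun x hx => (hV₀le hx).2
  obtain ⟨hbar, hb1, hb2⟩ := hTaff.exists_basicOpen_le (V := i ⁻¹ᵁ V₀) ⟨z, hzV₀⟩ hzW₀
  obtain ⟨h, rfl⟩ := hsurj hbar
  have e₀ : V₀ ≤ p ⁻¹ᵁ W₀ := hV₀le.trans inf_le_right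
  have hjW : (i ≫ p) ⁻¹ᵁ Y.basicOpen h = Z.basicOpen (((i ≫ p).app W₀).hom h) :=
    Scheme.preimage_basicOpen (i ≫ p) h
  have hV : X.basicOpen ((p.appLE W₀ V₀ e₀).hom h) = V₀ ⊓ p ⁻¹ᵁ Y.basicOpen h := by
    rw [Scheme.preimage_basicOpen p h]
    exact Scheme.basicOpen_res X ((p.app W₀).hom h) (homOfLE e₀).op
  refine ⟨X.basicOpen ((p.appLE W₀ V₀ e₀).hom h), Y.basicOpen h, hV₀.basicOpen _, hW₀.basicOpen _,
    ?_, ?_, ?_, ?_, ?_⟩
  · exact (X.basicOpen_le _).trans (hV₀le.trans inf_le_left)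
  · exact (Y.basicOpen_le _).trans hW₀c
  · rw [hV]; exact inf_le_right
  · rw [hV, hjW]
    apply le_antisymm
    · intro x hx
      have : x ∈ (i ≫ p) ⁻¹ᵁ Y.basicOpen h := hx.2
      rwa [hjW] at this
    · intro x hx
      refine ⟨hb1 hx, ?_⟩
      have : x ∈ (i ≫ p) ⁻¹ᵁ Y.basicOpen h := by rw [hjW]; exact hx
      exact this
  · rw [hV]
    refine ⟨hzV₀, ?_⟩
    have : z ∈ (i ≫ p) ⁻¹ᵁ Y.basicOpen h := by rw [hjW]; exact hb2
    exact this

end Groth.Agent.Lib.helper7.ImmChart
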