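import Groth.Agent.Lib.Helper7.K0Euler
import Groth.Agent.Lib.Helper7.K0API

/-!
# `K₀(P) ≃ K₀(D^b_P(C))` (helper7)
-/

set_option autoImplicit false
universe w v u

open CategoryTheory CategoryTheory.Limits KZero DerivedCategory

namespace Groth.Agent.Lib.helper7.K0Derived

open K0Euler K0API

variable {C : Type u} [Category.{v} C] [Abelian C] [HasDerivedCategory.{w} C]

theorem main_sub (P : ObjectProperty C) (hP : KerClosed P)
    (Q : ObjectProperty (DerivedCategory C)) (hQ : ∀ K, Q K ↔ InQ P K) :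
    ∃ φ : K0sub P ≃+ K0tr Q,
      ∀ X, P X → φ (clSub P X) = clTr Q ((singleFunctor C 0).obj X) := by
  have hc : IsAdditiveOn P (clSub P) := fun S hS h₁ h₂ h₃ => clSub_additive P S hS h₁ h₂ h₃
  have hd : IsTriAdditiveOn (InQ P) (clTr Q) := fun T hT h₁ h₂ h₃ =>
    clTr_additive Q T hT ((hQ _).2 h₁) ((hQ _).2 h₂) ((hQ _).2 h₃)
  obtain ⟨φ, hφ⟩ := exists_lift_K0sub P (fun F => clTr Q ((singleFunctor C 0).obj F))
    (fun S hS h₁ h₂ h₃ => hd _ hS.singleTriangle_distinguished (inQ_single hP 0 _ h₁)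
      (inQ_single hP 0 _ h₂) (inQ_single hP 0 _ h₃))
  obtain ⟨ψ, hψ⟩ := exists_lift_K0tr Q (chi (clSub P)) (fun T hT h₁ h₂ h₃ =>
    chi_additive hP hc T hT ((hQ _).1 h₁) ((hQ _).1 h₂) ((hQ _).1 h₃))
  have hb := bijective_of hP hc hd φ ψ hφ (fun K hK => hψ K ((hQ K).2 hK)) (closure_clSub P) (by
    rw [← closure_clTr Q]
    congr 1
    ext x
    simp only [hQ])
  exact ⟨AddEquiv.ofBijective φ hb, fun X hX => hφ X hX⟩

theorem main_K0 (Q : ObjectProperty (DerivedCategory C))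
    (hQ : ∀ K, Q K ↔ ∃ a b : ℤ, K.IsGE a ∧ K.IsLE b) :
    ∃ φ : K0 C ≃+ K0tr Q, ∀ X, φ (cl X) = clTr Q ((singleFunctor C 0).obj X) := by
  have hP : KerClosed (fun _ : C => True) := ⟨fun _ _ => trivial, fun _ _ => trivial,
    fun _ _ _ => trivial⟩
  have hQ' : ∀ K, Q K ↔ InQ (fun _ : C => True) K := fun K => by
    rw [hQ]
    exact ⟨fun h => ⟨fun _ => trivial, h⟩, fun h => h.2⟩
  have hc : IsAdditiveOn (fun _ : C => True) (cl (A := C)) := fun S hS _ _ _ => cl_additive S hS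
  have hd : IsTriAdditiveOn (InQ (fun _ : C => True)) (clTr Q) := fun T hT h₁ h₂ h₃ =>
    clTr_additive Q T hT ((hQ' _).2 h₁) ((hQ' _).2 h₂) ((hQ' _).2 h₃)
  obtain ⟨φ, hφ⟩ := exists_lift_K0 (fun F : C => clTr Q ((singleFunctor C 0).obj F))
    (fun S hS => hd _ hS.singleTriangle_distinguished (inQ_single hP 0 _ trivial)
      (inQ_single hP 0 _ trivial) (inQ_single hP 0 _ trivial))
  obtain ⟨ψ, hψ⟩ := exists_lift_K0tr Q (chi (cl (A := C))) (fun T hT h₁ h₂ h₃ =>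
    chi_additive hP hc T hT ((hQ' _).1 h₁) ((hQ' _).1 h₂) ((hQ' _).1 h₃))
  have hb := bijective_of hP hc hd φ ψ (fun F _ => hφ F) (fun K hK => hψ K ((hQ' K).2 hK)) (by
    rw [← closure_cl (A := C)]
    congr 1
    ext x
    simp) (by
    rw [← closure_clTr Q]
    congr 1
    ext x
    simp only [hQ'])
  exact ⟨AddEquiv.ofBijective φ hb, fun X => hφ X⟩

end Groth.Agent.Lib.helper7.K0Derived
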