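import Groth.Prelude.Def_KZero
import Mathlib.Algebra.Homology.DerivedCategory.TStructure
import Mathlib.Algebra.Homology.DerivedCategory.HomologySequence
import Mathlib.Algebra.Homology.DerivedCategory.SingleTriangle
import Mathlib.Algebra.Homology.DerivedCategory.FullyFaithful
import Mathlib.Algebra.BigOperators.Finprod
import Mathlib.Algebra.FiniteSupport.Basic
import Mathlib.Data.Int.Interval

/-!
# Euler characteristics in Grothendieck groups (helper7)

Part A: additive invariants `c : C → G` on an abelian category (additive on short exact sequences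
with terms in `P`) give Euler characteristics on the bounded derived category that are additive on
distinguished triangles.
-/

set_option autoImplicit false
universe w v u

open CategoryTheory CategoryTheory.Limits ZeroObject

namespace Groth.Agent.Lib.helper7.K0Euler

variable {C : Type u} [Category.{v} C] [Abelian C]

/-- The hypotheses on the class `P`: closed under isomorphisms, contains zero objects, closed under
kernels. -/
structure KerClosed (P : C → Prop) : Prop where
  iso : ∀ {X Y : C}, (X ≅ Y) → P X → P Y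
  zero : ∀ X : C, IsZero X → P X
  ker : ∀ {X Y : C} (f : X ⟶ Y), P X → P Y → P (kernel f)

/-- additivity of `c` on short exact sequences with terms in `P` -/
def IsAdditiveOn (P : C → Prop) {G : Type*} [AddCommGroup G] (c : C → G) : Prop :=
  ∀ S : ShortComplex C, S.ShortExact → P S.X₁ → P S.X₂ → P S.X₃ → c S.X₂ = c S.X₁ + c S.X₃

section Ab

variable {P : C → Prop} (hP : KerClosed P) {G : Type*} [AddCommGroup G] {c : C → G}
  (hc : IsAdditiveOn P c)

include hP hc

lemma c_zero (X : C) (hX : IsZero X) : c X = 0 := by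
  have h := hc (ShortComplex.mk (0 : X ⟶ X) (0 : X ⟶ X) (by simp))
    (ShortComplex.ShortExact.mk' (ShortComplex.exact_of_isZero_X₂ _ hX)
      ⟨fun _ _ _ => hX.eq_of_tgt _ _⟩ ⟨fun _ _ _ => hX.eq_of_src _ _⟩)
    (hP.zero X hX) (hP.zero X hX) (hP.zero X hX)
  simpa using h

lemma c_iso {X Y : C} (e : X ≅ Y) (hX : P X) : c X = c Y := by
  have hZ : IsZero (0 : C) := isZero_zero C
  have h := hc (ShortComplex.mk (0 : (0 : C) ⟶ X) e.hom (by simp))
    (ShortComplex.ShortExact.mk' ?_ ⟨fun _ _ _ => hZ.eq_of_tgt _ _⟩ inferInstance)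
    (hP.zero _ hZ) hX (hP.iso e hX)
  · simpa [c_zero hP hc _ hZ] using h
  · exact ShortComplex.exact_of_f_is_kernel _ (by
      refine KernelFork.IsLimit.ofι _ _ (fun g hg => 0) (fun g hg => ?_) (fun g hg b hb => hZ.eq_of_tgt _ _)
      dsimp at hg ⊢
      rw [zero_comp]
      rw [← cancel_mono e.hom, hg, zero_comp])

/-- For an exact sequence `X₁ → X₂ → X₃` of objects in `P`, `c X₁ = c (ker f) + c (ker g)`. -/
lemma c_exact (S : ShortComplex C) (hS : S.Exact) (h₁ : P S.X₁) (h₂ : P S.X₂) (h₃ : P S.X₃) :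
    c S.X₁ = c (kernel S.f) + c (kernel S.g) := by
  have := (S.exact_iff_epi_kernel_lift).1 hS
  refine hc (ShortComplex.mk (kernel.ι S.f) (kernel.lift S.g S.f S.zero) ?_)
    (ShortComplex.ShortExact.mk' ?_ inferInstance this) (hP.ker _ h₁ h₂) h₁ (hP.ker _ h₂ h₃)
  · rw [← cancel_mono (kernel.ι S.g)]; simp
  · exact ShortComplex.exact_of_f_is_kernel _
      (isKernelOfComp (f := kernel.lift S.g S.f S.zero) (kernel.ι S.g) S.f (kernelIsKernel S.f) _ (by simp))

end Ab


section Derived

variable [HasDerivedCategory.{w} C]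

open DerivedCategory Pretriangulated

/-- The Euler characteristic of an object of the derived category with values in `G`. -/
noncomputable def chi {G : Type*} [AddCommGroup G] (c : C → G) (K : DerivedCategory C) : G :=
  ∑ᶠ n : ℤ, ((n.negOnePow : ℤˣ) : ℤ) • c ((homologyFunctor C n).obj K)

/-- Bounded objects of the derived category whose cohomology objects lie in `P`. -/
def InQ (P : C → Prop) (K : DerivedCategory C) : Prop :=
  (∀ i : ℤ, P ((homologyFunctor C i).obj K)) ∧ ∃ a b : ℤ, K.IsGE a ∧ K.IsLE b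

variable {P : C → Prop} (hP : KerClosed P) {G : Type*} [AddCommGroup G] {c : C → G}
  (hc : IsAdditiveOn P c)

include hP hc

lemma support_finite (K : DerivedCategory C) (hK : InQ P K) (k : ℤ → C)
    (hk : ∀ n, IsZero ((homologyFunctor C n).obj K) → IsZero (k n)) :
    Function.HasFiniteSupport (fun n : ℤ => ((n.negOnePow : ℤˣ) : ℤ) • c (k n)) := by
  obtain ⟨-, a, b, ha, hb⟩ := hK
  refine Set.Finite.subset (Set.finite_Icc a b) ?_
  intro n hn
  by_contra hn'
  apply hn
  have : IsZero ((homologyFunctor C n).obj K) := by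
    by_cases h : n < a
    · exact K.isZero_of_isGE a n h
    · have : b < n := by
        by_contra h'
        exact hn' ⟨not_lt.1 h, not_lt.1 h'⟩
      exact K.isZero_of_isLE b n this
  simp [c_zero hP hc _ (hk n this)]

theorem chi_additive (T : Triangle (DerivedCategory C)) (hT : T ∈ distTriang _)
    (h₁ : InQ P T.obj₁) (h₂ : InQ P T.obj₂) (h₃ : InQ P T.obj₃) :
    chi c T.obj₂ = chi c T.obj₁ + chi c T.obj₃ := by
  obtain ⟨k, hk⟩ : ∃ k : ℤ → C, k = fun n => kernel ((homologyFunctor C n).map T.mor₁) := ⟨_, rfl⟩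
  have key : ∀ n : ℤ, c ((homologyFunctor C n).obj T.obj₂) =
      c ((homologyFunctor C n).obj T.obj₁) + c ((homologyFunctor C n).obj T.obj₃)
        - c (k n) - c (k (n + 1)) := by
    intro n
    have e1 := c_exact hP hc _ (HomologySequence.exact₂ T hT n) (h₁.1 n) (h₂.1 n) (h₃.1 n)
    have e2 := c_exact hP hc _ (HomologySequence.exact₃ T hT n (n + 1) rfl) (h₂.1 n) (h₃.1 n)
      (h₁.1 (n + 1))
    have e3 := c_exact hP hc _ (HomologySequence.exact₁ T hT n (n + 1) rfl) (h₃.1 n)
      (h₁.1 (n + 1)) (h₂.1 (n + 1))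
    dsimp at e1 e2 e3
    subst hk
    dsimp
    rw [e1, e2, e3]
    abel
  have hk0 : ∀ n, IsZero ((homologyFunctor C n).obj T.obj₁) → IsZero (k n) := by
    intro n hn
    subst hk
    exact IsZero.of_mono (kernel.ι _) hn
  have f1 := support_finite hP hc T.obj₁ h₁ (fun n => (homologyFunctor C n).obj T.obj₁)
    (fun n h => h)
  have f3 := support_finite hP hc T.obj₃ h₃ (fun n => (homologyFunctor C n).obj T.obj₃)
    (fun n h => h)
  have fk := support_finite hP hc T.obj₁ h₁ k hk0
  have fk' : Function.HasFiniteSupport (fun n : ℤ =>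
      (((n + 1).negOnePow : ℤˣ) : ℤ) • c (k (n + 1))) := by
    have := Set.Finite.preimage ((Equiv.addRight (1 : ℤ)).injective.injOn) fk
    exact this
  have key2 : ∀ n : ℤ, ((n.negOnePow : ℤˣ) : ℤ) • c ((homologyFunctor C n).obj T.obj₂) =
      ((n.negOnePow : ℤˣ) : ℤ) • c ((homologyFunctor C n).obj T.obj₁)
        + ((n.negOnePow : ℤˣ) : ℤ) • c ((homologyFunctor C n).obj T.obj₃)
        - ((n.negOnePow : ℤˣ) : ℤ) • c (k n)
        + (((n + 1).negOnePow : ℤˣ) : ℤ) • c (k (n + 1)) := by
    intro n
    rw [key n, Int.negOnePow_succ]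
    simp only [smul_sub, smul_add, Units.val_neg, neg_smul]
    abel
  unfold chi
  simp only [key2]
  rw [finsum_add_distrib ((f1.fun_add f3).fun_sub fk) fk', finsum_sub_distrib (f1.fun_add f3) fk,
    finsum_add_distrib f1 f3]
  have := finsum_comp_equiv (Equiv.addRight (1 : ℤ))
    (f := fun n : ℤ => ((n.negOnePow : ℤˣ) : ℤ) • c (k n))
  simp only [Equiv.coe_addRight] at this
  rw [this]
  abel

omit hP hc in
lemma isZero_homology_single (n i : ℤ) (hi : i ≠ n) (F : C) :
    IsZero ((homologyFunctor C i).obj ((singleFunctor C n).obj F)) := by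
  rcases lt_or_gt_of_ne hi with h | h
  · exact isZero_of_isGE _ n i h
  · exact isZero_of_isLE _ n i h

omit hc in
lemma inQ_single (n : ℤ) (F : C) (hF : P F) : InQ P ((singleFunctor C n).obj F) := by
  refine ⟨fun i => ?_, n, n, inferInstance, inferInstance⟩
  by_cases hi : i = n
  · subst hi
    exact hP.iso ((singleFunctorCompHomologyFunctorIso C i).app F).symm hF
  · exact hP.zero _ (isZero_homology_single n i hi F)

lemma chi_single (F : C) (hF : P F) : chi c ((singleFunctor C 0).obj F) = c F := by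
  unfold chi
  rw [finsum_eq_single _ (0 : ℤ)]
  · rw [Int.negOnePow_zero]
    simp only [Units.val_one, one_smul]
    exact (c_iso hP hc ((singleFunctorCompHomologyFunctorIso C 0).app F).symm hF).symm
  · intro i hi
    rw [c_zero hP hc _ (isZero_homology_single 0 i hi F), smul_zero]

end Derived

section PartB

variable [HasDerivedCategory.{w} C]

open DerivedCategory Pretriangulated

/-- additivity of `d` on distinguished triangles with vertices in `Q` -/
def IsTriAdditiveOn (Q : DerivedCategory C → Prop) {H : Type*} [AddCommGroup H]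
    (d : DerivedCategory C → H) : Prop :=
  ∀ T : Triangle (DerivedCategory C), T ∈ distTriang _ → Q T.obj₁ → Q T.obj₂ → Q T.obj₃ →
    d T.obj₂ = d T.obj₁ + d T.obj₃

variable {P : C → Prop} (hP : KerClosed P)

include hP

lemma inQ_of_iso {K L : DerivedCategory C} (e : K ≅ L) (hK : InQ P K) : InQ P L := by
  obtain ⟨h, a, b, ha, hb⟩ := hK
  exact ⟨fun i => hP.iso ((homologyFunctor C i).mapIso e) (h i), a, b,
    TStructure.t.isGE_of_iso e a, TStructure.t.isLE_of_iso e b⟩

lemma inQ_of_isZero {K : DerivedCategory C} (hK : IsZero K) : InQ P K := by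
  refine ⟨fun i => hP.zero _ ((homologyFunctor C i).map_isZero hK), 0, 0, ?_, ?_⟩
  · rw [isGE_iff]
    intro i _
    exact (homologyFunctor C i).map_isZero hK
  · rw [isLE_iff]
    intro i _
    exact (homologyFunctor C i).map_isZero hK

variable {H : Type*} [AddCommGroup H] {d : DerivedCategory C → H}
  (hd : IsTriAdditiveOn (InQ P) d)

include hd

lemma d_zero' : d (0 : DerivedCategory C) = 0 := by
  have h0 : InQ P (0 : DerivedCategory C) := inQ_of_isZero hP (isZero_zero _)
  have := hd _ (contractible_distinguished (0 : DerivedCategory C)) h0 h0 h0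
  simpa using this

set_option backward.defeqAttrib.useBackward true in
lemma d_iso {K L : DerivedCategory C} (e : K ≅ L) (hK : InQ P K) : d K = d L := by
  have h0 : InQ P (0 : DerivedCategory C) := inQ_of_isZero hP (isZero_zero _)
  have hT : Triangle.mk e.hom (0 : L ⟶ 0) 0 ∈ distTriang (DerivedCategory C) := by
    refine isomorphic_distinguished _ (contractible_distinguished K) _ ?_
    exact Triangle.isoMk _ _ (Iso.refl _) e.symm (Iso.refl _) (by dsimp; simp) (by dsimp; simp) (by dsimp; simp)
  have := hd _ hT hK (inQ_of_iso hP e hK) h0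
  simpa [d_zero' hP hd] using this.symm

lemma d_zero {K : DerivedCategory C} (hK : IsZero K) : d K = 0 := by
  rw [d_iso hP hd (hK.isoZero) (inQ_of_isZero hP hK), d_zero' hP hd]

set_option backward.defeqAttrib.useBackward true in
lemma d_single_succ (F : C) (hF : P F) (a a' : ℤ) (h : 1 + a = a') :
    d ((singleFunctor C a).obj F) = - d ((singleFunctor C a').obj F) := by
  have h0 : InQ P (0 : DerivedCategory C) := inQ_of_isZero hP (isZero_zero _)
  have e : ((singleFunctor C a').obj F)⟦(1 : ℤ)⟧ ≅ (singleFunctor C a).obj F :=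
    ((singleFunctors C).shiftIso 1 a a' h).app F
  have hQ' := inQ_single hP a' F hF
  have hQ := inQ_single hP a F hF
  have := hd _ (contractible_distinguished₂ ((singleFunctor C a').obj F)) hQ'
    h0 (inQ_of_iso hP e.symm hQ)
  dsimp at this
  rw [d_zero' hP hd, d_iso hP hd e (inQ_of_iso hP e.symm hQ)] at this
  exact eq_neg_of_add_eq_zero_right this.symm

/-- The subgroup generated by the classes of objects of `P` placed in degree `0`. -/
def sgp (P : C → Prop) {H : Type*} [AddCommGroup H] (d : DerivedCategory C → H) : AddSubgroup H :=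
  AddSubgroup.closure {x | ∃ F : C, P F ∧ x = d ((singleFunctor C 0).obj F)}

lemma d_single_mem (F : C) (hF : P F) (n : ℤ) : d ((singleFunctor C n).obj F) ∈ sgp P d := by
  induction n using Int.induction_on with
  | zero => exact AddSubgroup.subset_closure ⟨F, hF, rfl⟩
  | succ i ih =>
    have := d_single_succ hP hd F hF (i : ℤ) (i + 1) (by ring)
    rw [this] at ih
    simpa using (sgp P d).neg_mem ih
  | pred i ih =>
    have := d_single_succ hP hd F hF (-(i : ℤ) - 1) (-(i : ℤ)) (by ring)
    rw [this]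
    exact (sgp P d).neg_mem ih

omit hP hd in
lemma isIso_homology_mor₁ (T : Triangle (DerivedCategory C)) (hT : T ∈ distTriang _) (i j : ℤ)
    (hij : j + 1 = i)
    (h0 : IsZero ((homologyFunctor C j).obj T.obj₃))
    (h1 : IsZero ((homologyFunctor C i).obj T.obj₃)) :
    IsIso ((homologyFunctor C i).map T.mor₁) := by
  have := (HomologySequence.mono_homologyMap_mor₁_iff T hT j i hij).2 (h0.eq_of_src _ _)
  have := (HomologySequence.epi_homologyMap_mor₁_iff T hT i).2 (h1.eq_of_tgt _ _)
  exact isIso_of_mono_of_epi _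

omit hP hd in
lemma isIso_homology_mor₂ (T : Triangle (DerivedCategory C)) (hT : T ∈ distTriang _) (i j : ℤ)
    (hij : i + 1 = j)
    (h0 : IsZero ((homologyFunctor C i).obj T.obj₁))
    (h1 : IsZero ((homologyFunctor C j).obj T.obj₁)) :
    IsIso ((homologyFunctor C i).map T.mor₂) := by
  have := (HomologySequence.mono_homologyMap_mor₂_iff T hT i).2 (h0.eq_of_src _ _)
  have := (HomologySequence.epi_homologyMap_mor₂_iff T hT i j hij).2 (h1.eq_of_tgt _ _)
  exact isIso_of_mono_of_epi _

omit hd in
lemma trunc_step (K : DerivedCategory C) (hK : InQ P K) (a b : ℤ) (ha : K.IsGE a) (hb : K.IsLE b) :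
    ∃ (X Y : DerivedCategory C) (f : X ⟶ K) (g : K ⟶ Y) (h : Y ⟶ X⟦(1 : ℤ)⟧),
      Triangle.mk f g h ∈ distTriang _ ∧ InQ P X ∧ X.IsGE a ∧ X.IsLE (b - 1) ∧
        InQ P Y ∧ Y.IsGE b ∧ Y.IsLE b := by
  obtain ⟨X, Y, hX, hY, f, g, h, hT⟩ := TStructure.t.exists_triangle K (b - 1) b (by omega)
  have hXle : X.IsLE (b - 1) := ⟨hX⟩
  have hYge : Y.IsGE b := ⟨hY⟩
  have hX0 : ∀ i : ℤ, b ≤ i → IsZero ((homologyFunctor C i).obj X) :=
    fun i hi => X.isZero_of_isLE (b - 1) i (by omega)
  have hY0 : ∀ i : ℤ, i < b → IsZero ((homologyFunctor C i).obj Y) :=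
    fun i hi => Y.isZero_of_isGE b i hi
  have hXiso : ∀ i : ℤ, i < b → IsIso ((homologyFunctor C i).map f) := fun i hi =>
    isIso_homology_mor₁ (Triangle.mk f g h) hT i (i - 1) (by omega) (hY0 _ (by omega)) (hY0 _ hi)
  have hYiso : ∀ i : ℤ, b ≤ i → IsIso ((homologyFunctor C i).map g) := fun i hi =>
    isIso_homology_mor₂ (Triangle.mk f g h) hT i (i + 1) rfl (hX0 _ hi) (hX0 _ (by omega))
  have hXge : X.IsGE a := by
    rw [isGE_iff]
    intro i hi
    by_cases hib : i < b
    · have := hXiso i hib
      exact (K.isZero_of_isGE a i hi).of_iso (asIso ((homologyFunctor C i).map f))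
    · exact hX0 i (not_lt.1 hib)
  have hYle : Y.IsLE b := by
    rw [isLE_iff]
    intro i hi
    have := hYiso i hi.le
    exact (K.isZero_of_isLE b i hi).of_iso (asIso ((homologyFunctor C i).map g)).symm
  refine ⟨X, Y, f, g, h, hT, ⟨fun i => ?_, a, b - 1, hXge, hXle⟩, hXge, hXle,
    ⟨fun i => ?_, b, b, hYge, hYle⟩, hYge, hYle⟩
  · by_cases hib : i < b
    · have := hXiso i hib
      exact hP.iso (asIso ((homologyFunctor C i).map f)).symm (hK.1 i)
    · exact hP.zero _ (hX0 i (not_lt.1 hib))
  · by_cases hib : i < b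
    · exact hP.zero _ (hY0 i hib)
    · have := hYiso i (not_lt.1 hib)
      exact hP.iso (asIso ((homologyFunctor C i).map g)) (hK.1 i)

set_option backward.defeqAttrib.useBackward true in
theorem d_mem_sgp (K : DerivedCategory C) (hK : InQ P K) : d K ∈ sgp P d := by
  obtain ⟨a, b, ha, hb⟩ := hK.2
  suffices H : ∀ (n : ℕ) (K : DerivedCategory C) (b : ℤ), InQ P K → K.IsGE a → K.IsLE b →
      b - a + 1 ≤ n → d K ∈ sgp P d from H (b - a + 1).toNat K b hK ha hb (Int.self_le_toNat _)
  intro n
  induction n with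
  | zero =>
    intro K b hK ha hb hn
    have : IsZero K := TStructure.t.isZero K b a (by omega)
    rw [d_zero hP hd this]
    exact (sgp P d).zero_mem
  | succ n ih =>
    intro K b hK ha hb hn
    by_cases hba : b < a
    · have : IsZero K := TStructure.t.isZero K b a hba
      rw [d_zero hP hd this]
      exact (sgp P d).zero_mem
    · obtain ⟨X, Y, f, g, h, hT, hXQ, hXge, hXle, hYQ, hYge, hYle⟩ := trunc_step hP K hK a b ha hb
      have e1 := hd _ hT hXQ hK hYQ
      dsimp at e1
      rw [e1]
      refine (sgp P d).add_mem (ih X (b - 1) hXQ hXge hXle (by push_cast at hn ⊢; omega)) ?_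
      obtain ⟨F, ⟨e⟩⟩ := exists_iso_singleFunctor_obj_of_isGE_of_isLE Y b
      have hF : P F := hP.iso ((homologyFunctor C b).mapIso e ≪≫
        (singleFunctorCompHomologyFunctorIso C b).app F) (hYQ.1 b)
      rw [d_iso hP hd e hYQ]
      exact d_single_mem hP hd F hF b

end PartB

section Bij

variable [HasDerivedCategory.{w} C]

open DerivedCategory Pretriangulated

theorem bijective_of {P : C → Prop} (hP : KerClosed P) {G H : Type*} [AddCommGroup G]
    [AddCommGroup H] {c : C → G} {d : DerivedCategory C → H} (hc : IsAdditiveOn P c)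
    (hd : IsTriAdditiveOn (InQ P) d) (φ : G →+ H) (ψ : H →+ G)
    (hφ : ∀ F, P F → φ (c F) = d ((singleFunctor C 0).obj F))
    (hψ : ∀ K, InQ P K → ψ (d K) = chi c K)
    (hG : AddSubgroup.closure {x | ∃ F, P F ∧ x = c F} = ⊤)
    (hH : AddSubgroup.closure {x | ∃ K, InQ P K ∧ x = d K} = ⊤) : Function.Bijective φ := by
  constructor
  · have h : ψ.comp φ = AddMonoidHom.id G := by
      refine AddMonoidHom.eq_of_eqOn_dense hG ?_
      rintro x ⟨F, hF, rfl⟩
      simp only [AddMonoidHom.coe_comp, Function.comp_apply, AddMonoidHom.id_apply]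
      rw [hφ F hF, hψ _ (inQ_single hP 0 F hF), chi_single hP hc F hF]
    intro x y hxy
    have := congrArg ψ hxy
    simpa [← AddMonoidHom.comp_apply, h] using this
  · rw [← AddMonoidHom.range_eq_top, eq_top_iff, ← hH, AddSubgroup.closure_le]
    rintro x ⟨K, hK, rfl⟩
    have h1 : sgp P d ≤ φ.range := by
      refine (AddSubgroup.closure_le _).2 ?_
      rintro y ⟨F, hF, rfl⟩
      exact ⟨c F, hφ F hF⟩
    exact h1 (d_mem_sgp hP hd K hK)

end Bij

end Groth.Agent.Lib.helper7.K0Euler
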