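import Mathlib
import Groth.Agent.Lib.Helper7.GenComp
import Groth.Agent.Lib.Helper7.K0API
import Groth.Agent.Lib.Helper8.DevK0b
import Groth.Agent.Lib.Helper8.DevSupp
import Groth.Agent.Lib.Helper18.DegCalc
import Groth.Agent.Lib.Helper16.FLFTensor
import Groth.Agent.Lib.Helper7.SnapperNewton

/-!
# `K'_0` of a Noetherian scheme: tensoring with a locally free module of rank `e` is multiplication by `e`
modulo classes of smaller support (helper7)
-/

set_option autoImplicit false
set_option linter.unusedSectionVars false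
set_option linter.style.haveILetI false
universe u

open CategoryTheory CategoryTheory.Limits AlgebraicGeometry Opposite TopologicalSpace

namespace Groth.Agent.Lib.helper7.K0Rank

open Groth.Agent.Lib.Lead.ModTensor Groth.Agent.Lib.helper11.IsoLocus Groth.Agent.Lib.helper7.Growth
open Scheme.Modules Groth.Agent.Lib.helper7 Groth.Agent.Lib.helper12.PullTensor
open Groth.Agent.Lib.helper7.SnapperMain

variable (X : Scheme.{u})

/-- the coherent modules -/
abbrev Q : ObjectProperty X.Modules := fun M : X.Modules => Coh.IsCoh M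

variable {X}

/-- the class of a module in `K'_0(X)` -/
noncomputable abbrev cl (M : X.Modules) : KZero.K0sub (Q X) := KZero.clSub (Q X) M

variable (X) in
/-- the subgroup generated by classes with support of dimension `< r` -/
noncomputable def Sr (r : ℕ) : AddSubgroup (KZero.K0sub (Q X)) :=
  AddSubgroup.closure {x : KZero.K0sub (Q X) |
    ∃ G : X.Modules, Coh.IsCoh G ∧ topologicalKrullDim (CohB1.support G) < r ∧ x = cl G}

theorem cl_mem_Sr {r : ℕ} {G : X.Modules} (hG : Coh.IsCoh G)
    (hdim : topologicalKrullDim (CohB1.support G) < r) : cl G ∈ Sr X r :=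
  AddSubgroup.subset_closure ⟨G, hG, hdim, rfl⟩

theorem cl_iso [IsLocallyNoetherian X] {M N : X.Modules} (e : M ≅ N) : cl M = cl N :=
  Groth.Agent.Lib.helper8.Dev.clSub_iso (Q X) (fun _ hN => CohKer.isCoh_of_isZero hN)
    (fun _ _ e h => CohKer.isCoh_of_iso e h) e

theorem cl_ses (S : ShortComplex X.Modules) (hS : S.ShortExact) (h₁ : Coh.IsCoh S.X₁)
    (h₂ : Coh.IsCoh S.X₂) (h₃ : Coh.IsCoh S.X₃) : cl S.X₂ = cl S.X₁ + cl S.X₃ :=
  Groth.Agent.Lib.helper8.Dev.clSub_rel (Q X) S hS h₁ h₂ h₃

variable [IsNoetherian X]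

/-- a morphism of coherent modules with supports in an irreducible closed set `C` of dimension `≤ r` which
is an isomorphism on an open meeting `C` does not change the class modulo `Sr` -/
theorem cl_sub_mem_Sr {A B : X.Modules} (hA : Coh.IsCoh A) (hB : Coh.IsCoh B) (f : A ⟶ B)
    {C : Set X} (hCcl : IsClosed C) (hCirr : IsIrreducible C) {r : ℕ}
    (hCdim : topologicalKrullDim ↥C ≤ r) (hAC : CohB1.support A ⊆ C) (hBC : CohB1.support B ⊆ C)
    (V : X.Opens) (hV : V ≤ isoLocus f) (hVC : ((V : Set X) ∩ C).Nonempty) :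
    cl A - cl B ∈ Sr X r := by
  have hK : Coh.IsCoh (kernel f) := CohKer.isCoh_kernel hA hB f
  have hI : Coh.IsCoh (Abelian.coimage f) := CohKer.isCoh_cokernel hK hA (kernel.ι f)
  have hS1 := Groth.Agent.Lib.helper8.Dev.shortExact_cokernel (kernel.ι f)
  have hfac : Abelian.coimage.π f ≫ Abelian.factorThruCoimage f = f := Abelian.coimage.fac f
  obtain ⟨-, hVι⟩ := le_isoLocus_of_comp_mono (Abelian.coimage.π f) (Abelian.factorThruCoimage f) V
    (by rw [hfac]; exact hV)
  have hS2 := Groth.Agent.Lib.helper8.Dev.shortExact_cokernel (Abelian.factorThruCoimage f)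
  have hQ : Coh.IsCoh (cokernel (Abelian.factorThruCoimage f)) := CohKer.isCoh_cokernel hI hB _
  have e1 := cl_ses _ hS1 hK hA hI
  have e2 := cl_ses _ hS2 hI hB hQ
  -- the dimension of `C \ V`
  have hCV : topologicalKrullDim ↥(C \ (V : Set X)) < r := by
    have hcl : IsClosed (C \ (V : Set X)) := hCcl.sdiff V.isOpen
    have hne : C \ (V : Set X) ≠ C := by
      intro h
      obtain ⟨x, hxV, hxC⟩ := hVC
      have : x ∈ C \ (V : Set X) := by rw [h]; exact hxC
      exact this.2 hxV
    have h1 := Groth.Agent.Lib.helper8.DimLt.topologicalKrullDim_add_one_le Set.sdiff_subset hcl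
      hCirr hne
    have h2 : topologicalKrullDim ↥C < ((r + 1 : ℕ) : WithBot ℕ∞) :=
      lt_of_le_of_lt hCdim (by exact_mod_cast Nat.lt_succ_self r)
    exact dim_lt_of_add_one_le h1 h2
  have hKdim : topologicalKrullDim (CohB1.support (kernel f)) < r := by
    refine lt_of_le_of_lt (Groth.Agent.Lib.helper8.DimLt.topologicalKrullDim_le_of_subset ?_) hCV
    intro x hx
    refine ⟨hAC (Groth.Agent.Lib.helper8.Dev.support_subset_of_mono (kernel.ι f) hK hA hx), ?_⟩
    intro hxV
    exact support_kernel_subset f hx (hV hxV)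
  have hQdim : topologicalKrullDim
      (CohB1.support (cokernel (Abelian.factorThruCoimage f))) < r := by
    refine lt_of_le_of_lt (Groth.Agent.Lib.helper8.DimLt.topologicalKrullDim_le_of_subset ?_) hCV
    intro x hx
    refine ⟨hBC (Groth.Agent.Lib.helper8.Dev.support_subset_of_epi
      (cokernel.π (Abelian.factorThruCoimage f)) hB hQ hx), ?_⟩
    intro hxV
    exact support_cokernel_subset _ hx (hVι hxV)
  have h3 : cl A - cl B = cl (kernel f) - cl (cokernel (Abelian.factorThruCoimage f)) := by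
    simp only [] at e1 e2
    rw [e1, e2]
    abel
  rw [h3]
  exact AddSubgroup.sub_mem _ (cl_mem_Sr hK hKdim) (cl_mem_Sr hQ hQdim)

/-! ### direct sums of copies of a module -/

section Copies

variable (M : X.Modules)

/-- `n` copies of `M` -/
noncomputable abbrev copies (n : ℕ) : X.Modules := ∐ fun _ : Fin n => M

/-- the inclusion of the last copy -/
noncomputable def copiesι (n : ℕ) : M ⟶ copies M (n + 1) :=
  Sigma.ι (fun _ : Fin (n + 1) => M) (Fin.last n)

/-- the projection forgetting the last copy -/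
noncomputable def copiesπ (n : ℕ) : copies M (n + 1) ⟶ copies M n :=
  Sigma.desc (fun i : Fin (n + 1) =>
    Fin.lastCases (motive := fun _ => M ⟶ copies M n) 0
      (fun j => Sigma.ι (fun _ : Fin n => M) j) i)

/-- the retraction onto the last copy -/
noncomputable def copiesr (n : ℕ) : copies M (n + 1) ⟶ M :=
  Sigma.desc (fun i : Fin (n + 1) =>
    Fin.lastCases (motive := fun _ => M ⟶ M) (𝟙 M) (fun _ => 0) i)

/-- the section of the projection -/
noncomputable def copiess (n : ℕ) : copies M n ⟶ copies M (n + 1) :=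
  Sigma.desc (fun j : Fin n => Sigma.ι (fun _ : Fin (n + 1) => M) j.castSucc)

theorem copiesι_π (n : ℕ) : copiesι M n ≫ copiesπ M n = 0 := by
  unfold copiesι copiesπ
  rw [Sigma.ι_desc, Fin.lastCases_last]

/-- the split short exact sequence `M → M^{n+1} → M^n` -/
noncomputable def copiesSplitting (n : ℕ) :
    (ShortComplex.mk (copiesι M n) (copiesπ M n) (copiesι_π M n)).Splitting where
  r := copiesr M n
  s := copiess M n
  f_r := by
    show copiesι M n ≫ copiesr M n = 𝟙 M
    unfold copiesι copiesr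
    rw [Sigma.ι_desc, Fin.lastCases_last]
  s_g := by
    show copiess M n ≫ copiesπ M n = 𝟙 _
    apply Sigma.hom_ext
    intro j
    unfold copiess copiesπ
    rw [Sigma.ι_desc_assoc, Sigma.ι_desc, Fin.lastCases_castSucc, Category.comp_id]
  id := by
    show copiesr M n ≫ copiesι M n + copiesπ M n ≫ copiess M n = 𝟙 _
    apply Sigma.hom_ext
    intro i
    rw [Preadditive.comp_add, Category.comp_id]
    unfold copiesr copiesι copiesπ copiess
    rw [Sigma.ι_desc_assoc, Sigma.ι_desc_assoc]
    induction i using Fin.lastCases with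
    | last => rw [Fin.lastCases_last, Fin.lastCases_last, Category.id_comp, zero_comp, add_zero]
    | cast j =>
      rw [Fin.lastCases_castSucc, Fin.lastCases_castSucc, zero_comp, zero_add, Sigma.ι_desc]

theorem isZero_copies_zero : IsZero (copies M 0) := by
  rw [IsZero.iff_id_eq_zero]
  apply Sigma.hom_ext
  intro j
  exact j.elim0

theorem isCoh_copies (hM : Coh.IsCoh M) : ∀ n : ℕ, Coh.IsCoh (copies M n)
  | 0 => CohKer.isCoh_of_isZero (isZero_copies_zero M)
  | n + 1 =>
    Groth.Agent.Lib.Lead.HilbPos.isCoh_of_extension _ (copiesSplitting M n).shortExact hM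
      (isCoh_copies hM n)

theorem cl_copies (hM : Coh.IsCoh M) : ∀ n : ℕ, cl (copies M n) = n • cl M
  | 0 => by
    rw [zero_smul]
    exact Groth.Agent.Lib.helper8.Dev.clSub_zero (Q X) (fun _ hN => CohKer.isCoh_of_isZero hN) _
      (isZero_copies_zero M)
  | n + 1 => by
    have h := cl_ses _ (copiesSplitting M n).shortExact hM (isCoh_copies M hM (n + 1))
      (isCoh_copies M hM n)
    simp only [] at h
    rw [h, cl_copies hM n, succ_nsmul, add_comm]

open Groth.Agent.Lib.helper16.FLFTensor in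
/-- `M ⊗ O^n ≅ M^n` -/
noncomputable def tensorFreeIso (n : ℕ) :
    CohB1.tensorMod M (FlatMod.freeMod X n) ≅ copies M n :=
  haveI := T_pres M
  PreservesCoproduct.iso (T M) (fun _ : Fin n => Coh.structureModule X) ≪≫
    Sigma.mapIso (fun _ => Groth.Agent.Lib.Lead.ModTensor.rightUnitor M)

theorem cl_tensor_free (hM : Coh.IsCoh M) (n : ℕ) :
    cl (CohB1.tensorMod M (FlatMod.freeMod X n)) = n • cl M := by
  rw [cl_iso (tensorFreeIso M n), cl_copies M hM n]

end Copies

/-! ### the main theorem -/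

section Main

variable {E : X.Modules} {e : ℕ} (hE : FlatMod.IsFinLocFreeOfRank e E)

include hE in
/-- the integral case -/
theorem delta_OC_mem (C : Closeds X) (hCirr : IsIrreducible (C : Set X)) {r : ℕ}
    (hCdim : topologicalKrullDim ↥(C : Set X) ≤ r) :
    cl (CohB1.tensorMod (Groth.Agent.Lib.helper8.Dev.OC C) E) -
      e • cl (Groth.Agent.Lib.helper8.Dev.OC C) ∈ Sr X r := by
  set M := Groth.Agent.Lib.helper8.Dev.OC C with hMdef
  have hM : Coh.IsCoh M := Groth.Agent.Lib.helper8.Dev.isCoh_OC C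
  have hsuppM : CohB1.support M = (C : Set X) := Groth.Agent.Lib.helper8.Dev.support_OC C
  have hEc : Coh.IsCoh E := Groth.Agent.Lib.Lead.RankAdd.isCoh_of_isFinLocFreeOfRank hE
  obtain ⟨x, hxC⟩ := hCirr.nonempty
  obtain ⟨U, hxU, ⟨ε⟩⟩ := hE x
  obtain ⟨N, a, b, hN, haU, hbU⟩ := exists_comparison hEc U e ε
  have hO : Coh.IsCoh (FlatMod.freeMod X e) :=
    Groth.Agent.Lib.Lead.RankAdd.isCoh_of_isFinLocFreeOfRank
      (Groth.Agent.Lib.helper16.FLF.isFinLocFreeOfRank_freeMod X e)
  have hid : isoLocus (𝟙 M) = ⊤ := (isoLocus_eq_top_iff _).mpr inferInstance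
  have h1U : U ≤ isoLocus (tensorMap (𝟙 M) a) := by
    refine le_trans ?_ (isoLocus_inf_le_tensorMap (𝟙 M) a)
    rw [hid]
    exact le_inf le_top haU
  have h2U : U ≤ isoLocus (tensorMap (𝟙 M) b) := by
    refine le_trans ?_ (isoLocus_inf_le_tensorMap (𝟙 M) b)
    rw [hid]
    exact le_inf le_top hbU
  have hsub : ∀ {A : X.Modules}, Coh.IsCoh A →
      CohB1.support (CohB1.tensorMod M A) ⊆ (C : Set X) := fun hA =>
    hsuppM ▸ Groth.Agent.Lib.helper7.SnapperNewton.support_tensorMod_subset hM hA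
  have hUC : ((U : Set X) ∩ (C : Set X)).Nonempty := ⟨x, hxU, hxC⟩
  have k1 := cl_sub_mem_Sr (Groth.Agent.Lib.Helper18.DegCalc.isCoh_tensorMod hM hEc)
    (Groth.Agent.Lib.Helper18.DegCalc.isCoh_tensorMod hM hN) (tensorMap (𝟙 M) a) C.isClosed hCirr
    hCdim (hsub hEc) (hsub hN) U h1U hUC
  have k2 := cl_sub_mem_Sr (Groth.Agent.Lib.Helper18.DegCalc.isCoh_tensorMod hM hO)
    (Groth.Agent.Lib.Helper18.DegCalc.isCoh_tensorMod hM hN) (tensorMap (𝟙 M) b) C.isClosed hCirr
    hCdim (hsub hO) (hsub hN) U h2U hUC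
  rw [cl_tensor_free M hM e] at k2
  have := AddSubgroup.sub_mem _ k1 k2
  rwa [sub_sub_sub_cancel_right] at this

include hE in
/-- **tensoring with a locally free module of rank `e` is multiplication by `e` modulo smaller supports** -/
theorem main {F : X.Modules} (hF : Coh.IsCoh F) (r : ℕ)
    (hr : topologicalKrullDim (CohB1.support F) ≤ r) :
    cl (CohB1.tensorMod F E) - e • cl F ∈ Sr X r := by
  have hEc : Coh.IsCoh E := Groth.Agent.Lib.Lead.RankAdd.isCoh_of_isFinLocFreeOfRank hE
  refine Groth.Agent.Lib.helper8.Dev.devissage_master_OC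
    (fun M : X.Modules => cl (CohB1.tensorMod M E) - e • cl M ∈ Sr X r) ?_ (CohB1.support F) ?_ ?_
    ?_ F hF subset_rfl
  · rintro M N ⟨ε⟩ hM
    show cl (CohB1.tensorMod N E) - e • cl N ∈ Sr X r
    rw [← cl_iso ε, ← cl_iso (tensorIso ε (Iso.refl E))]
    exact hM
  · intro N hN
    show cl (CohB1.tensorMod N E) - e • cl N ∈ Sr X r
    have hNc : Coh.IsCoh N := CohKer.isCoh_of_isZero hN
    have hs : CohB1.support N = ∅ := Groth.Agent.Lib.Lead.HilbPos.support_eq_empty_of_isZero hN
    have hempty : ∀ {s : Set X}, s ⊆ (∅ : Set X) → topologicalKrullDim ↥s < r := by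
      intro s hs'
      haveI : IsEmpty ↥s := ⟨fun x => hs' x.2⟩
      haveI : IsEmpty (IrreducibleCloseds ↥s) := ⟨fun Z => by
        obtain ⟨x, -⟩ := Z.isIrreducible.nonempty
        exact IsEmpty.false x⟩
      unfold topologicalKrullDim
      rw [Order.krullDim_eq_bot]
      exact WithBot.bot_lt_coe _
    refine AddSubgroup.sub_mem _ (cl_mem_Sr (Groth.Agent.Lib.Helper18.DegCalc.isCoh_tensorMod hNc hEc)
      (hempty ?_)) (AddSubgroup.nsmul_mem _ (cl_mem_Sr hNc (hempty hs.subset)) e)
    rw [← hs]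
    exact Groth.Agent.Lib.helper7.SnapperNewton.support_tensorMod_subset hNc hEc
  · intro S hS h1 h2 h3 _
    obtain ⟨w, hw⟩ := Groth.Agent.Lib.Helper18.DegCalc.shortExact_tensor S hS hE
    have e1 := cl_ses S hS h1 h2 h3
    have e2 := cl_ses _ hw (Groth.Agent.Lib.Helper18.DegCalc.isCoh_tensorMod h1 hEc)
      (Groth.Agent.Lib.Helper18.DegCalc.isCoh_tensorMod h2 hEc)
      (Groth.Agent.Lib.Helper18.DegCalc.isCoh_tensorMod h3 hEc)
    simp only [] at e2
    have key : cl (CohB1.tensorMod S.X₂ E) - e • cl S.X₂ =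
        (cl (CohB1.tensorMod S.X₁ E) - e • cl S.X₁) +
          (cl (CohB1.tensorMod S.X₃ E) - e • cl S.X₃) := by
      rw [e1, e2, smul_add]
      abel
    refine ⟨fun p1 p2 => ?_, fun p1 p3 => ?_, fun p2 p3 => ?_⟩
    · have := AddSubgroup.sub_mem _ p2 p1
      rwa [key, add_sub_cancel_left] at this
    · show cl (CohB1.tensorMod S.X₂ E) - e • cl S.X₂ ∈ Sr X r
      rw [key]
      exact AddSubgroup.add_mem _ p1 p3
    · have := AddSubgroup.sub_mem _ p2 p3
      rwa [key, add_sub_cancel_right] at this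
  · intro Z i _ _ hT
    refine ⟨⟨Set.range i, i.isClosedEmbedding.isClosed_range⟩, rfl, ?_⟩
    refine delta_OC_mem hE _ ?_ ?_
    · show IsIrreducible (Set.range i)
      rw [← Set.image_univ]
      exact (IrreducibleSpace.isIrreducible_univ Z).image _ i.continuous.continuousOn
    · exact (Groth.Agent.Lib.helper8.DimLt.topologicalKrullDim_le_of_subset hT).trans hr

end Main

end Groth.Agent.Lib.helper7.K0Rank
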