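import Mathlib
import Groth.Agent.Lib.Helper7.KoszulD
import Groth.Agent.Lib.Helper20.TensorEquiv
import Groth.Agent.Lib.Helper12.InvDual2
import Groth.Agent.Lib.Helper21.IdealPow1

/-!
# Global generation of `ker(O^{n+1} ↠ L) ⊗ L` (helper7)

* `epi_of_koszul`: cofan form of `epi_koszulLift` (any index type, any colimit cofan).
* `tmul_comm_of_gen`: `a ⊗ b = b ⊗ a` in `A ⊗ A` when every point lies in some `X_{T l}`.
* `gg_kernel_tensor`: for an invertible `L` generated by sections `s 0, …, s n`, the module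
  `ker(O^{n+1} ⟶ L) ⊗ L` is globally generated (by the Koszul relations).
-/

set_option autoImplicit false
set_option linter.style.haveILetI false

universe u w

open CategoryTheory Limits AlgebraicGeometry Opposite TopologicalSpace

namespace Groth.Agent.Lib.helper7.Koszul

section Sheaf

open Scheme.Modules Groth.Agent.Lib.helper11.IsoLocus

variable {X : Scheme.{u}}

theorem epi_of_koszul {J : Type w} {N M P : X.Modules}
    (t : J → (N ⟶ M)) (t' : J → (M ⟶ P)) (hsym : ∀ i j, t i ≫ t' j = t j ≫ t' i)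
    (hloc : ∀ x : X, ∃ l, x ∈ isoLocus (t l) ∧ x ∈ isoLocus (t' l))
    {Cpt : X.Modules} (inj : J → (M ⟶ Cpt)) (hc : IsColimit (Cofan.mk Cpt inj))
    {Dpt : X.Modules} (dinj : J × J → (N ⟶ Dpt))
    (Φ : Cpt ⟶ P) (hΦ : ∀ i, inj i ≫ Φ = t' i)
    (Q : Dpt ⟶ Cpt) (hQ : ∀ i j, dinj (i, j) ≫ Q = t j ≫ inj i - t i ≫ inj j)
    {K : X.Modules} (k : K ⟶ Cpt) [Mono k] (hk : k ≫ Φ = 0) (q : Dpt ⟶ K) (hq : q ≫ k = Q) :
    Epi q := by
  refine Groth.Agent.Lib.helper11.CounitEpi.epi_of_forall_restrict q (fun x => ?_)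
  obtain ⟨l, h1, h2⟩ := hloc x
  refine ⟨isoLocus (t l) ⊓ isoLocus (t' l), ⟨h1, h2⟩, ?_⟩
  set U : X.Opens := isoLocus (t l) ⊓ isoLocus (t' l) with hU
  haveI : (restrictFunctor U.ι).Additive := (restrictAdjunction U.ι).left_adjoint_additive
  haveI : PreservesColimitsOfSize.{w, w} (restrictFunctor U.ι) :=
    (restrictAdjunction U.ι).leftAdjoint_preservesColimits
  haveI i1 : IsIso ((restrictFunctor U.ι).map (t l)) :=
    (le_isoLocus_iff (t l) U).mp inf_le_left
  haveI i2 : IsIso ((restrictFunctor U.ι).map (t' l)) :=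
    (le_isoLocus_iff (t' l) U).mp inf_le_right
  haveI : Mono ((restrictFunctor U.ι).map k) :=
    Groth.Agent.Lib.helper11.TwistH1.mono_restrict _ U
  have hsplit := isSplitEpi_of_koszul (𝒞 := (↑U : Scheme.{u}).Modules)
    (fun i => (restrictFunctor U.ι).map (t i)) (fun i => (restrictFunctor U.ι).map (t' i))
    (fun i j => by rw [← Functor.map_comp, ← Functor.map_comp, hsym i j])
    (Cofan.mk _ fun j : J => (restrictFunctor U.ι).map (inj j))
    (isColimitCofanMkObjOfIsColimit (restrictFunctor U.ι) _ inj hc)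
    (Cofan.mk _ fun p : J × J => (restrictFunctor U.ι).map (dinj p))
    ((restrictFunctor U.ι).map Φ)
    (fun i => by
      change (restrictFunctor U.ι).map (inj i) ≫ _ = _
      rw [← Functor.map_comp, hΦ])
    ((restrictFunctor U.ι).map Q)
    (fun i j => by
      change (restrictFunctor U.ι).map (dinj (i, j)) ≫ _ =
        (restrictFunctor U.ι).map (t j) ≫ (restrictFunctor U.ι).map (inj i) -
          (restrictFunctor U.ι).map (t i) ≫ (restrictFunctor U.ι).map (inj j)
      rw [← Functor.map_comp, hQ i j, Functor.map_sub, Functor.map_comp, Functor.map_comp])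
    l
    ((restrictFunctor U.ι).map k)
    (by rw [← Functor.map_comp, hk, Functor.map_zero])
    ((restrictFunctor U.ι).map q)
    (by rw [← Functor.map_comp, hq])
  infer_instance

end Sheaf

open Groth.Agent.Lib.helper11.IsoLocus Groth.Agent.Lib.helper11.TensorEpi
  Groth.Agent.Lib.helper12.TwistExtend Groth.Agent.Lib.helper12.AmpleBasis
  Groth.Agent.Lib.helper12.PullTensor Groth.Agent.Lib.helper11.SerreGG
  Groth.Agent.Lib.Lead.ModTensor

variable {X : Scheme.{u}}

local notation "resM" => Groth.Agent.Lib.helper12.TwistExtend.res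

theorem tmul_comm_of_gen (A : X.Modules) {J : Type*} (T : J → A.val.obj (op ⊤))
    (hT : ∀ x : X, ∃ l, x ∈ CohB1.genLocus A (homOfSec A (T l)))
    (W : X.Opens) (a b : A.val.obj (op W)) :
    SecTwist.tmul A A W a b = SecTwist.tmul A A W b a := by
  choose l hl using hT
  refine eq_of_cover (CohB1.tensorMod A A)
    (fun p : W => W ⊓ CohB1.genLocus A (homOfSec A (T (l p.1)))) W (fun _ => inf_le_left) ?_ _ _
    (fun p => ?_)
  · intro x hx
    exact Opens.mem_iSup.mpr ⟨⟨x, hx⟩, ⟨hx, hl x⟩⟩
  · set W' : X.Opens := W ⊓ CohB1.genLocus A (homOfSec A (T (l p.1))) with hW'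
    have hle : W' ≤ W := inf_le_left
    have hgen : W' ≤ CohB1.genLocus A (homOfSec A (T (l p.1))) := inf_le_right
    obtain ⟨α, hα⟩ := exists_smul_eq_res A (T (l p.1)) hgen (resM A hle a)
    obtain ⟨β, hβ⟩ := exists_smul_eq_res A (T (l p.1)) hgen (resM A hle b)
    have key : ∀ a b : A.val.obj (op W),
        resM (CohB1.tensorMod A A) hle (SecTwist.tmul A A W a b) =
        SecTwist.tmul A A W' (resM A hle a) (resM A hle b) :=
      fun a b => SecTwist.map_tmul A A (homOfLE hle) a b
    rw [key, key, hα, hβ]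
    rw [tmul_smul_right, tmul_smul_left, tmul_smul_right, tmul_smul_left, smul_smul, smul_smul]
    congr 1
    exact mul_comm (show Γ(X, W') from β) (show Γ(X, W') from α)

theorem leftUnitor_inv_apply (F : X.Modules) (U : X.Opens) (b : F.val.obj (op U)) :
    ((leftUnitor F).inv.val.app (op U)).hom b =
      SecTwist.tmul (Coh.structureModule X) F U
        ((1 : X.ringCatSheaf.obj.obj (op U)) : (Coh.structureModule X).val.obj (op U)) b := by
  have h := Groth.Agent.Lib.helper21.IdealPow.leftUnitor_tmul F U b 1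
  rw [one_smul] at h
  conv_lhs => rw [← h]
  exact Groth.Agent.Lib.helper12.TensorSec.iso_inv_hom_apply (leftUnitor F) U _

end Groth.Agent.Lib.helper7.Koszul
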