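import Mathlib
import Groth.Agent.Lib.Helper7.KoszulE

/-!
# Global generation of `ker(O^{n+1} ↠ L) ⊗ L` (helper7)

`gg_kernel_tensor`: for an invertible `L` generated by sections `s 0, …, s n`, the module
`ker(O^{n+1} ⟶ L) ⊗ L` is globally generated (by the Koszul relations `e_i ⊗ s_j - e_j ⊗ s_i`).
-/

set_option autoImplicit false
set_option linter.style.haveILetI false

universe u

open CategoryTheory Limits AlgebraicGeometry Opposite TopologicalSpace

namespace Groth.Agent.Lib.helper7.Koszul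

open Groth.Agent.Lib.helper11.IsoLocus Groth.Agent.Lib.helper11.TensorEpi
  Groth.Agent.Lib.helper12.AmpleBasis
  Groth.Agent.Lib.helper12.PullTensor Groth.Agent.Lib.helper11.SerreGG
  Groth.Agent.Lib.Lead.ModTensor Groth.Agent.Lib.Helper20.TensorEquiv
  Groth.Agent.Lib.helper12.TensorCocont

variable {X : Scheme.{u}}

/-- generating sections of an invertible module: every point lies in some `X_{s l}` -/
theorem exists_mem_genLocus_of_epi_fin {L : X.Modules} (hL : PicF.IsInvertible L) (n : ℕ)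
    (s : Fin n → (Coh.structureModule X ⟶ L))
    (hs : Epi (Sigma.desc s : FlatMod.freeMod X n ⟶ L)) (x : X) :
    ∃ l : Fin n, x ∈ CohB1.genLocus L (s l) := by
  obtain ⟨p, hp⟩ : ∃ p : (SheafOfModules.free (ULift.{u} (Fin n)) : X.Modules) ⟶ L,
      ∀ i, (SheafOfModules.ιFree i : _ ⟶ SheafOfModules.free (ULift.{u} (Fin n))) ≫ p = s i.down :=
    ⟨(Sigma.desc (fun i : ULift.{u} (Fin n) => s i.down) :
        (∐ fun _ : ULift.{u} (Fin n) => SheafOfModules.unit X.ringCatSheaf) ⟶ L),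
      fun i => Sigma.ι_desc _ _⟩
  obtain ⟨e, he⟩ : ∃ e : FlatMod.freeMod X n ⟶ (SheafOfModules.free (ULift.{u} (Fin n)) : X.Modules),
      ∀ i, Sigma.ι (fun _ : Fin n => Coh.structureModule X) i ≫ e =
        (SheafOfModules.ιFree (ULift.up i) : _ ⟶ SheafOfModules.free (ULift.{u} (Fin n))) :=
    ⟨Sigma.desc (fun i : Fin n =>
        (SheafOfModules.ιFree (ULift.up i) : _ ⟶ SheafOfModules.free (ULift.{u} (Fin n)))),
      fun i => Sigma.ι_desc _ _⟩
  have hep : e ≫ p = Sigma.desc s := by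
    refine Sigma.hom_ext _ _ (fun i => ?_)
    exact (Category.assoc _ _ _).symm.trans
      ((congrArg (· ≫ p) (he i)).trans ((hp _).trans (Sigma.ι_desc _ _).symm))
  haveI : Epi (e ≫ p) := by rw [hep]; exact hs
  haveI : Epi p := epi_of_epi e p
  obtain ⟨i, hi⟩ := Groth.Agent.Lib.helper12.GlobGen.exists_mem_genLocus_of_epi hL p x
  refine ⟨i.down, ?_⟩
  exact (congrArg (fun φ => x ∈ CohB1.genLocus L φ) (hp i)).mp hi

theorem koszul_val {L : X.Modules} (a b : Coh.structureModule X ⟶ L) (U : X.Opens) :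
    SecTwist.val ((a ≫ (leftUnitor L).inv) ≫ tensorMap b (𝟙 L)) U =
      SecTwist.tmul L L U (SecTwist.val b U) (SecTwist.val a U) := by
  change ((tensorMap b (𝟙 L)).val.app (op U)).hom
    (((leftUnitor L).inv.val.app (op U)).hom (SecTwist.val a U)) = _
  refine (congrArg _ (leftUnitor_inv_apply L U _)).trans ?_
  exact (tensorMap_tmul b (𝟙 L) U _ _).trans rfl

/-- symmetry of the two multiplication maps -/
theorem koszul_sym {L : X.Modules} {J : Type*} (s : J → (Coh.structureModule X ⟶ L))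
    (hcov : ∀ x : X, ∃ l : J, x ∈ CohB1.genLocus L (s l)) (i j : J) :
    (s i ≫ (leftUnitor L).inv) ≫ tensorMap (s j) (𝟙 L) =
      (s j ≫ (leftUnitor L).inv) ≫ tensorMap (s i) (𝟙 L) := by
  have hT : ∀ x : X, ∃ l, x ∈ CohB1.genLocus L (homOfSec L (SecTwist.val (s l) ⊤)) := fun x => by
    obtain ⟨l, hl⟩ := hcov x
    exact ⟨l, by rw [homOfSec_val]; exact hl⟩
  apply Groth.Agent.Lib.helper12.TensorInvLocal.hom_ext_val
  intro U
  rw [koszul_val (s i) (s j), koszul_val (s j) (s i)]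
  exact tmul_comm_of_gen L (fun l => SecTwist.val (s l) ⊤) hT U _ _

theorem koszul_loc {L : X.Modules} {J : Type*} (s : J → (Coh.structureModule X ⟶ L))
    (hcov : ∀ x : X, ∃ l : J, x ∈ CohB1.genLocus L (s l)) (x : X) :
    ∃ l, x ∈ isoLocus (s l ≫ (leftUnitor L).inv) ∧ x ∈ isoLocus (tensorMap (s l) (𝟙 L)) := by
  obtain ⟨l, hl⟩ := hcov x
  refine ⟨l, ?_, ?_⟩
  · rw [isoLocus_comp_of_isIso_right]
    exact hl
  · refine isoLocus_inf_le_tensorMap (s l) (𝟙 L) ⟨hl, ?_⟩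
    rw [isoLocus_id]
    trivial


/-- a map out of a free module with prescribed components -/
theorem exists_free_desc {M : X.Modules} {I : Type u} (f : I → (Coh.structureModule X ⟶ M)) :
    ∃ Q : (SheafOfModules.free I : X.Modules) ⟶ M,
      ∀ p : I, (SheafOfModules.ιFree p : _ ⟶ SheafOfModules.free I) ≫ Q = f p :=
  ⟨(Sigma.desc f : (∐ fun _ : I => SheafOfModules.unit X.ringCatSheaf) ⟶ _),
      fun _ => Sigma.ι_desc _ _⟩

theorem free_hom_ext {M : X.Modules} {I : Type u} (Q Q' : (SheafOfModules.free I : X.Modules) ⟶ M)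
    (h : ∀ p : I, (SheafOfModules.ιFree p : _ ⟶ SheafOfModules.free I) ≫ Q =
      (SheafOfModules.ιFree p : _ ⟶ SheafOfModules.free I) ≫ Q') : Q = Q' :=
  Sigma.hom_ext (f := fun _ : I => SheafOfModules.unit X.ringCatSheaf) _ _ (fun p => h p)

theorem isColimit_tensor {L F : X.Modules}
    {J : Type} [Fintype J] (ι : J → (Coh.structureModule X ⟶ F)) (hc : IsColimit (Cofan.mk F ι)) :
    Nonempty (IsColimit (Cofan.mk (CohB1.tensorMod F L) (fun i : J => tensorMap (ι i) (𝟙 L)))) := by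
  haveI : PreservesColimitsOfShape (Discrete J) (tensorRight L) :=
    PreservesFiniteColimits.preservesFiniteColimits _
  exact ⟨isColimitCofanMkObjOfIsColimit (tensorRight L) _ ι hc⟩

/-- the tensored kernel sequence -/
theorem tensor_kernel_lift {L L' F : X.Modules}
    (θ : CohB1.tensorMod L L' ≅ Coh.structureModule X) (φ : F ⟶ L) [Epi φ] :
    Mono (tensorMap (kernel.ι φ) (𝟙 L)) ∧
      tensorMap (kernel.ι φ) (𝟙 L) ≫ tensorMap φ (𝟙 L) = 0 ∧
      ∀ {D : X.Modules} (Q : D ⟶ CohB1.tensorMod F L), Q ≫ tensorMap φ (𝟙 L) = 0 →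
        ∃ q : D ⟶ CohB1.tensorMod (kernel φ) L, q ≫ tensorMap (kernel.ι φ) (𝟙 L) = Q := by
  have hS : (ShortComplex.mk (kernel.ι φ) φ (kernel.condition φ)).ShortExact :=
    { exact := ShortComplex.exact_of_f_is_kernel _ (kernelIsKernel _) }
  have hS' := shortExact_mapSC θ hS
  have hm : Mono (tensorMap (kernel.ι φ) (𝟙 L)) := hS'.mono_f
  have hz : tensorMap (kernel.ι φ) (𝟙 L) ≫ tensorMap φ (𝟙 L) = 0 :=
    (mapSC θ (ShortComplex.mk (kernel.ι φ) φ (kernel.condition φ))).zero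
  haveI : Mono (mapSC θ (ShortComplex.mk (kernel.ι φ) φ (kernel.condition φ))).f := hS'.mono_f
  refine ⟨hm, hz, fun Q hQ => ?_⟩
  exact ⟨hS'.exact.lift Q hQ, hS'.exact.lift_f Q hQ⟩


/-- abstract form: `D` any module with maps `dinj p : O ⟶ D` jointly epi-detecting. -/
theorem epi_kernel_tensor_gen {L L' F D : X.Modules}
    (θ : CohB1.tensorMod L L' ≅ Coh.structureModule X)
    {J : Type} [Fintype J] (ι : J → (Coh.structureModule X ⟶ F)) (hc : IsColimit (Cofan.mk F ι))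
    (φ : F ⟶ L) [Epi φ] (s : J → (Coh.structureModule X ⟶ L)) (hφ : ∀ i, ι i ≫ φ = s i)
    (hcov : ∀ x : X, ∃ l, x ∈ CohB1.genLocus L (s l))
    (dinj : J × J → (Coh.structureModule X ⟶ D))
    (hD : ∀ (Q Q' : D ⟶ CohB1.tensorMod L L), (∀ p, dinj p ≫ Q = dinj p ≫ Q') → Q = Q')
    (Q : D ⟶ CohB1.tensorMod F L)
    (hQ : ∀ i j, dinj (i, j) ≫ Q =
      (s j ≫ (leftUnitor L).inv) ≫ tensorMap (ι i) (𝟙 L) -
          (s i ≫ (leftUnitor L).inv) ≫ tensorMap (ι j) (𝟙 L)) :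
    ∃ q : D ⟶ CohB1.tensorMod (kernel φ) L, Epi q := by
  classical
  have hsym := koszul_sym s hcov
  have hloc := koszul_loc s hcov
  obtain ⟨hc'⟩ := isColimit_tensor (L := L) ι hc
  have hΦ : ∀ i : J, tensorMap (ι i) (𝟙 L) ≫ tensorMap φ (𝟙 L) = tensorMap (s i) (𝟙 L) := by
    intro i
    have h := tensorMap_comp (ι i) φ (𝟙 L) (𝟙 L)
    rw [Category.comp_id, hφ] at h
    exact h.symm
  obtain ⟨hmono, hk, hlift⟩ := tensor_kernel_lift θ φ
  have hQΦ : Q ≫ tensorMap φ (𝟙 L) = 0 := by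
    refine hD _ _ (fun p => ?_)
    obtain ⟨i, j⟩ := p
    have e1 : ∀ i j, ((s j ≫ (leftUnitor L).inv) ≫ tensorMap (ι i) (𝟙 L)) ≫ tensorMap φ (𝟙 L) =
        (s j ≫ (leftUnitor L).inv) ≫ tensorMap (s i) (𝟙 L) := fun i j => by
      rw [Category.assoc, hΦ]
    rw [← Category.assoc, hQ i j, comp_zero, Preadditive.sub_comp, e1, e1, hsym, sub_self]
  obtain ⟨q, hq⟩ := hlift Q hQΦ
  exact ⟨q, epi_of_koszul (fun l => s l ≫ (leftUnitor L).inv) (fun l => tensorMap (s l) (𝟙 L))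
      hsym hloc (fun i : J => tensorMap (ι i) (𝟙 L)) hc' dinj
      (tensorMap φ (𝟙 L)) hΦ Q hQ (tensorMap (kernel.ι φ) (𝟙 L)) hk q hq⟩

/-- general form: `F` a finite coproduct of copies of `O` with injections `ι`, `φ : F ⟶ L` with
components `s i` that generate `L`; then `ker φ ⊗ L` is globally generated. -/
theorem gg_kernel_tensor_gen {L L' F : X.Modules}
    (θ : CohB1.tensorMod L L' ≅ Coh.structureModule X)
    {J : Type} [Fintype J] (ι : J → (Coh.structureModule X ⟶ F)) (hc : IsColimit (Cofan.mk F ι))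
    (φ : F ⟶ L) [Epi φ] (s : J → (Coh.structureModule X ⟶ L)) (hφ : ∀ i, ι i ≫ φ = s i)
    (hcov : ∀ x : X, ∃ l, x ∈ CohB1.genLocus L (s l)) :
    Curv2.IsGloballyGenerated (CohB1.tensorMod (kernel φ) L) := by
  obtain ⟨Q, hQ⟩ := exists_free_desc (fun p : ULift.{u} (J × J) =>
        (s p.down.2 ≫ (leftUnitor L).inv) ≫ tensorMap (ι p.down.1) (𝟙 L) -
          (s p.down.1 ≫ (leftUnitor L).inv) ≫ tensorMap (ι p.down.2) (𝟙 L))
  obtain ⟨q, hq⟩ := epi_kernel_tensor_gen θ ι hc φ s hφ hcov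
    (D := (SheafOfModules.free (ULift.{u} (J × J)) : X.Modules))
    (fun p => (SheafOfModules.ιFree (ULift.up p) :
        _ ⟶ SheafOfModules.free (ULift.{u} (J × J))))
    (fun Q Q' h => free_hom_ext Q Q' (fun p => h p.down))
    Q (fun i j => hQ (ULift.up (i, j)))
  exact ⟨ULift.{u} (J × J), q, hq⟩

theorem gg_kernel_tensor {L : X.Modules} (hL : PicF.IsInvertible L) (n : ℕ)
    (s : Fin (n + 1) → (Coh.structureModule X ⟶ L))
    (hs : Epi (Sigma.desc s : FlatMod.freeMod X (n + 1) ⟶ L)) :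
    Curv2.IsGloballyGenerated
      (CohB1.tensorMod (kernel (Sigma.desc s : FlatMod.freeMod X (n + 1) ⟶ L)) L) := by
  obtain ⟨L', -, ⟨θ⟩, -⟩ := Groth.Agent.Lib.helper12.InvDual.exists_inverse hL
  exact gg_kernel_tensor_gen θ (Sigma.ι (fun _ : Fin (n + 1) => Coh.structureModule X))
    (coproductIsCoproduct _) (Sigma.desc s) s (fun i => Sigma.ι_desc _ _)
    (exists_mem_genLocus_of_epi_fin hL (n + 1) s hs)

end Groth.Agent.Lib.helper7.Koszul
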