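import Groth.Agent.Lib.Helper7.Horseshoe

/-!
# helper7: the long exact sequence of left derived functors
-/

universe v u v' u'

open CategoryTheory Category Limits

namespace Groth.Agent.Lib.helper7.LeftDerivedLES

open Groth.Agent.Lib.helper7.Horseshoe

variable {C : Type u} [Category.{v} C] [Abelian C]
variable {D : Type u'} [Category.{v'} D] [Abelian D]
variable {S : ShortComplex C} (hS : S.ShortExact)
variable (P' : ProjectiveResolution S.X₁) (P'' : ProjectiveResolution S.X₃)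
variable (F : C ⥤ D) [F.Additive]

/-- the image of the Horseshoe short exact sequence of complexes under `F`. -/
noncomputable def Fcx : ShortComplex (ChainComplex D ℕ) :=
  (cx₂ hS P' P'').map (F.mapHomologicalComplex (ComplexShape.down ℕ))

lemma Fcx_shortExact : (Fcx hS P' P'' F).ShortExact :=
  HomologicalComplex.shortExact_of_degreewise_shortExact _ fun n =>
    ((cx₂Splitting hS P' P'' n).map F).shortExact

variable [HasProjectiveResolutions C]

/-- iso `L_n F (X₁) ≅ H_n(F P')`. -/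
noncomputable def e₁ (n : ℕ) : (F.leftDerived n).obj S.X₁ ≅ (Fcx hS P' P'' F).X₁.homology n :=
  P'.isoLeftDerivedObj F n

/-- iso `L_n F (X₂) ≅ H_n(F R₂)`. -/
noncomputable def e₂ (n : ℕ) : (F.leftDerived n).obj S.X₂ ≅ (Fcx hS P' P'' F).X₂.homology n :=
  (R₂ hS P' P'').isoLeftDerivedObj F n

/-- iso `L_n F (X₃) ≅ H_n(F P'')`. -/
noncomputable def e₃ (n : ℕ) : (F.leftDerived n).obj S.X₃ ≅ (Fcx hS P' P'' F).X₃.homology n :=
  P''.isoLeftDerivedObj F n

lemma e_comm₁₂ (n : ℕ) : (F.leftDerived n).map S.f ≫ (e₂ hS P' P'' F n).hom =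
    (e₁ hS P' P'' F n).hom ≫ HomologicalComplex.homologyMap (Fcx hS P' P'' F).f n :=
  ProjectiveResolution.isoLeftDerivedObj_hom_naturality S.f P' (R₂ hS P' P'') (ι₂ hS P' P'')
    (ι₂_comm₀ hS P' P'') F n

lemma e_comm₂₃ (n : ℕ) : (F.leftDerived n).map S.g ≫ (e₃ hS P' P'' F n).hom =
    (e₂ hS P' P'' F n).hom ≫ HomologicalComplex.homologyMap (Fcx hS P' P'' F).g n :=
  ProjectiveResolution.isoLeftDerivedObj_hom_naturality S.g (R₂ hS P' P'') P'' (p₂ hS P' P'')
    (p₂_comm₀ hS P' P'') F n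

include hS in
lemma leftDerived_map_comp_eq_zero (n : ℕ) :
    (F.leftDerived n).map S.f ≫ (F.leftDerived n).map S.g = 0 := by
  obtain ⟨P'⟩ : Nonempty (ProjectiveResolution S.X₁) := HasProjectiveResolution.out
  obtain ⟨P''⟩ : Nonempty (ProjectiveResolution S.X₃) := HasProjectiveResolution.out
  rw [← cancel_mono (e₃ hS P' P'' F n).hom, assoc, e_comm₂₃, reassoc_of% (e_comm₁₂ hS P' P'' F n),
    zero_comp, ← HomologicalComplex.homologyMap_comp, (Fcx hS P' P'' F).zero,
    HomologicalComplex.homologyMap_zero, comp_zero]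

include hS in
/-- exactness of `L_n F(X₁) → L_n F(X₂) → L_n F(X₃)`. -/
theorem leftDerived_exact₂ (n : ℕ) :
    (ShortComplex.mk ((F.leftDerived n).map S.f) ((F.leftDerived n).map S.g)
      (leftDerived_map_comp_eq_zero hS F n)).Exact := by
  obtain ⟨P'⟩ : Nonempty (ProjectiveResolution S.X₁) := HasProjectiveResolution.out
  obtain ⟨P''⟩ : Nonempty (ProjectiveResolution S.X₃) := HasProjectiveResolution.out
  refine ShortComplex.exact_of_iso ?_ ((Fcx_shortExact hS P' P'' F).homology_exact₂ n)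
  exact (ShortComplex.isoMk (e₁ hS P' P'' F n) (e₂ hS P' P'' F n) (e₃ hS P' P'' F n)
    (e_comm₁₂ hS P' P'' F n).symm (e_comm₂₃ hS P' P'' F n).symm).symm

include hS in
/-- `L_0 F(X₂) → L_0 F(X₃)` is an epimorphism. -/
theorem leftDerived_zero_epi : Epi ((F.leftDerived 0).map S.g) := by
  obtain ⟨P'⟩ : Nonempty (ProjectiveResolution S.X₁) := HasProjectiveResolution.out
  obtain ⟨P''⟩ : Nonempty (ProjectiveResolution S.X₃) := HasProjectiveResolution.out
  have hF := Fcx_shortExact hS P' P'' F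
  haveI := hF.epi_g
  haveI : Epi (HomologicalComplex.homologyMap (Fcx hS P' P'' F).g 0) :=
    HomologicalComplex.epi_homologyMap_of_epi_of_not_rel _ 0 (by simp)
  have h := e_comm₂₃ hS P' P'' F 0
  have h' : (F.leftDerived 0).map S.g = ((e₂ hS P' P'' F 0).hom ≫
      HomologicalComplex.homologyMap (Fcx hS P' P'' F).g 0) ≫ (e₃ hS P' P'' F 0).inv := by
    rw [← h, assoc, Iso.hom_inv_id, comp_id]
  rw [h']
  infer_instance

include hS in
/-- the connecting homomorphisms and their exactness. -/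
theorem leftDerived_exists_δ (n : ℕ) :
    ∃ (δ : (F.leftDerived (n + 1)).obj S.X₃ ⟶ (F.leftDerived n).obj S.X₁)
      (w₁ : (F.leftDerived (n + 1)).map S.g ≫ δ = 0)
      (w₂ : δ ≫ (F.leftDerived n).map S.f = 0),
      (ShortComplex.mk ((F.leftDerived (n + 1)).map S.g) δ w₁).Exact ∧
        (ShortComplex.mk δ ((F.leftDerived n).map S.f) w₂).Exact := by
  obtain ⟨P'⟩ : Nonempty (ProjectiveResolution S.X₁) := HasProjectiveResolution.out
  obtain ⟨P''⟩ : Nonempty (ProjectiveResolution S.X₃) := HasProjectiveResolution.out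
  have hF := Fcx_shortExact hS P' P'' F
  have hrel : (ComplexShape.down ℕ).Rel (n + 1) n := rfl
  obtain ⟨δ, hδ⟩ : ∃ δ, δ = (e₃ hS P' P'' F (n + 1)).hom ≫ hF.δ (n + 1) n hrel ≫
      (e₁ hS P' P'' F n).inv := ⟨_, rfl⟩
  have hδ' : δ ≫ (e₁ hS P' P'' F n).hom = (e₃ hS P' P'' F (n + 1)).hom ≫ hF.δ (n + 1) n hrel := by
    rw [hδ, assoc, assoc, Iso.inv_hom_id, comp_id]
  have w₁ : (F.leftDerived (n + 1)).map S.g ≫ δ = 0 := by
    rw [← cancel_mono (e₁ hS P' P'' F n).hom, assoc, hδ',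
      reassoc_of% (e_comm₂₃ hS P' P'' F (n + 1)), hF.comp_δ, comp_zero, zero_comp]
  have w₂ : δ ≫ (F.leftDerived n).map S.f = 0 := by
    rw [← cancel_mono (e₂ hS P' P'' F n).hom, assoc, e_comm₁₂, reassoc_of% hδ', hF.δ_comp,
      comp_zero, zero_comp]
  refine ⟨δ, w₁, w₂, ?_, ?_⟩
  · refine ShortComplex.exact_of_iso ?_ (hF.homology_exact₃ (n + 1) n hrel)
    exact (ShortComplex.isoMk (e₂ hS P' P'' F (n + 1)) (e₃ hS P' P'' F (n + 1))
      (e₁ hS P' P'' F n) (e_comm₂₃ hS P' P'' F (n + 1)).symm hδ'.symm).symm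
  · refine ShortComplex.exact_of_iso ?_ (hF.homology_exact₁ (n + 1) n hrel)
    exact (ShortComplex.isoMk (e₃ hS P' P'' F (n + 1)) (e₁ hS P' P'' F n)
      (e₂ hS P' P'' F n) hδ'.symm (e_comm₁₂ hS P' P'' F n).symm).symm

end Groth.Agent.Lib.helper7.LeftDerivedLES
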