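import Groth.Agent.Lib.Helper7.LeftDerivedLES
import Mathlib.Algebra.Homology.HomologySequenceLemmas

/-!
# helper7: the connecting homomorphisms of left derived functors, naturality in the functor
-/

universe v u v' u'

open CategoryTheory Category Limits

namespace Groth.Agent.Lib.helper7.LeftDerivedLES

open Groth.Agent.Lib.helper7.Horseshoe

variable {C : Type u} [Category.{v} C] [Abelian C]
variable {D : Type u'} [Category.{v'} D] [Abelian D]
variable {S : ShortComplex C} (hS : S.ShortExact)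
variable (P' : ProjectiveResolution S.X₁) (P'' : ProjectiveResolution S.X₃)
variable (F G : C ⥤ D) [F.Additive] [G.Additive]
variable [HasProjectiveResolutions C]

/-- the connecting homomorphism attached to a choice of resolutions. -/
noncomputable def δ' (n : ℕ) : (F.leftDerived (n + 1)).obj S.X₃ ⟶ (F.leftDerived n).obj S.X₁ :=
  (e₃ hS P' P'' F (n + 1)).hom ≫ (Fcx_shortExact hS P' P'' F).δ (n + 1) n rfl ≫
    (e₁ hS P' P'' F n).inv

lemma δ'_comp_e₁ (n : ℕ) : δ' hS P' P'' F n ≫ (e₁ hS P' P'' F n).hom =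
    (e₃ hS P' P'' F (n + 1)).hom ≫ (Fcx_shortExact hS P' P'' F).δ (n + 1) n rfl := by
  rw [δ', assoc, assoc, Iso.inv_hom_id, comp_id]

lemma map_comp_δ' (n : ℕ) : (F.leftDerived (n + 1)).map S.g ≫ δ' hS P' P'' F n = 0 := by
  rw [← cancel_mono (e₁ hS P' P'' F n).hom, assoc, δ'_comp_e₁,
    reassoc_of% (e_comm₂₃ hS P' P'' F (n + 1)), (Fcx_shortExact hS P' P'' F).comp_δ,
    comp_zero, zero_comp]

lemma δ'_comp_map (n : ℕ) : δ' hS P' P'' F n ≫ (F.leftDerived n).map S.f = 0 := by
  rw [← cancel_mono (e₂ hS P' P'' F n).hom, assoc, e_comm₁₂,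
    reassoc_of% (δ'_comp_e₁ hS P' P'' F n), (Fcx_shortExact hS P' P'' F).δ_comp,
    comp_zero, zero_comp]

lemma exact_map_δ' (n : ℕ) :
    (ShortComplex.mk ((F.leftDerived (n + 1)).map S.g) (δ' hS P' P'' F n)
      (map_comp_δ' hS P' P'' F n)).Exact := by
  refine ShortComplex.exact_of_iso ?_
    ((Fcx_shortExact hS P' P'' F).homology_exact₃ (n + 1) n rfl)
  exact (ShortComplex.isoMk (e₂ hS P' P'' F (n + 1)) (e₃ hS P' P'' F (n + 1))
    (e₁ hS P' P'' F n) (e_comm₂₃ hS P' P'' F (n + 1)).symm (δ'_comp_e₁ hS P' P'' F n).symm).symm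

lemma exact_δ'_map (n : ℕ) :
    (ShortComplex.mk (δ' hS P' P'' F n) ((F.leftDerived n).map S.f)
      (δ'_comp_map hS P' P'' F n)).Exact := by
  refine ShortComplex.exact_of_iso ?_
    ((Fcx_shortExact hS P' P'' F).homology_exact₁ (n + 1) n rfl)
  exact (ShortComplex.isoMk (e₃ hS P' P'' F (n + 1)) (e₁ hS P' P'' F n)
    (e₂ hS P' P'' F n) (δ'_comp_e₁ hS P' P'' F n).symm (e_comm₁₂ hS P' P'' F n).symm).symm

variable {F G} (α : F ⟶ G)

/-- the morphism of short exact sequences of complexes induced by a natural transformation. -/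
noncomputable def FcxMap : Fcx hS P' P'' F ⟶ Fcx hS P' P'' G where
  τ₁ := (NatTrans.mapHomologicalComplex α (ComplexShape.down ℕ)).app _
  τ₂ := (NatTrans.mapHomologicalComplex α (ComplexShape.down ℕ)).app _
  τ₃ := (NatTrans.mapHomologicalComplex α (ComplexShape.down ℕ)).app _
  comm₁₂ := ((NatTrans.mapHomologicalComplex α (ComplexShape.down ℕ)).naturality _).symm
  comm₂₃ := ((NatTrans.mapHomologicalComplex α (ComplexShape.down ℕ)).naturality _).symm

lemma e₁_naturality (n : ℕ) : (NatTrans.leftDerived α n).app S.X₁ ≫ (e₁ hS P' P'' G n).hom =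
    (e₁ hS P' P'' F n).hom ≫ HomologicalComplex.homologyMap (FcxMap hS P' P'' α).τ₁ n := by
  have h : (NatTrans.leftDerived α n).app S.X₁ = (e₁ hS P' P'' F n).hom ≫
      HomologicalComplex.homologyMap (FcxMap hS P' P'' α).τ₁ n ≫ (e₁ hS P' P'' G n).inv :=
    P'.leftDerived_app_eq α n
  rw [h, assoc, assoc, Iso.inv_hom_id, comp_id]

lemma e₃_naturality (n : ℕ) : (NatTrans.leftDerived α n).app S.X₃ ≫ (e₃ hS P' P'' G n).hom =
    (e₃ hS P' P'' F n).hom ≫ HomologicalComplex.homologyMap (FcxMap hS P' P'' α).τ₃ n := by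
  have h : (NatTrans.leftDerived α n).app S.X₃ = (e₃ hS P' P'' F n).hom ≫
      HomologicalComplex.homologyMap (FcxMap hS P' P'' α).τ₃ n ≫ (e₃ hS P' P'' G n).inv :=
    P''.leftDerived_app_eq α n
  rw [h, assoc, assoc, Iso.inv_hom_id, comp_id]

/-- naturality of the connecting homomorphism in the functor. -/
theorem δ'_naturality (n : ℕ) :
    δ' hS P' P'' F n ≫ (NatTrans.leftDerived α n).app S.X₁ =
      (NatTrans.leftDerived α (n + 1)).app S.X₃ ≫ δ' hS P' P'' G n := by
  rw [← cancel_mono (e₁ hS P' P'' G n).hom, assoc, assoc, e₁_naturality,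
    reassoc_of% (δ'_comp_e₁ hS P' P'' F n), δ'_comp_e₁,
    reassoc_of% (e₃_naturality hS P' P'' α (n + 1))]
  congr 1
  exact HomologicalComplex.HomologySequence.δ_naturality (FcxMap hS P' P'' α)
    (Fcx_shortExact hS P' P'' F) (Fcx_shortExact hS P' P'' G) (n + 1) n rfl

end Groth.Agent.Lib.helper7.LeftDerivedLES
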