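import Groth.Agent.Lib.Helper7.LinTopFG
import Groth.Prelude.Def_LinTop
import Mathlib.RingTheory.Jacobson.Ideal

/-!
# Units in admissible rings (helper7)

In an admissible ring, `1 - x` is a unit for `x` in an ideal of definition; hence an ideal of
definition lies in the Jacobson radical.
-/

universe u

open Topology Filter

namespace Groth.Agent.Lib.helper7

section

variable {A : Type u} [CommRing A] [UniformSpace A] [IsUniformAddGroup A] [IsTopologicalRing A]

/-- Powers of an element of an ideal of definition tend to zero. -/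
theorem tendsto_pow_of_mem_idealOfDefinition {J : Ideal A} (hJ : LinTop.IsIdealOfDefinition A J)
    {x : A} (hx : x ∈ J) : Tendsto (fun n : ℕ => x ^ n) atTop (𝓝 0) := by
  rw [tendsto_atTop']
  intro U hU
  obtain ⟨n, _, hn⟩ := hJ.2 U hU
  refine ⟨n, fun m hm => hn ?_⟩
  exact Ideal.pow_le_pow_right hm (Ideal.pow_mem_pow hx m)

/-- In an admissible ring, `1 - x` is a unit for `x` in an ideal of definition. -/
theorem isUnit_one_sub_of_mem_idealOfDefinition (hA : LinTop.IsAdmissible A) {J : Ideal A}
    (hJ : LinTop.IsIdealOfDefinition A J) {x : A} (hx : x ∈ J) : IsUnit (1 - x) := by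
  obtain ⟨⟨hlin, _⟩, hT2, hcomp⟩ := hA
  haveI := hlin
  haveI := hT2
  haveI := hcomp
  haveI : NonarchimedeanAddGroup A := nonarchimedeanAddGroup_of_isLinearTopology
  have hx0 := tendsto_pow_of_mem_idealOfDefinition hJ hx
  set s : ℕ → A := fun n => ∑ i ∈ Finset.range n, x ^ i with hs
  have hcauchy : CauchySeq s := by
    apply NonarchimedeanAddGroup.cauchySeq_of_tendsto_sub_nhds_zero
    have : (fun n => s (n + 1) - s n) = fun n => x ^ n := by
      funext n
      simp [hs, Finset.sum_range_succ]
    rw [this]
    exact hx0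
  obtain ⟨y, hy⟩ := cauchySeq_tendsto_of_complete hcauchy
  have h1 : Tendsto (fun n => (1 - x) * s n) atTop (𝓝 ((1 - x) * y)) :=
    hy.const_mul (1 - x)
  have h2 : Tendsto (fun n => (1 - x) * s n) atTop (𝓝 1) := by
    have : (fun n => (1 - x) * s n) = fun n => 1 - x ^ n := by
      funext n
      rw [mul_comm]
      exact geom_sum_mul_neg x n
    rw [this]
    simpa using (tendsto_const_nhds (x := (1 : A))).sub hx0
  have : (1 - x) * y = 1 := tendsto_nhds_unique h1 h2
  exact IsUnit.of_mul_eq_one _ this

/-- In an admissible ring, an ideal of definition lies in the Jacobson radical. -/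
theorem idealOfDefinition_le_jacobson_bot (hA : LinTop.IsAdmissible A) {J : Ideal A}
    (hJ : LinTop.IsIdealOfDefinition A J) : J ≤ Ideal.jacobson ⊥ := by
  intro x hx
  rw [Ideal.mem_jacobson_bot]
  intro y
  have : IsUnit (1 - (-(x * y))) :=
    isUnit_one_sub_of_mem_idealOfDefinition hA hJ (J.neg_mem (J.mul_mem_right _ hx))
  convert this using 1
  ring

/-- In an admissible ring, an element is a unit iff it is a unit modulo an ideal of definition. -/
theorem isUnit_iff_isUnit_mk (hA : LinTop.IsAdmissible A) {J : Ideal A}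
    (hJ : LinTop.IsIdealOfDefinition A J) (f : A) :
    IsUnit f ↔ IsUnit (Ideal.Quotient.mk J f) := by
  refine ⟨fun h => h.map _, fun h => ?_⟩
  obtain ⟨g, hg⟩ := h.exists_right_inv
  obtain ⟨g, rfl⟩ := Ideal.Quotient.mk_surjective g
  rw [← map_mul, ← map_one (Ideal.Quotient.mk J), Ideal.Quotient.eq] at hg
  have h1 : IsUnit (1 - (-(f * g - 1))) :=
    isUnit_one_sub_of_mem_idealOfDefinition hA hJ (J.neg_mem hg)
  have h2 : IsUnit (f * g) := by
    convert h1 using 1
    ring
  exact isUnit_of_mul_isUnit_left h2

end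

end Groth.Agent.Lib.helper7
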