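import Groth.Agent.Lib.Helper7.LinTopAdm
import Mathlib.RingTheory.AdicCompletion.Basic
import Mathlib.Topology.Algebra.InfiniteSum.NatInt
import Mathlib.Topology.Algebra.InfiniteSum.Ring

/-!
# Adic completeness of admissible rings for small finitely generated ideals (helper7)
-/

universe u

open Topology Filter

namespace Groth.Agent.Lib.helper7

section

variable {A : Type u} [CommRing A] [UniformSpace A] [IsUniformAddGroup A] [IsTopologicalRing A]

/-- A sequence whose `m`-th term lies in the `m`-th power of an ideal of definition tends to `0`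
along the cofinite filter. -/
theorem tendsto_cofinite_of_mem_pow {J : Ideal A} (hJ : LinTop.IsIdealOfDefinition A J)
    (d : ℕ → A) (hd : ∀ m, d m ∈ J ^ m) : Tendsto d cofinite (𝓝 0) := by
  rw [Nat.cofinite_eq_atTop, tendsto_atTop']
  intro U hU
  obtain ⟨n, _, hn⟩ := hJ.2 U hU
  exact ⟨n, fun m hm => hn (Ideal.pow_le_pow_right hm (hd m))⟩

variable [IsLinearTopology A A] [T2Space A] [CompleteSpace A]

/-- Key lemma: if `d m ∈ I ^ (m + n)` for all `m`, where `I` is finitely generated and contained in
an ideal of definition, then the sum of the `d m` lies in `I ^ n`. -/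
theorem hasSum_mem_pow {J : Ideal A} (hJ : LinTop.IsIdealOfDefinition A J)
    {s : ℕ} (g : Fin s → A) (hIJ : Ideal.span (Set.range g) ≤ J) (n : ℕ) :
    ∀ (d : ℕ → A), (∀ m, d m ∈ Ideal.span (Set.range g) ^ (m + n)) → ∀ y, HasSum d y →
      y ∈ Ideal.span (Set.range g) ^ n := by
  haveI : NonarchimedeanAddGroup A := nonarchimedeanAddGroup_of_isLinearTopology
  induction n with
  | zero => intro d _ y _; simp
  | succ n ih =>
    intro d hd y hy
    have h1 : ∀ m, ∃ e : Fin s → A, (∀ i, e i ∈ Ideal.span (Set.range g) ^ (m + n)) ∧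
        d m = ∑ i, g i * e i := by
      intro m
      apply exists_sum_of_mem_span_mul g
      have := hd m
      rwa [← add_assoc, pow_succ'] at this
    choose e he1 he2 using h1
    have hsum : ∀ i, Summable (fun m => e m i) := by
      intro i
      apply NonarchimedeanAddGroup.summable_of_tendsto_cofinite_zero
      apply tendsto_cofinite_of_mem_pow hJ
      intro m
      exact Ideal.pow_right_mono hIJ m (Ideal.pow_le_pow_right (Nat.le_add_right m n) (he1 m i))
    have hy2 : HasSum d (∑ i, g i * ∑' m, e m i) := by
      have : d = fun m => ∑ i, g i * e m i := funext he2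
      rw [this]
      apply hasSum_sum
      intro i _
      exact (hsum i).hasSum.mul_left (g i)
    rw [hy.unique hy2, pow_succ']
    apply Submodule.sum_mem
    intro i _
    apply Ideal.mul_mem_mul (Ideal.subset_span (Set.mem_range_self i))
    exact ih (fun m => e m i) (fun m => he1 m i) _ (hsum i).hasSum

/-- An admissible ring is adically complete for every finitely generated ideal contained in an
ideal of definition. -/
theorem isAdicComplete_of_fg_of_le {J : Ideal A} (hJ : LinTop.IsIdealOfDefinition A J)
    (I : Ideal A) (hI : I.FG) (hIJ : I ≤ J) : IsAdicComplete I A := by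
  haveI : NonarchimedeanAddGroup A := nonarchimedeanAddGroup_of_isLinearTopology
  obtain ⟨s, g, rfl⟩ : ∃ (s : ℕ) (g : Fin s → A), Ideal.span (Set.range g) = I := by
    obtain ⟨S, rfl⟩ := hI
    refine ⟨S.card, fun i => (S.equivFin.symm i : A), ?_⟩
    congr 1
    ext x
    simp only [Set.mem_range, Finset.mem_coe]
    constructor
    · rintro ⟨i, rfl⟩
      exact (S.equivFin.symm i).2
    · intro hx
      exact ⟨S.equivFin ⟨x, hx⟩, by simp⟩
  refine { haus' := ?_, prec' := ?_ }
  · intro x hx
    by_contra hne
    have hU : ({x}ᶜ : Set A) ∈ 𝓝 (0 : A) :=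
      isOpen_compl_singleton.mem_nhds (by simpa using Ne.symm hne)
    obtain ⟨n, _, hn⟩ := hJ.2 _ hU
    have := hx n
    rw [SModEq.zero, smul_eq_mul, Ideal.mul_top] at this
    exact hn (Ideal.pow_right_mono hIJ n this) rfl
  · intro f hf
    set d : ℕ → A := fun m => f (m + 1) - f m with hd
    have hdm : ∀ m, d m ∈ Ideal.span (Set.range g) ^ m := by
      intro m
      have := (hf (Nat.le_succ m)).symm
      rw [SModEq.sub_mem, smul_eq_mul, Ideal.mul_top] at this
      exact this
    have hsum : Summable d := by
      apply NonarchimedeanAddGroup.summable_of_tendsto_cofinite_zero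
      apply tendsto_cofinite_of_mem_pow hJ
      intro m
      exact Ideal.pow_right_mono hIJ m (hdm m)
    refine ⟨f 0 + ∑' m, d m, fun n => ?_⟩
    apply SModEq.symm
    rw [SModEq.sub_mem, smul_eq_mul, Ideal.mul_top]
    refine hasSum_mem_pow hJ g hIJ n (fun m => d (m + n)) (fun m => hdm (m + n)) _ ?_
    have h := (hasSum_nat_add_iff' n).mpr hsum.hasSum
    have h2 : ∑ i ∈ Finset.range n, d i = f n - f 0 := Finset.sum_range_sub f n
    rw [h2] at h
    have e : f 0 + ∑' m, d m - f n = ∑' b, d b - (f n - f 0) := by abel
    rw [e]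
    exact h

end

end Groth.Agent.Lib.helper7
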