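import Groth.Prelude.Def_W4stk3formalspacesTaut

/-!
# Basic lemmas on linearly topologized rings (helper7)
-/

set_option autoImplicit false
set_option linter.unusedSectionVars false
universe u v w

open Topology Filter

namespace Groth.Agent.Lib.helper7

section Closure

variable {R : Type u} [Ring R] {M : Type v} [AddCommGroup M] [Module R M] [TopologicalSpace M]
  [IsTopologicalAddGroup M]

/-- Membership in the closure of a submodule, in terms of a basis of neighbourhoods of zero consisting of
submodules. -/
theorem mem_closure_submodule_iff {ι : Sort w} {p : ι → Prop} (B : ι → Submodule R M)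
    (hB : (𝓝 (0 : M)).HasBasis p (fun i => (B i : Set M))) (N : Submodule R M) (x : M) :
    x ∈ closure (N : Set M) ↔ ∀ i, p i → x ∈ N ⊔ B i := by
  have hBx : (𝓝 x).HasBasis p (fun i => (fun y => x + y) '' (B i : Set M)) := by
    rw [← map_add_left_nhds_zero x]
    exact hB.map _
  rw [mem_closure_iff_nhds_basis hBx]
  constructor
  · intro h i hi
    obtain ⟨y, hyN, b, hb, rfl⟩ := h i hi
    have : x = (x + b) + (-b) := by abel
    rw [this]
    exact Submodule.add_mem_sup hyN ((B i).neg_mem hb)
  · intro h i hi
    obtain ⟨n, hn, b, hb, hnb⟩ := Submodule.mem_sup.mp (h i hi)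
    refine ⟨n, hn, -b, (B i).neg_mem hb, ?_⟩
    change x + -b = n
    rw [← hnb]; abel

end Closure

section Ring

variable {A : Type u} [CommRing A] [TopologicalSpace A] [IsTopologicalRing A] [IsLinearTopology A A]

/-- Membership in the closure of an ideal of a linearly topologized ring. -/
theorem mem_closure_ideal_iff (I : Ideal A) (x : A) :
    x ∈ closure (I : Set A) ↔ ∀ J : Ideal A, (J : Set A) ∈ 𝓝 (0 : A) → x ∈ I ⊔ J :=
  mem_closure_submodule_iff (fun J : Ideal A => J) (IsLinearTopology.hasBasis_ideal (R := A)) I x

/-- In a linearly topologized ring, `g` is topologically nilpotent iff every open ideal contains a power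
of `g`. -/
theorem isTopologicallyNilpotent_iff (g : A) :
    IsTopologicallyNilpotent g ↔ ∀ J : Ideal A, (J : Set A) ∈ 𝓝 (0 : A) → ∃ n : ℕ, g ^ n ∈ J := by
  constructor
  · intro h J hJ
    exact h.exists_pow_mem_of_mem_nhds hJ
  · intro h
    simp only [IsTopologicallyNilpotent,
      atTop_basis.tendsto_iff (IsLinearTopology.hasBasis_ideal (R := A)), true_and]
    intro J hJ
    obtain ⟨n, hn⟩ := h J hJ
    refine ⟨n, fun m hm => ?_⟩
    obtain ⟨k, rfl⟩ := Nat.exists_eq_add_of_le (Set.mem_Ici.mp hm)
    rw [pow_add]
    exact J.mul_mem_right _ hn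

/-- If `g ≡ t` modulo the ideal `J` and `t ^ n ∈ J`, then `g ^ n ∈ J`. -/
theorem pow_mem_of_sub_mem (J : Ideal A) {g t : A} (h : g - t ∈ J) {n : ℕ} (ht : t ^ n ∈ J) :
    g ^ n ∈ J := by
  have h1 : g ^ n - t ^ n ∈ J := by
    have := sub_dvd_pow_sub_pow g t n
    obtain ⟨c, hc⟩ := this
    rw [hc]
    exact J.mul_mem_right _ h
  have : g ^ n = (g ^ n - t ^ n) + t ^ n := by ring
  rw [this]
  exact J.add_mem h1 ht

/-- The closure of a set of topologically nilpotent elements forming an ideal consists of topologically
nilpotent elements. -/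
theorem isTopologicallyNilpotent_of_mem_closure (I : Ideal A)
    (hI : ∀ f ∈ I, IsTopologicallyNilpotent f) {g : A} (hg : g ∈ closure (I : Set A)) :
    IsTopologicallyNilpotent g := by
  rw [isTopologicallyNilpotent_iff]
  intro J hJ
  obtain ⟨t, ht, j, hj, htj⟩ := Submodule.mem_sup.mp ((mem_closure_ideal_iff I g).mp hg J hJ)
  obtain ⟨n, hn⟩ := (hI t ht).exists_pow_mem_of_mem_nhds hJ
  refine ⟨n, pow_mem_of_sub_mem J ?_ hn⟩
  have : g - t = j := by rw [← htj]; ring
  rw [this]; exact hj

theorem isClosed_topologicalNilradical : IsClosed ((topologicalNilradical A : Ideal A) : Set A) := by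
  rw [← closure_subset_iff_isClosed]
  intro g hg
  exact isTopologicallyNilpotent_of_mem_closure (topologicalNilradical A) (fun f hf => hf) hg

end Ring

section Taut

variable {A : Type u} [CommRing A] [TopologicalSpace A]
variable {B : Type v} [CommRing B] [TopologicalSpace B] [IsTopologicalRing B]

/-- Monotonicity of closures of ideals. -/
theorem closure_mono_ideal {I J : Ideal B} (h : I ≤ J) : closure (I : Set B) ⊆ closure (J : Set B) :=
  closure_mono h

/-- If the closure of `I` is open and `I ≤ J` then the closure of `J` is open. -/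
theorem isOpen_closure_of_le {I J : Ideal B} (h : I ≤ J) (hI : IsOpen (closure (I : Set B))) :
    IsOpen (closure (J : Set B)) := by
  rw [← Ideal.coe_closure] at hI ⊢
  exact Submodule.isOpen_mono (U := I.closure) (P := J.closure)
    (fun x hx => closure_mono_ideal h hx) hI

/-- An open ideal is closed. -/
theorem isClosed_of_isOpen_ideal (J : Ideal B) (hJ : IsOpen (J : Set B)) : IsClosed (J : Set B) :=
  AddSubgroup.isClosed_of_isOpen J.toAddSubgroup hJ

/-- The third condition of tautness is automatic for continuous maps into linearly topologized rings. -/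
theorem exists_isOpen_closure_map_subset [IsLinearTopology B B] (φ : A →+* B) (hφ : Continuous φ)
    (U : Set B) (hU : U ∈ 𝓝 (0 : B)) :
    ∃ I : Ideal A, IsOpen (I : Set A) ∧ closure ((I.map φ : Ideal B) : Set B) ⊆ U := by
  obtain ⟨J, hJ, hJU⟩ := (IsLinearTopology.hasBasis_open_ideal (R := B)).mem_iff.mp hU
  refine ⟨J.comap φ, hJ.preimage hφ, ?_⟩
  have h1 : (J.comap φ).map φ ≤ J := Ideal.map_comap_le
  calc closure (((J.comap φ).map φ : Ideal B) : Set B) ⊆ closure (J : Set B) := closure_mono h1
    _ = J := (isClosed_of_isOpen_ideal J hJ).closure_eq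
    _ ⊆ U := hJU

/-- Product of closures is contained in the closure of the product. -/
theorem closure_mul_closure_le (I J : Ideal B) : I.closure * J.closure ≤ (I * J).closure := by
  rw [Ideal.mul_le]
  intro r hr s hs
  change r * s ∈ closure ((I * J : Ideal B) : Set B)
  exact map_mem_closure₂ continuous_mul hr hs (fun a ha b hb => Ideal.mul_mem_mul ha hb)

theorem closure_closure_ideal (I : Ideal B) : I.closure.closure = I.closure :=
  Ideal.closure_eq_of_isClosed _ (by rw [Ideal.coe_closure]; exact isClosed_closure)

theorem closure_le_closure {I J : Ideal B} (h : I ≤ J) : I.closure ≤ J.closure :=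
  fun _ hx => closure_mono_ideal h hx

theorem closure_pow_le (I : Ideal B) (n : ℕ) : I.closure ^ n ≤ (I ^ n).closure := by
  induction n with
  | zero =>
    simp only [pow_zero, Ideal.one_eq_top]
    intro x _
    exact subset_closure (by simp)
  | succ n ih =>
    rw [pow_succ, pow_succ]
    calc I.closure ^ n * I.closure ≤ (I ^ n).closure * I.closure := Ideal.mul_mono_left ih
      _ ≤ (I ^ n * I).closure := closure_mul_closure_le _ _

/-- The image of the closure of an ideal is contained in the closure of the image ideal. -/
theorem map_closure_le [IsTopologicalRing A] (φ : A →+* B) (hφ : Continuous φ) (I : Ideal A) :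
    I.closure.map φ ≤ (I.map φ).closure := by
  rw [Ideal.map_le_iff_le_comap]
  intro x hx
  change φ x ∈ closure ((I.map φ : Ideal B) : Set B)
  exact map_mem_closure hφ hx (fun a ha => Ideal.mem_map_of_mem φ ha)

/-- `closure (φ(closure I) B) = closure (φ(I) B)`. -/
theorem closure_map_closure [IsTopologicalRing A] (φ : A →+* B) (hφ : Continuous φ) (I : Ideal A) :
    (I.closure.map φ).closure = (I.map φ).closure := by
  apply le_antisymm
  · calc (I.closure.map φ).closure ≤ (I.map φ).closure.closure :=
        closure_le_closure (map_closure_le φ hφ I)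
      _ = (I.map φ).closure := closure_closure_ideal _
  · exact closure_le_closure (Ideal.map_mono (fun x hx => subset_closure hx))

/-- In the taut faithfully flat situation, an open ideal is the preimage of the closure of its
extension. -/
theorem comap_closure_map_eq_of_isTautFFlat (φ : A →+* B) (hφ : LinTop.IsTautFFlat φ) (I : Ideal A)
    (hI : IsOpen (I : Set A)) : (I.map φ).closure.comap φ = I := by
  apply le_antisymm
  · intro x hx
    have hinj := (hφ.2 I hI).injective
    have h0 : LinTop.descentMap φ I (Ideal.Quotient.mk I x) = 0 := by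
      change Ideal.quotientMap _ φ _ (Ideal.Quotient.mk I x) = 0
      rw [Ideal.quotientMap_mk, Ideal.Quotient.eq_zero_iff_mem]
      exact hx
    have h1 : Ideal.Quotient.mk I x = 0 := hinj (by rw [h0, map_zero])
    exact Ideal.Quotient.eq_zero_iff_mem.mp h1
  · exact Ideal.le_comap_map.trans (Ideal.comap_mono fun _ hx => subset_closure hx)

/-- Consequence: monotonicity can be tested after extension and closure. -/
theorem le_of_closure_map_le_of_isTautFFlat (φ : A →+* B) (hφ : LinTop.IsTautFFlat φ) {I I' : Ideal A}
    (hI' : IsOpen (I' : Set A)) (h : I.map φ ≤ (I'.map φ).closure) : I ≤ I' := by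
  rw [← comap_closure_map_eq_of_isTautFFlat φ hφ I' hI', ← Ideal.map_le_iff_le_comap]
  exact h

end Taut

end Groth.Agent.Lib.helper7
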