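import Groth.Agent.Lib.Helper7.LinTopBasic
import Mathlib.Topology.Algebra.UniformRing
import Mathlib.Topology.Algebra.Nonarchimedean.Completion

/-!
# The completion of a linearly topologized ring (helper7)

* `completionIdeal I`: the closure in the completion of the image of the ideal `I`, as an ideal.
* `hasBasis_completionIdeal`: these closures, for `I` open, form a basis of neighbourhoods of zero.
* `isLinearTopology_completion`: the completion is linearly topologized.
* `isTaut_coeRingHom`: the canonical map to the completion is taut.
-/

set_option autoImplicit false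
set_option linter.unusedSectionVars false
universe u

open Topology Filter UniformSpace

namespace Groth.Agent.Lib.helper7

variable {A : Type u} [CommRing A] [UniformSpace A] [IsUniformAddGroup A] [IsTopologicalRing A]

local notation "ι" => (UniformSpace.Completion.coeRingHom : A →+* Completion A)

/-- The closure in the completion of the image of an ideal, as an ideal of the completion. -/
noncomputable def completionIdeal (I : Ideal A) : Ideal (Completion A) where
  carrier := closure (ι '' (I : Set A))
  add_mem' := by
    intro a b ha hb
    exact map_mem_closure₂ continuous_add ha hb (by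
      rintro _ ⟨x, hx, rfl⟩ _ ⟨y, hy, rfl⟩
      exact ⟨x + y, I.add_mem hx hy, map_add _ _ _⟩)
  zero_mem' := subset_closure ⟨0, I.zero_mem, map_zero _⟩
  smul_mem' := by
    intro c x hx
    have hc : c ∈ closure (Set.range ι) := by
      have : DenseRange (ι : A → Completion A) := Completion.denseRange_coe
      exact this c
    exact map_mem_closure₂ continuous_mul hc hx (by
      rintro _ ⟨a, rfl⟩ _ ⟨y, hy, rfl⟩
      exact ⟨a * y, I.mul_mem_left a hy, map_mul _ _ _⟩)

theorem coe_completionIdeal (I : Ideal A) :
    (completionIdeal I : Set (Completion A)) = closure (ι '' (I : Set A)) := rfl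

theorem isClosed_completionIdeal (I : Ideal A) : IsClosed (completionIdeal I : Set (Completion A)) :=
  isClosed_closure

/-- `closure (ι(I) Â) = closure (ι '' I)`. -/
theorem closure_map_coe_eq (I : Ideal A) : (I.map ι).closure = completionIdeal I := by
  apply le_antisymm
  · have h1 : I.map ι ≤ completionIdeal I := by
      rw [Ideal.map_le_iff_le_comap]
      intro x hx
      exact subset_closure ⟨x, hx, rfl⟩
    intro x hx
    exact closure_minimal h1 (isClosed_completionIdeal I) hx
  · intro x hx
    refine closure_mono ?_ hx
    rintro _ ⟨y, hy, rfl⟩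
    exact Ideal.mem_map_of_mem _ hy

theorem isOpen_completionIdeal (I : Ideal A) (hI : IsOpen (I : Set A)) :
    IsOpen (completionIdeal I : Set (Completion A)) := by
  apply (completionIdeal I).toAddSubgroup.isOpen_of_mem_nhds (g := 0)
  have h0 : (ι : A → Completion A) 0 = 0 := map_zero _
  rw [← h0]
  exact (Completion.isDenseInducing_coe).closure_image_mem_nhds (hI.mem_nhds I.zero_mem)

theorem hasBasis_completionIdeal [IsLinearTopology A A] :
    (𝓝 (0 : Completion A)).HasBasis (fun I : Ideal A => IsOpen (I : Set A))
      (fun I => (completionIdeal I : Set (Completion A))) := by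
  rw [Filter.hasBasis_iff]
  intro U
  constructor
  · intro hU
    obtain ⟨C, ⟨hC, C_closed⟩, C_subset_U⟩ := (closed_nhds_basis (0 : Completion A)).mem_iff.mp hU
    have hpre : (ι : A → Completion A) ⁻¹' C ∈ 𝓝 (0 : A) :=
      (Completion.continuous_coe A).continuousAt.preimage_mem_nhds (by
        have h0 : (ι : A → Completion A) 0 = 0 := map_zero _
        change C ∈ 𝓝 ((ι : A → Completion A) 0)
        rw [h0]; exact hC)
    obtain ⟨I, hIo, hI⟩ := (IsLinearTopology.hasBasis_open_ideal (R := A)).mem_iff.mp hpre
    refine ⟨I, hIo, ?_⟩
    exact (closure_minimal (Set.image_subset_iff.mpr hI) C_closed).trans C_subset_U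
  · rintro ⟨I, hIo, hI⟩
    exact Filter.mem_of_superset
      ((isOpen_completionIdeal I hIo).mem_nhds (completionIdeal I).zero_mem) hI

theorem isLinearTopology_completion [IsLinearTopology A A] :
    IsLinearTopology (Completion A) (Completion A) :=
  IsLinearTopology.mk_of_hasBasis _ hasBasis_completionIdeal

theorem isTaut_coeRingHom [IsLinearTopology A A] : LinTop.IsTaut ι := by
  refine ⟨Completion.continuous_coe A, fun I hI => ?_, fun U hU => ?_⟩
  · rw [← Ideal.coe_closure, closure_map_coe_eq]
    exact isOpen_completionIdeal I hI
  · obtain ⟨I, hIo, hI⟩ := hasBasis_completionIdeal.mem_iff.mp hU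
    refine ⟨I, hIo, ?_⟩
    rw [← Ideal.coe_closure, closure_map_coe_eq]
    exact hI

end Groth.Agent.Lib.helper7
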