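import Mathlib.Topology.Algebra.LinearTopology
import Mathlib.Topology.Algebra.Module.ContinuousLinearMap.Basic
import Mathlib.LinearAlgebra.Dual.Lemmas
import Mathlib.LinearAlgebra.Basis.VectorSpace
import Mathlib.Topology.Algebra.Group.Basic

/-!
# Continuous duals of linearly topologized vector spaces over a discrete field (helper7)
-/

set_option autoImplicit false
universe u v

open Topology

namespace Groth.Agent.Lib.helper7

variable {k : Type u} {M : Type v} [Field k] [TopologicalSpace k] [DiscreteTopology k]
  [AddCommGroup M] [Module k M] [TopologicalSpace M] [IsTopologicalAddGroup M]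

/-- A linear functional killing a neighbourhood of zero is continuous. -/
theorem continuous_of_ker_mem_nhds (f : M →ₗ[k] k) (U : Submodule k M) (hU : (U : Set M) ∈ 𝓝 (0 : M))
    (hf : ∀ u ∈ U, f u = 0) : Continuous f := by
  have : Continuous (f : M →+ k) := by
    apply continuous_of_continuousAt_zero
    rw [ContinuousAt]
    simp only [map_zero]
    rw [nhds_discrete k, Filter.tendsto_pure]
    filter_upwards [hU] with u hu
    exact hf u hu
  exact this

/-- Separation of a point from an open submodule by a continuous functional. -/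
theorem exists_clm_of_notMem (N U : Submodule k M) (hU : (U : Set M) ∈ 𝓝 (0 : M)) (hUN : U ≤ N)
    (x : M) (hx : x ∉ N) : ∃ φ : M →L[k] k, φ x = 1 ∧ ∀ n ∈ N, φ n = 0 := by
  obtain ⟨f, hfx, hfN⟩ := Submodule.exists_dual_map_eq_bot_of_notMem hx inferInstance
  have hfN' : ∀ n ∈ N, f n = 0 := by
    intro n hn
    have : f n ∈ N.map f := Submodule.mem_map_of_mem hn
    rw [hfN] at this
    simpa using this
  let g : M →ₗ[k] k := (f x)⁻¹ • f
  have hgN : ∀ n ∈ N, g n = 0 := by
    intro n hn
    simp [g, hfN' n hn]
  have hgc : Continuous g := continuous_of_ker_mem_nhds g U hU (fun u hu => hgN u (hUN hu))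
  refine ⟨⟨g, hgc⟩, ?_, hgN⟩
  change g x = 1
  simp [g, inv_mul_cancel₀ hfx]

end Groth.Agent.Lib.helper7
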