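import Groth.Agent.Lib.Helper7.LinTopBasic
import Mathlib.Topology.Algebra.InfiniteSum.Nonarchimedean
import Mathlib.Topology.Algebra.UniformRing
import Mathlib.RingTheory.Finiteness.Ideal

/-!
# Finitely generated ideals in complete linearly topologized rings (helper7)

Main result `isAdic_of_fg_of_closure_pow_basis`: if `A` is Hausdorff, complete and linearly topologized and
`I` is a finitely generated ideal such that the closures of the powers `I ^ n` are open and form a basis
of neighbourhoods of zero, then the topology of `A` is the `I`-adic topology.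
-/

set_option autoImplicit false
set_option linter.unusedSectionVars false
universe u

open Topology Filter

namespace Groth.Agent.Lib.helper7

section

variable {A : Type u} [CommRing A] [UniformSpace A] [IsUniformAddGroup A] [IsTopologicalRing A]
  [IsLinearTopology A A]

/-- A linearly topologized ring is a nonarchimedean additive group. -/
theorem nonarchimedeanAddGroup_of_isLinearTopology : NonarchimedeanAddGroup A where
  is_nonarchimedean := by
    intro U hU
    obtain ⟨I, hIo, hIU⟩ := (IsLinearTopology.hasBasis_open_ideal (R := A)).mem_iff.mp hU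
    exact ⟨⟨I.toAddSubgroup, hIo⟩, hIU⟩

/-- Elements of `span (range g) * N` are combinations of the `g i` with coefficients in `N`. -/
theorem exists_sum_of_mem_span_mul {s : ℕ} (g : Fin s → A) (N : Ideal A) {a : A}
    (ha : a ∈ Ideal.span (Set.range g) * N) :
    ∃ y : Fin s → A, (∀ i, y i ∈ N) ∧ a = ∑ i, g i * y i := by
  refine Submodule.smul_induction_on ha ?_ ?_
  · intro r hr n hn
    obtain ⟨c, rfl⟩ := (Ideal.mem_span_range_iff_exists_fun).mp hr
    refine ⟨fun i => c i * n, fun i => N.mul_mem_left _ hn, ?_⟩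
    rw [smul_eq_mul, Finset.sum_mul]
    apply Finset.sum_congr rfl
    intro i _
    ring
  · rintro _ _ ⟨y₁, h₁, rfl⟩ ⟨y₂, h₂, rfl⟩
    refine ⟨fun i => y₁ i + y₂ i, fun i => N.add_mem (h₁ i) (h₂ i), ?_⟩
    rw [← Finset.sum_add_distrib]
    apply Finset.sum_congr rfl
    intro i _
    ring

variable [T2Space A] [CompleteSpace A]

/-- The key closedness statement. -/
theorem closure_le_of_fg {s : ℕ} (g : Fin s → A)
    (hopen : ∀ n : ℕ, IsOpen (closure ((Ideal.span (Set.range g) ^ n : Ideal A) : Set A)))
    (hbasis : ∀ U ∈ 𝓝 (0 : A), ∃ n : ℕ,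
      closure ((Ideal.span (Set.range g) ^ n : Ideal A) : Set A) ⊆ U) :
    (Ideal.span (Set.range g)).closure ≤ Ideal.span (Set.range g) := by
  set J : Ideal A := Ideal.span (Set.range g) with hJ
  -- notation: `C k` is the closure of `J ^ k`
  let C : ℕ → Ideal A := fun k => (J ^ k).closure
  have hCo : ∀ k, IsOpen (C k : Set A) := fun k => by
    change IsOpen (((J ^ k).closure : Ideal A) : Set A)
    rw [Ideal.coe_closure]; exact hopen k
  have hCanti : ∀ {k l : ℕ}, k ≤ l → C l ≤ C k := fun {k l} hkl =>
    closure_le_closure (Ideal.pow_le_pow_right hkl)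
  have hCbasis : ∀ U ∈ 𝓝 (0 : A), ∃ n, (C n : Set A) ⊆ U := fun U hU => by
    obtain ⟨n, hn⟩ := hbasis U hU
    exact ⟨n, by change ((J ^ n).closure : Set A) ⊆ U; rw [Ideal.coe_closure]; exact hn⟩
  -- the approximation step
  have step : ∀ k, ∀ x ∈ C (k + 1), ∃ y : Fin s → A, (∀ i, y i ∈ C k) ∧
      x - ∑ i, g i * y i ∈ C (k + 2) := by
    intro k x hx
    have hx' : x ∈ closure ((J ^ (k + 1) : Ideal A) : Set A) := hx
    rw [mem_closure_ideal_iff] at hx'
    obtain ⟨a, ha, c, hc, rfl⟩ := Submodule.mem_sup.mp
      (hx' (C (k + 2)) ((hCo (k + 2)).mem_nhds (C (k + 2)).zero_mem))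
    rw [pow_succ'] at ha
    obtain ⟨y, hy, rfl⟩ := exists_sum_of_mem_span_mul g (J ^ k) ha
    refine ⟨y, fun i => subset_closure (hy i), ?_⟩
    simpa using hc
  intro x hx
  have hx1 : x ∈ C 1 := by
    change x ∈ (J ^ 1).closure
    rw [pow_one]; exact hx
  -- the recursive sequence
  choose! Y hYmem hYstep using step
  let X : (k : ℕ) → {x : A // x ∈ C (k + 1)} := fun k =>
    Nat.rec (motive := fun k => {x : A // x ∈ C (k + 1)}) ⟨x, hx1⟩
      (fun k xk => ⟨xk.1 - ∑ i, g i * Y k xk.1 i, hYstep k xk.1 xk.2⟩) k
  have hX0 : (X 0).1 = x := rfl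
  have hXsucc : ∀ k, (X (k + 1)).1 = (X k).1 - ∑ i, g i * Y k (X k).1 i := fun k => rfl
  let y : ℕ → Fin s → A := fun k => Y k (X k).1
  have hy : ∀ k i, y k i ∈ C k := fun k i => hYmem k (X k).1 (X k).2 i
  -- partial sums
  let S : ℕ → Fin s → A := fun K i => ∑ k ∈ Finset.range K, y k i
  have htel : ∀ K, x - ∑ i, g i * S K i = (X K).1 := by
    intro K
    induction K with
    | zero => simp [S, hX0]
    | succ K ih =>
      have hS : ∀ i, S (K + 1) i = S K i + y K i := fun i => Finset.sum_range_succ _ _
      calc x - ∑ i, g i * S (K + 1) i = (x - ∑ i, g i * S K i) - ∑ i, g i * y K i := by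
            simp only [hS, mul_add, Finset.sum_add_distrib]; ring
        _ = (X K).1 - ∑ i, g i * y K i := by rw [ih]
        _ = (X (K + 1)).1 := (hXsucc K).symm
  -- a sequence with `u k ∈ C k` tends to zero
  have htend0 : ∀ u : ℕ → A, (∀ k, u k ∈ C k) → Tendsto u atTop (𝓝 0) := by
    intro u hu
    rw [tendsto_atTop']
    intro U hU
    obtain ⟨n, hn⟩ := hCbasis U hU
    exact ⟨n, fun k hk => hn (hCanti hk (hu k))⟩
  -- convergence of the partial sums
  have : NonarchimedeanAddGroup A := nonarchimedeanAddGroup_of_isLinearTopology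
  have hconv : ∀ i, ∃ z : A, Tendsto (fun K => S K i) atTop (𝓝 z) := by
    intro i
    apply cauchySeq_tendsto_of_complete
    apply NonarchimedeanAddGroup.cauchySeq_of_tendsto_sub_nhds_zero
    have : (fun n => S (n + 1) i - S n i) = fun n => y n i := by
      funext n
      simp [S, Finset.sum_range_succ]
    rw [this]
    exact htend0 _ (fun k => hy k i)
  choose z hz using hconv
  -- the limit identity
  have hlim1 : Tendsto (fun K => x - ∑ i, g i * S K i) atTop (𝓝 (x - ∑ i, g i * z i)) := by
    apply Tendsto.sub tendsto_const_nhds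
    apply tendsto_finsetSum
    intro i _
    exact (hz i).const_mul (g i)
  have hlim2 : Tendsto (fun K => x - ∑ i, g i * S K i) atTop (𝓝 0) := by
    have : (fun K => x - ∑ i, g i * S K i) = fun K => (X K).1 := funext htel
    rw [this]
    exact htend0 _ (fun k => hCanti (Nat.le_succ k) (X k).2)
  have h0 : x - ∑ i, g i * z i = 0 := tendsto_nhds_unique hlim1 hlim2
  have hxeq : x = ∑ i, g i * z i := sub_eq_zero.mp h0
  rw [hxeq]
  apply Submodule.sum_mem
  intro i _
  exact Ideal.mul_mem_right _ _ (Ideal.subset_span ⟨i, rfl⟩)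

/-- If `I` is finitely generated and the closures of its powers are open and form a basis of
neighbourhoods of zero in the complete Hausdorff linearly topologized ring `A`, then `A` is `I`-adic. -/
theorem isAdic_of_fg_of_closure_pow_basis (I : Ideal A) (hfg : I.FG)
    (hopen : ∀ n : ℕ, IsOpen (closure ((I ^ n : Ideal A) : Set A)))
    (hbasis : ∀ U ∈ 𝓝 (0 : A), ∃ n : ℕ, closure ((I ^ n : Ideal A) : Set A) ⊆ U) :
    IsAdic I := by
  rw [isAdic_iff]
  constructor
  · intro n
    rcases Nat.eq_zero_or_pos n with rfl | hn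
    · simp
    · -- `I ^ n` is finitely generated and satisfies the same hypotheses
      obtain ⟨s, g, hg⟩ := (Submodule.fg_iff_exists_fin_generating_family).mp (hfg.pow (n := n))
      have hg' : Ideal.span (Set.range g) = I ^ n := hg
      have h1 : (I ^ n).closure ≤ I ^ n := by
        rw [← hg']
        apply closure_le_of_fg g
        · intro k
          rw [hg', ← pow_mul]
          exact hopen (n * k)
        · intro U hU
          obtain ⟨m, hm⟩ := hbasis U hU
          refine ⟨m, ?_⟩
          rw [hg', ← pow_mul]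
          refine (closure_mono ?_).trans hm
          exact Ideal.pow_le_pow_right (Nat.le_mul_of_pos_left m hn)
      have h2 : ((I ^ n : Ideal A) : Set A) = closure ((I ^ n : Ideal A) : Set A) :=
        Set.Subset.antisymm subset_closure (by rw [← Ideal.coe_closure]; exact h1)
      rw [h2]
      exact hopen n
  · intro U hU
    obtain ⟨n, hn⟩ := hbasis U hU
    exact ⟨n, subset_closure.trans hn⟩

end

end Groth.Agent.Lib.helper7
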