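import Groth.Agent.Lib.Helper19.ProjSpaceProper
import Groth.Prelude.Def_RedSub

/-!
# Locally projective morphisms are proper (helper7)

`isProper_of_isLocallyProjective`: `RedSub.IsLocallyProjective (Over.mk f)` implies `IsProper f`.
-/

set_option autoImplicit false
universe u
open CategoryTheory CategoryTheory.Limits AlgebraicGeometry TopologicalSpace Opposite

namespace Groth.Agent.Lib.helper7.LocProjProper

open Groth.Agent.Lib.helper19.ProjSpaceProper

theorem isProper_of_isLocallyProjective {X S : Scheme.{u}} (f : X ⟶ S)
    (h : RedSub.IsLocallyProjective (Over.mk f)) : IsProper f := by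
  choose V hV n e he hcomp using h
  have hsup : iSup V = ⊤ := by
    rw [eq_top_iff]
    intro s _
    exact Opens.mem_iSup.mpr ⟨s, hV s⟩
  refine (IsZariskiLocalAtTarget.iff_of_iSup_eq_top (P := @IsProper) V hsup).mpr ?_
  intro s
  have h1 : IsProper (pullback.snd f (V s).ι) := by
    have := he s
    have h2 : IsProper (e s ≫ CohB1.ProjSpaceOver.toBase (n s) ((V s : S.Opens) : Scheme.{u})) :=
      inferInstance
    rw [hcomp s] at h2
    exact h2
  have h3 : f ∣_ V s = (pullbackRestrictIsoRestrict f (V s)).inv ≫ pullback.snd f (V s).ι := rfl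
  rw [h3]
  infer_instance

end Groth.Agent.Lib.helper7.LocProjProper
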