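import Mathlib.RingTheory.LocalRing.LocalSubring
import Mathlib.RingTheory.LocalRing.RingHom.Basic
import Mathlib.RingTheory.Localization.AtPrime.Basic

/-!
# `LocalSubring.ofPrime`: membership and domination (helper7)
-/

open IsLocalRing

namespace Groth.Agent.Lib.helper7

variable {K : Type*} [Field K]

/-- Elements of `A_P` are the fractions `a / s` with `s ∉ P`. -/
theorem mem_ofPrime_iff (A : Subring K) (P : Ideal A) [P.IsPrime] (x : K) :
    x ∈ (LocalSubring.ofPrime A P).toSubring ↔ ∃ a s : A, s ∉ P ∧ x = (a : K) / (s : K) := by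
  constructor
  · intro hx
    obtain ⟨⟨a, s⟩, h⟩ := IsLocalization.surj P.primeCompl
      (⟨x, hx⟩ : (LocalSubring.ofPrime A P).toSubring)
    refine ⟨a, s.1, s.2, ?_⟩
    have h' : x * (s.1 : K) = (a : K) := congrArg Subtype.val h
    have hs0 : (s.1 : K) ≠ 0 := by
      intro h0
      apply s.2
      have : s.1 = 0 := Subtype.ext h0
      rw [this]
      exact P.zero_mem
    rw [eq_div_iff hs0, h']
  · rintro ⟨a, s, hs, rfl⟩
    have hu : IsUnit (algebraMap A (LocalSubring.ofPrime A P).toSubring s) :=
      IsLocalization.map_units _ (⟨s, hs⟩ : P.primeCompl)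
    obtain ⟨u, hu⟩ := hu
    have h1 : ((u⁻¹ : (LocalSubring.ofPrime A P).toSubringˣ) : K) = (s : K)⁻¹ := by
      have h2 : ((u : (LocalSubring.ofPrime A P).toSubring) : K) *
          ((u⁻¹ : (LocalSubring.ofPrime A P).toSubringˣ) : K) = 1 := by
        have := congrArg Subtype.val (u.mul_inv)
        exact this
      have h3 : ((u : (LocalSubring.ofPrime A P).toSubring) : K) = (s : K) := by
        rw [hu]; rfl
      rw [h3] at h2
      exact eq_inv_of_mul_eq_one_right h2
    rw [div_eq_mul_inv, ← h1]
    exact Subring.mul_mem _ (LocalSubring.le_ofPrime A P a.2) (Subtype.mem _)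

/-- The maximal ideal of `A_P` contracts to `P`. -/
theorem comap_maximalIdeal_ofPrime (A : Subring K) (P : Ideal A) [P.IsPrime] :
    (maximalIdeal (LocalSubring.ofPrime A P).toSubring).comap
      (Subring.inclusion (LocalSubring.le_ofPrime A P)) = P := by
  ext a
  rw [Ideal.mem_comap]
  exact IsLocalization.AtPrime.to_map_mem_maximal_iff (LocalSubring.ofPrime A P).toSubring P a

/-- If `Q` dominates `P` and `C ≤ P`, then the maximal ideals of `P` and `Q` have the same
contraction to `C`. -/
theorem comap_maximalIdeal_eq_of_le {P Q : LocalSubring K} (h : P ≤ Q) {C : Subring K}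
    (hC : C ≤ P.toSubring) :
    (maximalIdeal Q.toSubring).comap (Subring.inclusion (hC.trans h.1)) =
      (maximalIdeal P.toSubring).comap (Subring.inclusion hC) := by
  obtain ⟨h1, h2⟩ := h
  have := IsLocalRing.maximalIdeal_comap (Subring.inclusion h1)
  rw [← this, Ideal.comap_comap]
  rfl

/-- `Q` dominates `A_P` iff `A ≤ Q` and the maximal ideal of `Q` contracts to `P`. -/
theorem ofPrime_le_iff (A : Subring K) (P : Ideal A) [P.IsPrime] (Q : LocalSubring K) :
    LocalSubring.ofPrime A P ≤ Q ↔ ∃ h : A ≤ Q.toSubring,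
      (maximalIdeal Q.toSubring).comap (Subring.inclusion h) = P := by
  constructor
  · intro h
    refine ⟨(LocalSubring.le_ofPrime A P).trans h.1, ?_⟩
    rw [comap_maximalIdeal_eq_of_le h (LocalSubring.le_ofPrime A P), comap_maximalIdeal_ofPrime]
  · rintro ⟨hA, hP⟩
    have hunit : ∀ s : A, s ∉ P → (s : K)⁻¹ ∈ Q.toSubring := by
      intro s hs
      have hs' : Subring.inclusion hA s ∉ maximalIdeal Q.toSubring := by
        intro hmem
        apply hs
        rw [← hP]
        exact hmem
      rw [IsLocalRing.mem_maximalIdeal, mem_nonunits_iff, not_not] at hs'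
      obtain ⟨u, hu⟩ := hs'
      have h2 : ((u : Q.toSubring) : K) * ((u⁻¹ : Q.toSubringˣ) : K) = 1 := by
        have := congrArg Subtype.val (u.mul_inv)
        exact this
      have h3 : ((u : Q.toSubring) : K) = (s : K) := by
        rw [hu]; rfl
      rw [h3] at h2
      rw [← eq_inv_of_mul_eq_one_right h2]
      exact Subtype.mem _
    have hle : (LocalSubring.ofPrime A P).toSubring ≤ Q.toSubring := by
      intro x hx
      obtain ⟨a, s, hs, rfl⟩ := (mem_ofPrime_iff A P x).mp hx
      rw [div_eq_mul_inv]
      exact Subring.mul_mem _ (hA a.2) (hunit s hs)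
    refine ⟨hle, ⟨?_⟩⟩
    rintro ⟨x, hx⟩ hxu
    obtain ⟨a, s, hs, rfl⟩ := (mem_ofPrime_iff A P x).mp hx
    -- `a ∉ P`, otherwise `a / s ∈ m_Q`
    have ha : a ∉ P := by
      intro haP
      have h1 : Subring.inclusion hA a ∈ maximalIdeal Q.toSubring := by
        have : a ∈ (maximalIdeal Q.toSubring).comap (Subring.inclusion hA) := by rw [hP]; exact haP
        exact this
      have h2 : (⟨(s : K)⁻¹, hunit s hs⟩ : Q.toSubring) * Subring.inclusion hA a ∈
          maximalIdeal Q.toSubring := Ideal.mul_mem_left _ _ h1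
      rw [IsLocalRing.mem_maximalIdeal, mem_nonunits_iff] at h2
      apply h2
      convert hxu using 1
      apply Subtype.ext
      simp [div_eq_mul_inv, mul_comm]
    -- then `a / s` is a unit of `A_P` with inverse `s / a`
    have hinv : (s : K) / (a : K) ∈ (LocalSubring.ofPrime A P).toSubring :=
      (mem_ofPrime_iff A P _).mpr ⟨s, a, ha, rfl⟩
    have ha0 : (a : K) ≠ 0 := by
      intro h0
      apply ha
      have : a = 0 := Subtype.ext h0
      rw [this]; exact P.zero_mem
    have hs0 : (s : K) ≠ 0 := by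
      intro h0
      apply hs
      have : s = 0 := Subtype.ext h0
      rw [this]; exact P.zero_mem
    refine IsUnit.of_mul_eq_one ⟨_, hinv⟩ ?_
    apply Subtype.ext
    simp only [Subring.coe_mul, Subring.coe_one]
    field_simp

end Groth.Agent.Lib.helper7
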