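import Groth.Agent.Lib.Helper7.GlueFlat
import Groth.Prelude.Def_EtMil
import Mathlib.LinearAlgebra.TensorProduct.Prod

/-!
# helper7: the exact sequence `0 → B' → B × A' → A → 0` of a Milnor square and flatness
-/

universe u

set_option linter.unusedSectionVars false

namespace Groth.Agent.Lib.helper7.MilnorSeq

open TensorProduct Groth.Agent.Lib.helper7

section Flat

variable {R : Type u} [CommRing R] {M' M M'' : Type u}
  [AddCommGroup M'] [AddCommGroup M] [AddCommGroup M''] [Module R M'] [Module R M] [Module R M'']

/-- Extension of flat modules is flat. -/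
theorem flat_of_exact (g : M' →ₗ[R] M) (p : M →ₗ[R] M'') (hg : Function.Injective g)
    (hp : Function.Surjective p) (H : Function.Exact g p) [Module.Flat R M'] [Module.Flat R M''] :
    Module.Flat R M := by
  rw [Module.Flat.iff_rTensor_preserves_injective_linearMap]
  intro N N' _ _ _ _ i hi
  rw [injective_iff_map_eq_zero]
  intro x hx
  have h1 : (i.rTensor M'') (p.lTensor N x) = 0 := by
    rw [GlueFlat.rTensor_lTensor_comm, hx, map_zero]
  have h2 : p.lTensor N x = 0 :=
    (injective_iff_map_eq_zero _).1
      (Module.Flat.rTensor_preserves_injective_linearMap (M := M'') i hi) _ h1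
  obtain ⟨y, rfl⟩ := (lTensor_exact N H hp x).1 h2
  have hgN' : Function.Injective (g.lTensor N') :=
    LinearMap.lTensor_injective_of_exact_of_flat p hp g hg H N'
  have h3 : g.lTensor N' (i.rTensor M' y) = 0 := by
    rw [← GlueFlat.rTensor_lTensor_comm, hx]
  have h4 : i.rTensor M' y = 0 := (injective_iff_map_eq_zero _).1 hgN' _ h3
  have h5 : y = 0 := (injective_iff_map_eq_zero _).1
      (Module.Flat.rTensor_preserves_injective_linearMap (M := M') i hi) _ h4
  rw [h5, map_zero]

/-- A product of two flat modules is flat. -/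
theorem flat_prod [Module.Flat R M'] [Module.Flat R M''] : Module.Flat R (M' × M'') :=
  flat_of_exact (LinearMap.inl R M' M'') (LinearMap.snd R M' M'') LinearMap.inl_injective
    LinearMap.snd_surjective (by
      intro x
      constructor
      · intro h
        exact ⟨x.1, Prod.ext rfl h.symm⟩
      · rintro ⟨y, rfl⟩
        rfl)

end Flat

section Seq

variable (R B' B A' A : Type u) [CommRing R] [CommRing B'] [CommRing B] [CommRing A'] [CommRing A]
    [Algebra B' B] [Algebra B' A'] [Algebra B A] [Algebra A' A] [Algebra B' A]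
    [IsScalarTower B' B A] [IsScalarTower B' A' A]
    [Algebra R B'] [Algebra R B] [Algebra R A'] [Algebra R A]
    [IsScalarTower R B' B] [IsScalarTower R B' A'] [IsScalarTower R B' A] [IsScalarTower R B A]
    [IsScalarTower R A' A]

/-- `B' → B × A'`. -/
noncomputable def mA : B' →ₗ[R] B × A' :=
  LinearMap.prod (IsScalarTower.toAlgHom R B' B).toLinearMap
    (IsScalarTower.toAlgHom R B' A').toLinearMap

/-- `B × A' → A`, the difference. -/
noncomputable def mB : B × A' →ₗ[R] A :=
  LinearMap.coprod (IsScalarTower.toAlgHom R B A).toLinearMap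
    (-(IsScalarTower.toAlgHom R A' A).toLinearMap)

theorem mA_apply (b' : B') : mA R B' B A' b' = (algebraMap B' B b', algebraMap B' A' b') := rfl

theorem mB_apply (x : B × A') : mB R B A' A x = algebraMap B A x.1 - algebraMap A' A x.2 := by
  simp [mB, sub_eq_add_neg]

variable {B' B A' A}

theorem mA_injective (hsq : EtMil.IsFibreSquare B' B A' A) :
    Function.Injective (mA R B' B A') := by
  intro b₁ b₂ h
  rw [mA_apply, mA_apply, Prod.mk.injEq] at h
  have hc : algebraMap B A (algebraMap B' B b₁) = algebraMap A' A (algebraMap B' A' b₁) := by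
    rw [← IsScalarTower.algebraMap_apply, ← IsScalarTower.algebraMap_apply]
  obtain ⟨c, _, hc'⟩ := hsq.2 _ _ hc
  rw [hc' b₁ ⟨rfl, rfl⟩, hc' b₂ ⟨h.1.symm, h.2.symm⟩]

theorem mB_surjective (hsq : EtMil.IsFibreSquare B' B A' A) :
    Function.Surjective (mB R B A' A) := by
  intro a
  obtain ⟨a', ha'⟩ := hsq.1 a
  exact ⟨(0, -a'), by rw [mB_apply]; simp [ha']⟩

theorem exact (hsq : EtMil.IsFibreSquare B' B A' A) :
    Function.Exact (mA R B' B A') (mB R B A' A) := by
  intro x
  rw [mB_apply, sub_eq_zero]
  constructor
  · intro h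
    obtain ⟨b', ⟨h1, h2⟩, _⟩ := hsq.2 x.1 x.2 h
    exact ⟨b', by rw [mA_apply, h1, h2]⟩
  · rintro ⟨b', rfl⟩
    rw [mA_apply]
    simp only
    rw [← IsScalarTower.algebraMap_apply, ← IsScalarTower.algebraMap_apply]

/-- The corner of a Milnor square of flat algebras is flat. -/
theorem flat_corner (hsq : EtMil.IsFibreSquare B' B A' A)
    [Module.Flat R B] [Module.Flat R A'] [Module.Flat R A] : Module.Flat R B' := by
  have : Module.Flat R (B × A') := flat_prod
  exact GlueFlat.flat_ker_of_exact (mA R B' B A') (mB R B A' A) (mA_injective R hsq)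
    (mB_surjective R hsq) (exact R hsq)

theorem map_id_eq_lTensor {R' : Type u} [CommRing R'] [Algebra R R'] {X Y : Type u} [CommRing X]
    [CommRing Y] [Algebra R X] [Algebra R Y] (φ : X →ₐ[R] Y) (z : R' ⊗[R] X) :
    Algebra.TensorProduct.map (AlgHom.id R R') φ z = φ.toLinearMap.lTensor R' z := by
  induction z using TensorProduct.induction_on with
  | zero => simp
  | tmul c p => simp
  | add x y hx hy => rw [map_add, map_add, hx, hy]

/-- Base change of a Milnor square of flat algebras is a fibre square. -/
theorem baseChange (hsq : EtMil.IsFibreSquare B' B A' A) [Module.Flat R A]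
    (R' : Type u) [CommRing R'] [Algebra R R'] :
    Function.Surjective (Algebra.TensorProduct.map (AlgHom.id R R') (IsScalarTower.toAlgHom R A' A)) ∧
    ∀ (x : R' ⊗[R] B) (y : R' ⊗[R] A'),
      Algebra.TensorProduct.map (AlgHom.id R R') (IsScalarTower.toAlgHom R B A) x =
        Algebra.TensorProduct.map (AlgHom.id R R') (IsScalarTower.toAlgHom R A' A) y →
      ∃! z : R' ⊗[R] B',
        Algebra.TensorProduct.map (AlgHom.id R R') (IsScalarTower.toAlgHom R B' B) z = x ∧
        Algebra.TensorProduct.map (AlgHom.id R R') (IsScalarTower.toAlgHom R B' A') z = y := by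
  constructor
  · intro z
    obtain ⟨w, hw⟩ := LinearMap.lTensor_surjective R'
      (g := (IsScalarTower.toAlgHom R A' A).toLinearMap) hsq.1 z
    exact ⟨w, by rw [map_id_eq_lTensor, hw]⟩
  · intro x y hxy
    simp only [map_id_eq_lTensor] at hxy ⊢
    have hinj : Function.Injective ((mA R B' B A').lTensor R') :=
      LinearMap.lTensor_injective_of_exact_of_flat (mB R B A' A) (mB_surjective R hsq)
        (mA R B' B A') (mA_injective R hsq) (exact R hsq) R'
    have hex := lTensor_exact R' (exact R hsq) (mB_surjective R hsq)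
    have hfst : (LinearMap.fst R B A') ∘ₗ (mA R B' B A') =
        (IsScalarTower.toAlgHom R B' B).toLinearMap := rfl
    have hsnd : (LinearMap.snd R B A') ∘ₗ (mA R B' B A') =
        (IsScalarTower.toAlgHom R B' A').toLinearMap := rfl
    have hinl : (mB R B A' A) ∘ₗ (LinearMap.inl R B A') =
        (IsScalarTower.toAlgHom R B A).toLinearMap := by
      ext b; simp [mB]
    have hinr : (mB R B A' A) ∘ₗ (LinearMap.inr R B A') =
        -(IsScalarTower.toAlgHom R A' A).toLinearMap := by
      ext b; simp [mB]
    have hw : (mB R B A' A).lTensor R'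
        ((LinearMap.inl R B A').lTensor R' x + (LinearMap.inr R B A').lTensor R' y) = 0 := by
      rw [map_add, ← LinearMap.comp_apply, ← LinearMap.comp_apply, ← LinearMap.lTensor_comp,
        ← LinearMap.lTensor_comp, hinl, hinr, LinearMap.lTensor_neg, LinearMap.neg_apply, hxy]
      exact add_neg_cancel _
    obtain ⟨z, hz⟩ := (hex _).1 hw
    have h1 : (IsScalarTower.toAlgHom R B' B).toLinearMap.lTensor R' z = x := by
      rw [← hfst, LinearMap.lTensor_comp, LinearMap.comp_apply, hz, map_add,
        ← LinearMap.comp_apply, ← LinearMap.comp_apply, ← LinearMap.lTensor_comp,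
        ← LinearMap.lTensor_comp, LinearMap.fst_comp_inl, LinearMap.fst_comp_inr]
      simp
    have h2 : (IsScalarTower.toAlgHom R B' A').toLinearMap.lTensor R' z = y := by
      rw [← hsnd, LinearMap.lTensor_comp, LinearMap.comp_apply, hz, map_add,
        ← LinearMap.comp_apply, ← LinearMap.comp_apply, ← LinearMap.lTensor_comp,
        ← LinearMap.lTensor_comp, LinearMap.snd_comp_inl, LinearMap.snd_comp_inr]
      simp
    refine ⟨z, ⟨h1, h2⟩, ?_⟩
    rintro z' ⟨h1', h2'⟩
    apply hinj
    have hpr : ∀ w : R' ⊗[R] (B × A'), TensorProduct.prodRight R R R' B A' w =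
        ((LinearMap.fst R B A').lTensor R' w, (LinearMap.snd R B A').lTensor R' w) := by
      intro w
      induction w using TensorProduct.induction_on with
      | zero => simp only [map_zero]; rfl
      | tmul c p => simp
      | add a b ha hb => rw [map_add, ha, hb, map_add, map_add]; rfl
    apply (TensorProduct.prodRight R R R' B A').injective
    rw [hpr, hpr, ← LinearMap.comp_apply, ← LinearMap.comp_apply, ← LinearMap.comp_apply,
      ← LinearMap.comp_apply, ← LinearMap.lTensor_comp, ← LinearMap.lTensor_comp, hfst, hsnd,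
      h1, h2, h1', h2']

end Seq

end Groth.Agent.Lib.helper7.MilnorSeq
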