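import Mathlib
import Groth.Agent.Lib.Helper7.OverCube3
import Groth.Agent.Lib.Helper7.AbSchCube
import Groth.Agent.Lib.Helper5.OverField

/-!
# The Mumford bundle of a family of line bundles on an abelian variety (helper7)

If `Λ(L)` is trivial on one fibre over a connected base `T`, it is pulled back from `T`.
-/

set_option autoImplicit false
set_option linter.style.haveILetI false
universe u
open CategoryTheory CategoryTheory.Limits MonoidalCategory CartesianMonoidalCategory MonObj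
  AlgebraicGeometry

namespace Groth.Agent.Lib.helper7.MumfordFam

open Groth.Agent.Lib.helper7.PicGrp Groth.Agent.Lib.helper7.OverCube
open Groth.Agent.Lib.helper7.AbSchCube (P map_P)

variable {K : Type u} [Field K] (X T : Over (Spec (CommRingCat.of K))) [GrpObj X]

theorem face₁_mul : lift (lift (toUnit (X ⊗ T) ≫ η[X]) (fst X T)) (snd X T) ≫ (μ[X] ▷ T) =
    𝟙 (X ⊗ T) := by
  rw [lift_whiskerRight, lift_comp_one_left, lift_fst_snd]

theorem face₁_fst : lift (lift (toUnit (X ⊗ T) ≫ η[X]) (fst X T)) (snd X T) ≫ (fst X X ▷ T) =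
    lift (toUnit (X ⊗ T) ≫ η[X]) (snd X T) := by
  rw [lift_whiskerRight, lift_fst]

theorem face₁_snd : lift (lift (toUnit (X ⊗ T) ≫ η[X]) (fst X T)) (snd X T) ≫ (snd X X ▷ T) =
    𝟙 (X ⊗ T) := by
  rw [lift_whiskerRight, lift_snd, lift_fst_snd]

theorem face₁_e : lift (lift (toUnit (X ⊗ T) ≫ η[X]) (fst X T)) (snd X T) ≫
    snd (X ⊗ X) T ≫ lift (toUnit T ≫ η[X]) (𝟙 T) = lift (toUnit (X ⊗ T) ≫ η[X]) (snd X T) := by
  rw [lift_snd_assoc, comp_lift, Category.comp_id]
  congr 1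
  rw [← Category.assoc]
  congr 1
  exact toUnit_unique _ _

theorem face₂_mul : lift (lift (fst X T) (toUnit (X ⊗ T) ≫ η[X])) (snd X T) ≫ (μ[X] ▷ T) =
    𝟙 (X ⊗ T) := by
  rw [lift_whiskerRight, lift_comp_one_right, lift_fst_snd]

theorem face₂_fst : lift (lift (fst X T) (toUnit (X ⊗ T) ≫ η[X])) (snd X T) ≫ (fst X X ▷ T) =
    𝟙 (X ⊗ T) := by
  rw [lift_whiskerRight, lift_fst, lift_fst_snd]

theorem face₂_snd : lift (lift (fst X T) (toUnit (X ⊗ T) ≫ η[X])) (snd X T) ≫ (snd X X ▷ T) =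
    lift (toUnit (X ⊗ T) ≫ η[X]) (snd X T) := by
  rw [lift_whiskerRight, lift_snd]

theorem face₂_e : lift (lift (fst X T) (toUnit (X ⊗ T) ≫ η[X])) (snd X T) ≫
    snd (X ⊗ X) T ≫ lift (toUnit T ≫ η[X]) (𝟙 T) = lift (toUnit (X ⊗ T) ≫ η[X]) (snd X T) := by
  rw [lift_snd_assoc, comp_lift, Category.comp_id]
  congr 1
  rw [← Category.assoc]
  congr 1
  exact toUnit_unique _ _

/-- **the Mumford bundle of a family**: triviality on one fibre implies triviality relative to the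
base -/
theorem mumford_family [IsProper X.hom] [GeometricallyIntegral X.hom] [ConnectedSpace ↑T.left]
    (ℓ : Pic (X ⊗ T).left) {T' : Scheme.{u}} [Unique ↥T'] (c : T' ⟶ T.left)
    (ht : map (pullback.fst (snd (X ⊗ X) T).left c) (map (μ[X] ▷ T).left ℓ) =
      map (pullback.fst (snd (X ⊗ X) T).left c)
        (map (fst X X ▷ T).left ℓ * map (snd X X ▷ T).left ℓ)) :
    map (μ[X] ▷ T).left ℓ *
        map (snd (X ⊗ X) T).left (map (lift (toUnit T ≫ η[X]) (𝟙 T)).left ℓ) =
      map (fst X X ▷ T).left ℓ * map (snd X X ▷ T).left ℓ := by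
  haveI : Flat X.hom := Groth.Agent.Lib.helper5.OverField.flat_of_field X.hom
  haveI : LocallyOfFinitePresentation X.hom :=
    LocallyOfFinitePresentation.iff_locallyOfFiniteType.mpr inferInstance
  have hσ : map (snd (X ⊗ X) T).left (map (lift (toUnit T ≫ η[X]) (𝟙 T)).left ℓ) =
      P ℓ (snd (X ⊗ X) T ≫ lift (toUnit T ≫ η[X]) (𝟙 T)) := (map_P ℓ _ _)
  rw [← mul_inv_eq_one]
  change P ℓ (μ[X] ▷ T) * map (snd (X ⊗ X) T).left (map (lift (toUnit T ≫ η[X]) (𝟙 T)).left ℓ) *
    (P ℓ (fst X X ▷ T) * P ℓ (snd X X ▷ T))⁻¹ = 1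
  refine over_cube_point X X T η[X] η[X] _ ?_ ?_ c ?_
  · rw [hσ]
    simp only [map_mul, map_inv, map_P]
    rw [face₁_mul, face₁_fst, face₁_snd, face₁_e, mul_inv_eq_one, _root_.mul_comm]
  · rw [hσ]
    simp only [map_mul, map_inv, map_P]
    rw [face₂_mul, face₂_fst, face₂_snd, face₂_e, mul_inv_eq_one]
  · have h1 : map (pullback.fst (snd (X ⊗ X) T).left c)
        (map (snd (X ⊗ X) T).left (map (lift (toUnit T ≫ η[X]) (𝟙 T)).left ℓ)) = 1 := by
      rw [← map_comp]
      exact map_eq_one_of_factors _ (pullback.snd (snd (X ⊗ X) T).left c) c pullback.condition _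
    rw [map_mul, map_mul, map_inv, h1, _root_.mul_one, mul_inv_eq_one]
    exact ht

end Groth.Agent.Lib.helper7.MumfordFam
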