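import Mathlib
import Groth.Agent.Lib.Helper7.IntList6
import Groth.Agent.Lib.Helper7.SnapperPos6
import Groth.Agent.Lib.Helper12.Chow7
import Groth.Agent.Lib.Helper11.S0002T5
import Groth.Agent.Lib.Helper20.TensorEquiv

/-!
# Numerically trivial invertible modules with a section (helper7)

* `isIso_of_numTriv_of_ample`: on an integral projective scheme, a section of a numerically trivial invertible
  module which is nonzero at some point is an isomorphism
* `isIso_of_numTriv`: the same on an integral proper scheme (Chow's lemma)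
-/

set_option autoImplicit false
set_option linter.unusedSectionVars false
set_option linter.style.haveILetI false
universe u

open CategoryTheory CategoryTheory.Limits AlgebraicGeometry Opposite TopologicalSpace

namespace Groth.Agent.Lib.helper7.IntList

open Groth.Agent.Lib.Lead.ModTensor Groth.Agent.Lib.helper12.TensorInv
open Groth.Agent.Lib.Helper18.NefPull Groth.Agent.Lib.helper7.SnapperPos
open Groth.Agent.Lib.helper7.SnapperQuot Groth.Agent.Lib.helper7.DivisorDim
open Groth.Agent.Lib.helper11.IsoLocus

variable (k : Type u) [Field k]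

section Proj

variable (Z : Scheme.{u}) [Z.Over (Spec (CommRingCat.of k))]
  [IsProper (Z ↘ Spec (CommRingCat.of k))]

/-- the degree of the inverse -/
theorem neg_nefq_inv {L M : Z.Modules} (hL : PicF.IsInvertible L) (hM : PicF.IsInvertible M)
    (εL : CohB1.tensorMod L M ≅ Coh.structureModule Z) (C : Z.IdealSheafData)
    (hC : topologicalKrullDim (C.support : Set Z) = 1) : - nefq k Z C M = nefq k Z C L := by
  have hQ := isCoh_quotMod C
  have hd : topologicalKrullDim (CohB1.support (ClSub.quotMod C)) ≤
      ((([] : List Z.Modules).length + 1 : ℕ) : WithBot ℕ∞) := by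
    rw [support_quotMod_eq, hC]
    rfl
  have hnil : ∀ A ∈ ([] : List Z.Modules), PicF.IsInvertible A :=
    fun _ h => absurd h List.not_mem_nil
  rw [neg_nefq_eq_E, E_inv k Z L M hL hM εL [] hnil _ hQ hd, ← neg_nefq_eq_E, neg_neg]

variable [IsIntegral Z]

/-- a section of a numerically trivial invertible module on an integral projective scheme is an isomorphism as
soon as it is nonzero -/
theorem isIso_of_numTriv_of_ample {H' : Z.Modules} (hH' : IsAmpleInv Z H') {N : Z.Modules}
    (hN : PicF.IsInvertible N)
    (hnum : ∀ C : Z.IdealSheafData, IsIntegral C.subscheme →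
      topologicalKrullDim (C.support : Set Z) = 1 → nefq k Z C N = 0)
    (t : Coh.structureModule Z ⟶ N) (hne : ∃ x : Z, x ∈ CohB1.genLocus N t) : IsIso t := by
  haveI := Groth.Agent.Lib.Lead.CurveEuler.isNoetherian k Z
  have hO : Coh.IsCoh (Coh.structureModule Z) :=
    Groth.Agent.Lib.helper8.Dev.isCoh_structureModule Z
  obtain ⟨N', hN', ⟨ε⟩, -⟩ := Groth.Agent.Lib.helper12.InvDual.exists_inverse hN
  haveI : N'.IsQuasicoherent := (Groth.Agent.Lib.Lead.CurveInv.isCoh_of_isInvertible Z hN').1
  set D := divisor N N' ε t with hDdef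
  have hD : BlowUp.IsEffCartierIdeal D := isEffCartier_divisor _ _ ε t hN' hne
  obtain ⟨eD⟩ := nonempty_idealMod_divisor_iso N N' ε t hN' hne
  set G := ClSub.quotMod D with hGdef
  have hempty : CohB1.support G = ∅ := by
    by_contra hnonempty
    obtain ⟨y, hy⟩ := Set.nonempty_iff_ne_empty.mpr hnonempty
    have hyD : y ∈ D.support := support_quotMod_subset D hy
    obtain ⟨x₀, hx₀⟩ := hne
    have hx₀D : x₀ ∉ D.support := notMem_support_divisor N N' ε t hx₀
    -- the dimension of `Z` is positive
    obtain ⟨d, hd, -⟩ := Groth.Agent.Lib.helper3.IrredDim.exists_dim_eq_localDim_of_irreducible k Z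
    have hd1 : 1 ≤ d := by
      have hne' : (D.support : Set Z) ≠ Set.univ := fun h => hx₀D (by
        rw [← SetLike.mem_coe, h]; trivial)
      have h1 := Groth.Agent.Lib.helper8.DimLt.topologicalKrullDim_add_one_le
        (Set.subset_univ (D.support : Set Z)) D.support.isClosed
        (IrreducibleSpace.isIrreducible_univ Z) hne'
      rw [Groth.Agent.Lib.helper3.IrredDim.dim_univ_eq, hd] at h1
      haveI : Nonempty ↥(D.support : Set Z) := ⟨⟨y, hyD⟩⟩
      have h2 : (0 : WithBot ℕ∞) ≤ topologicalKrullDim ↥(D.support : Set Z) :=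
        Groth.Agent.Lib.helper3.TopDim.dim_nonneg
      have h3 : ((0 + 1 : ℕ) : WithBot ℕ∞) ≤ ((d : ℕ) : WithBot ℕ∞) := by
        refine le_trans ?_ h1
        push_cast
        exact le_add_of_nonneg_left h2
      exact_mod_cast h3
    obtain ⟨s, rfl⟩ : ∃ s, d = s + 1 := ⟨d - 1, by omega⟩
    have hdim : topologicalKrullDim Z = ((s + 1 : ℕ) : WithBot ℕ∞) := hd
    have hGdim : topologicalKrullDim (CohB1.support G) = ((s : ℕ) : WithBot ℕ∞) := by
      rw [hGdef, support_quotMod_eq D]
      apply le_antisymm
      · have h2 : topologicalKrullDim Z = ((s : ℕ) : WithBot ℕ∞) + 1 := by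
          rw [hdim]; push_cast; rfl
        exact Groth.Agent.Lib.helper7.SnapperCartier.dim_support_le_of_effCartier D hD s h2
      · exact le_dim_support_of_effCartier k Z s hdim D hD y hyD
    -- the intersection number vanishes
    have hslot : SlotCond k (fun a : ℤ => a = 0) Z N' := by
      refine ⟨hN', fun C hCi hC => ?_⟩
      show - nefq k Z C N' = 0
      rw [neg_nefq_inv k Z hN hN' ε C hC]
      exact hnum C hCi hC
    have hl : ∀ T' ∈ List.replicate s H', IsAmpleInv Z T' := fun T' hT' => by
      rw [List.eq_of_mem_replicate hT']; exact hH'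
    have h0 := nt k Z hH' hslot [] (fun _ h => absurd h List.not_mem_nil) (List.replicate s H') hl
      (Coh.structureModule Z) hO (by
        rw [Groth.Agent.Lib.helper7.SnapperARR.dim_support_structureModule Z, hdim]
        simp)
    rw [List.nil_append, E_cut_ideal k Z D eD.symm _ (fun A hA => (hl A hA).isInvertible)] at h0
    obtain ⟨H, hH, hε⟩ := hH'
    obtain ⟨dd, hdd⟩ := exists_dim_le k Z
    have hpos := intNum_const_pos k Z dd hdd H H' hH hε s G (isCoh_quotMod D) hGdim
    rw [E_replicate k Z dd hdd] at h0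
    exact (ne_of_gt hpos) h0
  have hG0 : IsZero G := Groth.Agent.Lib.helper7.SnapperMain.isZero_of_support_eq_empty G hempty
  haveI hι : IsIso (ClSub.idealModι D) := isIso_idealModι_of_isZero D hG0
  haveI := mono_dualSec N N' ε t hN' hne
  have hdual : IsIso (dualSec N N' ε t) := by
    have h := Groth.Agent.Lib.helper11.IdealOfMono.idealModIso_hom_ι N' (dualSec N N' ε t)
    rw [← h]
    haveI : IsIso (ClSub.idealModι
        (Groth.Agent.Lib.helper11.IdealOfMono.idealOfHom N' (dualSec N N' ε t))) := hι
    infer_instance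
  have hten : IsIso (tensorMap t (𝟙 N')) := by
    have h1 : tensorMap t (𝟙 N') = (leftUnitor N').hom ≫ dualSec N N' ε t ≫ ε.inv := by
      unfold dualSec
      simp
    rw [h1]
    infer_instance
  haveI := Groth.Agent.Lib.Helper20.TensorEquiv.isEquivalence_tensorRight (braid N' N ≪≫ ε)
  have h2 : IsIso ((Groth.Agent.Lib.Helper20.TensorEquiv.tensorRight N').map t) := hten
  exact isIso_of_reflects_iso t (Groth.Agent.Lib.Helper20.TensorEquiv.tensorRight N')

end Proj

section Proper

variable (X : Scheme.{u}) [X.Over (Spec (CommRingCat.of k))]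
  [IsProper (X ↘ Spec (CommRingCat.of k))] [IsIntegral X]

/-- a nonzero section of a numerically trivial invertible module on an integral proper scheme is an
isomorphism -/
theorem isIso_of_numTriv {L : X.Modules} (hL : PicF.IsInvertible L)
    (hnum : ∀ C : X.IdealSheafData, IsIntegral C.subscheme →
      topologicalKrullDim (C.support : Set X) = 1 → nefq k X C L = 0)
    (s : Coh.structureModule X ⟶ L) (hs : s ≠ 0) : IsIso s := by
  -- the section is nonzero somewhere
  have hne : ∃ y : X, y ∈ CohB1.genLocus L s := by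
    have h1 := Groth.Agent.Lib.Lead.GenLocusInt.isoLocus_ne_bot
      (Groth.Agent.Lib.helper11.InvMod.isInvertible_structureModule X) hL s hs
    by_contra hcon
    apply h1
    ext y
    simp only [Opens.coe_bot, Set.mem_empty_iff_false, iff_false]
    exact fun hy => hcon ⟨y, hy⟩
  obtain ⟨y, hy⟩ := hne
  -- Chow's lemma
  obtain ⟨n, X'', π, j, hjcl, hj, hπ, hsurj, -, hint⟩ :=
    Groth.Agent.Lib.helper12.Chow7.chow_integral_proper (X ↘ Spec (CommRingCat.of k))
  haveI := hjcl
  haveI := hπ
  haveI := hint
  letI : X''.Over (Spec (CommRingCat.of k)) := ⟨π ≫ (X ↘ Spec (CommRingCat.of k))⟩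
  haveI : IsProper (X'' ↘ Spec (CommRingCat.of k)) := by
    show IsProper (π ≫ (X ↘ Spec (CommRingCat.of k)))
    infer_instance
  have hamp := Groth.Agent.Lib.helper11.S0002T5.isAmple_L1 k n j
  obtain ⟨H', -, ⟨εH⟩, -⟩ := Groth.Agent.Lib.helper12.InvDual.exists_inverse hamp.1
  have hH' : IsAmpleInv X'' H' := ⟨_, hamp, ⟨εH⟩⟩
  -- the pulled back module and section
  set N := (Scheme.Modules.pullback π).obj L with hNdef
  have hN : PicF.IsInvertible N := Groth.Agent.Lib.helper11.InvMod.isInvertible_pullback π hL
  have hnumN : ∀ C' : X''.IdealSheafData, IsIntegral C'.subscheme →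
      topologicalKrullDim (C'.support : Set X'') = 1 → nefq k X'' C' N = 0 := by
    intro C' hC'i hC'
    haveI := hC'i
    rcases Groth.Agent.Lib.helper7.NumEq.nefq_pullback_cases k X X'' π rfl C' hC' with
      h0 | ⟨C, hCi, hC, r, -, hr⟩
    · exact h0 L hL
    · rw [hr L hL, hnum C hCi hC, mul_zero]
  set t : Coh.structureModule X'' ⟶ N :=
    (Groth.Agent.Lib.helper11.InvMod.pullbackUnitIso π).inv ≫ (Scheme.Modules.pullback π).map s
    with htdef
  have hgen : CohB1.genLocus N t = π ⁻¹ᵁ CohB1.genLocus L s :=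
    Groth.Agent.Lib.helper11.InvPullback.genLocus_pullback π L hL s
      (Groth.Agent.Lib.helper11.InvMod.pullbackUnitIso π).symm
  obtain ⟨y', hy'⟩ := hsurj.surj y
  have hne' : ∃ x : X'', x ∈ CohB1.genLocus N t := ⟨y', by
    rw [hgen]
    show π y' ∈ CohB1.genLocus L s
    rw [hy']
    exact hy⟩
  have hiso := isIso_of_numTriv_of_ample k X'' hH' hN hnumN t hne'
  rw [← genLocus_eq_top_iff] at hiso ⊢
  rw [hgen] at hiso
  ext x
  simp only [Opens.coe_top, Set.mem_univ, iff_true]
  obtain ⟨x', hx'⟩ := hsurj.surj x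
  have : x' ∈ (π ⁻¹ᵁ CohB1.genLocus L s) := by rw [hiso]; trivial
  rw [← hx']
  exact this

end Proper

end Groth.Agent.Lib.helper7.IntList
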