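import Mathlib
import Groth.Agent.Lib.Helper7.BCField
import Groth.Agent.Lib.Helper7.NumEq5
import Groth.Agent.Lib.Helper7.NumEq4
import Groth.Agent.Lib.Helper7.NumTrivSec
import Groth.Agent.Lib.Helper12.Chow11

/-!
# Nefness and base field extension (helper7)

* `exists_projective_cover`: a proper `k`-scheme is dominated by a projective one (Chow's lemma)
* `Nef`, `Nef.pullback`, `Nef.descend`, `Nef.of_iso`
* `nef_bc_iff`: `L` is nef iff its pullback to `X_{k'}` is nef
-/

set_option autoImplicit false
set_option linter.unusedSectionVars false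
set_option linter.style.haveILetI false
universe u

open CategoryTheory CategoryTheory.Limits AlgebraicGeometry Opposite TopologicalSpace

namespace Groth.Agent.Lib.helper7.NefBC

open Groth.Agent.Lib.Lead.ModTensor Groth.Agent.Lib.helper12.TensorInv
open Groth.Agent.Lib.helper7.IntList Groth.Agent.Lib.Helper18.NefPull
open Groth.Agent.Lib.helper12.PullTensor Groth.Agent.Lib.helper12.PullAmple
open Groth.Agent.Lib.helper7.NumEq Groth.Agent.Lib.helper7.BCField

section Cover

variable (k : Type u) [Field k] (X : Scheme.{u}) [X.Over (Spec (CommRingCat.of k))]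
  [IsProper (X ↘ Spec (CommRingCat.of k))]

include k in
/-- Chow's lemma: a proper `k`-scheme is dominated by a scheme with an ample module -/
theorem exists_projective_cover :
    ∃ (X'' : Scheme.{u}) (π : X'' ⟶ X), IsProper π ∧ Function.Surjective π ∧
      ∃ H : X''.Modules, CohB1.IsAmple H := by
  haveI := Groth.Agent.Lib.Lead.CurveEuler.isNoetherian k X
  have hfin : (irreducibleComponents X).Finite :=
    TopologicalSpace.NoetherianSpace.finite_irreducibleComponents
  obtain ⟨n, X'', π, j, hj, hjf, hπ, hs, -, -, -⟩ :=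
    Groth.Agent.Lib.helper12.Chow11.chow_finite_components' (X ↘ Spec (CommRingCat.of k)) hfin
  haveI := hj
  haveI := hπ
  have h1 : IsProper (CohB1.ProjSpaceOver.toBase n (Spec (CommRingCat.of k))) :=
    Groth.Agent.Lib.helper19.ProjSpaceProper.proper_toBase n _
  haveI : IsProper (j ≫ CohB1.ProjSpaceOver.toBase n (Spec (CommRingCat.of k))) := by
    rw [hjf]; infer_instance
  haveI := Groth.Agent.Lib.helper12.Chow5.isClosedImmersion_of_isProper_comp j
    (CohB1.ProjSpaceOver.toBase n (Spec (CommRingCat.of k)))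
  exact ⟨X'', π, hπ, hs.surj, _, Groth.Agent.Lib.helper11.S0002T5.isAmple_L1 k n j⟩

end Cover

section Nef

variable (k : Type u) [Field k] (X X' : Scheme.{u}) [X.Over (Spec (CommRingCat.of k))]
  [IsProper (X ↘ Spec (CommRingCat.of k))] [X'.Over (Spec (CommRingCat.of k))]
  [IsProper (X' ↘ Spec (CommRingCat.of k))]

/-- nefness -/
def Nef (L : X.Modules) : Prop :=
  ∀ C : X.IdealSheafData, IsIntegral C.subscheme →
    topologicalKrullDim (C.support : Set X) = 1 → 0 ≤ nefq k X C L

theorem nefq_congr {L L' : X.Modules} (e : L ≅ L') (C : X.IdealSheafData) :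
    nefq k X C L = nefq k X C L' := by
  unfold nefq
  rw [Groth.Agent.Lib.Lead.CurveEuler.euler_eq_of_iso k X (tensorIso (Iso.refl _) e)]

theorem Nef.of_iso {L L' : X.Modules} (e : L ≅ L') (h : Nef k X L) : Nef k X L' :=
  fun C hCi hC => (nefq_congr k X e C) ▸ h C hCi hC

theorem Nef.pullback (g : X' ⟶ X)
    (hg : g ≫ (X ↘ Spec (CommRingCat.of k)) = X' ↘ Spec (CommRingCat.of k))
    {L : X.Modules} (hL : PicF.IsInvertible L) (h : Nef k X L) :
    Nef k X' ((Scheme.Modules.pullback g).obj L) := by
  intro C' hC'i hC'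
  haveI := hC'i
  rcases nefq_pullback_cases k X X' g hg C' hC' with h0 | ⟨C, hCi, hC, r, -, hr⟩
  · rw [h0 L hL]
  · rw [hr L hL]
    exact mul_nonneg (Int.natCast_nonneg r) (h C hCi hC)

theorem Nef.descend (g : X' ⟶ X)
    (hg : g ≫ (X ↘ Spec (CommRingCat.of k)) = X' ↘ Spec (CommRingCat.of k))
    (hsurj : Function.Surjective g)
    {L : X.Modules} (hL : PicF.IsInvertible L)
    (h : Nef k X' ((Scheme.Modules.pullback g).obj L)) : Nef k X L := by
  intro C hCi hC
  haveI := hCi
  haveI : IsProper g := by
    haveI : IsProper (g ≫ (X ↘ (Spec (CommRingCat.of k)))) := by rw [hg]; infer_instance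
    exact IsProper.of_comp g (X ↘ (Spec (CommRingCat.of k)))
  haveI := Groth.Agent.Lib.Lead.CurveEuler.isNoetherian k X'
  obtain ⟨C', hC'i, hC', himg⟩ := exists_curve_lift g g.isClosedMap hsurj C hC
  haveI := hC'i
  obtain ⟨r, hr, hh⟩ := nefq_pullback_unif k X X' g hg C hC C' hC' himg
  have h1 := h C' hC'i hC'
  rw [hh L hL] at h1
  have hr' : (0 : ℤ) < (r : ℤ) := by exact_mod_cast hr
  exact nonneg_of_mul_nonneg_right h1 hr'

end Nef

section BC

variable (k : Type u) [Field k] (X : Scheme.{u}) [X.Over (Spec (CommRingCat.of k))]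
  [IsProper (X ↘ Spec (CommRingCat.of k))]
  (k' : Type u) [Field k'] [Algebra k k'] (X₁ : Scheme.{u}) [X₁.Over (Spec (CommRingCat.of k'))]
  [IsProper (X₁ ↘ Spec (CommRingCat.of k'))] (g : X₁ ⟶ X)
  (hpb : IsPullback g (X₁ ↘ Spec (CommRingCat.of k')) (X ↘ Spec (CommRingCat.of k))
    (Spec.map (CommRingCat.ofHom (algebraMap k k'))))

include hpb in
theorem isAffineHom_of_isPullback : IsAffineHom g :=
  MorphismProperty.of_isPullback (P := @IsAffineHom) hpb.flip inferInstance

include hpb in
/-- **nefness is invariant under base field extension** -/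
theorem nef_bc_iff {L : X.Modules} (hL : PicF.IsInvertible L) :
    Nef k X L ↔ Nef k' X₁ ((Scheme.Modules.pullback g).obj L) := by
  haveI : IsAffineHom g := isAffineHom_of_isPullback k X k' X₁ g hpb
  obtain ⟨X'', π, hπ, hsurj, H, hH⟩ := exists_projective_cover k X
  haveI := hπ
  haveI : Surjective π := ⟨hsurj⟩
  letI : X''.Over (Spec (CommRingCat.of k)) := ⟨π ≫ (X ↘ Spec (CommRingCat.of k))⟩
  haveI : IsProper (X'' ↘ Spec (CommRingCat.of k)) := by
    show IsProper (π ≫ (X ↘ Spec (CommRingCat.of k)))
    infer_instance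
  -- the fibre product
  let Y : Scheme.{u} := pullback π g
  let a : Y ⟶ X'' := pullback.fst π g
  let b : Y ⟶ X₁ := pullback.snd π g
  letI : Y.Over (Spec (CommRingCat.of k')) := ⟨b ≫ (X₁ ↘ Spec (CommRingCat.of k'))⟩
  haveI : IsProper b := by
    show IsProper (pullback.snd π g)
    infer_instance
  haveI : IsProper (Y ↘ Spec (CommRingCat.of k')) := by
    show IsProper (b ≫ (X₁ ↘ Spec (CommRingCat.of k')))
    infer_instance
  haveI : IsAffineHom a :=
    MorphismProperty.of_isPullback (P := @IsAffineHom) (IsPullback.of_hasPullback π g).flip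
      inferInstance
  have hbsurj : Function.Surjective b := by
    have : Surjective (pullback.snd π g) := inferInstance
    exact this.surj
  have hpbY : IsPullback a (Y ↘ Spec (CommRingCat.of k')) (X'' ↘ Spec (CommRingCat.of k))
      (Spec.map (CommRingCat.ofHom (algebraMap k k'))) :=
    IsPullback.paste_vert (IsPullback.of_hasPullback π g) hpb
  set M := (Scheme.Modules.pullback π).obj L with hMdef
  have hM : PicF.IsInvertible M := Groth.Agent.Lib.helper11.InvMod.isInvertible_pullback π hL
  have hgL : PicF.IsInvertible ((Scheme.Modules.pullback g).obj L) :=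
    Groth.Agent.Lib.helper11.InvMod.isInvertible_pullback g hL
  have haM : PicF.IsInvertible ((Scheme.Modules.pullback a).obj M) :=
    Groth.Agent.Lib.helper11.InvMod.isInvertible_pullback a hM
  have e1 : (Scheme.Modules.pullback a).obj M ≅
      (Scheme.Modules.pullback b).obj ((Scheme.Modules.pullback g).obj L) :=
    (Scheme.Modules.pullbackComp a π).app L ≪≫
      (Scheme.Modules.pullbackCongr (pullback.condition (f := π) (g := g))).app L ≪≫
      ((Scheme.Modules.pullbackComp b g).app L).symm
  constructor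
  · intro hnef
    have hMnef : Nef k X'' M := hnef.pullback k X X'' π rfl hL
    have hamp : ∀ ν : ℕ, 0 < ν → CohB1.IsAmple (CohB1.tensorMod
        (CohB1.tensorPow ((Scheme.Modules.pullback a).obj M) ν)
        ((Scheme.Modules.pullback a).obj H)) := by
      intro ν _
      have h1 := isAmple_tensorPow_tensor_of_nef k X'' hM hH hMnef ν
      have h2 := isAmple_pullback_of_isAffineHom a h1
      exact Groth.Agent.Lib.helper12.AmplePow.isAmple_of_iso
        (pullTensorIso a _ H hH.1 ≪≫ tensorIso (pullTensorPowIso a hM ν) (Iso.refl _)) h2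
    have haMnef : Nef k' Y ((Scheme.Modules.pullback a).obj M) := fun C hCi hC =>
      nef_of_forall_isAmple k' Y haM (isAmple_pullback_of_isAffineHom a hH) hamp C hCi hC
    have hbnef : Nef k' Y ((Scheme.Modules.pullback b).obj ((Scheme.Modules.pullback g).obj L)) :=
      haMnef.of_iso k' Y e1
    exact Nef.descend k' X₁ Y b rfl hbsurj hgL hbnef
  · intro hnef
    have hbnef : Nef k' Y ((Scheme.Modules.pullback b).obj ((Scheme.Modules.pullback g).obj L)) :=
      hnef.pullback k' X₁ Y b rfl hgL
    have haMnef : Nef k' Y ((Scheme.Modules.pullback a).obj M) := hbnef.of_iso k' Y e1.symm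
    haveI := Groth.Agent.Lib.Lead.CurveEuler.isNoetherian k X''
    obtain ⟨M', hM', ⟨εM⟩, -⟩ := Groth.Agent.Lib.helper12.InvDual.exists_inverse hM
    have haM' : PicF.IsInvertible ((Scheme.Modules.pullback a).obj M') :=
      Groth.Agent.Lib.helper11.InvMod.isInvertible_pullback a hM'
    have εaM : CohB1.tensorMod ((Scheme.Modules.pullback a).obj M)
        ((Scheme.Modules.pullback a).obj M') ≅ Coh.structureModule Y :=
      (pullTensorIso a M M' hM').symm ≪≫ (Scheme.Modules.pullback a).mapIso εM ≪≫
        Groth.Agent.Lib.helper11.InvMod.pullbackUnitIso a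
    have hNI : NefInv k' Y ((Scheme.Modules.pullback a).obj M') :=
      nefInv_of_nef k' Y haM haM' εaM haMnef
    have hMnef : Nef k X'' M := by
      intro C hCi hC
      rw [← neg_nefq_inv k X'' hM hM' εM C hC, neg_nefq_eq_E]
      have hQ := Groth.Agent.Lib.helper7.SnapperQuot.isCoh_quotMod C
      have h2 := E_bc k X'' k' Y a hpbY [M'] (by
        intro A hA
        rw [List.mem_singleton] at hA
        exact hA ▸ hM') (ClSub.quotMod C) hQ
      rw [← h2]
      have hd : topologicalKrullDim (CohB1.support ((Scheme.Modules.pullback a).obj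
          (ClSub.quotMod C))) ≤ (((0 : ℕ) + 1 : ℕ) : WithBot ℕ∞) := by
        refine dim_support_bc_le k X'' k' Y a hpbY hH hQ 1 ?_
        rw [Groth.Agent.Lib.helper7.DivisorDim.support_quotMod_eq, hC]
        rfl
      exact gen k' goodPred_nonneg 0 Y ((Scheme.Modules.pullback a).obj M') [] hNI
        (fun _ h => absurd h List.not_mem_nil) rfl _ (isCoh_pullback a hQ) hd
    exact hMnef.descend k X X'' π rfl hsurj hL

/-- numerical triviality in terms of nefness of `L` and its inverse -/
theorem numTriv_iff_nef_nef {L L' : X.Modules} (hL : PicF.IsInvertible L)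
    (hL' : PicF.IsInvertible L') (εL : CohB1.tensorMod L L' ≅ Coh.structureModule X) :
    (∀ C : X.IdealSheafData, IsIntegral C.subscheme →
      topologicalKrullDim (C.support : Set X) = 1 → nefq k X C L = 0) ↔
      (Nef k X L ∧ Nef k X L') := by
  constructor
  · intro h
    refine ⟨fun C hCi hC => (h C hCi hC).ge, fun C hCi hC => ?_⟩
    have h1 := neg_nefq_inv k X hL hL' εL C hC
    have h2 := h C hCi hC
    omega
  · rintro ⟨h1, h2⟩ C hCi hC
    have h3 := neg_nefq_inv k X hL hL' εL C hC
    have h4 := h1 C hCi hC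
    have h5 := h2 C hCi hC
    omega

include hpb in
/-- **numerical triviality is invariant under base field extension** -/
theorem numTriv_bc_iff {L : X.Modules} (hL : PicF.IsInvertible L) :
    (∀ C : X.IdealSheafData, IsIntegral C.subscheme →
      topologicalKrullDim (C.support : Set X) = 1 → nefq k X C L = 0) ↔
    (∀ C' : X₁.IdealSheafData, IsIntegral C'.subscheme →
      topologicalKrullDim (C'.support : Set X₁) = 1 →
        nefq k' X₁ C' ((Scheme.Modules.pullback g).obj L) = 0) := by
  haveI := Groth.Agent.Lib.Lead.CurveEuler.isNoetherian k X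
  obtain ⟨L', hL', ⟨εL⟩, -⟩ := Groth.Agent.Lib.helper12.InvDual.exists_inverse hL
  have hgL : PicF.IsInvertible ((Scheme.Modules.pullback g).obj L) :=
    Groth.Agent.Lib.helper11.InvMod.isInvertible_pullback g hL
  have hgL' : PicF.IsInvertible ((Scheme.Modules.pullback g).obj L') :=
    Groth.Agent.Lib.helper11.InvMod.isInvertible_pullback g hL'
  have εg : CohB1.tensorMod ((Scheme.Modules.pullback g).obj L)
      ((Scheme.Modules.pullback g).obj L') ≅ Coh.structureModule X₁ :=
    (pullTensorIso g L L' hL').symm ≪≫ (Scheme.Modules.pullback g).mapIso εL ≪≫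
      Groth.Agent.Lib.helper11.InvMod.pullbackUnitIso g
  rw [numTriv_iff_nef_nef k X hL hL' εL, numTriv_iff_nef_nef k' X₁ hgL hgL' εg,
    nef_bc_iff k X k' X₁ g hpb hL, nef_bc_iff k X k' X₁ g hpb hL']

end BC

end Groth.Agent.Lib.helper7.NefBC
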