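import Mathlib
import Groth.Agent.Lib.Helper7.SurfCurveImm
import Groth.Agent.Lib.Helper7.RuledInt
import Groth.Agent.Lib.Helper21.ShHomCoh2
import Groth.Agent.Lib.Helper12.InvDual2
import Groth.Agent.Lib.Helper9.CurveDegAdd
import Groth.Agent.Lib.Helper19.ProjSpaceProper

/-!
# Self-intersection of a curve on a surface as the degree of its normal sheaf (helper7)
-/

set_option autoImplicit false
set_option linter.unusedSectionVars false
set_option linter.unusedVariables false
set_option linter.style.haveILetI false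

universe u

open CategoryTheory Limits AlgebraicGeometry Opposite TopologicalSpace

namespace Groth.Agent.Lib.helper7.NormalDeg

open Groth.Agent.Lib.helper7.SurfHodge Groth.Agent.Lib.helper7.RuledInt

section Dual

variable (k : Type u) [Field k] (C : Scheme.{u}) [C.Over (Spec (CommRingCat.of k))]
  [IsProper (C ↘ Spec (CommRingCat.of k))] [IsIntegral C]

/-- the degree of the dual of an invertible module on an integral proper curve -/
theorem deg_sheafHom_structureModule (hdim : topologicalKrullDim C ≤ 1) {A : C.Modules}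
    (hA : PicF.IsInvertible A) [DCoh.HasSheafHom A] :
    Curv2.deg k C ((DCoh.sheafHom A).obj (Coh.structureModule C)) 1 = - Curv2.deg k C A 1 := by
  have e : (DCoh.sheafHom A).obj (Coh.structureModule C) ≅
      Groth.Agent.Lib.helper12.InvDual.dualMod A :=
    (Groth.Agent.Lib.helper21.ShHomCoh.dcohSheafHomIso A).app (Coh.structureModule C)
  have hA' := Groth.Agent.Lib.helper12.InvDual.isInvertible_dualMod hA
  obtain ⟨ε⟩ := Groth.Agent.Lib.helper12.InvDual.isInverseOf_dualMod' hA
  have h1 := Groth.Agent.Lib.helper9.CurveDegAdd.deg_tensorMod k C hdim hA hA'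
  rw [Groth.Agent.Lib.Lead.CurveEuler.deg_eq_of_iso k C ε 1,
    Groth.Agent.Lib.Lead.CurveEuler.deg_structureModule k C] at h1
  rw [Groth.Agent.Lib.Lead.CurveEuler.deg_eq_of_iso k C e 1]
  linarith

end Dual

variable (k : Type u) [Field k] (S : Scheme.{u}) [S.Over (Spec (CommRingCat.of k))]
  [IsProper (S ↘ Spec (CommRingCat.of k))] [IsIntegral S]

theorem selfInt_eq_deg_normal (hdim : topologicalKrullDim S = 2)
    (hreg : ∀ x : S, IsRegularLocalRing (S.presheaf.stalk x))
    (C : Scheme.{u}) (i : C ⟶ S) [IsClosedImmersion i] [IsIntegral C]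
    (hC : topologicalKrullDim C = 1) [DCoh.HasSheafHom (Omega.conormal i)] :
    P k S (ClSub.idealMod i.ker) (ClSub.idealMod i.ker) =
      @Curv2.deg k _ C ⟨i ≫ (S ↘ Spec (CommRingCat.of k))⟩
        ((DCoh.sheafHom (Omega.conormal i)).obj (Coh.structureModule C)) 1 := by
  letI : C.Over (Spec (CommRingCat.of k)) := ⟨i ≫ (S ↘ Spec (CommRingCat.of k))⟩
  haveI : IsProper (C ↘ Spec (CommRingCat.of k)) :=
    inferInstanceAs (IsProper (i ≫ (S ↘ Spec (CommRingCat.of k))))
  obtain ⟨hI, -⟩ := Groth.Agent.Lib.helper7.SurfCurveImm.P_idealMod_ker k S hdim hreg i hC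
    (Groth.Agent.Lib.helper11.InvMod.isInvertible_structureModule S)
  obtain ⟨-, hP⟩ := Groth.Agent.Lib.helper7.SurfCurveImm.P_idealMod_ker k S hdim hreg i hC hI
  have hA : PicF.IsInvertible (Omega.conormal i) :=
    Groth.Agent.Lib.helper11.InvMod.isInvertible_pullback i hI
  rw [hP, deg_sheafHom_structureModule k C hC.le hA]
  unfold Curv2.deg Omega.conormal
  simp

end Groth.Agent.Lib.helper7.NormalDeg
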