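import Groth.Prelude.Def_Models
import Mathlib.Tactic.Linarith
import Mathlib.Tactic.Ring
import Mathlib.Algebra.Order.BigOperators.Group.Finset

/-! Elementary lemmas on numerical types (helper7). -/

set_option autoImplicit false

namespace Groth.Agent.Lib.helper7

open Finset Models

variable {n : ℕ} (T : Models.NumericalType n)

/-- Row `i` of `a m = 0`. -/
theorem NT_row (i : Fin n) : ∑ j, T.a i j * T.m j = 0 := by
  have := congrFun T.mulVec_m i
  simpa [Matrix.mulVec, dotProduct] using this

/-- `a i i * m i = - Σ_{j ≠ i} a i j * m j`. -/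
theorem NT_diag (i : Fin n) : T.a i i * T.m i = - ∑ j ∈ univ.erase i, T.a i j * T.m j := by
  have h := NT_row T i
  rw [← Finset.add_sum_erase _ _ (Finset.mem_univ i)] at h
  linarith

theorem NT_offsum_nonneg (i : Fin n) : 0 ≤ ∑ j ∈ univ.erase i, T.a i j * T.m j := by
  apply Finset.sum_nonneg
  intro j hj
  have hne : i ≠ j := fun h => (Finset.ne_of_mem_erase hj) h.symm
  exact mul_nonneg (T.offDiag_nonneg i j hne) (T.m_pos j).le

/-- A single off-diagonal term is bounded by the whole sum. -/
theorem NT_term_le (i j : Fin n) (hij : i ≠ j) :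
    T.a i j * T.m j ≤ ∑ l ∈ univ.erase i, T.a i l * T.m l := by
  have hj : j ∈ univ.erase i := Finset.mem_erase.mpr ⟨hij.symm, Finset.mem_univ j⟩
  apply Finset.single_le_sum (f := fun l => T.a i l * T.m l) _ hj
  intro l hl
  have hne : i ≠ l := fun h => (Finset.ne_of_mem_erase hl) h.symm
  exact mul_nonneg (T.offDiag_nonneg i l hne) (T.m_pos l).le

theorem NT_diag_nonpos (i : Fin n) : T.a i i ≤ 0 := by
  have h1 := NT_diag T i
  have h2 := NT_offsum_nonneg T i
  have h3 : T.a i i * T.m i ≤ 0 := by linarith
  by_contra hpos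
  rw [not_le] at hpos
  have := mul_pos hpos (T.m_pos i)
  linarith

/-- If there are at least two indices, every diagonal entry is negative. -/
theorem NT_diag_neg (hn : 1 < n) (i : Fin n) : T.a i i < 0 := by
  have hne : ({i} : Finset (Fin n)) ≠ univ := by
    intro h
    have := congrArg Finset.card h
    simp at this
    omega
  obtain ⟨i', hi', j, hj, hij⟩ := T.connected {i} (Finset.singleton_nonempty i) hne
  rw [Finset.mem_singleton] at hi'
  subst hi'
  have hji : i' ≠ j := by
    intro h
    apply hj
    rw [Finset.mem_singleton]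
    exact h.symm
  have hpos : 0 < T.a i' j := lt_of_le_of_ne (T.offDiag_nonneg i' j hji) (Ne.symm hij)
  have h1 := NT_diag T i'
  have h2 := NT_term_le T i' j hji
  have h3 : 0 < T.a i' j * T.m j := mul_pos hpos (T.m_pos j)
  have h4 : T.a i' i' * T.m i' < 0 := by linarith
  by_contra hge
  rw [not_lt] at hge
  have := mul_nonneg hge (T.m_pos i').le
  linarith

/-- A positive entry is off the diagonal. -/
theorem NT_ne_of_pos (i j : Fin n) (h : 0 < T.a i j) : i ≠ j := by
  rintro rfl
  have := NT_diag_nonpos T i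
  linarith

/-- For a minimal type with at least two indices, `a i i ≤ 2 w i (g i - 1)`. -/
theorem NT_diag_le_of_isMinimal (hmin : T.IsMinimal) (hn : 1 < n) (i : Fin n) :
    T.a i i ≤ 2 * T.w i * (T.g i - 1) := by
  have hneg := NT_diag_neg T hn i
  have hw := T.w_pos i
  rcases (T.g_nonneg i).lt_or_eq with hg | hg
  · have : 0 ≤ 2 * T.w i * (T.g i - 1) := by
      apply mul_nonneg (by linarith)
      linarith
    linarith
  · obtain ⟨c, hc⟩ := T.w_dvd i i
    have hc1 : c < 0 := by
      by_contra h
      rw [not_lt] at h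
      have := mul_nonneg hw.le h
      linarith
    have hc2 : c ≠ -1 := by
      intro h
      apply hmin i
      refine ⟨hg.symm, ?_⟩
      rw [hc, h]; ring
    have hc3 : c ≤ -2 := by omega
    rw [← hg, hc]
    nlinarith

/-- The termwise inequality summed up. -/
theorem NT_sum_diag_le (hmin : T.IsMinimal) (hn : 1 < n) :
    ∑ i, T.m i * T.a i i ≤ 2 * ∑ i, T.m i * T.w i * (T.g i - 1) := by
  rw [Finset.mul_sum]
  apply Finset.sum_le_sum
  intro i _
  have h := NT_diag_le_of_isMinimal T hmin hn i
  have hm := T.m_pos i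
  nlinarith

theorem NT_one_le_genus (hmin : T.IsMinimal) (hn : 1 < n) : 1 ≤ T.genus := by
  have h := NT_sum_diag_le T hmin hn
  unfold NumericalType.genus
  have : (∑ i, T.m i * T.a i i) / 2 ≤ ∑ i, T.m i * T.w i * (T.g i - 1) := by
    omega
  linarith

end Groth.Agent.Lib.helper7
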