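import Mathlib.RingTheory.Kaehler.Basic
import Mathlib.Algebra.Category.ModuleCat.ChangeOfRings

/-!
# Algebra for the conormal module (helper7)

* `bijective_liftBaseChange`: for a surjective `S → A` with kernel `I` and an `S`-linear
  surjection `q : I → N` onto an `A`-module with kernel `I²`, the map `A ⊗[S] I → N` is bijective.
* `kaehlerEquiv`: `A ⊗[A ⊗[R] A] I ≃ₗ[A] Ω[A⁄R]`.
-/

set_option autoImplicit false
set_option linter.style.haveILetI false
universe u
open TensorProduct

namespace Groth.Agent.Lib.helper7.OmegaAlg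

section
variable {S A N : Type*} [CommRing S] [CommRing A] [Algebra S A]
  [AddCommGroup N] [Module A N] [Module S N] [IsScalarTower S A N]

theorem one_tmul_eq_zero_of_mem_sq (I : Ideal S) (hI : I ≤ RingHom.ker (algebraMap S A))
    (x : S) (hx : x ∈ I ^ 2) (hx' : x ∈ I) : ((1 : A) ⊗ₜ[S] (⟨x, hx'⟩ : I)) = 0 := by
  rw [pow_two] at hx
  have key : ∃ h : x ∈ I, ((1 : A) ⊗ₜ[S] (⟨x, h⟩ : I)) = 0 := by
    refine Submodule.mul_induction_on hx ?_ ?_
    · intro a ha b hb
      refine ⟨I.mul_mem_left a hb, ?_⟩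
      have : (⟨a * b, I.mul_mem_left a hb⟩ : I) = a • (⟨b, hb⟩ : I) := rfl
      rw [this, ← TensorProduct.smul_tmul, Algebra.smul_def, mul_one,
        (RingHom.mem_ker).1 (hI ha), TensorProduct.zero_tmul]
    · rintro a b ⟨ha, ha'⟩ ⟨hb, hb'⟩
      refine ⟨I.add_mem ha hb, ?_⟩
      have : (⟨a + b, I.add_mem ha hb⟩ : I) = ⟨a, ha⟩ + ⟨b, hb⟩ := rfl
      rw [this, TensorProduct.tmul_add, ha', hb', add_zero]
  exact key.2

theorem exists_one_tmul (hA : Function.Surjective (algebraMap S A)) (I : Ideal S)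
    (x : A ⊗[S] I) : ∃ i : I, x = (1 : A) ⊗ₜ[S] i := by
  induction x using TensorProduct.induction_on with
  | zero => exact ⟨0, (TensorProduct.tmul_zero _ _).symm⟩
  | tmul a i =>
    obtain ⟨s, rfl⟩ := hA a
    refine ⟨s • i, ?_⟩
    rw [← TensorProduct.smul_tmul, Algebra.smul_def, mul_one]
  | add x y hx hy =>
    obtain ⟨i, rfl⟩ := hx
    obtain ⟨j, rfl⟩ := hy
    exact ⟨i + j, (TensorProduct.tmul_add _ _ _).symm⟩

theorem bijective_liftBaseChange (hA : Function.Surjective (algebraMap S A)) (I : Ideal S)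
    (hI : I ≤ RingHom.ker (algebraMap S A)) (q : I →ₗ[S] N) (hq : Function.Surjective q)
    (hker : ∀ i : I, q i = 0 → (i : S) ∈ I ^ 2) :
    Function.Bijective (LinearMap.liftBaseChange A q) := by
  constructor
  · rw [injective_iff_map_eq_zero]
    intro x hx
    obtain ⟨i, rfl⟩ := exists_one_tmul hA I x
    rw [LinearMap.liftBaseChange_tmul, one_smul] at hx
    exact one_tmul_eq_zero_of_mem_sq I hI i (hker i hx) i.2
  · intro n
    obtain ⟨i, rfl⟩ := hq n
    exact ⟨1 ⊗ₜ i, by rw [LinearMap.liftBaseChange_tmul, one_smul]⟩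

end

section
variable {S A N : Type*} [CommRing S] [CommRing A] [Algebra S A]
  [AddCommGroup N] [Module A N]

/-- the conormal module as a base change: existence of the linear equivalence. -/
theorem exists_equiv (hA : Function.Surjective (algebraMap S A)) (I : Ideal S)
    (hI : I ≤ RingHom.ker (algebraMap S A)) (q : I →+ N)
    (hq : ∀ (s : S) (i : I), q (s • i) = algebraMap S A s • q i)
    (hsurj : Function.Surjective q) (hker : ∀ i : I, q i = 0 → (i : S) ∈ I ^ 2) :
    ∃ e : A ⊗[S] I ≃ₗ[A] N, ∀ (a : A) (i : I), e (a ⊗ₜ i) = a • q i := by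
  letI : Module S N := Module.compHom N (algebraMap S A)
  haveI : IsScalarTower S A N := IsScalarTower.of_algebraMap_smul (fun _ _ => rfl)
  let q' : I →ₗ[S] N := { toFun := q, map_add' := map_add q, map_smul' := hq }
  exact ⟨LinearEquiv.ofBijective (LinearMap.liftBaseChange A q')
    (bijective_liftBaseChange hA I hI q' hsurj hker), fun a i =>
      LinearMap.liftBaseChange_tmul A q' a i⟩

end

section Kaehler
variable (R A : Type u) [CommRing R] [CommRing A] [Algebra R A]

/-- multiplication `A ⊗[R] A → A` as a ring hom -/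
noncomputable abbrev mulHom : A ⊗[R] A →+* A :=
  (Algebra.TensorProduct.lmul' R : A ⊗[R] A →ₐ[R] A).toRingHom

theorem mulHom_surjective : Function.Surjective (mulHom R A) := fun a =>
  ⟨a ⊗ₜ 1, by simp [mulHom]⟩

theorem algebraMap_smul_kaehler (s : A ⊗[R] A) (n : Ω[A⁄R]) : mulHom R A s • n = s • n := by
  rw [← algebraMap_smul (A ⊗[R] A) (mulHom R A s) n, ← sub_eq_zero, ← sub_smul]
  refine Ideal.Cotangent.smul_eq_zero_of_mem (I := KaehlerDifferential.ideal R A) ?_ n
  rw [RingHom.mem_ker, map_sub, sub_eq_zero]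
  simp [mulHom, Algebra.TensorProduct.algebraMap_apply]

theorem fromIdeal_smul (s : A ⊗[R] A) (i : KaehlerDifferential.ideal R A) :
    KaehlerDifferential.fromIdeal R A (s • i) = mulHom R A s • KaehlerDifferential.fromIdeal R A i := by
  rw [algebraMap_smul_kaehler, map_smul]

theorem exists_kaehlerEquiv :
    letI := (mulHom R A).toAlgebra
    ∃ e : A ⊗[A ⊗[R] A] (KaehlerDifferential.ideal R A) ≃ₗ[A] Ω[A⁄R],
      ∀ (a : A) (i : KaehlerDifferential.ideal R A),
        e (a ⊗ₜ i) = a • KaehlerDifferential.fromIdeal R A i := by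
  letI := (mulHom R A).toAlgebra
  refine exists_equiv (S := A ⊗[R] A) (A := A) (mulHom_surjective R A)
    (KaehlerDifferential.ideal R A) le_rfl (KaehlerDifferential.fromIdeal R A).toAddMonoidHom
    (fromIdeal_smul R A) (KaehlerDifferential.fromIdeal_surjective R A) ?_
  intro i hi
  exact (Ideal.toCotangent_eq_zero _ i).1 hi

set_option backward.isDefEq.respectTransparency false in
/-- `A ⊗[A ⊗[R] A] I ≅ Ω[A⁄R]` as `A`-modules. -/
noncomputable def kaehlerIso :
    (ModuleCat.extendScalars (mulHom R A)).obj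
      (ModuleCat.of (A ⊗[R] A) (KaehlerDifferential.ideal R A)) ≅ ModuleCat.of A Ω[A⁄R] :=
  letI := (mulHom R A).toAlgebra
  (show ((ModuleCat.extendScalars (mulHom R A)).obj
      (ModuleCat.of (A ⊗[R] A) (KaehlerDifferential.ideal R A))) ≃ₗ[A] Ω[A⁄R] from
    (exists_kaehlerEquiv R A).choose).toModuleIso

end Kaehler

end Groth.Agent.Lib.helper7.OmegaAlg
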