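import Groth.Agent.Lib.Helper7.OmegaSeqAlg

/-!
# Base change of Kähler differentials, receptacle form (helper7)
-/

set_option autoImplicit false
set_option linter.style.haveILetI false
set_option linter.unusedSectionVars false
universe u

namespace Groth.Agent.Lib.helper7.OmegaSeqAlg

open Groth.Agent.Lib.helper8.PullbackUnit TensorProduct KaehlerDifferential

section Pushout

variable (A₀ A' B₀ B' : Type u) [CommRing A₀] [CommRing A'] [CommRing B₀] [CommRing B']
  [Algebra A₀ A'] [Algebra A₀ B₀] [Algebra A₀ B'] [Algebra B₀ B'] [Algebra A' B']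
  [IsScalarTower A₀ B₀ B'] [IsScalarTower A₀ A' B'] [Algebra.IsPushout A₀ A' B₀ B']
  {M₁ M₂ P : Type u} [AddCommGroup M₁] [Module B₀ M₁] [AddCommGroup M₂] [Module B' M₂]
  [AddCommGroup P] [Module B' P]
  (d₁ : B₀ →+ M₁) (ψ₁ : M₁ ≃ₗ[B₀] Ω[B₀⁄A₀]) (hψ₁ : ∀ a, ψ₁ (d₁ a) = D A₀ B₀ a)
  (d₂ : B' →+ M₂) (ψ₂ : M₂ ≃ₗ[B'] Ω[B'⁄A']) (hψ₂ : ∀ a, ψ₂ (d₂ a) = D A' B' a)
  (k : M₁ →+ P) (hk : IsBC (algebraMap B₀ B') k)
  (c : P →ₗ[B'] M₂) (hc : ∀ a, c (k (d₁ a)) = d₂ (algebraMap B₀ B' a))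

include hψ₁ hψ₂ hk hc in
/-- for a pushout square of rings the canonical map `B' ⊗ Ω[B₀/A₀] → Ω[B'/A']` is bijective
(receptacle form) -/
theorem pushout_sq_bijective : Function.Bijective c := by
  obtain ⟨e, he⟩ := exists_equiv_of_isBC hk
  let T := KaehlerDifferential.tensorKaehlerEquiv A₀ A' B₀ B'
  have h : ψ₂.toLinearMap ∘ₗ c = T.toLinearMap ∘ₗ
      (TensorProduct.AlgebraTensorModule.congr (LinearEquiv.refl B' B') ψ₁).toLinearMap ∘ₗ
        e.toLinearMap := by
    refine ext_of_isBC hk _ _ (fun n => ?_)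
    change ψ₂ (c (k n)) = T
      ((TensorProduct.AlgebraTensorModule.congr (LinearEquiv.refl B' B') ψ₁) (e (k n)))
    rw [he]
    change _ = T ((1 : B') ⊗ₜ[B₀] ψ₁ n)
    have hspan : Submodule.span B₀ (Set.range d₁) = ⊤ := by
      have h1 := KaehlerDifferential.span_range_derivation A₀ B₀
      rw [eq_top_iff]
      intro x _
      have hx : ψ₁ x ∈ (⊤ : Submodule B₀ Ω[B₀⁄A₀]) := trivial
      rw [← h1] at hx
      have h2 : Submodule.span B₀ (Set.range (D A₀ B₀)) =
          Submodule.map ψ₁.toLinearMap (Submodule.span B₀ (Set.range d₁)) := by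
        rw [Submodule.map_span]
        congr 1
        ext y
        constructor
        · rintro ⟨a, rfl⟩
          exact ⟨d₁ a, ⟨a, rfl⟩, hψ₁ a⟩
        · rintro ⟨_, ⟨a, rfl⟩, rfl⟩
          exact ⟨a, (hψ₁ a).symm⟩
      rw [h2] at hx
      obtain ⟨q, hq, hqx⟩ := hx
      have : q = x := ψ₁.injective hqx
      rwa [← this]
    have hn : n ∈ Submodule.span B₀ (Set.range d₁) := by rw [hspan]; trivial
    induction hn using Submodule.span_induction with
    | mem y hy =>
      obtain ⟨b, rfl⟩ := hy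
      rw [hc, hψ₂, hψ₁, KaehlerDifferential.tensorKaehlerEquiv_tmul_D, one_smul]
    | zero => simp
    | add y z _ _ hy hz =>
      rw [map_add, map_add, map_add, map_add, tmul_add, map_add, hy, hz]
    | smul b y _ hy =>
      rw [hk.map_smul, map_smul, map_smul, hy, map_smul ψ₁, tmul_smul,
        ← algebraMap_smul B' b ((1 : B') ⊗ₜ[B₀] ψ₁ y), map_smul]
  have h2 : (c : P → M₂) = ψ₂.symm ∘ T ∘
      (TensorProduct.AlgebraTensorModule.congr (LinearEquiv.refl B' B') ψ₁) ∘ e := by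
    funext p
    have := congr($h p)
    change ψ₂ (c p) = _ at this
    change c p = ψ₂.symm _
    rw [LinearEquiv.eq_symm_apply, this]
    rfl
  rw [h2]
  exact (LinearEquiv.bijective _).comp ((LinearEquiv.bijective _).comp
    ((LinearEquiv.bijective _).comp (LinearEquiv.bijective _)))

end Pushout

end Groth.Agent.Lib.helper7.OmegaSeqAlg
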