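import Groth.Agent.Lib.Helper7.OmegaQCoh
import Groth.Agent.Lib.Helper7.OmegaPush
import Groth.Agent.Lib.Helper7.QCohExact
import Groth.Agent.Lib.Helper7.OmegaSeqAlg
import Groth.Agent.Lib.Helper1.ResBC

/-!
# Chart-level description of the canonical maps between sheaves of differentials (helper7)
-/

set_option autoImplicit false
set_option linter.style.haveILetI false
set_option linter.unusedSectionVars false
universe u
open CategoryTheory CategoryTheory.Limits AlgebraicGeometry TopologicalSpace Opposite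
open Scheme.Modules

namespace Groth.Agent.Lib.helper7.OmegaChart

open Groth.Agent.Lib.helper8.PullbackUnit

/-- sections of a morphism of modules as a linear map -/
noncomputable def linApp {X : Scheme.{u}} {M N : X.Modules} (φ : M ⟶ N) (U : X.Opens) :
    Γ(M, U) →ₗ[Γ(X, U)] Γ(N, U) where
  toFun := (φ.app U).hom
  map_add' := map_add _
  map_smul' r x := Scheme.Modules.Hom.app_smul φ r x

@[simp] theorem linApp_apply {X : Scheme.{u}} {M N : X.Modules} (φ : M ⟶ N) (U : X.Opens)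
    (x : Γ(M, U)) : linApp φ U x = (φ.app U).hom x := rfl

section DiffCompat

variable {X Y X' Y' : Scheme.{u}} {f : X ⟶ Y} {f' : X' ⟶ Y'} (h : X' ⟶ X)
  {Ω₁ : X.Modules} {Ω₂ : X'.Modules} (d₁ : OmegaSh.Der f Ω₁) (d₂ : OmegaSh.Der f' Ω₂)
  (c : (Scheme.Modules.pullback h).obj Ω₁ ⟶ Ω₂)

/-- chart form of `IsDiffCompat` -/
theorem diffCompat_app (hc : OmegaSh.IsDiffCompat h d₁ d₂ c) {U : X.Opens} {U' : X'.Opens}
    (e : U' ≤ h ⁻¹ᵁ U) (s : Γ(X, U)) :
    (c.app U').hom (ρ h e Ω₁ (d₁.app U s)) = d₂.app U' ((h.appLE U U' e).hom s) := by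
  rw [ρ_apply]
  have h1 := ModBasisHom.app_map c e
    ((((pullbackPushforwardAdjunction h).unit.app Ω₁).app U).hom (d₁.app U s))
  refine h1.trans ?_
  have h2 := hc U s
  have h3 : (c.app (h ⁻¹ᵁ U)).hom
      ((((pullbackPushforwardAdjunction h).unit.app Ω₁).app U).hom (d₁.app U s)) =
      d₂.app (h ⁻¹ᵁ U) ((h.app U).hom s) := h2
  rw [h3, ← OmegaUniv.der_map f' d₂ e]
  rfl

end DiffCompat

section Id

variable {X Y Y' : Scheme.{u}} {f : X ⟶ Y} {f' : X ⟶ Y'}
  {Ω₁ Ω₂ : X.Modules} (d₁ : OmegaSh.Der f Ω₁) (d₂ : OmegaSh.Der f' Ω₂)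
  (c : (Scheme.Modules.pullback (𝟙 X)).obj Ω₁ ⟶ Ω₂)

theorem pullbackId_inv_app (F : X.Modules) {U : X.Opens} (a : Γ(F, U)) :
    (((pullbackId X).inv.app F).app U).hom a =
      (((pullbackPushforwardAdjunction (𝟙 X)).unit.app F).app U).hom a := by
  have h1 := Groth.Agent.H1.ResBC.unit_id_app F a
  have h3 : ((pullbackId X).hom.app F).app U ≫ ((pullbackId X).inv.app F).app U = 𝟙 _ := by
    rw [← Scheme.Modules.Hom.comp_app, Iso.hom_inv_id_app]; rfl
  have h4 := congr($(h3).hom ((((pullbackPushforwardAdjunction (𝟙 X)).unit.app F).app U).hom a))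
  refine Eq.trans ?_ h4
  exact congrArg (((pullbackId X).inv.app F).app U).hom h1.symm

/-- chart form of `IsDiffCompat` for the identity -/
theorem diffCompat_id_app (hc : OmegaSh.IsDiffCompat (𝟙 X) d₁ d₂ c) (U : X.Opens) (s : Γ(X, U)) :
    (((pullbackId X).inv.app Ω₁ ≫ c).app U).hom (d₁.app U s) = d₂.app U s := by
  change (c.app U).hom ((((pullbackId X).inv.app Ω₁).app U).hom (d₁.app U s)) = _
  rw [pullbackId_inv_app]
  have h2 := hc U s
  refine Eq.trans h2 ?_
  rfl

end Id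

end Groth.Agent.Lib.helper7.OmegaChart
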