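import Groth.Agent.Lib.Helper7.OmegaSeq
import Groth.Agent.Lib.Helper7.FSmoothHom
import Groth.Agent.Lib.Helper7.KerSections
import Mathlib.RingTheory.Kaehler.JacobiZariski
import Mathlib.RingTheory.Smooth.Basic

/-!
# `0 → f^*Ω_{Y/Z} → Ω_{X/Z}` for `f` formally smooth (helper7)
-/

set_option autoImplicit false
set_option linter.style.haveILetI false
set_option linter.unusedSectionVars false
universe u
open CategoryTheory CategoryTheory.Limits AlgebraicGeometry TopologicalSpace Opposite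
open Scheme.Modules

namespace Groth.Agent.Lib.helper7.OmegaFS

open Groth.Agent.Lib.helper8.PullbackUnit OmegaChart OmegaSeq

/-- for `A` formally smooth over `B`, `A ⊗_B Ω_{B/C} → Ω_{A/C}` is injective -/
theorem mapBaseChange_injective (C B A : Type u) [CommRing C] [CommRing B] [CommRing A]
    [Algebra C B] [Algebra B A] [Algebra C A] [IsScalarTower C B A] [Algebra.FormallySmooth B A] :
    Function.Injective (KaehlerDifferential.mapBaseChange C B A) := by
  rw [injective_iff_map_eq_zero]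
  intro x hx
  obtain ⟨y, rfl⟩ := (Algebra.H1Cotangent.exact_δ_mapBaseChange C B A x).mp hx
  rw [Subsingleton.elim y 0, map_zero]

section Comp

variable {X Y Z : Scheme.{u}} (f : X ⟶ Y) (g : Y ⟶ Z)
  {ΩY : Y.Modules} (dY : OmegaSh.Der g ΩY) (hY : OmegaSh.IsUniversal dY)
  {ΩX : X.Modules} (dX : OmegaSh.Der (f ≫ g) ΩX) (hX : OmegaSh.IsUniversal dX)
  (c₁ : (Scheme.Modules.pullback f).obj ΩY ⟶ ΩX) (hc₁ : OmegaSh.IsDiffCompat f dY dX c₁)

include hY hX hc₁ in
theorem chart_injective {U : X.Opens} (hU : IsAffineOpen U) {V : Y.Opens} (hV : IsAffineOpen V)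
    {W : Z.Opens} (hW : IsAffineOpen W) (eUV : U ≤ f ⁻¹ᵁ V) (eVW : V ≤ g ⁻¹ᵁ W)
    (hfs : (f.appLE V U eUV).hom.FormallySmooth) :
    Function.Injective (c₁.app U).hom := by
  have eUW : U ≤ (f ≫ g) ⁻¹ᵁ W := fun x hx => eVW (eUV hx)
  letI algCB := (g.appLE W V eVW).hom.toAlgebra
  letI algBA := (f.appLE V U eUV).hom.toAlgebra
  letI algCA := ((f ≫ g).appLE W U eUW).hom.toAlgebra
  haveI : IsScalarTower Γ(Z, W) Γ(Y, V) Γ(X, U) := IsScalarTower.of_algebraMap_eq' (by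
    change ((f ≫ g).appLE W U eUW).hom = (f.appLE V U eUV).hom.comp (g.appLE W V eVW).hom
    rw [← CommRingCat.hom_comp, Scheme.Hom.appLE_comp_appLE])
  haveI : Algebra.FormallySmooth Γ(Y, V) Γ(X, U) := hfs
  obtain ⟨ψY, hψY⟩ := OmegaStruct.exists_sectionsEquiv g dY hY hV hW eVW
  obtain ⟨ψX, hψX⟩ := OmegaStruct.exists_sectionsEquiv (f ≫ g) dX hX hU hW eUW
  haveI : ΩY.IsQuasicoherent := OmegaQCoh.isQuasicoherent_of_isUniversal g dY hY
  have hk : IsBC (algebraMap Γ(Y, V) Γ(X, U)) (ρ f eUV ΩY) := isBC_ρ f hV hU eUV ΩY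
  have hc₁' : ∀ b : Γ(Y, V), linApp c₁ U (ρ f eUV ΩY (dY.app V b)) =
      dX.app U (algebraMap Γ(Y, V) Γ(X, U) b) := fun b => diffCompat_app f dY dX c₁ hc₁ eUV b
  obtain ⟨e, he⟩ := OmegaSeqAlg.exists_equiv_of_isBC hk
  have hL := OmegaSeqAlg.comp_left Γ(Z, W) Γ(Y, V) Γ(X, U) (dY.app V) ψY hψY (dX.app U) ψX hψX
    (ρ f eUV ΩY) hk (linApp c₁ U) hc₁' e he
  have hinj := mapBaseChange_injective Γ(Z, W) Γ(Y, V) Γ(X, U)
  intro p q hpq
  have h1 : ψX (linApp c₁ U p) = ψX (linApp c₁ U q) := congrArg ψX hpq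
  rw [hL, hL] at h1
  have h2 := hinj h1
  have h3 := (TensorProduct.AlgebraTensorModule.congr (LinearEquiv.refl Γ(X, U) Γ(X, U))
    ψY).injective h2
  exact e.injective h3

include hY hX hc₁ in
/-- for `f` formally smooth, `f^*Ω_{Y/Z} → Ω_{X/Z}` is a monomorphism -/
theorem mono_of_formallySmooth (hf : MoreMor.IsFormallySmoothHom f) : Mono c₁ := by
  haveI : ΩY.IsQuasicoherent := OmegaQCoh.isQuasicoherent_of_isUniversal g dY hY
  haveI : ΩX.IsQuasicoherent := OmegaQCoh.isQuasicoherent_of_isUniversal (f ≫ g) dX hX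
  haveI : ((Scheme.Modules.pullback f).obj ΩY).IsQuasicoherent :=
    Groth.Agent.Lib.helper16.QCohPullback.isQuasicoherent_pullback f ΩY
  exact KerSections.mono_of_injective_cover c₁ (fun t : Chart3 f g => t.1.1.1)
    (fun t => t.1.1.2) (chart3_cover f g)
    (fun t => chart_injective f g dY hY dX hX c₁ hc₁ t.1.1.2 t.1.2.1.2 t.1.2.2.2 t.2.1 t.2.2
      (FSmoothHom.formallySmooth_appLE f hf t.1.1.2 t.1.2.1.2 t.2.1))

end Comp

end Groth.Agent.Lib.helper7.OmegaFS
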