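import Groth.Agent.Lib.Helper7.FittSheaf
import Groth.Agent.Lib.Helper7.OmegaStruct
import Groth.Agent.Lib.Helper7.OmegaAffine

/-!
# Fitting ideals of the sheaf of differentials (helper7)
-/

set_option autoImplicit false
set_option linter.style.haveILetI false
set_option linter.unusedSectionVars false
universe u
open CategoryTheory CategoryTheory.Limits AlgebraicGeometry TopologicalSpace Opposite
open Scheme.Modules

namespace Groth.Agent.Lib.helper7.OmegaFitt

open Groth.Agent.Lib.helper16.CohFinite Groth.Agent.Lib.helper16.CohStalk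

variable {X S : Scheme.{u}} (f : X ⟶ S) [QuasiSeparated f]

/-- sections of `Ω` over an affine chart pair vanish iff the ring map is formally unramified -/
theorem formallyUnramified_appLE_iff {W : S.Opens} (hW : IsAffineOpen W) {V : X.Opens}
    (hV : IsAffineOpen V) (e : V ≤ f ⁻¹ᵁ W) :
    (f.appLE W V e).hom.FormallyUnramified ↔ Subsingleton Γ(Omega.sheaf f, V) := by
  letI := (f.appLE W V e).hom.toAlgebra
  obtain ⟨ψ, -⟩ := OmegaStruct.exists_sectionsEquiv f (OmegaSh.dOmega f)
    (OmegaUniv.isUniversal_dOmega f) hV hW e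
  change Algebra.FormallyUnramified Γ(S, W) Γ(X, V) ↔ _
  rw [Algebra.formallyUnramified_iff]
  exact ⟨fun h => ψ.toEquiv.subsingleton, fun h => ψ.symm.toEquiv.subsingleton⟩

/-- `Ω_{X/S}` is of finite type when `f` is locally of finite type -/
theorem omega_isFiniteType [LocallyOfFiniteType f] :
    SheafOfModules.IsFiniteType (R := X.ringCatSheaf) (Omega.sheaf f) := by
  haveI : (Omega.sheaf f).IsQuasicoherent := OmegaAffine.omega_qcoh f
  refine isFiniteType_of_finite_sections (Omega.sheaf f)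
    (fun p : OmegaUniv.AffPair f => p.1.1.1) (fun p => p.1.1.2) ?_ (fun p => ?_)
  · rw [eq_top_iff]
    intro x _
    obtain ⟨W, hW, hxW, -⟩ := Opens.isBasis_iff_nbhd.mp S.isBasis_affineOpens
      (show f x ∈ (⊤ : S.Opens) from trivial)
    obtain ⟨U, hU, hxU, hUW⟩ := Opens.isBasis_iff_nbhd.mp X.isBasis_affineOpens
      (show x ∈ f ⁻¹ᵁ W from hxW)
    exact Opens.mem_iSup.mpr ⟨⟨(⟨U, hU⟩, ⟨W, hW⟩), hUW⟩, hxU⟩
  · letI := (f.appLE p.1.2.1 p.1.1.1 p.2).hom.toAlgebra
    obtain ⟨ψ, -⟩ := OmegaStruct.exists_sectionsEquiv f (OmegaSh.dOmega f)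
      (OmegaUniv.isUniversal_dOmega f) p.1.1.2 p.1.2.2 p.2
    haveI : Algebra.FiniteType Γ(S, p.1.2.1) Γ(X, p.1.1.1) :=
      HasRingHomProperty.appLE (P := @LocallyOfFiniteType) f inferInstance p.1.2 p.1.1 p.2
    exact Module.Finite.equiv ψ.symm

/-- `f` is formally unramified on the affine open `V` (mapping into the affine open `W`) iff
`Γ(Ω, V) = 0` -/
theorem formallyUnramified_ι_comp_iff {W : S.Opens} (hW : IsAffineOpen W) {V : X.Opens}
    (hV : IsAffineOpen V) (e : V ≤ f ⁻¹ᵁ W) :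
    FormallyUnramified (V.ι ≫ f) ↔ Subsingleton Γ(Omega.sheaf f, V) := by
  rw [← formallyUnramified_appLE_iff f hW hV e]
  haveI : IsAffine V.toScheme := hV
  haveI : IsAffine W.toScheme := hW
  have h1 : FormallyUnramified (f.resLE W V e) ↔ (f.appLE W V e).hom.FormallyUnramified := by
    rw [HasRingHomProperty.iff_of_isAffine (P := @FormallyUnramified)]
    have : (RingHom.toMorphismProperty RingHom.FormallyUnramified).RespectsIso :=
      RingHom.toMorphismProperty_respectsIso_iff.mp
        RingHom.FormallyUnramified.propertyIsLocal.respectsIso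
    exact MorphismProperty.arrow_mk_iso_iff
      (RingHom.toMorphismProperty RingHom.FormallyUnramified) (arrowResLEAppIso f W V e)
  rw [← h1, ← Scheme.Hom.resLE_comp_ι f e]
  constructor
  · intro h
    exact FormallyUnramified.of_comp (f.resLE W V e) W.ι
  · intro h
    exact MorphismProperty.comp_mem (W := @FormallyUnramified) _ _ h inferInstance

theorem mem_support_fittZero_iff [LocallyOfFiniteType f] (x : X) :
    x ∈ (Fitt.sheafIdeal (Omega.sheaf f) 0).support ↔
      ¬ ∃ U : X.Opens, x ∈ U ∧ FormallyUnramified (U.ι ≫ f) := by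
  haveI : (Omega.sheaf f).IsQuasicoherent := OmegaAffine.omega_qcoh f
  have hft := omega_isFiniteType f
  rw [← not_iff_not, not_not]
  constructor
  · intro hx
    obtain ⟨W, hW, hxW, -⟩ := Opens.isBasis_iff_nbhd.mp S.isBasis_affineOpens
      (show f x ∈ (⊤ : S.Opens) from trivial)
    obtain ⟨U, hU, hxU, hUW⟩ := Opens.isBasis_iff_nbhd.mp X.isBasis_affineOpens
      (show x ∈ f ⁻¹ᵁ W from hxW)
    haveI : Module.Finite Γ(X, U) Γ(Omega.sheaf f, U) :=
      finite_sections_of_isFiniteType (Omega.sheaf f) hft hU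
    rw [FittSheaf.mem_support_iff (Omega.sheaf f) hft 0 hU x hxU] at hx
    obtain ⟨d, hd, -, g, hg⟩ :=
      Groth.Agent.Lib.helper15.FittLink.exists_smul_mem_span_of_not_le 0 _ hx
    have hd0 : ∀ m : Γ(Omega.sheaf f, U), d • m = 0 := by
      intro m
      have := hg m
      rwa [Set.range_eq_empty, Submodule.span_empty, Submodule.mem_bot] at this
    have hle : X.basicOpen d ≤ U := X.basicOpen_le d
    refine ⟨X.basicOpen d, (FittSheaf.mem_basicOpen_iff hU ⟨x, hxU⟩ d).mpr hd, ?_⟩
    rw [formallyUnramified_ι_comp_iff f hW (hU.basicOpen d) (hle.trans hUW)]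
    letI := modOfLE (Omega.sheaf f) hle
    haveI := isLocalizedModule_of_eq_basicOpen (Omega.sheaf f) hU d hle rfl
    rw [IsLocalizedModule.subsingleton_iff (Submonoid.powers d) (resLin (Omega.sheaf f) hle)]
    intro m
    exact ⟨d, Submonoid.mem_powers d, hd0 m⟩
  · rintro ⟨U, hxU, hFU⟩
    obtain ⟨W, hW, hxW, -⟩ := Opens.isBasis_iff_nbhd.mp S.isBasis_affineOpens
      (show f x ∈ (⊤ : S.Opens) from trivial)
    obtain ⟨V, hV, hxV, hVle⟩ := Opens.isBasis_iff_nbhd.mp X.isBasis_affineOpens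
      (show x ∈ U ⊓ f ⁻¹ᵁ W from ⟨hxU, hxW⟩)
    have hVU : V ≤ U := hVle.trans inf_le_left
    have hVW : V ≤ f ⁻¹ᵁ W := hVle.trans inf_le_right
    have h1 : FormallyUnramified (Scheme.Opens.ι V ≫ f) := by
      rw [← X.homOfLE_ι hVU, Category.assoc]
      exact MorphismProperty.comp_mem (W := @FormallyUnramified) _ _ inferInstance hFU
    rw [formallyUnramified_ι_comp_iff f hW hV hVW] at h1
    rw [FittSheaf.mem_support_iff (Omega.sheaf f) hft 0 hV x hxV]
    have h2 : Fitt.ideal Γ(X, V) Γ(Omega.sheaf f, V) 0 = ⊤ := by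
      refine Groth.Agent.Lib.helper15.FittLink.fitt_eq_top_of_span
        (Fin.elim0 : Fin 0 → Γ(Omega.sheaf f, V)) ?_ le_rfl
      exact Subsingleton.elim _ _
    rw [h2]
    intro h
    exact (hV.primeIdealOf ⟨x, hxV⟩).isPrime.ne_top (top_le_iff.mp h)

end Groth.Agent.Lib.helper7.OmegaFitt
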