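import Groth.Agent.Lib.Helper7.OmegaFitt
import Groth.Agent.Lib.Helper7.IdealComap
import Mathlib

/-!
# Fitting ideals of `Ω` commute with base change (helper7)
-/

set_option autoImplicit false
set_option linter.style.haveILetI false
set_option linter.unusedSectionVars false
universe u
open CategoryTheory CategoryTheory.Limits AlgebraicGeometry TopologicalSpace Opposite
open Scheme.Modules TensorProduct

namespace Groth.Agent.Lib.helper7.OmegaFitt

open Groth.Agent.Lib.helper16.CohFinite Groth.Agent.Lib.helper15.FittLink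

section Alg

/-- Fitting ideals of Kähler differentials under a pushout square of rings -/
theorem fitt_kaehler_of_isPushout (A₀ A' B₀ B' : Type u) [CommRing A₀] [CommRing A'] [CommRing B₀]
    [CommRing B'] [Algebra A₀ A'] [Algebra A₀ B₀] [Algebra A₀ B'] [Algebra B₀ B'] [Algebra A' B']
    [IsScalarTower A₀ B₀ B'] [IsScalarTower A₀ A' B'] [Algebra.IsPushout A₀ A' B₀ B']
    [Module.Finite B₀ Ω[B₀⁄A₀]] (i : ℕ) :
    Fitt.ideal B' Ω[B'⁄A'] i = (Fitt.ideal B₀ Ω[B₀⁄A₀] i).map (algebraMap B₀ B') := by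
  rw [← fitt_congr (KaehlerDifferential.tensorKaehlerEquiv A₀ A' B₀ B') i, fitt_baseChange i]

end Alg

section Geom

variable {X S S' : Scheme.{u}} (f : X ⟶ S) (g : S' ⟶ S)

/-- charts of `X ×_S S'` -/
abbrev BCChart := {q : X.affineOpens × S'.affineOpens × S.affineOpens //
  q.1.1 ≤ f ⁻¹ᵁ q.2.2.1 ∧ q.2.1.1 ≤ g ⁻¹ᵁ q.2.2.1}

/-- the open of `X ×_S S'` attached to a chart -/
noncomputable def chartOpen (q : BCChart f g) : (pullback f g).Opens :=
  pullback.fst f g ⁻¹ᵁ q.1.1.1 ⊓ pullback.snd f g ⁻¹ᵁ q.1.2.1.1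

theorem chartOpen_affine (q : BCChart f g) : IsAffineOpen (chartOpen f g q) := by
  have : IsAffine q.1.1.1.toScheme := q.1.1.2
  have : IsAffine q.1.2.1.1.toScheme := q.1.2.1.2
  have : IsAffine q.1.2.2.1.toScheme := q.1.2.2.2
  exact .of_isIso (Scheme.Hom.isPullback_resLE (IsPullback.of_hasPullback f g) q.2.2 q.2.1
    (UY := chartOpen f g q) rfl).isoPullback.hom

theorem iSup_chartOpen : ⨆ q : BCChart f g, chartOpen f g q = ⊤ := by
  rw [eq_top_iff]
  intro x _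
  obtain ⟨W, hW, hxW, -⟩ := Opens.isBasis_iff_nbhd.mp S.isBasis_affineOpens
    (show f (pullback.fst f g x) ∈ (⊤ : S.Opens) from trivial)
  obtain ⟨V, hV, hxV, hVW⟩ := Opens.isBasis_iff_nbhd.mp X.isBasis_affineOpens
    (show pullback.fst f g x ∈ f ⁻¹ᵁ W from hxW)
  have hxW' : g (pullback.snd f g x) ∈ W := by
    have : f (pullback.fst f g x) = g (pullback.snd f g x) := by
      rw [← Scheme.Hom.comp_apply, ← Scheme.Hom.comp_apply, pullback.condition]
    rw [← this]; exact hxW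
  obtain ⟨W', hW', hxW'', hW'W⟩ := Opens.isBasis_iff_nbhd.mp S'.isBasis_affineOpens
    (show pullback.snd f g x ∈ g ⁻¹ᵁ W from hxW')
  exact Opens.mem_iSup.mpr ⟨⟨(⟨V, hV⟩, ⟨W', hW'⟩, ⟨W, hW⟩), hVW, hW'W⟩, hxV, hxW''⟩

variable [LocallyOfFiniteType f] [QuasiSeparated f]

set_option backward.isDefEq.respectTransparency false in
/-- **Fitting ideals of `Ω` commute with base change** -/
theorem sheafIdeal_omega_comap (i : ℕ) :
    (Fitt.sheafIdeal (Omega.sheaf f) i).comap (pullback.fst f g) =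
      Fitt.sheafIdeal (Omega.sheaf (pullback.snd f g)) i := by
  haveI : (Omega.sheaf f).IsQuasicoherent := OmegaAffine.omega_qcoh f
  haveI : (Omega.sheaf (pullback.snd f g)).IsQuasicoherent := OmegaAffine.omega_qcoh _
  have hft := omega_isFiniteType f
  have hft' := omega_isFiniteType (pullback.snd f g)
  refine Scheme.IdealSheafData.ext_of_iSup_eq_top
    (fun q : BCChart f g => ⟨chartOpen f g q, chartOpen_affine f g q⟩) (iSup_chartOpen f g)
    fun q => ?_
  obtain ⟨⟨⟨V, hV⟩, ⟨W', hW'⟩, ⟨W, hW⟩⟩, hVW, hW'W⟩ := q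
  have hV' : IsAffineOpen (chartOpen f g ⟨(⟨V, hV⟩, ⟨W', hW'⟩, ⟨W, hW⟩), hVW, hW'W⟩) :=
    chartOpen_affine f g _
  set V' := chartOpen f g ⟨(⟨V, hV⟩, ⟨W', hW'⟩, ⟨W, hW⟩), hVW, hW'W⟩ with hV'def
  have e1 : V' ≤ pullback.fst f g ⁻¹ᵁ V := inf_le_left
  have e2 : V' ≤ pullback.snd f g ⁻¹ᵁ W' := inf_le_right
  change ((Fitt.sheafIdeal (Omega.sheaf f) i).comap (pullback.fst f g)).ideal ⟨V', hV'⟩ =
    (Fitt.sheafIdeal (Omega.sheaf (pullback.snd f g)) i).ideal ⟨V', hV'⟩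
  rw [IdealComap.ideal_comap (pullback.fst f g) _ hV hV' e1,
    FittSheaf.sheafIdeal_ideal _ hft i ⟨V, hV⟩, FittSheaf.sheafIdeal_ideal _ hft' i ⟨V', hV'⟩]
  -- algebra structures
  letI : Algebra Γ(S, W) Γ(X, V) := (f.appLE W V hVW).hom.toAlgebra
  letI : Algebra Γ(S, W) Γ(S', W') := (g.appLE W W' hW'W).hom.toAlgebra
  letI : Algebra Γ(X, V) Γ(pullback f g, V') := ((pullback.fst f g).appLE V V' e1).hom.toAlgebra
  letI : Algebra Γ(S', W') Γ(pullback f g, V') :=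
    ((pullback.snd f g).appLE W' V' e2).hom.toAlgebra
  letI : Algebra Γ(S, W) Γ(pullback f g, V') :=
    ((algebraMap Γ(X, V) Γ(pullback f g, V')).comp (algebraMap Γ(S, W) Γ(X, V))).toAlgebra
  haveI : IsScalarTower Γ(S, W) Γ(X, V) Γ(pullback f g, V') := .of_algebraMap_eq' rfl
  have hpo := (isIso_pushoutSection_iff (IsPullback.of_hasPullback f g) hW'W hVW
    (UY := V') rfl).mp (isIso_pushoutSection_of_isAffineOpen _ _ _ _ hW hW' hV)
  have hw : (algebraMap Γ(X, V) Γ(pullback f g, V')).comp (algebraMap Γ(S, W) Γ(X, V)) =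
      (algebraMap Γ(S', W') Γ(pullback f g, V')).comp (algebraMap Γ(S, W) Γ(S', W')) :=
    congr($(hpo.w).hom)
  haveI : IsScalarTower Γ(S, W) Γ(S', W') Γ(pullback f g, V') := .of_algebraMap_eq' hw
  haveI hP : Algebra.IsPushout Γ(S, W) Γ(X, V) Γ(S', W') Γ(pullback f g, V') :=
    CommRingCat.isPushout_iff_isPushout.mp hpo
  haveI : Algebra.IsPushout Γ(S, W) Γ(S', W') Γ(X, V) Γ(pullback f g, V') := hP.symm
  obtain ⟨ψ, -⟩ := OmegaStruct.exists_sectionsEquiv f (OmegaSh.dOmega f)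
    (OmegaUniv.isUniversal_dOmega f) hV hW hVW
  obtain ⟨ψ', -⟩ := OmegaStruct.exists_sectionsEquiv (pullback.snd f g)
    (OmegaSh.dOmega (pullback.snd f g)) (OmegaUniv.isUniversal_dOmega (pullback.snd f g))
    hV' hW' e2
  haveI : Module.Finite Γ(X, V) Γ(Omega.sheaf f, V) := finite_sections_of_isFiniteType _ hft hV
  haveI : Module.Finite Γ(X, V) Ω[Γ(X, V)⁄Γ(S, W)] := Module.Finite.equiv ψ
  rw [fitt_congr ψ i, fitt_congr ψ' i,
    fitt_kaehler_of_isPushout Γ(S, W) Γ(S', W') Γ(X, V) Γ(pullback f g, V') i]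
  rfl

end Geom

end Groth.Agent.Lib.helper7.OmegaFitt
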