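import Groth.Agent.Lib.Helper7.OmegaProdAlg
import Groth.Agent.Lib.Helper7.OmegaBC
import Groth.Agent.Lib.Helper7.QCohProd

/-!
# Differentials of a fibre product (helper7)

`isIso_coprod_desc`: `p^*Ω_{X/S} ⨿ q^*Ω_{Y/S} ≅ Ω_{X×_S Y/S}` (receptacle form).
-/

set_option autoImplicit false
set_option linter.style.haveILetI false
set_option linter.unusedSectionVars false
universe u
open CategoryTheory CategoryTheory.Limits AlgebraicGeometry TopologicalSpace Opposite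
open Scheme.Modules

namespace Groth.Agent.Lib.helper7.OmegaProd

open Groth.Agent.Lib.helper8.PullbackUnit OmegaChart OmegaBC

section Cat

variable {X : Scheme.{u}} {P₁ P₂ M : X.Modules}

theorem coprod_decomp : coprod.desc (𝟙 P₁) (0 : P₂ ⟶ P₁) ≫ coprod.inl +
    coprod.desc (0 : P₁ ⟶ P₂) (𝟙 P₂) ≫ coprod.inr = 𝟙 (P₁ ⨿ P₂) := by
  apply coprod.hom_ext
  · rw [Preadditive.comp_add, ← Category.assoc, ← Category.assoc, coprod.inl_desc,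
      coprod.inl_desc, Category.id_comp, zero_comp, add_zero, Category.comp_id]
  · rw [Preadditive.comp_add, ← Category.assoc, ← Category.assoc, coprod.inr_desc,
      coprod.inr_desc, Category.id_comp, zero_comp, zero_add, Category.comp_id]

theorem coprod_section_decomp (U : X.Opens) (s : Γ(P₁ ⨿ P₂, U)) :
    s = ((coprod.inl : P₁ ⟶ P₁ ⨿ P₂).app U).hom
        (((coprod.desc (𝟙 P₁) (0 : P₂ ⟶ P₁)).app U).hom s) +
      ((coprod.inr : P₂ ⟶ P₁ ⨿ P₂).app U).hom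
        (((coprod.desc (0 : P₁ ⟶ P₂) (𝟙 P₂)).app U).hom s) := by
  have h := congrArg (fun φ : P₁ ⨿ P₂ ⟶ P₁ ⨿ P₂ => (φ.app U).hom s) (coprod_decomp (P₁ := P₁) (P₂ := P₂))
  simp only [Scheme.Modules.Hom.add_app, Scheme.Modules.Hom.comp_app, Scheme.Modules.Hom.id_app] at h
  exact h.symm

theorem desc_app_inl (c₁ : P₁ ⟶ M) (c₂ : P₂ ⟶ M) (U : X.Opens) (x : Γ(P₁, U)) :
    ((coprod.desc c₁ c₂).app U).hom (((coprod.inl : P₁ ⟶ P₁ ⨿ P₂).app U).hom x) =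
      (c₁.app U).hom x := by
  have h := congrArg (fun φ : P₁ ⟶ M => (φ.app U).hom x) (coprod.inl_desc c₁ c₂)
  exact h

theorem desc_app_inr (c₁ : P₁ ⟶ M) (c₂ : P₂ ⟶ M) (U : X.Opens) (x : Γ(P₂, U)) :
    ((coprod.desc c₁ c₂).app U).hom (((coprod.inr : P₂ ⟶ P₁ ⨿ P₂).app U).hom x) =
      (c₂.app U).hom x := by
  have h := congrArg (fun φ : P₂ ⟶ M => (φ.app U).hom x) (coprod.inr_desc c₁ c₂)
  exact h

end Cat

section Geom

variable {X Y S Z : Scheme.{u}} (a : X ⟶ S) (b : Y ⟶ S)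
  (p : Z ⟶ X) (q : Z ⟶ Y) (h : Z ⟶ S) (wp : p ≫ a = h) (wq : q ≫ b = h) (hZ : IsPullback p q a b)
  {ΩX : X.Modules} (dX : OmegaSh.Der a ΩX) (hX : OmegaSh.IsUniversal dX)
  {ΩY : Y.Modules} (dY : OmegaSh.Der b ΩY) (hY : OmegaSh.IsUniversal dY)
  {ΩZ : Z.Modules} (dZ : OmegaSh.Der h ΩZ) (hZu : OmegaSh.IsUniversal dZ)
  (c₁ : (Scheme.Modules.pullback p).obj ΩX ⟶ ΩZ) (hc₁ : OmegaSh.IsDiffCompat p dX dZ c₁)
  (c₂ : (Scheme.Modules.pullback q).obj ΩY ⟶ ΩZ) (hc₂ : OmegaSh.IsDiffCompat q dY dZ c₂)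

set_option backward.isDefEq.respectTransparency false in
include wp wq hZ hX hY hZu hc₁ hc₂ in
theorem chart_prod (t : BCChart a b) :
    (∀ z : Γ(ΩZ, chartOpen a b p q t), ∃ (p₁ : Γ((Scheme.Modules.pullback p).obj ΩX,
        chartOpen a b p q t)) (p₂ : Γ((Scheme.Modules.pullback q).obj ΩY, chartOpen a b p q t)),
        z = (c₁.app _).hom p₁ + (c₂.app _).hom p₂) ∧
    (∀ (p₁ : Γ((Scheme.Modules.pullback p).obj ΩX, chartOpen a b p q t))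
        (p₂ : Γ((Scheme.Modules.pullback q).obj ΩY, chartOpen a b p q t)),
        (c₁.app _).hom p₁ + (c₂.app _).hom p₂ = 0 → p₁ = 0 ∧ p₂ = 0) := by
  obtain ⟨⟨⟨V₁, hV₁⟩, ⟨V₂, hV₂⟩, ⟨W, hW⟩⟩, hV₁W, hV₂W⟩ := t
  have hV' : IsAffineOpen (chartOpen a b p q ⟨(⟨V₁, hV₁⟩, ⟨V₂, hV₂⟩, ⟨W, hW⟩), hV₁W, hV₂W⟩) :=
    chartOpen_affine a b p q hZ _
  set V' := chartOpen a b p q ⟨(⟨V₁, hV₁⟩, ⟨V₂, hV₂⟩, ⟨W, hW⟩), hV₁W, hV₂W⟩ with hV'def
  have e1 : V' ≤ p ⁻¹ᵁ V₁ := inf_le_left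
  have e2 : V' ≤ q ⁻¹ᵁ V₂ := inf_le_right
  have eh : V' ≤ h ⁻¹ᵁ W := by
    intro x hx
    have h1 : a (p x) ∈ W := hV₁W (e1 hx)
    have : h x = a (p x) := by rw [← Scheme.Hom.comp_apply, wp]
    change h x ∈ W
    rw [this]; exact h1
  have epa : V' ≤ (p ≫ a) ⁻¹ᵁ W := fun x hx => hV₁W (e1 hx)
  have eqb : V' ≤ (q ≫ b) ⁻¹ᵁ W := fun x hx => hV₂W (e2 hx)
  letI : Algebra Γ(S, W) Γ(X, V₁) := (a.appLE W V₁ hV₁W).hom.toAlgebra
  letI : Algebra Γ(S, W) Γ(Y, V₂) := (b.appLE W V₂ hV₂W).hom.toAlgebra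
  letI : Algebra Γ(X, V₁) Γ(Z, V') := (p.appLE V₁ V' e1).hom.toAlgebra
  letI : Algebra Γ(Y, V₂) Γ(Z, V') := (q.appLE V₂ V' e2).hom.toAlgebra
  letI : Algebra Γ(S, W) Γ(Z, V') := (h.appLE W V' eh).hom.toAlgebra
  haveI : IsScalarTower Γ(S, W) Γ(X, V₁) Γ(Z, V') := IsScalarTower.of_algebraMap_eq' (by
    change (h.appLE W V' eh).hom = (p.appLE V₁ V' e1).hom.comp (a.appLE W V₁ hV₁W).hom
    rw [← CommRingCat.hom_comp, Scheme.Hom.appLE_comp_appLE,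
      OmegaSeq3.appLE_congr wp W V' epa eh])
  haveI : IsScalarTower Γ(S, W) Γ(Y, V₂) Γ(Z, V') := IsScalarTower.of_algebraMap_eq' (by
    change (h.appLE W V' eh).hom = (q.appLE V₂ V' e2).hom.comp (b.appLE W V₂ hV₂W).hom
    rw [← CommRingCat.hom_comp, Scheme.Hom.appLE_comp_appLE,
      OmegaSeq3.appLE_congr wq W V' eqb eh])
  have hpo := (isIso_pushoutSection_iff hZ hV₂W hV₁W (UY := V') rfl).mp
    (isIso_pushoutSection_of_isAffineOpen _ _ _ _ hW hV₂ hV₁)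
  haveI hP : Algebra.IsPushout Γ(S, W) Γ(X, V₁) Γ(Y, V₂) Γ(Z, V') :=
    CommRingCat.isPushout_iff_isPushout.mp hpo
  obtain ⟨ψ₁, hψ₁⟩ := OmegaStruct.exists_sectionsEquiv a dX hX hV₁ hW hV₁W
  obtain ⟨ψ₂, hψ₂⟩ := OmegaStruct.exists_sectionsEquiv b dY hY hV₂ hW hV₂W
  obtain ⟨ψZ, hψZ⟩ := OmegaStruct.exists_sectionsEquiv h dZ hZu hV' hW eh
  haveI : ΩX.IsQuasicoherent := OmegaQCoh.isQuasicoherent_of_isUniversal a dX hX
  haveI : ΩY.IsQuasicoherent := OmegaQCoh.isQuasicoherent_of_isUniversal b dY hY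
  have hk₁ : IsBC (algebraMap Γ(X, V₁) Γ(Z, V')) (ρ p e1 ΩX) := isBC_ρ p hV₁ hV' e1 ΩX
  have hk₂ : IsBC (algebraMap Γ(Y, V₂) Γ(Z, V')) (ρ q e2 ΩY) := isBC_ρ q hV₂ hV' e2 ΩY
  have hc₁' : ∀ s : Γ(X, V₁), linApp c₁ V' (ρ p e1 ΩX (dX.app V₁ s)) =
      dZ.app V' (algebraMap Γ(X, V₁) Γ(Z, V') s) := fun s => diffCompat_app p dX dZ c₁ hc₁ e1 s
  have hc₂' : ∀ s : Γ(Y, V₂), linApp c₂ V' (ρ q e2 ΩY (dY.app V₂ s)) =
      dZ.app V' (algebraMap Γ(Y, V₂) Γ(Z, V') s) := fun s => diffCompat_app q dY dZ c₂ hc₂ e2 s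
  exact ⟨OmegaSeqAlg.prod_surjective' Γ(S, W) Γ(X, V₁) Γ(Y, V₂) Γ(Z, V') (dX.app V₁) ψ₁ hψ₁
      (dY.app V₂) ψ₂ hψ₂ (dZ.app V') ψZ hψZ (ρ p e1 ΩX) hk₁ (ρ q e2 ΩY) hk₂ (linApp c₁ V') hc₁'
      (linApp c₂ V') hc₂',
    OmegaSeqAlg.prod_injective' Γ(S, W) Γ(X, V₁) Γ(Y, V₂) Γ(Z, V') (dX.app V₁) ψ₁ hψ₁
      (dY.app V₂) ψ₂ hψ₂ (dZ.app V') ψZ hψZ (ρ p e1 ΩX) hk₁ (ρ q e2 ΩY) hk₂ (linApp c₁ V') hc₁'
      (linApp c₂ V') hc₂'⟩

include wp wq hZ hX hY hZu hc₁ hc₂ in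
/-- **differentials of a fibre product** -/
theorem isIso_coprod_desc : IsIso (coprod.desc c₁ c₂) := by
  haveI : ΩX.IsQuasicoherent := OmegaQCoh.isQuasicoherent_of_isUniversal a dX hX
  haveI : ΩY.IsQuasicoherent := OmegaQCoh.isQuasicoherent_of_isUniversal b dY hY
  haveI : ΩZ.IsQuasicoherent := OmegaQCoh.isQuasicoherent_of_isUniversal h dZ hZu
  haveI q1 : ((Scheme.Modules.pullback p).obj ΩX).IsQuasicoherent :=
    Groth.Agent.Lib.helper16.QCohPullback.isQuasicoherent_pullback p ΩX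
  haveI q2 : ((Scheme.Modules.pullback q).obj ΩY).IsQuasicoherent :=
    Groth.Agent.Lib.helper16.QCohPullback.isQuasicoherent_pullback q ΩY
  haveI : ((Scheme.Modules.pullback p).obj ΩX ⨿ (Scheme.Modules.pullback q).obj ΩY).IsQuasicoherent :=
    QCohProd.isQuasicoherent_of_iso (biprod.isoCoprod _ _)
      (QCohProd.isQuasicoherent_biprod _ _ q1 q2)
  refine KerSections.isIso_of_bijective_cover _ (fun t : BCChart a b => chartOpen a b p q t)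
    (fun t => chartOpen_affine a b p q hZ t) (chart_cover a b p q hZ) (fun t => ?_)
  obtain ⟨hs, hi⟩ := chart_prod a b p q h wp wq hZ dX hX dY hY dZ hZu c₁ hc₁ c₂ hc₂ t
  constructor
  · rw [injective_iff_map_eq_zero]
    intro s hs0
    rw [coprod_section_decomp _ s, map_add, desc_app_inl, desc_app_inr] at hs0
    obtain ⟨h1, h2⟩ := hi _ _ hs0
    rw [coprod_section_decomp _ s, h1, h2, map_zero, map_zero, add_zero]
  · intro z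
    obtain ⟨p₁, p₂, rfl⟩ := hs z
    refine ⟨((coprod.inl : _ ⟶ (Scheme.Modules.pullback p).obj ΩX ⨿
      (Scheme.Modules.pullback q).obj ΩY).app _).hom p₁ +
      ((coprod.inr : _ ⟶ (Scheme.Modules.pullback p).obj ΩX ⨿
      (Scheme.Modules.pullback q).obj ΩY).app _).hom p₂, ?_⟩
    rw [map_add, desc_app_inl, desc_app_inr]

end Geom

end Groth.Agent.Lib.helper7.OmegaProd
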