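import Groth.Agent.Lib.Helper7.OmegaBCAlg

/-!
# Kähler differentials of a tensor product, receptacle form (helper7)
-/

set_option autoImplicit false
set_option linter.style.haveILetI false
set_option linter.unusedSectionVars false
universe u

namespace Groth.Agent.Lib.helper7.OmegaSeqAlg

open Groth.Agent.Lib.helper8.PullbackUnit TensorProduct KaehlerDifferential

section Prod

variable (A B₁ B₂ C : Type u) [CommRing A] [CommRing B₁] [CommRing B₂] [CommRing C]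
  [Algebra A B₁] [Algebra A B₂] [Algebra A C] [Algebra B₁ C] [Algebra B₂ C]
  [IsScalarTower A B₁ C] [IsScalarTower A B₂ C]

/-- `C ⊗_{B₂} Ω[B₂/A] → Ω[C/A] → Ω[C/B₁]` is bijective when `C = B₁ ⊗_A B₂` -/
theorem gamma_bijective [Algebra.IsPushout A B₁ B₂ C] :
    Function.Bijective ((KaehlerDifferential.map A B₁ C C) ∘ₗ
      (KaehlerDifferential.mapBaseChange A B₂ C)) := by
  refine pushout_sq_bijective A B₁ B₂ C (M₁ := Ω[B₂⁄A]) (M₂ := Ω[C⁄B₁])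
    (D A B₂).toLinearMap.toAddMonoidHom (LinearEquiv.refl _ _) (fun _ => rfl)
    (D B₁ C).toLinearMap.toAddMonoidHom (LinearEquiv.refl _ _) (fun _ => rfl)
    ((TensorProduct.mk B₂ C Ω[B₂⁄A] 1).toAddMonoidHom) (isBC_tmul _) _ (fun b => ?_)
  change KaehlerDifferential.map A B₁ C C
    (KaehlerDifferential.mapBaseChange A B₂ C ((1 : C) ⊗ₜ[B₂] D A B₂ b)) = D B₁ C (algebraMap B₂ C b)
  rw [KaehlerDifferential.mapBaseChange_tmul, one_smul, KaehlerDifferential.map_D,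
    KaehlerDifferential.map_D]
  rfl

variable [Algebra.IsPushout A B₁ B₂ C]

/-- `Ω[C/A]` is the sum of the images of `C ⊗ Ω[B₁/A]` and `C ⊗ Ω[B₂/A]` -/
theorem prod_surjective (z : Ω[C⁄A]) :
    ∃ (t₁ : C ⊗[B₁] Ω[B₁⁄A]) (t₂ : C ⊗[B₂] Ω[B₂⁄A]),
      z = KaehlerDifferential.mapBaseChange A B₁ C t₁ +
        KaehlerDifferential.mapBaseChange A B₂ C t₂ := by
  obtain ⟨t₂, ht₂⟩ := (gamma_bijective A B₁ B₂ C).2 (KaehlerDifferential.map A B₁ C C z)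
  have h1 : KaehlerDifferential.map A B₁ C C
      (z - KaehlerDifferential.mapBaseChange A B₂ C t₂) = 0 := by
    rw [map_sub, sub_eq_zero]
    exact ht₂.symm
  obtain ⟨t₁, ht₁⟩ := (KaehlerDifferential.exact_mapBaseChange_map A B₁ C _).mp h1
  exact ⟨t₁, t₂, by rw [ht₁]; abel⟩

theorem prod_injective (t₁ : C ⊗[B₁] Ω[B₁⁄A]) (t₂ : C ⊗[B₂] Ω[B₂⁄A])
    (h : KaehlerDifferential.mapBaseChange A B₁ C t₁ +
      KaehlerDifferential.mapBaseChange A B₂ C t₂ = 0) : t₁ = 0 ∧ t₂ = 0 := by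
  haveI : Algebra.IsPushout A B₂ B₁ C := Algebra.IsPushout.symm inferInstance
  constructor
  · have h1 := congrArg (KaehlerDifferential.map A B₂ C C) h
    rw [map_add, map_zero,
      (KaehlerDifferential.exact_mapBaseChange_map A B₂ C _).mpr ⟨t₂, rfl⟩, add_zero] at h1
    exact (gamma_bijective A B₂ B₁ C).1 (by rw [map_zero]; exact h1)
  · have h1 := congrArg (KaehlerDifferential.map A B₁ C C) h
    rw [map_add, map_zero,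
      (KaehlerDifferential.exact_mapBaseChange_map A B₁ C _).mpr ⟨t₁, rfl⟩, zero_add] at h1
    exact (gamma_bijective A B₁ B₂ C).1 (by rw [map_zero]; exact h1)

variable {M₁ M₂ MZ P₁ P₂ : Type u} [AddCommGroup M₁] [Module B₁ M₁] [AddCommGroup M₂]
  [Module B₂ M₂] [AddCommGroup MZ] [Module C MZ] [AddCommGroup P₁] [Module C P₁]
  [AddCommGroup P₂] [Module C P₂]
  (d₁ : B₁ →+ M₁) (ψ₁ : M₁ ≃ₗ[B₁] Ω[B₁⁄A]) (hψ₁ : ∀ b, ψ₁ (d₁ b) = D A B₁ b)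
  (d₂ : B₂ →+ M₂) (ψ₂ : M₂ ≃ₗ[B₂] Ω[B₂⁄A]) (hψ₂ : ∀ b, ψ₂ (d₂ b) = D A B₂ b)
  (dZ : C →+ MZ) (ψZ : MZ ≃ₗ[C] Ω[C⁄A]) (hψZ : ∀ a, ψZ (dZ a) = D A C a)
  (k₁ : M₁ →+ P₁) (hk₁ : IsBC (algebraMap B₁ C) k₁)
  (k₂ : M₂ →+ P₂) (hk₂ : IsBC (algebraMap B₂ C) k₂)
  (c₁ : P₁ →ₗ[C] MZ) (hc₁ : ∀ b, c₁ (k₁ (d₁ b)) = dZ (algebraMap B₁ C b))
  (c₂ : P₂ →ₗ[C] MZ) (hc₂ : ∀ b, c₂ (k₂ (d₂ b)) = dZ (algebraMap B₂ C b))

include hψ₁ hψ₂ hψZ hk₁ hk₂ hc₁ hc₂ in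
theorem prod_surjective' (z : MZ) : ∃ (p₁ : P₁) (p₂ : P₂), z = c₁ p₁ + c₂ p₂ := by
  obtain ⟨e₁, he₁⟩ := exists_equiv_of_isBC hk₁
  obtain ⟨e₂, he₂⟩ := exists_equiv_of_isBC hk₂
  have hL₁ := comp_left A B₁ C d₁ ψ₁ hψ₁ dZ ψZ hψZ k₁ hk₁ c₁ hc₁ e₁ he₁
  have hL₂ := comp_left A B₂ C d₂ ψ₂ hψ₂ dZ ψZ hψZ k₂ hk₂ c₂ hc₂ e₂ he₂
  obtain ⟨t₁, t₂, ht⟩ := prod_surjective A B₁ B₂ C (ψZ z)
  refine ⟨e₁.symm ((TensorProduct.AlgebraTensorModule.congr (LinearEquiv.refl C C) ψ₁).symm t₁),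
    e₂.symm ((TensorProduct.AlgebraTensorModule.congr (LinearEquiv.refl C C) ψ₂).symm t₂),
    ψZ.injective ?_⟩
  rw [map_add, hL₁, hL₂, LinearEquiv.apply_symm_apply, LinearEquiv.apply_symm_apply,
    LinearEquiv.apply_symm_apply, LinearEquiv.apply_symm_apply, ht]

include hψ₁ hψ₂ hψZ hk₁ hk₂ hc₁ hc₂ in
theorem prod_injective' (p₁ : P₁) (p₂ : P₂) (h : c₁ p₁ + c₂ p₂ = 0) : p₁ = 0 ∧ p₂ = 0 := by
  obtain ⟨e₁, he₁⟩ := exists_equiv_of_isBC hk₁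
  obtain ⟨e₂, he₂⟩ := exists_equiv_of_isBC hk₂
  have hL₁ := comp_left A B₁ C d₁ ψ₁ hψ₁ dZ ψZ hψZ k₁ hk₁ c₁ hc₁ e₁ he₁
  have hL₂ := comp_left A B₂ C d₂ ψ₂ hψ₂ dZ ψZ hψZ k₂ hk₂ c₂ hc₂ e₂ he₂
  have h1 := congrArg ψZ h
  rw [map_add, map_zero, hL₁, hL₂] at h1
  obtain ⟨h2, h3⟩ := prod_injective A B₁ B₂ C _ _ h1
  constructor
  · have := (TensorProduct.AlgebraTensorModule.congr (LinearEquiv.refl C C) ψ₁).injective
      (h2.trans (map_zero _).symm)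
    exact e₁.injective (this.trans (map_zero _).symm)
  · have := (TensorProduct.AlgebraTensorModule.congr (LinearEquiv.refl C C) ψ₂).injective
      (h3.trans (map_zero _).symm)
    exact e₂.injective (this.trans (map_zero _).symm)

end Prod

end Groth.Agent.Lib.helper7.OmegaSeqAlg
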