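import Groth.Agent.Lib.Helper7.OmegaStruct
import Groth.Agent.Lib.Helper7.CohKer

/-!
# A universal receptacle of differentials is quasi-coherent (helper7)
-/

set_option autoImplicit false
set_option linter.style.haveILetI false
set_option linter.unusedSectionVars false
universe u
open CategoryTheory CategoryTheory.Limits AlgebraicGeometry TopologicalSpace Opposite
open Scheme.Modules

namespace Groth.Agent.Lib.helper7.OmegaQCoh

variable {X Y : Scheme.{u}} (f : X ⟶ Y) {Ω' : X.Modules} (d : OmegaSh.Der f Ω')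
  (hd : OmegaSh.IsUniversal d)

include hd in
/-- on an affine open, a universal receptacle restricts to the sheaf of differentials -/
theorem exists_restrictIso {U : X.Opens} (hU : IsAffineOpen U) :
    haveI : IsAffine ↑U := hU
    ∃ α : Omega.sheaf (U.ι ≫ f) ≅ Ω'.restrict U.ι,
      (OmegaSh.dOmega (U.ι ≫ f)).postcomp α.hom.val = OmegaRestrict.restrDer f U.ι d := by
  haveI : IsAffine ↑U := hU
  exact OmegaStruct.exists_iso_of_isUniversal (U.ι ≫ f) (OmegaSh.dOmega (U.ι ≫ f))
    (OmegaRestrict.restrDer f U.ι d)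
    (OmegaUniv.isUniversal_dOmega (U.ι ≫ f)) (OmegaRestrict.isUniversal_restrDer f U.ι d hd)

include hd in
/-- **A universal receptacle of differentials is quasi-coherent.** -/
theorem isQuasicoherent_of_isUniversal : Ω'.IsQuasicoherent := by
  refine CohKer.isQuasicoherent_of_affine Ω' (fun U hU => ?_)
  obtain ⟨α, -⟩ := exists_restrictIso f d hd hU
  have h1 : (Ω'.restrict U.ι).IsQuasicoherent :=
    (SheafOfModules.isQuasicoherent (↑U : Scheme.{u}).ringCatSheaf).prop_of_iso α
      (OmegaAffine.omega_qcoh (U.ι ≫ f))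
  have h2 : ((Ω'.restrict U.ι).restrict hU.isoSpec.inv).IsQuasicoherent :=
    Scheme.Modules.isQuasicoherent_restrictFunctor hU.isoSpec.inv (Ω'.restrict U.ι)
  let iso : (Ω'.restrict U.ι).restrict hU.isoSpec.inv ≅ Ω'.restrict hU.fromSpec :=
    ((restrictFunctorComp hU.isoSpec.inv U.ι).app Ω').symm ≪≫
      (restrictFunctorCongr (by simp)).app Ω'
  exact (SheafOfModules.isQuasicoherent (Spec Γ(X, U)).ringCatSheaf).prop_of_iso iso h2

end Groth.Agent.Lib.helper7.OmegaQCoh
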