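import Groth.Agent.Lib.Helper7.OmegaPush

/-!
# Restriction of (universal) derivations to opens (helper7)
-/

set_option autoImplicit false
set_option linter.style.haveILetI false
universe u
open CategoryTheory CategoryTheory.Limits AlgebraicGeometry TopologicalSpace Opposite
open Scheme.Modules

namespace Groth.Agent.Lib.helper7.OmegaRestrict

variable {X Y X' : Scheme.{u}} (f : X ⟶ Y) (j : X' ⟶ X) [IsOpenImmersion j]
  {Ω : X.Modules} (d : OmegaSh.Der f Ω)

theorem restrict_smul (N : X.Modules) (W : X'.Opens) (r : Γ(X', W)) (y : Γ(N.restrict j, W)) :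
    r • y = (((j.appIso W).inv.hom r) • (show Γ(N, j ''ᵁ W) from y) : Γ(N, j ''ᵁ W)) := rfl

theorem der_map {F : X.Modules} (D : OmegaSh.Der f F) {W W' : X.Opens} (i : W' ≤ W)
    (s : Γ(X, W)) :
    D.app W' (X.presheaf.map (homOfLE i).op s) = F.presheaf.map (homOfLE i).op (D.app W s) :=
  D.d_map (homOfLE i).op s

/-- the restriction of a derivation along an open immersion -/
noncomputable def restrDer : OmegaSh.Der (j ≫ f) (Ω.restrict j) where
  d {W} := (d.app (j ''ᵁ W.unop)).comp (j.appIso W.unop).inv.hom.toAddMonoidHom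
  d_mul {W} a c := by
    change d.app (j ''ᵁ W.unop) ((j.appIso W.unop).inv.hom (a * c)) = _
    rw [map_mul]
    exact d.d_mul _ _
  d_map {W W'} i s := by
    change d.app (j ''ᵁ W'.unop) ((j.appIso W'.unop).inv.hom (X'.presheaf.map i s)) =
      Ω.presheaf.map (j.opensFunctor.op.map i) (d.app (j ''ᵁ W.unop) ((j.appIso W.unop).inv.hom s))
    have h1 : (j.appIso W'.unop).inv.hom (X'.presheaf.map i s) =
        X.presheaf.map (j.opensFunctor.op.map i) ((j.appIso W.unop).inv.hom s) :=
      congr($(j.appIso_inv_naturality i) s)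
    rw [h1]
    exact d.d_map _ _
  d_app {V} c := by
    change d.app (j ''ᵁ (j ⁻¹ᵁ (f ⁻¹ᵁ V.unop)))
      ((j.appIso (j ⁻¹ᵁ (f ⁻¹ᵁ V.unop))).inv.hom ((j.app (f ⁻¹ᵁ V.unop)).hom
        ((f.app V.unop).hom c))) = 0
    have h1 : (j.appIso (j ⁻¹ᵁ (f ⁻¹ᵁ V.unop))).inv.hom ((j.app (f ⁻¹ᵁ V.unop)).hom
        ((f.app V.unop).hom c)) =
        X.presheaf.map (homOfLE (j.image_preimage_le (f ⁻¹ᵁ V.unop))).op ((f.app V.unop).hom c) :=
      congr($(j.app_appIso_inv (f ⁻¹ᵁ V.unop)) ((f.app V.unop).hom c))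
    rw [h1, der_map]
    have h0 : d.app (f ⁻¹ᵁ V.unop) ((f.app V.unop).hom c) = 0 := d.d_app (X := V) c
    rw [h0, map_zero]

theorem restrDer_app (W : X'.Opens) (t : Γ(X', W)) :
    (restrDer f j d).app W t = d.app (j ''ᵁ W) ((j.appIso W).inv.hom t) := rfl

section Univ
variable {G : X'.Modules} (D' : OmegaSh.Der (j ≫ f) G)

theorem homEquiv_app (β : Ω.restrict j ⟶ G) (W : X.Opens) (x : Γ(Ω, W)) :
    (((restrictAdjunction j).homEquiv Ω G β).app W).hom x =
      (β.app (j ⁻¹ᵁ W)).hom (Ω.presheaf.map (homOfLE (j.image_preimage_le W)).op x) := by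
  rw [Adjunction.homEquiv_unit]
  rfl

theorem sq_id : (j ≫ f) ≫ 𝟙 Y = j ≫ f := Category.comp_id _

theorem app_map {M N : X'.Modules} (φ : M ⟶ N) {W W' : X'.Opens} (i : W' ≤ W) (x : Γ(M, W)) :
    φ.app W' (M.presheaf.map (homOfLE i).op x) = N.presheaf.map (homOfLE i).op (φ.app W x) :=
  congr($(φ.mapPresheaf.naturality (homOfLE i).op) x)

theorem postcomp_iff (β : Ω.restrict j ⟶ G) :
    (restrDer f j d).postcomp β.val = D' ↔
      d.postcomp ((restrictAdjunction j).homEquiv Ω G β).val =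
        OmegaPush.pushDer f (j ≫ f) j (𝟙 Y) (sq_id f j) D' := by
  constructor
  · intro hβ
    refine OmegaPush.der_ext f _ _ (fun W s => ?_)
    rw [OmegaPush.postcomp_app, homEquiv_app, OmegaPush.pushDer_app, ← der_map]
    have h1 : X.presheaf.map (homOfLE (j.image_preimage_le W)).op s =
        (j.appIso (j ⁻¹ᵁ W)).inv.hom ((j.app W).hom s) :=
      (congr($(j.app_appIso_inv W) s)).symm
    rw [h1, ← restrDer_app, ← hβ]
    rfl
  · intro hβ
    refine OmegaPush.der_ext (j ≫ f) _ _ (fun W' t => ?_)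
    have ε : W' ≤ j ⁻¹ᵁ (j ''ᵁ W') := by rw [j.preimage_image_eq]
    have h0 := congrArg (fun D => OmegaSh.Der.app (f := f) D (j ''ᵁ W')
      ((j.appIso W').inv.hom t)) hβ
    simp only [OmegaPush.postcomp_app, homEquiv_app, OmegaPush.pushDer_app] at h0
    have h1 := congrArg (G.presheaf.map (homOfLE ε).op) h0
    rw [← app_map, ← OmegaPush.der_map' (j ≫ f) D' ε] at h1
    have h2 : X'.presheaf.map (homOfLE ε).op ((j.app (j ''ᵁ W')).hom ((j.appIso W').inv.hom t)) =
        t := by
      have := congr($(j.appIso_inv_app W') t)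
      rw [CommRingCat.comp_apply] at this
      rw [this, ← CommRingCat.comp_apply, ← Functor.map_comp]
      have h3 : ((eqToHom (j.preimage_image_eq W')).op ≫ (homOfLE ε).op) = 𝟙 _ :=
        Subsingleton.elim _ _
      rw [h3, X'.presheaf.map_id]
      rfl
    rw [h2] at h1
    rw [← h1]
    change (β.app W').hom (d.app (j ''ᵁ W') ((j.appIso W').inv.hom t)) = _
    congr 1
    change _ = Ω.presheaf.map (j.opensFunctor.map (homOfLE ε)).op
      (Ω.presheaf.map (homOfLE (j.image_preimage_le (j ''ᵁ W'))).op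
        (d.app (j ''ᵁ W') ((j.appIso W').inv.hom t)))
    rw [← ConcreteCategory.comp_apply, ← Functor.map_comp]
    have h4 : ((homOfLE (j.image_preimage_le (j ''ᵁ W'))).op ≫
        (j.opensFunctor.map (homOfLE ε)).op) = 𝟙 _ := Subsingleton.elim _ _
    rw [h4, Ω.presheaf.map_id]
    rfl

/-- **The restriction of a universal derivation to an open is universal.** -/
theorem isUniversal_restrDer (hd : OmegaSh.IsUniversal d) :
    OmegaSh.IsUniversal (restrDer f j d) := by
  intro G D'
  obtain ⟨α, hα, hu⟩ := hd _ (OmegaPush.pushDer f (j ≫ f) j (𝟙 Y) (sq_id f j) D')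
  let E := (restrictAdjunction j).homEquiv Ω G
  refine ⟨E.symm α, ?_, ?_⟩
  · change (restrDer f j d).postcomp (E.symm α).val = D'
    rw [postcomp_iff f j d D']
    change d.postcomp (E (E.symm α)).val = _
    rw [Equiv.apply_symm_apply]
    exact hα
  · intro β hβ
    change (restrDer f j d).postcomp β.val = D' at hβ
    rw [postcomp_iff f j d D'] at hβ
    rw [← hu (E β) hβ, Equiv.symm_apply_apply]

end Univ

end Groth.Agent.Lib.helper7.OmegaRestrict
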