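import Groth.Agent.Lib.Helper7.OmegaSeq
import Groth.Agent.Lib.Helper7.ImmChart
import Groth.Agent.Lib.Helper7.IdealMod

/-!
# The second exact sequence of differentials `C_{X/Y} → j^*Ω_{Y/Z} → Ω_{X/Z} → 0` (helper7)
-/

set_option autoImplicit false
set_option linter.style.haveILetI false
set_option linter.unusedSectionVars false
universe u
open CategoryTheory CategoryTheory.Limits AlgebraicGeometry TopologicalSpace Opposite
open Scheme.Modules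

namespace Groth.Agent.Lib.helper7.OmegaSeq2

open Groth.Agent.Lib.helper8.PullbackUnit OmegaChart

section ConormalDiff

variable {X Y Z : Scheme.{u}} (f : Y ⟶ Z) (j : X ⟶ Y)
  {ΩY : Y.Modules} (dY : OmegaSh.Der f ΩY)
  (φ : Omega.conormal j ⟶ (Scheme.Modules.pullback j).obj ΩY)

/-- chart form of `IsConormalDiff` -/
theorem conormalDiff_app (hφ : OmegaSh.IsConormalDiff j dY φ) {V : Y.Opens} {U : X.Opens}
    (e : U ≤ j ⁻¹ᵁ V) (s : Γ(ClSub.idealMod j.ker, V)) :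
    (φ.app U).hom (ρ j e (ClSub.idealMod j.ker) s) =
      ρ j e ΩY (dY.app V (OmegaSh.idealSect j.ker V s)) := by
  rw [ρ_apply, ρ_apply]
  have h1 := ModBasisHom.app_map φ e
    ((((pullbackPushforwardAdjunction j).unit.app (ClSub.idealMod j.ker)).app V).hom s)
  refine h1.trans ?_
  have h2 := hφ V s
  exact congrArg (((Scheme.Modules.pullback j).obj ΩY).presheaf.map (homOfLE e).op) h2

theorem range_idealSect (I : Y.IdealSheafData) {V : Y.Opens} (hV : IsAffineOpen V) :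
    Set.range (OmegaSh.idealSect I V) = (I.ideal ⟨V, hV⟩ : Set Γ(Y, V)) := by
  ext s
  exact IdealMod.mem_range_idealModι_iff_of_affine I ⟨V, hV⟩ s

end ConormalDiff

section Seq

variable {X Y Z : Scheme.{u}} (f : Y ⟶ Z) (j : X ⟶ Y) [IsImmersion j] [QuasiCompact j]
  {ΩY : Y.Modules} (dY : OmegaSh.Der f ΩY) (hY : OmegaSh.IsUniversal dY)
  {ΩX : X.Modules} (dX : OmegaSh.Der (j ≫ f) ΩX) (hX : OmegaSh.IsUniversal dX)
  (φ : Omega.conormal j ⟶ (Scheme.Modules.pullback j).obj ΩY)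
  (hφ : OmegaSh.IsConormalDiff j dY φ)
  (c : (Scheme.Modules.pullback j).obj ΩY ⟶ ΩX) (hc : OmegaSh.IsDiffCompat j dY dX c)

include hY hX hφ hc in
theorem chart_conormal {V : Y.Opens} (hV : IsAffineOpen V) (hU : IsAffineOpen (j ⁻¹ᵁ V))
    (hs : Function.Surjective (j.app V).hom) {W : Z.Opens} (hW : IsAffineOpen W)
    (eVW : V ≤ f ⁻¹ᵁ W) :
    Function.Surjective (c.app (j ⁻¹ᵁ V)).hom ∧
      Function.Exact (φ.app (j ⁻¹ᵁ V)).hom (c.app (j ⁻¹ᵁ V)).hom := by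
  have eUV : j ⁻¹ᵁ V ≤ j ⁻¹ᵁ V := le_rfl
  have eUW : j ⁻¹ᵁ V ≤ (j ≫ f) ⁻¹ᵁ W := fun x hx => eVW (eUV hx)
  letI algCA := (f.appLE W V eVW).hom.toAlgebra
  letI algAR := (j.appLE V (j ⁻¹ᵁ V) eUV).hom.toAlgebra
  letI algCR := ((j ≫ f).appLE W (j ⁻¹ᵁ V) eUW).hom.toAlgebra
  haveI : IsScalarTower Γ(Z, W) Γ(Y, V) Γ(X, j ⁻¹ᵁ V) := IsScalarTower.of_algebraMap_eq' (by
    change ((j ≫ f).appLE W (j ⁻¹ᵁ V) eUW).hom =
      (j.appLE V (j ⁻¹ᵁ V) eUV).hom.comp (f.appLE W V eVW).hom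
    rw [← CommRingCat.hom_comp, Scheme.Hom.appLE_comp_appLE])
  have happ : j.appLE V (j ⁻¹ᵁ V) eUV = j.app V := (j.app_eq_appLE (U := V)).symm
  have hsurj : Function.Surjective (algebraMap Γ(Y, V) Γ(X, j ⁻¹ᵁ V)) := by
    change Function.Surjective (j.appLE V (j ⁻¹ᵁ V) eUV).hom
    rw [happ]; exact hs
  obtain ⟨ψY, hψY⟩ := OmegaStruct.exists_sectionsEquiv f dY hY hV hW eVW
  obtain ⟨ψX, hψX⟩ := OmegaStruct.exists_sectionsEquiv (j ≫ f) dX hX hU hW eUW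
  haveI : ΩY.IsQuasicoherent := OmegaQCoh.isQuasicoherent_of_isUniversal f dY hY
  have hk : IsBC (algebraMap Γ(Y, V) Γ(X, j ⁻¹ᵁ V)) (ρ j eUV ΩY) := isBC_ρ j hV hU eUV ΩY
  have hq : IsBC (algebraMap Γ(Y, V) Γ(X, j ⁻¹ᵁ V)) (ρ j eUV (ClSub.idealMod j.ker)) :=
    isBC_ρ j hV hU eUV (ClSub.idealMod j.ker)
  have hc' : ∀ b : Γ(Y, V), linApp c (j ⁻¹ᵁ V) (ρ j eUV ΩY (dY.app V b)) =
      dX.app (j ⁻¹ᵁ V) (algebraMap Γ(Y, V) Γ(X, j ⁻¹ᵁ V) b) :=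
    fun b => diffCompat_app j dY dX c hc eUV b
  have hι : Set.range (OmegaSh.idealSect j.ker V) =
      (RingHom.ker (algebraMap Γ(Y, V) Γ(X, j ⁻¹ᵁ V)) : Set Γ(Y, V)) := by
    rw [range_idealSect j.ker hV, Scheme.Hom.ker_apply]
    change _ = ((RingHom.ker (j.appLE V (j ⁻¹ᵁ V) eUV).hom : Ideal Γ(Y, V)) : Set Γ(Y, V))
    rw [happ]
  have hφ' : ∀ m, linApp φ (j ⁻¹ᵁ V) (ρ j eUV (ClSub.idealMod j.ker) m) =
      ρ j eUV ΩY (dY.app V (OmegaSh.idealSect j.ker V m)) :=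
    fun m => conormalDiff_app f j dY φ hφ eUV m
  exact ⟨OmegaSeqAlg.conormal_surjective Γ(Z, W) Γ(Y, V) Γ(X, j ⁻¹ᵁ V) hsurj (dY.app V) ψY hψY
      (dX.app (j ⁻¹ᵁ V)) ψX hψX (ρ j eUV ΩY) hk (linApp c (j ⁻¹ᵁ V)) hc',
    OmegaSeqAlg.conormal_exact Γ(Z, W) Γ(Y, V) Γ(X, j ⁻¹ᵁ V) hsurj (dY.app V) ψY hψY
      (dX.app (j ⁻¹ᵁ V)) ψX hψX (ρ j eUV ΩY) hk (linApp c (j ⁻¹ᵁ V)) hc'
      (OmegaSh.idealSect j.ker V) hι (ρ j eUV (ClSub.idealMod j.ker))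
      (OmegaSeqAlg.span_range_of_isBC hq) (linApp φ (j ⁻¹ᵁ V)) hφ'⟩

/-- charts adapted to the immersion `j` and to `f` -/
abbrev ChartJ := {t : Y.affineOpens × Z.affineOpens //
  t.1.1 ≤ f ⁻¹ᵁ t.2.1 ∧ IsAffineOpen (j ⁻¹ᵁ t.1.1) ∧ Function.Surjective (j.app t.1.1).hom}

theorem chartJ_cover (x : X) : ∃ t : ChartJ f j, x ∈ j ⁻¹ᵁ t.1.1.1 := by
  obtain ⟨W, hW, hxW, -⟩ := Opens.isBasis_iff_nbhd.mp Z.isBasis_affineOpens
    (show f (j x) ∈ (⊤ : Z.Opens) from trivial)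
  obtain ⟨V, hV, hxV, hVW, hU, hs⟩ := ImmChart.exists_chart j x (f ⁻¹ᵁ W) hxW
  exact ⟨⟨(⟨V, hV⟩, ⟨W, hW⟩), hVW, hU, hs⟩, hxV⟩

include hY hX hφ hc in
/-- **Second exact sequence of differentials** for a quasi-compact immersion. -/
theorem conormal_seq : Epi c ∧ imageSubobject φ = kernelSubobject c := by
  haveI : ΩY.IsQuasicoherent := OmegaQCoh.isQuasicoherent_of_isUniversal f dY hY
  haveI : ΩX.IsQuasicoherent := OmegaQCoh.isQuasicoherent_of_isUniversal (j ≫ f) dX hX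
  haveI : ((Scheme.Modules.pullback j).obj ΩY).IsQuasicoherent :=
    Groth.Agent.Lib.helper16.QCohPullback.isQuasicoherent_pullback j ΩY
  haveI : (Omega.conormal j).IsQuasicoherent := OmegaAffine.conormal_qcoh j
  have key := fun t : ChartJ f j => chart_conormal f j dY hY dX hX φ hφ c hc
    t.1.1.2 t.2.2.1 t.2.2.2 t.1.2.2 t.2.1
  refine ⟨KerSections.epi_of_surjective_cover c (fun t : ChartJ f j => j ⁻¹ᵁ t.1.1.1)
    (fun t => t.2.2.1) (chartJ_cover f j) (fun t => (key t).1), ?_⟩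
  refine QCohExact.image_eq_kernel_of_cover φ c (fun t : ChartJ f j => j ⁻¹ᵁ t.1.1.1)
    (fun t => t.2.2.1) (chartJ_cover f j) (fun t a => ?_) (fun t b hb => ?_)
  · exact ((key t).2 _).mpr ⟨a, rfl⟩
  · exact ((key t).2 b).mp hb

end Seq

end Groth.Agent.Lib.helper7.OmegaSeq2
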