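import Groth.Agent.Lib.Helper7.OmegaSeqAlg2

/-!
# Algebraic core of `j^*C_{Y/X} → C_{Y'/X} → C_{Y'/Y} → 0`, receptacle form (helper7)
-/

set_option autoImplicit false
set_option linter.style.haveILetI false
set_option linter.unusedSectionVars false
universe u

namespace Groth.Agent.Lib.helper7.OmegaSeqAlg

open Groth.Agent.Lib.helper8.PullbackUnit

section Conormal3

variable (A B R : Type u) [CommRing A] [CommRing B] [CommRing R] [Algebra A B] [Algebra B R]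
  [Algebra A R] [IsScalarTower A B R]
  (hAB : Function.Surjective (algebraMap A B)) (hBR : Function.Surjective (algebraMap B R))
  {MI N₁ P MK N₂ MKB N₃ : Type u}
  [AddCommGroup MI] [Module A MI] [AddCommGroup N₁] [Module B N₁] [AddCommGroup P] [Module R P]
  [AddCommGroup MK] [Module A MK] [AddCommGroup N₂] [Module R N₂]
  [AddCommGroup MKB] [Module B MKB] [AddCommGroup N₃] [Module R N₃]
  (ιI : MI →ₗ[A] A) (hιI : Set.range ιI = (RingHom.ker (algebraMap A B) : Set A))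
  (q₁ : MI →+ N₁) (hq₁ : IsBC (algebraMap A B) q₁)
  (k : N₁ →+ P) (hk : IsBC (algebraMap B R) k)
  (ιK : MK →ₗ[A] A) (hιK : Set.range ιK = (RingHom.ker (algebraMap A R) : Set A))
  (q₂ : MK →+ N₂) (hq₂ : IsBC (algebraMap A R) q₂)
  (ιKB : MKB →ₗ[B] B) (hιKB : Set.range ιKB = (RingHom.ker (algebraMap B R) : Set B))
  (q₃ : MKB →+ N₃) (hq₃ : IsBC (algebraMap B R) q₃)
  (φ₁ : P →ₗ[R] N₂) (hφ₁ : ∀ s' s, ιK s = ιI s' → φ₁ (k (q₁ s')) = q₂ s)
  (φ₂ : N₂ →ₗ[R] N₃) (hφ₂ : ∀ s sb, ιKB sb = algebraMap A B (ιK s) → φ₂ (q₂ s) = q₃ sb)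

include hAB hιK hιKB in
/-- every section of the ideal of `Y'` in `Y` lifts to one of the ideal of `Y'` in `X` -/
theorem exists_lift_K (sb : MKB) : ∃ s : MK, algebraMap A B (ιK s) = ιKB sb := by
  obtain ⟨a, ha⟩ := hAB (ιKB sb)
  have h1 : ιKB sb ∈ (RingHom.ker (algebraMap B R) : Set B) := by rw [← hιKB]; exact ⟨sb, rfl⟩
  have h2 : a ∈ (RingHom.ker (algebraMap A R) : Set A) := by
    change algebraMap A R a = 0
    rw [IsScalarTower.algebraMap_apply A B R, ha]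
    exact h1
  rw [← hιK] at h2
  obtain ⟨s, rfl⟩ := h2
  exact ⟨s, ha⟩

include hAB hBR hιK hιKB hq₃ hφ₂ in
theorem conormal3_surjective : Function.Surjective φ₂ := by
  intro n
  obtain ⟨sb, rfl⟩ := surjective_of_isBC hBR hq₃ n
  obtain ⟨s, hs⟩ := exists_lift_K A B R hAB ιK hιK ιKB hιKB sb
  exact ⟨q₂ s, hφ₂ s sb hs.symm⟩

include hιI hιK in
theorem exists_K_of_I (s' : MI) : ∃ s : MK, ιK s = ιI s' := by
  have h1 : ιI s' ∈ (RingHom.ker (algebraMap A B) : Set A) := by rw [← hιI]; exact ⟨s', rfl⟩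
  have h2 : ιI s' ∈ (RingHom.ker (algebraMap A R) : Set A) := by
    change algebraMap A R (ιI s') = 0
    rw [IsScalarTower.algebraMap_apply A B R, RingHom.mem_ker.mp h1, map_zero]
  rw [← hιK] at h2
  exact h2

include hAB hBR hιI hq₁ hk hιK hφ₁ hφ₂ in
theorem conormal3_comp_zero : φ₂ ∘ₗ φ₁ = 0 := by
  have hs1 := surjective_of_isBC hAB hq₁
  have hs2 := surjective_of_isBC hBR hk
  ext p
  obtain ⟨n, rfl⟩ := hs2 p
  obtain ⟨s', rfl⟩ := hs1 n
  obtain ⟨s, hs⟩ := exists_K_of_I A B R ιI hιI ιK hιK s'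
  change φ₂ (φ₁ (k (q₁ s'))) = 0
  rw [hφ₁ s' s hs, hφ₂ s 0 (by
    rw [map_zero, hs]
    have h1 : ιI s' ∈ (RingHom.ker (algebraMap A B) : Set A) := by rw [← hιI]; exact ⟨s', rfl⟩
    exact (RingHom.mem_ker.mp h1).symm), map_zero]

include hAB hBR hιI hq₁ hk hιK hq₂ hιKB hq₃ hφ₁ hφ₂ in
/-- exactness of `j^*C_{Y/X} → C_{Y'/X} → C_{Y'/Y}`, receptacle form -/
theorem conormal3_exact : Function.Exact φ₁ φ₂ := by
  have hzero := conormal3_comp_zero A B R hAB hBR ιI hιI q₁ hq₁ k hk ιK hιK q₂ ιKB q₃ φ₁ hφ₁ φ₂ hφ₂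
  have hAR : Function.Surjective (algebraMap A R) := by
    rw [IsScalarTower.algebraMap_eq A B R]
    exact hBR.comp hAB
  have hq₂s := surjective_of_isBC hAR hq₂
  intro n
  constructor
  swap
  · rintro ⟨x, rfl⟩
    exact congr($hzero x)
  intro hn
  obtain ⟨s₀, rfl⟩ := hq₂s n
  let Q := N₂ ⧸ LinearMap.range φ₁
  let mk : N₂ →ₗ[R] Q := (LinearMap.range φ₁).mkQ
  have key : ∀ s₁ s₂ : MK, algebraMap A B (ιK s₁) = algebraMap A B (ιK s₂) →
      mk (q₂ s₁) = mk (q₂ s₂) := by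
    intro s₁ s₂ h
    have h1 : ιK (s₁ - s₂) ∈ (RingHom.ker (algebraMap A B) : Set A) := by
      change algebraMap A B (ιK (s₁ - s₂)) = 0
      rw [map_sub, map_sub, h, sub_self]
    rw [← hιI] at h1
    obtain ⟨s', hs'⟩ := h1
    have h3 : φ₁ (k (q₁ s')) = q₂ (s₁ - s₂) := hφ₁ s' (s₁ - s₂) hs'.symm
    rw [← sub_eq_zero, ← map_sub, ← map_sub, ← h3]
    exact (Submodule.Quotient.mk_eq_zero _).mpr ⟨k (q₁ s'), rfl⟩
  choose ss hss using exists_lift_K A B R hAB ιK hιK ιKB hιKB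
  let θ₀ : MKB →+ Q :=
    { toFun := fun sb => mk (q₂ (ss sb))
      map_zero' := by
        have := key (ss 0) 0 (by rw [hss, map_zero, map_zero, map_zero])
        rw [this, map_zero, map_zero]
      map_add' := fun a b => by
        have := key (ss (a + b)) (ss a + ss b) (by
          rw [hss, map_add, map_add, map_add, hss, hss])
        rw [this, map_add, map_add] }
  have hθ₀ : ∀ sb, θ₀ sb = mk (q₂ (ss sb)) := fun _ => rfl
  have hθlin : ∀ (b : B) (sb : MKB), θ₀ (b • sb) = algebraMap B R b • θ₀ sb := by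
    intro b sb
    obtain ⟨a, rfl⟩ := hAB b
    have := key (ss (algebraMap A B a • sb)) (a • ss sb) (by
      rw [hss, map_smul, map_smul, smul_eq_mul, smul_eq_mul, map_mul, hss])
    rw [hθ₀, hθ₀, this, hq₂.map_smul, map_smul, ← IsScalarTower.algebraMap_apply]
  obtain ⟨θ, hθ, -⟩ := hq₃.existsUnique_lift Q θ₀ hθlin
  have h4 : θ (φ₂ (q₂ s₀)) = mk (q₂ s₀) := by
    obtain ⟨sb, hsb⟩ : ∃ sb : MKB, ιKB sb = algebraMap A B (ιK s₀) := by
      have h1 : algebraMap A B (ιK s₀) ∈ (RingHom.ker (algebraMap B R) : Set B) := by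
        change algebraMap B R (algebraMap A B (ιK s₀)) = 0
        rw [← IsScalarTower.algebraMap_apply]
        have h2 : ιK s₀ ∈ (RingHom.ker (algebraMap A R) : Set A) := by
          rw [← hιK]; exact ⟨s₀, rfl⟩
        exact h2
      rw [← hιKB] at h1
      exact h1
    rw [hφ₂ s₀ sb hsb, hθ, hθ₀]
    exact key _ _ (by rw [hss, hsb])
  rw [hn, map_zero] at h4
  exact (Submodule.Quotient.mk_eq_zero _).mp h4.symm

end Conormal3

end Groth.Agent.Lib.helper7.OmegaSeqAlg
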