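import Groth.Agent.Lib.Helper7.OmegaSeq4
import Groth.Agent.Lib.Helper7.OmegaSeqAlg3

/-!
# The sequence of conormal sheaves `j^*C_{Y/X} → C_{Y'/X} → C_{Y'/Y} → 0` (helper7)
-/

set_option autoImplicit false
set_option linter.style.haveILetI false
set_option linter.unusedSectionVars false
universe u
open CategoryTheory CategoryTheory.Limits AlgebraicGeometry TopologicalSpace Opposite
open Scheme.Modules

namespace Groth.Agent.Lib.helper7.OmegaSeq5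

open Groth.Agent.Lib.helper8.PullbackUnit OmegaChart OmegaSeq4

theorem id_appLE_apply {X : Scheme.{u}} (U : X.Opens) (e : U ≤ (𝟙 X) ⁻¹ᵁ U) (x : Γ(X, U)) :
    ((𝟙 X : X ⟶ X).appLE U U e).hom x = x := by
  have : ((𝟙 X : X ⟶ X).appLE U U e) = 𝟙 _ := by
    rw [Scheme.Hom.appLE, Scheme.Hom.id_app]
    exact (Category.id_comp _).trans (X.presheaf.map_id _)
  rw [this]; rfl

/-- `pullbackId.inv` on sections is `ρ (𝟙 X)` -/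
theorem pullbackId_inv_app_eq_ρ {X : Scheme.{u}} (F : X.Modules) (U : X.Opens)
    (e : U ≤ (𝟙 X) ⁻¹ᵁ U) (a : Γ(F, U)) :
    (((pullbackId X).inv.app F).app U).hom a = ρ (𝟙 X) e F a := by
  rw [pullbackId_inv_app, ρ_apply]
  have : ((Scheme.Modules.pullback (𝟙 X)).obj F).presheaf.map (homOfLE e).op = 𝟙 _ :=
    ((Scheme.Modules.pullback (𝟙 X)).obj F).presheaf.map_id _
  rw [this]
  rfl

section Seq

variable {Y' Y X : Scheme.{u}} (f : Y ⟶ X) [IsImmersion f] [QuasiCompact f]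
  (j : Y' ⟶ Y) [IsImmersion j] [QuasiCompact j]
  (φ₁ : (Scheme.Modules.pullback j).obj (Omega.conormal f) ⟶ Omega.conormal (j ≫ f))
  (hφ₁ : OmegaSh.IsConormalMap (j ≫ f) f (𝟙 X) j φ₁)
  (φ₂ : (Scheme.Modules.pullback (𝟙 Y')).obj (Omega.conormal (j ≫ f)) ⟶ Omega.conormal j)
  (hφ₂ : OmegaSh.IsConormalMap j (j ≫ f) f (𝟙 Y') φ₂)

include hφ₁ hφ₂ in
theorem chart_conormal3 {U : X.Opens} (hU : IsAffineOpen U) (hUf : U ≤ f.coborderRange)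
    (hUjf : U ≤ (j ≫ f).coborderRange) (hVj : f ⁻¹ᵁ U ≤ j.coborderRange) :
    Function.Surjective
        (((Scheme.Modules.pullbackId Y').inv.app (Omega.conormal (j ≫ f)) ≫ φ₂).app
          ((j ≫ f) ⁻¹ᵁ U)).hom ∧
      Function.Exact (φ₁.app ((j ≫ f) ⁻¹ᵁ U)).hom
        (((Scheme.Modules.pullbackId Y').inv.app (Omega.conormal (j ≫ f)) ≫ φ₂).app
          ((j ≫ f) ⁻¹ᵁ U)).hom := by
  obtain ⟨hVaff, hsf⟩ := ImmChart.of_le_coborder f hU hUf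
  obtain ⟨hTaff, hsj⟩ := ImmChart.of_le_coborder j hVaff hVj
  obtain ⟨-, hsjf⟩ := ImmChart.of_le_coborder (j ≫ f) hU hUjf
  have eV : f ⁻¹ᵁ U ≤ f ⁻¹ᵁ U := le_rfl
  have eT : (j ≫ f) ⁻¹ᵁ U ≤ j ⁻¹ᵁ (f ⁻¹ᵁ U) := le_rfl
  have eT' : (j ≫ f) ⁻¹ᵁ U ≤ (j ≫ f) ⁻¹ᵁ U := le_rfl
  letI algAB := (f.appLE U (f ⁻¹ᵁ U) eV).hom.toAlgebra
  letI algBR := (j.appLE (f ⁻¹ᵁ U) ((j ≫ f) ⁻¹ᵁ U) eT).hom.toAlgebra
  letI algAR := ((j ≫ f).appLE U ((j ≫ f) ⁻¹ᵁ U) eT').hom.toAlgebra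
  haveI : IsScalarTower Γ(X, U) Γ(Y, f ⁻¹ᵁ U) Γ(Y', (j ≫ f) ⁻¹ᵁ U) :=
    IsScalarTower.of_algebraMap_eq' (by
      change ((j ≫ f).appLE U ((j ≫ f) ⁻¹ᵁ U) eT').hom =
        (j.appLE (f ⁻¹ᵁ U) ((j ≫ f) ⁻¹ᵁ U) eT).hom.comp (f.appLE U (f ⁻¹ᵁ U) eV).hom
      rw [← CommRingCat.hom_comp, Scheme.Hom.appLE_comp_appLE])
  have hAB : Function.Surjective (algebraMap Γ(X, U) Γ(Y, f ⁻¹ᵁ U)) := by
    change Function.Surjective (f.appLE U (f ⁻¹ᵁ U) eV).hom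
    rw [← f.app_eq_appLE]; exact hsf
  have hBR : Function.Surjective (algebraMap Γ(Y, f ⁻¹ᵁ U) Γ(Y', (j ≫ f) ⁻¹ᵁ U)) := by
    change Function.Surjective (j.appLE (f ⁻¹ᵁ U) (j ⁻¹ᵁ (f ⁻¹ᵁ U)) eT).hom
    rw [← j.app_eq_appLE]; exact hsj
  haveI : (Omega.conormal f).IsQuasicoherent := OmegaAffine.conormal_qcoh f
  haveI : (Omega.conormal (j ≫ f)).IsQuasicoherent := OmegaAffine.conormal_qcoh (j ≫ f)
  have hιI : Set.range (idealSectₗ f.ker U) =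
      (RingHom.ker (algebraMap Γ(X, U) Γ(Y, f ⁻¹ᵁ U)) : Set Γ(X, U)) := by
    change Set.range (OmegaSh.idealSect f.ker U) = _
    rw [OmegaSeq2.range_idealSect f.ker hU, Scheme.Hom.ker_apply]
    change _ = ((RingHom.ker (f.appLE U (f ⁻¹ᵁ U) eV).hom : Ideal Γ(X, U)) : Set Γ(X, U))
    rw [← f.app_eq_appLE]
  have hιK : Set.range (idealSectₗ (j ≫ f).ker U) =
      (RingHom.ker (algebraMap Γ(X, U) Γ(Y', (j ≫ f) ⁻¹ᵁ U)) : Set Γ(X, U)) := by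
    change Set.range (OmegaSh.idealSect (j ≫ f).ker U) = _
    rw [OmegaSeq2.range_idealSect (j ≫ f).ker hU, Scheme.Hom.ker_apply]
    change _ = ((RingHom.ker ((j ≫ f).appLE U ((j ≫ f) ⁻¹ᵁ U) eT').hom : Ideal Γ(X, U)) :
      Set Γ(X, U))
    rw [← (j ≫ f).app_eq_appLE]
  have hιKB : Set.range (idealSectₗ j.ker (f ⁻¹ᵁ U)) =
      (RingHom.ker (algebraMap Γ(Y, f ⁻¹ᵁ U) Γ(Y', (j ≫ f) ⁻¹ᵁ U)) : Set Γ(Y, f ⁻¹ᵁ U)) := by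
    change Set.range (OmegaSh.idealSect j.ker (f ⁻¹ᵁ U)) = _
    rw [OmegaSeq2.range_idealSect j.ker hVaff, Scheme.Hom.ker_apply]
    change _ = ((RingHom.ker (j.appLE (f ⁻¹ᵁ U) (j ⁻¹ᵁ (f ⁻¹ᵁ U)) eT).hom :
      Ideal Γ(Y, f ⁻¹ᵁ U)) : Set Γ(Y, f ⁻¹ᵁ U))
    rw [← j.app_eq_appLE]
  have hq₁ : IsBC (algebraMap Γ(X, U) Γ(Y, f ⁻¹ᵁ U)) (ρ f eV (ClSub.idealMod f.ker)) :=
    isBC_ρ f hU hVaff eV (ClSub.idealMod f.ker)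
  have hk : IsBC (algebraMap Γ(Y, f ⁻¹ᵁ U) Γ(Y', (j ≫ f) ⁻¹ᵁ U)) (ρ j eT (Omega.conormal f)) :=
    isBC_ρ j hVaff hTaff eT (Omega.conormal f)
  have hq₂ : IsBC (algebraMap Γ(X, U) Γ(Y', (j ≫ f) ⁻¹ᵁ U))
      (ρ (j ≫ f) eT' (ClSub.idealMod (j ≫ f).ker)) :=
    isBC_ρ (j ≫ f) hU hTaff eT' (ClSub.idealMod (j ≫ f).ker)
  have hq₃ : IsBC (algebraMap Γ(Y, f ⁻¹ᵁ U) Γ(Y', (j ≫ f) ⁻¹ᵁ U))
      (ρ j eT (ClSub.idealMod j.ker)) :=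
    isBC_ρ j hVaff hTaff eT (ClSub.idealMod j.ker)
  have eW1 : U ≤ (𝟙 X) ⁻¹ᵁ U := le_rfl
  have e1 : (j ≫ f) ⁻¹ᵁ U ≤ (𝟙 Y') ⁻¹ᵁ ((j ≫ f) ⁻¹ᵁ U) := le_rfl
  have h1 : ∀ s' s, idealSectₗ (j ≫ f).ker U s = idealSectₗ f.ker U s' →
      linApp φ₁ ((j ≫ f) ⁻¹ᵁ U) (ρ j eT (Omega.conormal f) (ρ f eV (ClSub.idealMod f.ker) s')) =
        ρ (j ≫ f) eT' (ClSub.idealMod (j ≫ f).ker) s := fun s' s hs =>
    ConormalChart.conormalMap_app (j ≫ f) f (𝟙 X) j φ₁ hφ₁ eW1 eV eT eT' s' s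
      (hs.trans (id_appLE_apply U eW1 _).symm)
  have h2 : ∀ s sb, idealSectₗ j.ker (f ⁻¹ᵁ U) sb =
        algebraMap Γ(X, U) Γ(Y, f ⁻¹ᵁ U) (idealSectₗ (j ≫ f).ker U s) →
      linApp ((Scheme.Modules.pullbackId Y').inv.app (Omega.conormal (j ≫ f)) ≫ φ₂)
          ((j ≫ f) ⁻¹ᵁ U) (ρ (j ≫ f) eT' (ClSub.idealMod (j ≫ f).ker) s) =
        ρ j eT (ClSub.idealMod j.ker) sb := fun s sb hs => by
    change (φ₂.app ((j ≫ f) ⁻¹ᵁ U)).hom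
      ((((Scheme.Modules.pullbackId Y').inv.app (Omega.conormal (j ≫ f))).app
        ((j ≫ f) ⁻¹ᵁ U)).hom (ρ (j ≫ f) eT' (ClSub.idealMod (j ≫ f).ker) s)) = _
    rw [pullbackId_inv_app_eq_ρ _ _ e1]
    exact ConormalChart.conormalMap_app j (j ≫ f) f (𝟙 Y') φ₂ hφ₂ eV eT' e1 eT s sb hs
  exact ⟨OmegaSeqAlg.conormal3_surjective Γ(X, U) Γ(Y, f ⁻¹ᵁ U) Γ(Y', (j ≫ f) ⁻¹ᵁ U) hAB hBR
      (idealSectₗ (j ≫ f).ker U) hιK (ρ (j ≫ f) eT' (ClSub.idealMod (j ≫ f).ker))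
      (idealSectₗ j.ker (f ⁻¹ᵁ U)) hιKB (ρ j eT (ClSub.idealMod j.ker)) hq₃
      (linApp ((Scheme.Modules.pullbackId Y').inv.app (Omega.conormal (j ≫ f)) ≫ φ₂)
        ((j ≫ f) ⁻¹ᵁ U)) h2,
    OmegaSeqAlg.conormal3_exact Γ(X, U) Γ(Y, f ⁻¹ᵁ U) Γ(Y', (j ≫ f) ⁻¹ᵁ U) hAB hBR
      (idealSectₗ f.ker U) hιI (ρ f eV (ClSub.idealMod f.ker)) hq₁ (ρ j eT (Omega.conormal f)) hk
      (idealSectₗ (j ≫ f).ker U) hιK (ρ (j ≫ f) eT' (ClSub.idealMod (j ≫ f).ker)) hq₂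
      (idealSectₗ j.ker (f ⁻¹ᵁ U)) hιKB (ρ j eT (ClSub.idealMod j.ker)) hq₃
      (linApp φ₁ ((j ≫ f) ⁻¹ᵁ U)) h1
      (linApp ((Scheme.Modules.pullbackId Y').inv.app (Omega.conormal (j ≫ f)) ≫ φ₂)
        ((j ≫ f) ⁻¹ᵁ U)) h2⟩

/-- adapted charts -/
abbrev Chart3 := {U : X.affineOpens //
  U.1 ≤ f.coborderRange ∧ U.1 ≤ (j ≫ f).coborderRange ∧ f ⁻¹ᵁ U.1 ≤ j.coborderRange}

theorem chart3_cover (y : Y') : ∃ t : Chart3 f j, y ∈ (j ≫ f) ⁻¹ᵁ t.1.1 := by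
  obtain ⟨U, hU, hyU, h1, h2, h3⟩ := ImmChart.exists_chart_pre f (j y) j.coborderRange
    (ImmChart.mem_coborderRange j y) (j ≫ f).coborderRange (by
      have := ImmChart.mem_coborderRange (j ≫ f) y
      exact this)
  exact ⟨⟨⟨U, hU⟩, h2, h1, h3⟩, hyU⟩

include hφ₁ hφ₂ in
/-- **`j^*C_{Y/X} → C_{Y'/X} → C_{Y'/Y} → 0` is exact.** -/
theorem conormal3_seq : Epi φ₂ ∧ imageSubobject φ₁ =
    kernelSubobject ((Scheme.Modules.pullbackId Y').inv.app (Omega.conormal (j ≫ f)) ≫ φ₂) := by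
  haveI : (Omega.conormal f).IsQuasicoherent := OmegaAffine.conormal_qcoh f
  haveI : (Omega.conormal (j ≫ f)).IsQuasicoherent := OmegaAffine.conormal_qcoh (j ≫ f)
  haveI : (Omega.conormal j).IsQuasicoherent := OmegaAffine.conormal_qcoh j
  haveI : ((𝟭 Y'.Modules).obj (Omega.conormal (j ≫ f))).IsQuasicoherent :=
    OmegaAffine.conormal_qcoh (j ≫ f)
  haveI : ((Scheme.Modules.pullback j).obj (Omega.conormal f)).IsQuasicoherent :=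
    Groth.Agent.Lib.helper16.QCohPullback.isQuasicoherent_pullback j (Omega.conormal f)
  have key := fun t : Chart3 f j => chart_conormal3 f j φ₁ hφ₁ φ₂ hφ₂ t.1.2 t.2.1 t.2.2.1 t.2.2.2
  have haff : ∀ t : Chart3 f j, IsAffineOpen ((j ≫ f) ⁻¹ᵁ t.1.1) :=
    fun t => (ImmChart.of_le_coborder (j ≫ f) t.1.2 t.2.2.1).1
  let φ₂' := (Scheme.Modules.pullbackId Y').inv.app (Omega.conormal (j ≫ f)) ≫ φ₂
  have hepi : Epi φ₂' := KerSections.epi_of_surjective_cover φ₂'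
    (fun t : Chart3 f j => (j ≫ f) ⁻¹ᵁ t.1.1) haff (chart3_cover f j) (fun t => (key t).1)
  refine ⟨?_, ?_⟩
  · have h1 : φ₂ = (Scheme.Modules.pullbackId Y').hom.app (Omega.conormal (j ≫ f)) ≫ φ₂' := by
      rw [← Category.assoc, Iso.hom_inv_id_app, Category.id_comp]
    rw [h1]
    infer_instance
  · refine QCohExact.image_eq_kernel_of_cover φ₁ φ₂' (fun t : Chart3 f j => (j ≫ f) ⁻¹ᵁ t.1.1)
      haff (chart3_cover f j) (fun t a => ?_) (fun t b hb => ?_)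
    · exact ((key t).2 _).mpr ⟨a, rfl⟩
    · exact ((key t).2 b).mp hb

end Seq

end Groth.Agent.Lib.helper7.OmegaSeq5
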