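import Groth.Agent.Lib.Helper7.OmegaStruct
import Groth.Agent.Lib.Helper7.OmegaAffine
import Groth.Agent.Lib.Helper16.CohStalk
import Mathlib

/-!
# Stalks of the sheaf of differentials (helper7)

* `subsingleton_stalk_iff_formallyUnramified`: `Ω_{X/S,x} = 0` iff `O_{S,f x} → O_{X,x}` is
  formally unramified.
-/

set_option autoImplicit false
set_option linter.style.haveILetI false
set_option linter.unusedSectionVars false
universe u
open CategoryTheory CategoryTheory.Limits AlgebraicGeometry TopologicalSpace Opposite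
open Scheme.Modules

namespace Groth.Agent.Lib.helper7.OmegaStalk

open Groth.Agent.Lib.helper16.CohStalk

variable {X S : Scheme.{u}} (f : X ⟶ S) [QuasiSeparated f] (x : X)

theorem subsingleton_stalk_iff_formallyUnramified :
    Subsingleton ((Omega.sheaf f).presheaf.stalk x) ↔ (f.stalkMap x).hom.FormallyUnramified := by
  haveI : (Omega.sheaf f).IsQuasicoherent := OmegaAffine.omega_qcoh f
  obtain ⟨W, hW, hxW, -⟩ := Opens.isBasis_iff_nbhd.mp S.isBasis_affineOpens
    (show f x ∈ (⊤ : S.Opens) from trivial)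
  obtain ⟨U, hU, hxU, hUW⟩ := Opens.isBasis_iff_nbhd.mp X.isBasis_affineOpens
    (show x ∈ f ⁻¹ᵁ W from hxW)
  letI algAB : Algebra Γ(S, W) Γ(X, U) := (f.appLE W U hUW).hom.toAlgebra
  letI algBT : Algebra Γ(X, U) (X.presheaf.stalk x) :=
    X.presheaf.algebra_section_stalk (⟨x, hxU⟩ : U)
  letI algAR : Algebra Γ(S, W) (S.presheaf.stalk (f x)) :=
    S.presheaf.algebra_section_stalk (⟨f x, hxW⟩ : W)
  letI algRT : Algebra (S.presheaf.stalk (f x)) (X.presheaf.stalk x) :=
    (f.stalkMap x).hom.toAlgebra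
  letI algAT : Algebra Γ(S, W) (X.presheaf.stalk x) :=
    ((algebraMap Γ(X, U) (X.presheaf.stalk x)).comp (algebraMap Γ(S, W) Γ(X, U))).toAlgebra
  haveI : IsScalarTower Γ(S, W) Γ(X, U) (X.presheaf.stalk x) := .of_algebraMap_eq' rfl
  haveI : IsScalarTower Γ(S, W) (S.presheaf.stalk (f x)) (X.presheaf.stalk x) := by
    refine .of_algebraMap_eq' ?_
    ext a
    change (X.presheaf.germ U x hxU).hom ((f.appLE W U hUW).hom a) =
      (f.stalkMap x).hom ((S.presheaf.germ W (f x) hxW).hom a)
    have h1 := Scheme.Hom.germ_stalkMap_apply f W x hxW a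
    refine Eq.trans ?_ h1.symm
    rw [Scheme.Hom.appLE]
    exact (X.presheaf.germ_res_apply (homOfLE hUW) x hxU ((f.app W).hom a))
  haveI locT : IsLocalization.AtPrime (X.presheaf.stalk x) (hU.primeIdealOf ⟨x, hxU⟩).asIdeal :=
    hU.isLocalization_stalk ⟨x, hxU⟩
  haveI locR : IsLocalization.AtPrime (S.presheaf.stalk (f x))
      (hW.primeIdealOf ⟨f x, hxW⟩).asIdeal := hW.isLocalization_stalk ⟨f x, hxW⟩
  -- step 1: the stalk of `Ω`
  have h1 : Subsingleton ((Omega.sheaf f).presheaf.stalk x) ↔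
      ∀ m : Γ(Omega.sheaf f, U), ∃ r ∈ (hU.primeIdealOf ⟨x, hxU⟩).asIdeal.primeCompl,
        r • m = 0 := by
    letI := modStalk (Omega.sheaf f) x hxU
    haveI hloc := isLocalizedModule_stalk (Omega.sheaf f) hU x hxU
    exact IsLocalizedModule.subsingleton_iff _ (germLin (Omega.sheaf f) x hxU)
  -- step 2: Kähler differentials of the stalk
  have h2 : Subsingleton Ω[X.presheaf.stalk x⁄Γ(S, W)] ↔
      ∀ m : Ω[Γ(X, U)⁄Γ(S, W)], ∃ r ∈ (hU.primeIdealOf ⟨x, hxU⟩).asIdeal.primeCompl,
        r • m = 0 :=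
    IsLocalizedModule.subsingleton_iff (hU.primeIdealOf ⟨x, hxU⟩).asIdeal.primeCompl
      (KaehlerDifferential.map Γ(S, W) Γ(S, W) Γ(X, U) (X.presheaf.stalk x))
  obtain ⟨ψ, -⟩ := OmegaStruct.exists_sectionsEquiv f (OmegaSh.dOmega f)
    (OmegaUniv.isUniversal_dOmega f) hU hW hUW
  have h3 : (∀ m : Γ(Omega.sheaf f, U), ∃ r ∈ (hU.primeIdealOf ⟨x, hxU⟩).asIdeal.primeCompl,
        r • m = 0) ↔
      ∀ m : Ω[Γ(X, U)⁄Γ(S, W)], ∃ r ∈ (hU.primeIdealOf ⟨x, hxU⟩).asIdeal.primeCompl,
        r • m = 0 := by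
    constructor
    · intro h m
      obtain ⟨r, hr, hrm⟩ := h (ψ.symm m)
      refine ⟨r, hr, ?_⟩
      have := congrArg ψ hrm
      rwa [_root_.map_smul, LinearEquiv.apply_symm_apply, map_zero] at this
    · intro h m
      obtain ⟨r, hr, hrm⟩ := h (ψ m)
      refine ⟨r, hr, ?_⟩
      apply ψ.injective
      rw [_root_.map_smul, hrm, map_zero]
  rw [h1, h3, ← h2, ← Algebra.formallyUnramified_iff]
  change Algebra.FormallyUnramified Γ(S, W) (X.presheaf.stalk x) ↔
    Algebra.FormallyUnramified (S.presheaf.stalk (f x)) (X.presheaf.stalk x)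
  haveI : Algebra.FormallyUnramified Γ(S, W) (S.presheaf.stalk (f x)) :=
    Algebra.FormallyUnramified.of_isLocalization (hW.primeIdealOf ⟨f x, hxW⟩).asIdeal.primeCompl
  exact ⟨fun _ => .of_restrictScalars Γ(S, W) _ _,
    fun _ => Algebra.FormallyUnramified.comp _ (S.presheaf.stalk (f x)) _⟩

theorem residue_algebra_eq :
    letI := (f.stalkMap x).hom.toAlgebra
    haveI : IsLocalHom (algebraMap (S.presheaf.stalk (f x)) (X.presheaf.stalk x)) :=
      inferInstanceAs <| IsLocalHom (f.stalkMap x).hom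
    (f.residueFieldMap x).hom.toAlgebra =
      (inferInstance : Algebra (IsLocalRing.ResidueField (S.presheaf.stalk (f x)))
        (IsLocalRing.ResidueField (X.presheaf.stalk x))) := by
  letI := (f.stalkMap x).hom.toAlgebra
  haveI : IsLocalHom (algebraMap (S.presheaf.stalk (f x)) (X.presheaf.stalk x)) :=
    inferInstanceAs <| IsLocalHom (f.stalkMap x).hom
  refine Algebra.algebra_ext _ _ fun y ↦ ?_
  obtain ⟨y, rfl⟩ := IsLocalRing.residue_surjective y
  rfl

/-- **`Ω_{X/S,x} = 0` iff `f` is unramified at `x`** -/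
theorem subsingleton_stalk_iff [LocallyOfFiniteType f] :
    Subsingleton ((Omega.sheaf f).presheaf.stalk x) ↔
      ((IsLocalRing.maximalIdeal (S.presheaf.stalk (f.base x))).map (f.stalkMap x).hom =
          IsLocalRing.maximalIdeal (X.presheaf.stalk x) ∧
        (f.residueFieldMap x).hom.Finite ∧
        @Algebra.IsSeparable (S.residueField (f.base x)) (X.residueField x) _ _
          (f.residueFieldMap x).hom.toAlgebra) := by
  rw [subsingleton_stalk_iff_formallyUnramified]
  letI := (f.stalkMap x).hom.toAlgebra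
  haveI : IsLocalHom (algebraMap (S.presheaf.stalk (f x)) (X.presheaf.stalk x)) :=
    inferInstanceAs <| IsLocalHom (f.stalkMap x).hom
  haveI : Algebra.EssFiniteType (S.presheaf.stalk (f x)) (X.presheaf.stalk x) := by
    rw [← RingHom.essFiniteType_algebraMap, RingHom.algebraMap_toAlgebra]
    exact LocallyOfFiniteType.stalkMap f x
  change Algebra.FormallyUnramified (S.presheaf.stalk (f x)) (X.presheaf.stalk x) ↔ _
  have hres := residue_algebra_eq f x
  constructor
  · intro h
    refine ⟨Algebra.FormallyUnramified.map_maximalIdeal, ?_, ?_⟩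
    · change @Module.Finite _ _ _ _ (f.residueFieldMap x).hom.toAlgebra.toModule
      rw [hres]
      exact (inferInstance : Module.Finite (IsLocalRing.ResidueField (S.presheaf.stalk (f x)))
        (IsLocalRing.ResidueField (X.presheaf.stalk x)))
    · rw [hres]
      exact (inferInstance : Algebra.IsSeparable
        (IsLocalRing.ResidueField (S.presheaf.stalk (f x)))
        (IsLocalRing.ResidueField (X.presheaf.stalk x)))
  · rintro ⟨h1, -, h3⟩
    rw [hres] at h3
    haveI : Algebra.IsSeparable (IsLocalRing.ResidueField (S.presheaf.stalk (f x)))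
        (IsLocalRing.ResidueField (X.presheaf.stalk x)) := h3
    exact Algebra.FormallyUnramified.of_map_maximalIdeal h1

end Groth.Agent.Lib.helper7.OmegaStalk
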