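import Groth.Agent.Lib.Helper7.OmegaAffine
import Groth.Agent.Lib.Helper7.QCohZero
import Groth.Agent.Lib.Helper7.RestrictSupport
import Mathlib.AlgebraicGeometry.Morphisms.FormallyUnramified

/-!
# `Ω_{X/Y} = 0` iff formally unramified (helper7)
-/

set_option autoImplicit false
set_option linter.style.haveILetI false
universe u
open CategoryTheory CategoryTheory.Limits AlgebraicGeometry TopologicalSpace Opposite
open Scheme.Modules Groth.Agent.Lib.helper7

namespace Groth.Agent.Lib.helper7.OmegaUnram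

variable {X Y : Scheme.{u}} (f : X ⟶ Y) [QuasiSeparated f]

theorem subsingleton_sections_iff {U : X.Opens} (hU : IsAffineOpen U) {V : Y.Opens}
    (hV : IsAffineOpen V) (e : U ≤ f ⁻¹ᵁ V) :
    Subsingleton Γ(Omega.sheaf f, U) ↔ (f.appLE V U e).hom.FormallyUnramified := by
  letI := (f.appLE V U e).hom.toAlgebra
  rw [RingHom.FormallyUnramified, Algebra.formallyUnramified_iff]
  exact (OmegaAffine.omegaSectionsEquiv f hU hV e).toEquiv.subsingleton_congr

theorem formallyUnramified_iff_isZero : FormallyUnramified f ↔ IsZero (Omega.sheaf f) := by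
  constructor
  · intro h
    let ι := {p : X.affineOpens × Y.affineOpens // p.1.1 ≤ f ⁻¹ᵁ p.2.1}
    refine QCohZero.isZero_of_subsingleton_sections (Omega.sheaf f) (fun p : ι => p.1.1.1)
      (fun p => p.1.1.2) (fun x => ?_) (fun p => ?_)
    · obtain ⟨V, hV, hxV, -⟩ := Opens.isBasis_iff_nbhd.mp Y.isBasis_affineOpens
        (show f x ∈ (⊤ : Y.Opens) from trivial)
      obtain ⟨U, hU, hxU, hUV⟩ := Opens.isBasis_iff_nbhd.mp X.isBasis_affineOpens
        (show x ∈ f ⁻¹ᵁ V from hxV)
      exact ⟨⟨(⟨U, hU⟩, ⟨V, hV⟩), hUV⟩, hxU⟩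
    · exact (subsingleton_sections_iff f p.1.1.2 p.1.2.2 p.2).mpr
        (h.formallyUnramified_appLE p.1.2.2 p.1.1.2 p.2)
  · intro h
    refine ⟨fun {V} hV {U} hU e => ?_⟩
    exact (subsingleton_sections_iff f hU hV e).mp
      ((RestrictSupport.isZero_iff_subsingleton_sections _).mp h U)

end Groth.Agent.Lib.helper7.OmegaUnram
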