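import Mathlib
import Groth.Agent.S7817
import Groth.Agent.Lib.Helper7.NNPicClosed
import Groth.Agent.Lib.Helper7.RankPt
import Groth.Agent.Lib.Helper12.InvDual2
import Groth.Agent.Lib.Helper12.PullPic
import Groth.Agent.Lib.Helper21.Seesaw
import Groth.Agent.Lib.Helper21.PicFibre
import Groth.Agent.Lib.Lead.ModTensor

/-!
# Closed "isomorphism locus" of two invertible modules (helper7)

For `f : X ⟶ S` proper flat LFP with geometrically integral fibres:
* `exists_closed_seesaw`: closed seesaw subscheme for one invertible module, arbitrary pullback squares,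
  no noetherian hypothesis.
* `exists_closed_iso_locus`: for two invertible modules `L₁ L₂` a closed subscheme `Z ⊆ S` such that
  `u : T ⟶ S` with `L₁|_{X_T} ≅ L₂|_{X_T}` factors through `Z`, and conversely for one-point `T`.
-/

set_option autoImplicit false
universe u

open CategoryTheory CategoryTheory.Limits AlgebraicGeometry

namespace Groth.Agent.Lib.helper7.PicSepA

/-- `c^* M ≅ a^* b^* M` when `a ≫ b = c`. -/
noncomputable def pullIsoOfComp {A B C : Scheme.{u}} (a : A ⟶ B) (b : B ⟶ C) (c : A ⟶ C)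
    (h : a ≫ b = c) (M : C.Modules) :
    (Scheme.Modules.pullback c).obj M ≅
      (Scheme.Modules.pullback a).obj ((Scheme.Modules.pullback b).obj M) :=
  (Scheme.Modules.pullbackCongr h.symm).app M ≪≫ ((Scheme.Modules.pullbackComp a b).app M).symm

theorem exists_closed_seesaw {X S : Scheme.{u}} (f : X ⟶ S)
    [IsProper f] [Flat f] [LocallyOfFinitePresentation f] [GeometricallyIntegral f]
    (L : X.Modules) (hLinv : PicF.IsInvertible L) :
    ∃ (Z : Scheme.{u}) (ι : Z ⟶ S), IsClosedImmersion ι ∧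
      ∀ {T X' : Scheme.{u}} (u : T ⟶ S) (gX : X' ⟶ X) (f' : X' ⟶ T), IsPullback gX f' f u →
        ((∃ u' : T ⟶ Z, u' ≫ ι = u) ↔
          ∃ M : T.Modules, PicF.IsInvertible M ∧
            Nonempty ((Scheme.Modules.pullback gX).obj L ≅ (Scheme.Modules.pullback f').obj M)) := by
  classical
  haveI : GeometricallyConnected f :=
    Groth.Agent.Lib.helper21.Seesaw.geometricallyConnected_of_geometricallyIntegral f
  have hL : FlatMod.IsFinLocFreeOfRank 1 L :=
    (Groth.Agent.Lib.helper16.FLF.isInvertible_iff_isFinLocFreeOfRank_one L).mp hLinv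
  have hLflf : FlatMod.IsFinLocFree L :=
    Groth.Agent.Lib.helper16.FLF.isFinLocFree_of_isFinLocFreeOfRank hL
  have hrkL : ∀ x : X, Groth.Agent.Lib.helper7.RankPt.rk L x = 1 :=
    (Groth.Agent.Lib.helper7.RankPt.isFinLocFreeOfRank_iff_rk L hLflf 1).mp hL
  obtain ⟨Z, ι, hImm, hlfp, hqc, huniv, hrange⟩ := Groth.Agent.S7817.result f L hLflf
  obtain ⟨M, hM, -, ⟨eML⟩⟩ := Groth.Agent.Lib.helper12.InvDual.exists_inverse hLinv
  have hclosed : IsClosed (Set.range ι) := by
    rw [hrange]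
    have h0 := Groth.Agent.Lib.helper7.NNPicClosed.isClosed_setOf_fiber_trivial f L M hLinv hM eML
      (fun y => inferInstance)
    convert h0 using 1
    ext s
    simp only [Set.mem_ofPred_eq]
    constructor
    · rintro ⟨n, ⟨e⟩⟩
      obtain ⟨z⟩ : Nonempty (f.fiber s) := inferInstance
      have h1 := Groth.Agent.Lib.helper7.RankPt.rk_of_iso e z
      rw [Groth.Agent.Lib.helper7.RankPt.rk_pullback _ L hLflf, hrkL,
        (Groth.Agent.Lib.helper7.RankPt.isFinLocFreeOfRank_iff_rk _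
          (Groth.Agent.Lib.helper16.FLF.isFinLocFree_freeMod _ n) n).mp
          (Groth.Agent.Lib.helper16.FLF.isFinLocFreeOfRank_freeMod _ n) z] at h1
      subst h1
      exact ⟨e ≪≫ Groth.Agent.Lib.helper16.FLF.freeModOneIso _⟩
    · rintro ⟨e⟩
      exact ⟨1, ⟨e ≪≫ (Groth.Agent.Lib.helper16.FLF.freeModOneIso _).symm⟩⟩
  haveI := hImm
  have hci : IsClosedImmersion ι := IsClosedImmersion.of_isPreimmersion ι hclosed
  refine ⟨Z, ι, hci, fun {T X'} u gX f' sq => ?_⟩
  rw [huniv T u]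
  have h1 : sq.isoPullback.hom ≫ pullback.fst f u = gX := sq.isoPullback_hom_fst
  have h2 : sq.isoPullback.hom ≫ pullback.snd f u = f' := sq.isoPullback_hom_snd
  have h3 : sq.isoPullback.inv ≫ gX = pullback.fst f u := sq.isoPullback_inv_fst
  have h4 : sq.isoPullback.inv ≫ f' = pullback.snd f u := sq.isoPullback_inv_snd
  constructor
  · rintro ⟨N, hN, ⟨e⟩⟩
    have hN1 : FlatMod.IsFinLocFreeOfRank 1 N := by
      rw [Groth.Agent.Lib.helper7.RankPt.isFinLocFreeOfRank_iff_rk N hN 1]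
      intro t
      obtain ⟨y, rfl⟩ := (pullback.snd f u).surjective t
      rw [← Groth.Agent.Lib.helper7.RankPt.rk_pullback (pullback.snd f u) N hN y,
        ← Groth.Agent.Lib.helper7.RankPt.rk_of_iso e y,
        Groth.Agent.Lib.helper7.RankPt.rk_pullback _ L hLflf, hrkL]
    refine ⟨N, (Groth.Agent.Lib.helper16.FLF.isInvertible_iff_isFinLocFreeOfRank_one N).mpr hN1, ⟨?_⟩⟩
    exact pullIsoOfComp _ _ _ h1 L ≪≫ (Scheme.Modules.pullback sq.isoPullback.hom).mapIso e ≪≫
      (pullIsoOfComp _ _ _ h2 N).symm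
  · rintro ⟨N, hN, ⟨e⟩⟩
    refine ⟨N, Groth.Agent.Lib.helper16.FLF.isFinLocFree_of_isFinLocFreeOfRank
      ((Groth.Agent.Lib.helper16.FLF.isInvertible_iff_isFinLocFreeOfRank_one N).mp hN), ⟨?_⟩⟩
    exact pullIsoOfComp _ _ _ h3 L ≪≫ (Scheme.Modules.pullback sq.isoPullback.inv).mapIso e ≪≫
      (pullIsoOfComp _ _ _ h4 N).symm

open Groth.Agent.Lib.helper12.PullTensor Groth.Agent.Lib.helper12.PullPic
  Groth.Agent.Lib.helper11.InvMod Groth.Agent.Lib.Lead.ModTensor in
theorem exists_closed_iso_locus {X S : Scheme.{u}} (f : X ⟶ S)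
    [IsProper f] [Flat f] [LocallyOfFinitePresentation f] [GeometricallyIntegral f]
    (L₁ L₂ : X.Modules) (h₁ : PicF.IsInvertible L₁) (h₂ : PicF.IsInvertible L₂) :
    ∃ (Z : Scheme.{u}) (ι : Z ⟶ S), IsClosedImmersion ι ∧
      (∀ {T X' : Scheme.{u}} (u : T ⟶ S) (gX : X' ⟶ X) (f' : X' ⟶ T), IsPullback gX f' f u →
        Nonempty ((Scheme.Modules.pullback gX).obj L₁ ≅ (Scheme.Modules.pullback gX).obj L₂) →
        ∃ u' : T ⟶ Z, u' ≫ ι = u) ∧
      (∀ {T X' : Scheme.{u}} [Unique T] (u : T ⟶ S) (gX : X' ⟶ X) (f' : X' ⟶ T),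
        IsPullback gX f' f u → (∃ u' : T ⟶ Z, u' ≫ ι = u) →
        Nonempty ((Scheme.Modules.pullback gX).obj L₁ ≅ (Scheme.Modules.pullback gX).obj L₂)) := by
  obtain ⟨M₂, hM₂, hinv, -⟩ := Groth.Agent.Lib.helper12.InvDual.exists_inverse h₂
  have hL : PicF.IsInvertible (CohB1.tensorMod L₁ M₂) :=
    Groth.Agent.Lib.helper12.TensorInv.isInvertible_tensorMod h₁ hM₂
  obtain ⟨Z, ι, hci, huniv⟩ := exists_closed_seesaw f _ hL
  refine ⟨Z, ι, hci, ?_, ?_⟩
  · rintro T X' u gX f' sq ⟨e⟩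
    rw [huniv u gX f' sq]
    refine ⟨Coh.structureModule T, isInvertible_structureModule T, ?_⟩
    obtain ⟨a⟩ := isInverseOf_pullback gX hM₂ hinv
    exact ⟨pullTensorIso gX L₁ M₂ hM₂ ≪≫ tensorIso e (Iso.refl _) ≪≫ a ≪≫
      (pullbackUnitIso f').symm⟩
  · intro T X' _ u gX f' sq hfac
    obtain ⟨N, hN, ⟨e⟩⟩ := (huniv u gX f' sq).mp hfac
    obtain ⟨eN⟩ := Groth.Agent.Lib.helper21.PicFibre.nonempty_iso_structureModule_of_unique N hN
    have hA : ClSub.IsInverseOf ((Scheme.Modules.pullback gX).obj L₁)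
        ((Scheme.Modules.pullback gX).obj M₂) :=
      ⟨(pullTensorIso gX L₁ M₂ hM₂).symm ≪≫ e ≪≫ (Scheme.Modules.pullback f').mapIso eN ≪≫
        pullbackUnitIso f'⟩
    have hB : ClSub.IsInverseOf ((Scheme.Modules.pullback gX).obj L₂)
        ((Scheme.Modules.pullback gX).obj M₂) := isInverseOf_pullback gX hM₂ hinv
    exact isInverseOf_unique (isInverseOf_symm hA) (isInverseOf_symm hB)

end Groth.Agent.Lib.helper7.PicSepA
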