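import Mathlib
import Groth.Agent.Lib.Helper7.PicSepA
import Groth.Agent.Lib.Lead.PicDeg2
import Groth.Prelude.Def_AbDual

/-!
# The equalizer locus of two points of a relative Picard scheme is closed (helper7)

`f : X ⟶ S` proper flat LFP with geometrically integral fibres, `(P, φ)` representing the fppf
sheafified Picard functor (`AbDual.IsRelPicK`).  For `a₁ a₂ : W ⟶ P` the "agreement locus"
`agree a₁ a₂ ⊆ W` is closed; for the two projections of `P ×_S P` it is the range of the diagonal.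
-/

set_option autoImplicit false
universe u

open CategoryTheory CategoryTheory.Limits AlgebraicGeometry

namespace Groth.Agent.Lib.helper7.PicSepB

open PicF AbDual

variable {X S : Scheme.{u}} (f : X ⟶ S)

theorem isPullback_XTmap {V W : Over S} (k : V ⟶ W) :
    IsPullback (XTmap f k) (XTproj f V) (XTproj f W) k.left := by
  have h1 : XTmap f k ≫ pullback.fst f W.hom = pullback.fst f V.hom := by
    unfold XTmap pullback.map
    rw [pullback.lift_fst, Category.comp_id]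
  have h2 : XTmap f k ≫ pullback.snd f W.hom = pullback.snd f V.hom ≫ k.left := by
    unfold XTmap pullback.map
    rw [pullback.lift_snd]
  refine IsPullback.of_right ?_ h2 (IsPullback.of_hasPullback f W.hom)
  rw [h1, Over.w k]
  exact IsPullback.of_hasPullback f V.hom

theorem isInvertibleCl_pullCl {Y Y' : Scheme.{u}} (g : Y' ⟶ Y) {c : Cl Y} (hc : IsInvertibleCl c) :
    IsInvertibleCl (pullCl g c) := by
  obtain ⟨L, rfl, hL⟩ := hc
  exact ⟨_, rfl, Groth.Agent.Lib.helper11.InvMod.isInvertible_pullback g hL⟩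

variable {P : Over S}

/-- the agreement locus of two `W`-points of `P` -/
def agree {W : Over S} (a₁ a₂ : W ⟶ P) : Set W.left :=
  {z | ∃ (V : Over S) (k : V ⟶ W) (y : V.left), k.left y = z ∧ k ≫ a₁ = k ≫ a₂}

theorem agree_comp {T W : Over S} (w : W ⟶ T) (a₁ a₂ : T ⟶ P) :
    agree (w ≫ a₁) (w ≫ a₂) = w.left ⁻¹' agree a₁ a₂ := by
  ext z
  constructor
  · rintro ⟨V, k, y, rfl, h⟩
    exact ⟨V, k ≫ w, y, by simp, by simpa using h⟩
  · rintro ⟨V, k, y, hy, h⟩
    obtain ⟨q, hq1, hq2⟩ := Scheme.Pullback.exists_preimage_pullback (f := k.left) (g := w.left) y z hy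
    have hw : pullback.fst k.left w.left ≫ V.hom =
        (Over.mk (pullback.snd k.left w.left ≫ W.hom)).hom := by
      rw [← Over.w k, ← Over.w w, pullback.condition_assoc]
      rfl
    refine ⟨Over.mk (pullback.snd k.left w.left ≫ W.hom),
      Over.homMk (pullback.snd k.left w.left) rfl, q, hq2, ?_⟩
    have hkw : (Over.homMk (pullback.snd k.left w.left) rfl :
        Over.mk (pullback.snd k.left w.left ≫ W.hom) ⟶ W) ≫ w =
        (Over.homMk (pullback.fst k.left w.left) hw :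
          Over.mk (pullback.snd k.left w.left ≫ W.hom) ⟶ V) ≫ k := by
      ext
      simp [pullback.condition]
    rw [← Category.assoc, ← Category.assoc, hkw, Category.assoc, Category.assoc, h]

theorem agree_diag :
    agree (P := P) (W := Over.mk (pullback.fst P.hom P.hom ≫ P.hom))
      (Over.homMk (pullback.fst P.hom P.hom) rfl)
      (Over.homMk (pullback.snd P.hom P.hom) pullback.condition.symm) =
      Set.range (pullback.diagonal P.hom) := by
  ext t
  constructor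
  · rintro ⟨V, k, y, rfl, h⟩
    have hk : k.left ≫ pullback.fst P.hom P.hom = k.left ≫ pullback.snd P.hom P.hom := by
      have := congrArg CommaMorphism.left h
      simpa using this
    have hk2 : k.left = (k.left ≫ pullback.fst P.hom P.hom) ≫ pullback.diagonal P.hom := by
      apply pullback.hom_ext <;> simp [hk]
    refine ⟨(k.left ≫ pullback.fst P.hom P.hom) y, ?_⟩
    rw [← Scheme.Hom.comp_apply, ← hk2]
  · rintro ⟨p, rfl⟩
    refine ⟨Over.mk (pullback.diagonal P.hom ≫ pullback.fst P.hom P.hom ≫ P.hom),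
      Over.homMk (pullback.diagonal P.hom) rfl, p, rfl, ?_⟩
    ext
    simp

section main

variable [IsProper f] [Flat f] [LocallyOfFinitePresentation f] [GeometricallyIntegral f]
  {φ : ∀ T : Over S, Cl (XT f T) → (T ⟶ P)}

theorem isClosed_agree_of_classes (hP : IsRelPicK Scheme.fppfPrecoverage f P φ)
    (W : Over S) (c₁ c₂ : Cl (XT f W)) (h₁ : IsInvertibleCl c₁) (h₂ : IsInvertibleCl c₂) :
    IsClosed (agree (φ W c₁) (φ W c₂)) := by
  obtain ⟨L₁, rfl, hL₁⟩ := h₁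
  obtain ⟨L₂, rfl, hL₂⟩ := h₂
  haveI : GeometricallyIntegral (XTproj f W) :=
    MorphismProperty.of_isPullback (P := @GeometricallyIntegral)
      (IsPullback.of_hasPullback f W.hom) inferInstance
  obtain ⟨Z, ι, hci, B1, B2⟩ :=
    Groth.Agent.Lib.helper7.PicSepA.exists_closed_iso_locus (XTproj f W) L₁ L₂ hL₁ hL₂
  have key : agree (φ W (cl L₁)) (φ W (cl L₂)) = Set.range ι := by
    ext z
    constructor
    · rintro ⟨V, k, y, rfl, h⟩
      have e1 := hP.natural W V k (cl L₁) ⟨L₁, rfl, hL₁⟩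
      have e2 := hP.natural W V k (cl L₂) ⟨L₂, rfl, hL₂⟩
      have e3 : φ V (pullCl (XTmap f k) (cl L₁)) = φ V (pullCl (XTmap f k) (cl L₂)) := by
        rw [e1, e2, h]
      obtain ⟨R, hR, H⟩ := hP.locallyInjective V _ _
        (isInvertibleCl_pullCl _ ⟨L₁, rfl, hL₁⟩) (isInvertibleCl_pullCl _ ⟨L₂, rfl, hL₂⟩) e3
      obtain ⟨U, u, hu, y', rfl⟩ :=
        (inferInstance : Scheme.JointlySurjective
          (Scheme.precoverage (@Flat ⊓ @LocallyOfFinitePresentation))).exists_eq R hR y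
      have e4 := H u hu
      obtain ⟨i⟩ := Groth.Agent.Lib.Lead.PicDeg.nonempty_iso_of_cl_eq e4
      have sq := (isPullback_XTmap f (ovrHom V u)).paste_horiz (isPullback_XTmap f k)
      obtain ⟨u', hu'⟩ := B1 _ _ _ sq
        ⟨((Scheme.Modules.pullbackComp _ _).app L₁).symm ≪≫ i ≪≫
          (Scheme.Modules.pullbackComp _ _).app L₂⟩
      refine ⟨u' y', ?_⟩
      rw [← Scheme.Hom.comp_apply, hu']
      rfl
    · rintro ⟨z', rfl⟩
      have sq := isPullback_XTmap f (ovrHom W (Z.fromSpecResidueField z' ≫ ι))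
      obtain ⟨i⟩ := B2 (Z.fromSpecResidueField z' ≫ ι) _ _ sq ⟨Z.fromSpecResidueField z', rfl⟩
      have e : pullCl (XTmap f (ovrHom W (Z.fromSpecResidueField z' ≫ ι))) (cl L₁) =
          pullCl (XTmap f (ovrHom W (Z.fromSpecResidueField z' ≫ ι))) (cl L₂) := Quot.sound ⟨i⟩
      refine ⟨ovr W (Z.fromSpecResidueField z' ≫ ι), ovrHom W (Z.fromSpecResidueField z' ≫ ι),
        (default : Spec (Z.residueField z')), ?_, ?_⟩
      · show (Z.fromSpecResidueField z' ≫ ι) default = ι z'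
        rw [Scheme.Hom.comp_apply]
        congr 1
        have hr := Scheme.range_fromSpecResidueField z'
        have : Z.fromSpecResidueField z' default ∈ Set.range (Z.fromSpecResidueField z') :=
          ⟨_, rfl⟩
        rw [hr] at this
        exact this
      · rw [← hP.natural W _ _ (cl L₁) ⟨L₁, rfl, hL₁⟩, ← hP.natural W _ _ (cl L₂) ⟨L₂, rfl, hL₂⟩, e]
  rw [key]
  exact ι.isClosedEmbedding.isClosed_range

omit [IsProper f] [Flat f] [LocallyOfFinitePresentation f] [GeometricallyIntegral f] in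
theorem exists_chart (hP : IsRelPicK Scheme.fppfPrecoverage f P φ) (T : Over S)
    (g₁ g₂ : T ⟶ P) (t : T.left) :
    ∃ (W : Over S) (w : W ⟶ T), Flat w.left ∧ LocallyOfFinitePresentation w.left ∧
      (∃ x : W.left, w.left x = t) ∧
      ∃ c₁ c₂ : Cl (XT f W), IsInvertibleCl c₁ ∧ IsInvertibleCl c₂ ∧
        φ W c₁ = w ≫ g₁ ∧ φ W c₂ = w ≫ g₂ := by
  obtain ⟨R₁, hR₁, H₁⟩ := hP.locallySurjective T g₁
  obtain ⟨R₂, hR₂, H₂⟩ := hP.locallySurjective T g₂
  obtain ⟨U₁, u₁, hu₁, x₁, hx₁⟩ :=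
    (inferInstance : Scheme.JointlySurjective
      (Scheme.precoverage (@Flat ⊓ @LocallyOfFinitePresentation))).exists_eq R₁ hR₁ t
  obtain ⟨U₂, u₂, hu₂, x₂, hx₂⟩ :=
    (inferInstance : Scheme.JointlySurjective
      (Scheme.precoverage (@Flat ⊓ @LocallyOfFinitePresentation))).exists_eq R₂ hR₂ t
  obtain ⟨c₁, hc₁, e₁⟩ := H₁ u₁ hu₁
  obtain ⟨c₂, hc₂, e₂⟩ := H₂ u₂ hu₂
  have hP1 : Flat u₁ ∧ LocallyOfFinitePresentation u₁ := hR₁.2 hu₁
  have hP2 : Flat u₂ ∧ LocallyOfFinitePresentation u₂ := hR₂.2 hu₂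
  haveI := hP1.1
  haveI := hP1.2
  haveI := hP2.1
  haveI := hP2.2
  obtain ⟨q, hq1, hq2⟩ :=
    Scheme.Pullback.exists_preimage_pullback (f := u₁) (g := u₂) x₁ x₂ (hx₁.trans hx₂.symm)
  have hw2 : pullback.snd u₁ u₂ ≫ (ovr T u₂).hom =
      (Over.mk (pullback.fst u₁ u₂ ≫ u₁ ≫ T.hom)).hom := by
    simp [pullback.condition_assoc]
  have hm₁ : (Over.homMk (pullback.fst u₁ u₂) rfl :
      Over.mk (pullback.fst u₁ u₂ ≫ u₁ ≫ T.hom) ⟶ ovr T u₁) ≫ ovrHom T u₁ =
      (Over.homMk (pullback.fst u₁ u₂ ≫ u₁) (by simp) :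
        Over.mk (pullback.fst u₁ u₂ ≫ u₁ ≫ T.hom) ⟶ T) := by
    ext
    simp
  have hm₂ : (Over.homMk (pullback.snd u₁ u₂) hw2 :
      Over.mk (pullback.fst u₁ u₂ ≫ u₁ ≫ T.hom) ⟶ ovr T u₂) ≫ ovrHom T u₂ =
      (Over.homMk (pullback.fst u₁ u₂ ≫ u₁) (by simp) :
        Over.mk (pullback.fst u₁ u₂ ≫ u₁ ≫ T.hom) ⟶ T) := by
    ext
    simp [pullback.condition]
  refine ⟨Over.mk (pullback.fst u₁ u₂ ≫ u₁ ≫ T.hom),
    Over.homMk (pullback.fst u₁ u₂ ≫ u₁) (by simp), ?_, ?_, ⟨q, ?_⟩,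
    pullCl (XTmap f (Over.homMk (pullback.fst u₁ u₂) rfl :
      Over.mk (pullback.fst u₁ u₂ ≫ u₁ ≫ T.hom) ⟶ ovr T u₁)) c₁,
    pullCl (XTmap f (Over.homMk (pullback.snd u₁ u₂) hw2 :
      Over.mk (pullback.fst u₁ u₂ ≫ u₁ ≫ T.hom) ⟶ ovr T u₂)) c₂,
    isInvertibleCl_pullCl _ hc₁, isInvertibleCl_pullCl _ hc₂, ?_, ?_⟩
  · show Flat (pullback.fst u₁ u₂ ≫ u₁)
    infer_instance
  · show LocallyOfFinitePresentation (pullback.fst u₁ u₂ ≫ u₁)
    infer_instance
  · show (pullback.fst u₁ u₂ ≫ u₁) q = t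
    rw [Scheme.Hom.comp_apply, hq1, hx₁]
  · rw [hP.natural _ _ _ c₁ hc₁, e₁, ← hm₁, Category.assoc]
  · rw [hP.natural _ _ _ c₂ hc₂, e₂, ← hm₂, Category.assoc]

theorem isClosed_agree (hP : IsRelPicK Scheme.fppfPrecoverage f P φ) (T : Over S)
    (g₁ g₂ : T ⟶ P) : IsClosed (agree g₁ g₂) := by
  rw [← isOpen_compl_iff, isOpen_iff_forall_mem_open]
  intro t ht
  obtain ⟨W, w, hfl, hlfp, ⟨x, rfl⟩, c₁, c₂, hc₁, hc₂, e₁, e₂⟩ := exists_chart f hP T g₁ g₂ t
  have hcl := isClosed_agree_of_classes f hP W c₁ c₂ hc₁ hc₂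
  rw [e₁, e₂, agree_comp] at hcl
  refine ⟨w.left '' (w.left ⁻¹' agree g₁ g₂)ᶜ, ?_, w.left.isOpenMap _ hcl.isOpen_compl,
    ⟨x, ht, rfl⟩⟩
  rintro _ ⟨x', hx', rfl⟩
  exact hx'

theorem isSeparated_of_isRelPicK (hP : IsRelPicK Scheme.fppfPrecoverage f P φ) :
    IsSeparated P.hom := by
  have hcl := isClosed_agree f hP (Over.mk (pullback.fst P.hom P.hom ≫ P.hom))
    (Over.homMk (pullback.fst P.hom P.hom) rfl)
    (Over.homMk (pullback.snd P.hom P.hom) pullback.condition.symm)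
  rw [agree_diag] at hcl
  exact ⟨IsClosedImmersion.of_isPreimmersion _ hcl⟩

end main

end Groth.Agent.Lib.helper7.PicSepB
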