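import Groth.Agent.Lib.Helper7.TopDiffInv
import Groth.Agent.Lib.Helper7.LocProjProper
import Groth.Agent.Lib.Helper21.PicFibre
import Groth.Agent.Lib.Helper21.GeomFibre
import Groth.Agent.Lib.Helper14.FibreH0
import Groth.Agent.Lib.Helper12.TensorInv

/-!
# Pluricanonical sheaves trivial on fibres (helper7)

For `f : X ⟶ S` locally projective, smooth of relative dimension `n` with geometrically connected fibres
over a locally Noetherian base, and `ω = Λ^n Ω_{X/S}`:

* `setup`: `f` is proper and flat, `h^0(X_s, O) = 1` for all `s`, and `ω^{⊗ m}` is invertible;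
* `isIso_counit_of_H1`: variant of helper21's `PicFibre.isIso_counit` with the hypothesis
  `H^1(X_s, O_{X_s}) = 0` for all `s` instead of reducedness of the base.
-/

set_option autoImplicit false
set_option linter.style.haveILetI false
set_option linter.unusedSectionVars false
universe u
open CategoryTheory CategoryTheory.Limits AlgebraicGeometry TopologicalSpace Opposite
open Scheme.Modules

namespace Groth.Agent.Lib.helper7.PluriCan

/-- smooth morphisms are geometrically reduced (copy of helper14's `AbSchFib.geometricallyReduced_of_smooth`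
with light imports) -/
theorem geometricallyReduced_of_smooth {X S : Scheme.{u}} (f : X ⟶ S) [Smooth f] :
    GeometricallyReduced f := by
  refine ⟨fun K _ y Z fst snd h => ?_⟩
  haveI : Smooth snd := MorphismProperty.of_isPullback (P := @Smooth) h inferInstance
  exact Groth.Agent.Lib.Helper14.FibreH0.isReduced_of_smooth_field K snd

section setup

variable {X S : Scheme.{u}} [IsLocallyNoetherian S] (f : X ⟶ S)
  (hproj : RedSub.IsLocallyProjective (Over.mk f))
  (n : ℕ) [SmoothOfRelativeDimension n f] [GeometricallyConnected f]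
  (ω : X.Modules) (hω : Canon.IsTopDiff f n ω) (m : ℕ)

include hproj hω in
theorem setup : IsProper f ∧ Flat f ∧
    (∀ y : S, Module.finrank (S.residueField y) Γ(f.fiber y, ⊤) = 1) ∧
    PicF.IsInvertible (CohB1.tensorPow ω m) := by
  haveI : IsProper f := LocProjProper.isProper_of_isLocallyProjective f hproj
  haveI : Smooth f := SmoothOfRelativeDimension.smooth n f
  haveI : Flat f := inferInstance
  haveI : GeometricallyReduced f := geometricallyReduced_of_smooth f
  refine ⟨inferInstance, inferInstance, fun y => ?_, ?_⟩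
  · exact Groth.Agent.Lib.helper21.GeomFibre.finrank_fiber_eq_one_of_geom f y
  · exact Groth.Agent.Lib.helper12.TensorInv.isInvertible_tensorPow
      (TopDiffInv.isInvertible_of_isTopDiff f n ω hω) m

end setup

section main

open Groth.Agent.Lib.helper21.InvFibre Groth.Agent.Lib.helper21.GCStein
  Groth.Agent.Lib.helper21.PicFibre Groth.Agent.Lib.helper11.InvMod

variable {X Y : Scheme.{u}} (f : X ⟶ Y) [IsProper f] [Flat f] [IsLocallyNoetherian Y]
  (h0 : ∀ y : Y, Module.finrank (Y.residueField y) Γ(f.fiber y, ⊤) = 1)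
  (h1 : ∀ y : Y, Subsingleton (Coh.HH (f.fiber y) (Coh.structureModule (f.fiber y)) 1))
  (L : X.Modules) (hL : PicF.IsInvertible L)
  (hfib : ∀ y : Y, Nonempty (CohIII.fiberMod f L y ≅ Coh.structureModule (f.fiber y)))

include h0 h1 hL hfib in
theorem exists_nhd_of_H1 (y : Y) : ∃ U : Y.Opens, y ∈ U ∧ IsTrivOn L (f ⁻¹ᵁ U) ∧
    ∀ V : Y.Opens, V ≤ U → IsIso (f.app V) := by
  obtain ⟨U1, hy1, hT1⟩ := exists_isTrivOn_preimage f y (h1 y) L hL (hfib y)
  have hy : Function.Bijective (algebraMap (Y.residueField y) Γ(f.fiber y, ⊤)) :=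
    Algebra.finrank_eq_one_iff_bijective_algebraMap.mp (h0 y)
  obtain ⟨U2, hy2, hU2⟩ := exists_nhd_isIso_app f y hy
  refine ⟨U1 ⊓ U2, ⟨hy1, hy2⟩, IsTrivOn.of_le ?_ hT1, fun V hV => hU2 V (hV.trans inf_le_right)⟩
  intro p hp
  exact hp.1

include h0 h1 hL hfib in
theorem isInvertible_pushforward_of_H1 :
    PicF.IsInvertible ((Scheme.Modules.pushforward f).obj L) := by
  intro y
  obtain ⟨U, hyU, hT, hU⟩ := exists_nhd_of_H1 f h0 h1 L hL hfib y
  exact ⟨U, hyU, isTrivOn_pushforward f L U hT hU⟩

include h0 h1 hL hfib in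
theorem isIso_counit_of_H1 :
    IsIso ((Scheme.Modules.pullbackPushforwardAdjunction f).counit.app L) := by
  have hP := isInvertible_pushforward_of_H1 f h0 h1 L hL hfib
  refine Groth.Agent.Lib.helper11.IsoLocus.isIso_of_forall_restrict _ fun x => ?_
  obtain ⟨U, hyU, ⟨eL⟩, -⟩ := exists_nhd_of_H1 f h0 h1 L hL hfib (f x)
  exact ⟨f ⁻¹ᵁ U, hyU, isIso_restrict_counit f L U eL hP⟩

end main

end Groth.Agent.Lib.helper7.PluriCan
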