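import Groth.Agent.Lib.Helper7.PluriCan
import Groth.Agent.Lib.Helper7.QCohPushQC
import Groth.Agent.Lib.Helper16.FLF8
import Groth.Agent.Lib.Helper14.UnivPush
import Groth.Agent.Lib.Helper11.PullUnit

/-!
# Direct images of line bundles with invertible evaluation map (helper7)

* `isInvertible_pushforward_of_isIso_counit`: `f` flat, surjective, qcqs, `L` invertible with
  `f^* f_* L ⟶ L` an isomorphism: then `f_* L` is invertible (fpqc descent of local freeness + rank).
* `isIso_baseChange_of_isIso_counit`: base change for `f_* L` under the same hypothesis, for `f` proper flat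
  with `h^0(X_s, O) = 1` over a locally Noetherian base.
-/

set_option autoImplicit false
set_option linter.style.haveILetI false
set_option linter.unusedSectionVars false
universe u
open CategoryTheory CategoryTheory.Limits AlgebraicGeometry TopologicalSpace Opposite
open Scheme.Modules

namespace Groth.Agent.Lib.helper7.PluriCan

open Groth.Agent.Lib.helper16.FLF Groth.Agent.Lib.helper11.InvMod

theorem isInvertible_pushforward_of_isIso_counit {X S : Scheme.{u}} (f : X ⟶ S) [Flat f]
    [Surjective f] [QuasiCompact f] [QuasiSeparated f] (L : X.Modules) (hL : PicF.IsInvertible L)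
    (hev : IsIso ((Scheme.Modules.pullbackPushforwardAdjunction f).counit.app L)) :
    PicF.IsInvertible ((Scheme.Modules.pushforward f).obj L) := by
  haveI : L.IsQuasicoherent := isQuasicoherent_of_isFinLocFree L (isFinLocFree_of_isInvertible hL)
  haveI : ((Scheme.Modules.pushforward f).obj L).IsQuasicoherent :=
    QCohPushQC.isQuasicoherent_pushforward f L
  let E := (Scheme.Modules.pushforward f).obj L
  let e : (Scheme.Modules.pullback f).obj E ≅ L :=
    asIso ((Scheme.Modules.pullbackPushforwardAdjunction f).counit.app L)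
  have h1 : FlatMod.IsFinLocFree ((Scheme.Modules.pullback f).obj E) :=
    isFinLocFree_of_iso e.symm (isFinLocFree_of_isInvertible hL)
  have hE : FlatMod.IsFinLocFree E := isFinLocFree_of_pullback_fpqc E f h1
  rw [isInvertible_iff_isFinLocFreeOfRank_one]
  intro y
  obtain ⟨U, r, hyU, ⟨i⟩⟩ := hE y
  obtain ⟨x, rfl⟩ := f.surjective y
  haveI : Nonempty ↑(f ⁻¹ᵁ U) := ⟨⟨x, hyU⟩⟩
  have hr1 : FlatMod.IsFinLocFreeOfRank r (E.restrict U.ι) :=
    isFinLocFreeOfRank_of_iso i.symm (isFinLocFreeOfRank_freeMod _ r)
  have hr2 : FlatMod.IsFinLocFreeOfRank r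
      ((Scheme.Modules.pullback (f ∣_ U)).obj (E.restrict U.ι)) :=
    isFinLocFreeOfRank_pullback _ hr1
  have hr3 : FlatMod.IsFinLocFreeOfRank r
      (((Scheme.Modules.pullback f).obj E).restrict (f ⁻¹ᵁ U).ι) :=
    isFinLocFreeOfRank_of_iso (pullbackRestrictIso f E U).symm hr2
  have hr4 : FlatMod.IsFinLocFreeOfRank r (L.restrict (f ⁻¹ᵁ U).ι) :=
    isFinLocFreeOfRank_of_iso ((Scheme.Modules.restrictFunctor (f ⁻¹ᵁ U).ι).mapIso e) hr3
  have hr5 : FlatMod.IsFinLocFreeOfRank 1 (L.restrict (f ⁻¹ᵁ U).ι) :=
    isFinLocFreeOfRank_restrict _ ((isInvertible_iff_isFinLocFreeOfRank_one L).mp hL)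
  have hr : r = 1 := rank_unique_of_isFinLocFreeOfRank _ hr4 hr5
  subst hr
  exact ⟨U, hyU, ⟨i⟩⟩

section bc

variable {X S : Scheme.{u}} (f : X ⟶ S) [IsProper f] [Flat f] [IsLocallyNoetherian S]
  (h0 : ∀ y : S, Module.finrank (S.residueField y) Γ(f.fiber y, ⊤) = 1)
  (L : X.Modules) (hL : PicF.IsInvertible L)
  (hev : IsIso ((Scheme.Modules.pullbackPushforwardAdjunction f).counit.app L))

include h0 hL hev in
theorem isIso_baseChange_of_isIso_counit [Surjective f] {S' : Scheme.{u}} (g : S' ⟶ S) :
    IsIso (((Scheme.Modules.pullbackPushforwardAdjunction (pullback.snd f g)).homEquiv _ _)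
      ((Scheme.Modules.pullbackComp (pullback.snd f g) g).hom.app _ ≫
        (Scheme.Modules.pullbackCongr (pullback.condition (f := f) (g := g))).inv.app _ ≫
        (Scheme.Modules.pullbackComp (pullback.fst f g) f).inv.app _ ≫
        (Scheme.Modules.pullback (pullback.fst f g)).map
          ((Scheme.Modules.pullbackPushforwardAdjunction f).counit.app L))) := by
  have hE : PicF.IsInvertible ((Scheme.Modules.pushforward f).obj L) :=
    isInvertible_pushforward_of_isIso_counit f L hL hev
  have hf' : ∀ U : S'.Opens, Function.Bijective ((pullback.snd f g).app U) := fun U => by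
    haveI := Groth.Agent.Lib.Helper14.UnivPush.isIso_app f h0 g U
    exact ConcreteCategory.bijective_of_isIso _
  rw [Adjunction.homEquiv_unit]
  haveI := Groth.Agent.Lib.helper11.PullUnit.isIso_unit_of_isInvertible (pullback.snd f g) hf' _
    (isInvertible_pullback g hE)
  haveI := hev
  infer_instance

end bc

end Groth.Agent.Lib.helper7.PluriCan
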