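import Mathlib
import Groth.Agent.Lib.Helper9.CurveTwist
import Groth.Agent.Lib.Helper18.ResDeg

set_option autoImplicit false
set_option linter.style.haveILetI false
universe u
open CategoryTheory CategoryTheory.Limits AlgebraicGeometry Opposite TopologicalSpace Module
open Scheme.Modules

attribute [local instance] Curv2.resAlgebra

namespace Groth.Agent.Lib.helper7.PtTwist

open Groth.Agent.Lib.Helper18 Groth.Agent.Lib.helper11.IsoLocus Groth.Agent.Lib.helper11.InvMod
open Groth.Agent.Lib.Lead.ModTensor Groth.Agent.Lib.helper9.CurvePunctual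
open Groth.Agent.Lib.helper9.CurveVanish Groth.Agent.Lib.helper9.CurveTwist
open Groth.Agent.Lib.helper7 Groth.Agent.Lib.helper11.TwistH1

/-- the kernel of `Spec κ(x) ⟶ X` is the vanishing ideal of the closed point `x` -/
theorem ker_fromSpecResidueField {X : Scheme.{u}} (x : X) (hx : IsClosed ({x} : Set X)) :
    (X.fromSpecResidueField x).ker = Scheme.IdealSheafData.vanishingIdeal ⟨{x}, hx⟩ := by
  have hsy : ∀ p, (X.fromSpecResidueField x) p = x := by
    intro p
    have := X.range_fromSpecResidueField x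
    have hp : (X.fromSpecResidueField x) p ∈ Set.range (X.fromSpecResidueField x) := ⟨p, rfl⟩
    rw [this] at hp
    exact hp
  apply le_antisymm
  · rw [← Scheme.IdealSheafData.le_support_iff_le_vanishingIdeal]
    intro y hy
    have hy' : y = x := hy
    rw [hy']
    apply (X.fromSpecResidueField x).range_subset_ker_support
    exact ⟨Classical.arbitrary _, hsy _⟩
  · rw [Scheme.IdealSheafData.le_def]
    intro U f hf
    rw [Scheme.Hom.ker_apply, RingHom.mem_ker]
    rw [Scheme.IdealSheafData.vanishingIdeal_ideal, PrimeSpectrum.mem_vanishingIdeal] at hf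
    rw [← basicOpen_eq_bot_iff, ← Scheme.preimage_basicOpen]
    ext p
    simp only [Opens.coe_bot, Set.mem_empty_iff_false, iff_false]
    intro hp
    have hp' : x ∈ X.basicOpen f := by rw [← hsy p]; exact hp
    have hyU : x ∈ U.1 := X.basicOpen_le f hp'
    rw [Groth.Agent.Lib.helper28.mem_basicOpen_iff U.2 x hyU f] at hp'
    apply hp'
    apply hf
    show U.2.fromSpec (U.2.primeIdealOf ⟨x, hyU⟩) ∈ ({x} : Set X)
    rw [U.2.fromSpec_primeIdealOf ⟨x, hyU⟩]
    rfl

section main

variable (k : Type u) [Field k] (X : Scheme.{u}) [X.Over (Spec (CommRingCat.of k))]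
  [IsProper (X ↘ Spec (CommRingCat.of k))]

/-- `h⁰(I_x ⊗ L') ≤ h⁰(L') ≤ h⁰(I_x ⊗ L') + [κ(x) : k]` for a closed point `x` of a proper `k`-scheme and an
invertible module `L'`. -/
theorem finrank_H0_twist_point {x : X} (hx : IsClosed ({x} : Set X))
    (L L' : X.Modules) (hL' : PicF.IsInvertible L')
    (e : L ≅ CohB1.tensorMod L' (ClSub.idealMod (Scheme.IdealSheafData.vanishingIdeal ⟨{x}, hx⟩))) :
    finrank k (Coh.HH X L 0) ≤ finrank k (Coh.HH X L' 0) ∧
      finrank k (Coh.HH X L' 0) ≤ finrank k (Coh.HH X L 0) + finrank k (X.residueField x) := by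
  haveI := Groth.Agent.Lib.Lead.CurveEuler.isNoetherian k X
  set Z := Scheme.IdealSheafData.vanishingIdeal ⟨{x}, hx⟩ with hZdef
  let ι : ClSub.idealMod Z ⟶ Coh.structureModule X := ClSub.idealModι Z
  let φ : CohB1.tensorMod (ClSub.idealMod Z) L' ⟶ CohB1.tensorMod (Coh.structureModule X) L' :=
    tensorMap ι (𝟙 L')
  haveI : Mono ι := IdealMod.mono_idealModι Z
  haveI hφmono : Mono φ := mono_tensorMap_left ι hL'
  let lam : CohB1.tensorMod (Coh.structureModule X) L' ≅ L' := leftUnitor L'
  have hsupp : ((Z.support : Closeds X) : Set X) = {x} :=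
    Scheme.IdealSheafData.coe_support_vanishingIdeal _
  let W : X.Opens := ⟨((Z.support : Closeds X) : Set X)ᶜ, Z.support.isClosed.isOpen_compl⟩
  have hWι : W ≤ isoLocus ι :=
    le_isoLocus_kernel_ι (ClSub.toSubscheme Z) W (fun V hV =>
      subsingleton_quotMod_of_disjoint Z V (Set.disjoint_left.mpr fun x hxV hxZ => hV hxV hxZ))
  have hcl : ∀ y, y ∉ W → IsClosed ({y} : Set X) := fun y hy => by
    have hy' : y ∈ ((Z.support : Closeds X) : Set X) := by
      by_contra h
      exact hy h
    rw [hsupp] at hy'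
    rw [Set.mem_singleton_iff.mp hy']
    exact hx
  have hfin : ((W : Set X)ᶜ).Finite := by
    have : (W : Set X)ᶜ = {x} := by
      show (((Z.support : Closeds X) : Set X)ᶜ)ᶜ = {x}
      rw [compl_compl, hsupp]
    rw [this]
    exact Set.finite_singleton x
  -- coherence
  have hOc : Coh.IsCoh (Coh.structureModule X) :=
    Groth.Agent.Lib.Lead.CurveInv.isCoh_of_isInvertible X (isInvertible_structureModule X)
  have hQc : Coh.IsCoh (ClSub.quotMod Z) :=
    Groth.Agent.Lib.helper8.Dev.isCoh_push_structureModule Z.subschemeι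
  have hIc : Coh.IsCoh (ClSub.idealMod Z) := CohKer.isCoh_kernel hOc hQc (ClSub.toSubscheme Z)
  have hLc := Groth.Agent.Lib.Lead.CurveInv.isCoh_of_isInvertible X hL'
  haveI : (ClSub.idealMod Z).IsQuasicoherent := hIc.1
  haveI : L'.IsQuasicoherent := hLc.1
  have hFc : Coh.IsCoh (CohB1.tensorMod (ClSub.idealMod Z) L') :=
    ⟨Groth.Agent.Lib.helper2.TensorQCoh.isQuasicoherent_tensorMod _ _,
      Groth.Agent.Lib.helper2.TensorQCoh.isFiniteType_tensorMod _ _ hIc.2 hLc.2⟩
  have hL'c : Coh.IsCoh (CohB1.tensorMod (Coh.structureModule X) L') :=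
    CohKer.isCoh_of_iso lam.symm hLc
  have hCc : Coh.IsCoh (cokernel φ) := CohKer.isCoh_cokernel hFc hL'c φ
  have hS : (ShortComplex.mk φ (cokernel.π φ) (cokernel.condition φ)).ShortExact :=
    { exact := ShortComplex.exact_cokernel φ
      mono_f := hφmono
      epi_g := inferInstanceAs (Epi (cokernel.π φ)) }
  have h4 : finrank k (Coh.HH X (cokernel φ) 0) = finrank k (Coh.HH X (cokernel ι) 0) :=
    finrank_H0_cokernel_tensor k ι hL' W hWι hfin hcl
  have h5 : finrank k (Coh.HH X (cokernel ι) 0) = finrank k (Coh.HH X (ClSub.quotMod Z) 0) :=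
    finrank_HH_eq_of_iso k (IdealMod.cokernelIdealModιIso Z) 0
  have h6 : finrank k (Coh.HH X (ClSub.quotMod Z) 0) = finrank k (X.residueField x) :=
    Groth.Agent.Lib.Helper18.ResDeg.finrank_H0_quotMod_eq_finrank_residueField k X hx
  have h7 : finrank k (Coh.HH X L 0) = finrank k (Coh.HH X (CohB1.tensorMod (ClSub.idealMod Z) L') 0) :=
    finrank_HH_eq_of_iso k (e ≪≫ braid _ _) 0
  have h8 : finrank k (Coh.HH X (CohB1.tensorMod (Coh.structureModule X) L') 0) =
      finrank k (Coh.HH X L' 0) := finrank_HH_eq_of_iso k lam 0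
  haveI f1 : Module.Finite k (Coh.HH X (CohB1.tensorMod (ClSub.idealMod Z) L') 0) :=
    Groth.Agent.Lib.Lead.ProperEuler.finite_HH k X _ hFc 0
  haveI f2 : Module.Finite k (Coh.HH X (CohB1.tensorMod (Coh.structureModule X) L') 0) :=
    Groth.Agent.Lib.Lead.ProperEuler.finite_HH k X _ hL'c 0
  haveI f3 : Module.Finite k (Coh.HH X (cokernel φ) 0) :=
    Groth.Agent.Lib.Lead.ProperEuler.finite_HH k X _ hCc 0
  have hinj := HH.injective_mapOver_f_zero hS k
  have hex := HH.exactOver₂ hS k 0
  simp only at hinj hex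
  rw [h7, ← h8, ← h6, ← h5, ← h4]
  refine ⟨LinearMap.finrank_le_finrank_of_injective hinj, ?_⟩
  have hrn := LinearMap.finrank_range_add_finrank_ker (HH.mapOver k (cokernel.π φ) 0)
  have hker : LinearMap.ker (HH.mapOver k (cokernel.π φ) 0) = LinearMap.range (HH.mapOver k φ 0) :=
    (LinearMap.exact_iff.mp hex)
  rw [hker] at hrn
  have h9 : finrank k (LinearMap.range (HH.mapOver k φ 0)) ≤
      finrank k (Coh.HH X (CohB1.tensorMod (ClSub.idealMod Z) L') 0) :=
    LinearMap.finrank_range_le _
  have h10 : finrank k (LinearMap.range (HH.mapOver k (cokernel.π φ) 0)) ≤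
      finrank k (Coh.HH X (cokernel φ) 0) := Submodule.finrank_le _
  omega

end main

end Groth.Agent.Lib.helper7.PtTwist
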