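import Mathlib
import Groth.Agent.Lib.Helper7.KoszulF
import Groth.Agent.Lib.Helper12.TensorAssoc
import Groth.Agent.Lib.Helper18.NefH1Zero

/-!
# Multiplication of sections for the square of a globally generated line bundle on a curve (helper7)

`X` compact quasi-separated of dimension `≤ 1`, `L` invertible, globally generated with `H¹(L) = 0`,
`M₂ = L^{⊗2}`.  Then `H⁰(M₂^{⊗(m+1)}) ⊗ H⁰(M₂) → H⁰(M₂^{⊗(m+2)})` is surjective
(`span_tmul_tensorPow_sq`).
-/

set_option autoImplicit false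
set_option linter.style.haveILetI false

universe u

open CategoryTheory Limits AlgebraicGeometry Opposite TopologicalSpace

namespace Groth.Agent.Lib.helper7.VAmpSq

open Groth.Agent.Lib.Lead.ModTensor Groth.Agent.Lib.helper12.TensorPowAdd
  Groth.Agent.Lib.helper12.TensorSec Groth.Agent.Lib.helper12.TensorAssoc
  Groth.Agent.Lib.helper12.GGTensor Groth.Agent.Lib.helper7.Koszul

variable {X : Scheme.{u}}

theorem tmul_add_left (M N : X.Modules) (U : X.Opens) (m m' : M.val.obj (op U))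
    (n : N.val.obj (op U)) :
    SecTwist.tmul M N U (m + m') n = SecTwist.tmul M N U m n + SecTwist.tmul M N U m' n := by
  unfold SecTwist.tmul
  rw [TensorProduct.add_tmul]
  exact map_add ((SecTwist.toTensor M N).app (op U)).hom _ _

theorem tmul_zero_left (M N : X.Modules) (U : X.Opens) (n : N.val.obj (op U)) :
    SecTwist.tmul M N U 0 n = 0 := by
  unfold SecTwist.tmul
  rw [TensorProduct.zero_tmul]
  exact map_zero ((SecTwist.toTensor M N).app (op U)).hom

theorem gg_tensorPow {A : X.Modules} (hA : Curv2.IsGloballyGenerated A) (m : ℕ) :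
    Curv2.IsGloballyGenerated (CohB1.tensorPow A m) := by
  induction m with
  | zero => exact Groth.Agent.Lib.Helper18.NefH1Zero.gg_unit X
  | succ m ih => exact gg_tensorMod ih hA

/-- transport of a spanning set along an isomorphism -/
theorem span_eq_top_of_iso {G G' : X.Modules} (φ : G ≅ G') (S : Set (G.val.obj (op ⊤)))
    (S' : Set (G'.val.obj (op ⊤)))
    (hS : Submodule.span (X.ringCatSheaf.obj.obj (op ⊤)) S = ⊤)
    (h : ∀ x ∈ S, (φ.hom.val.app (op ⊤)).hom x ∈
      Submodule.span (X.ringCatSheaf.obj.obj (op ⊤)) S') :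
    Submodule.span (X.ringCatSheaf.obj.obj (op ⊤)) S' = ⊤ := by
  rw [eq_top_iff]
  rintro g -
  have hg : (φ.inv.val.app (op ⊤)).hom g ∈ Submodule.span (X.ringCatSheaf.obj.obj (op ⊤)) S := by
    rw [hS]; trivial
  have key : ∀ x ∈ Submodule.span (X.ringCatSheaf.obj.obj (op ⊤)) S,
      (φ.hom.val.app (op ⊤)).hom x ∈ Submodule.span (X.ringCatSheaf.obj.obj (op ⊤)) S' := by
    intro x hx
    induction hx using Submodule.span_induction with
    | mem x hx => exact h x hx
    | zero => rw [map_zero]; exact Submodule.zero_mem _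
    | add x y _ _ hx hy => rw [map_add]; exact Submodule.add_mem _ hx hy
    | smul a x _ hx => rw [map_smul]; exact Submodule.smul_mem _ _ hx
  have h2 := key _ hg
  rwa [iso_hom_inv_apply] at h2

/-- refine the first factor of a spanning family of products -/
theorem span_tmul_of_span {N₁ A : X.Modules} (S : Set (N₁.val.obj (op ⊤)))
    (hS : Submodule.span (X.ringCatSheaf.obj.obj (op ⊤)) S = ⊤)
    (h2 : Submodule.span (X.ringCatSheaf.obj.obj (op ⊤))
        (Set.range (fun p : N₁.val.obj (op ⊤) × A.val.obj (op ⊤) =>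
          SecTwist.tmul N₁ A ⊤ p.1 p.2)) = ⊤) :
    Submodule.span (X.ringCatSheaf.obj.obj (op ⊤))
        {w | ∃ z ∈ S, ∃ a : A.val.obj (op ⊤), w = SecTwist.tmul N₁ A ⊤ z a} = ⊤ := by
  rw [eq_top_iff, ← h2, Submodule.span_le]
  rintro _ ⟨⟨z, a⟩, rfl⟩
  change SecTwist.tmul N₁ A ⊤ z a ∈ _
  have hz : z ∈ Submodule.span (X.ringCatSheaf.obj.obj (op ⊤)) S := by rw [hS]; trivial
  induction hz using Submodule.span_induction with
  | mem x hx => exact Submodule.subset_span ⟨x, hx, a, rfl⟩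
  | zero => rw [tmul_zero_left]; exact Submodule.zero_mem _
  | add x y _ _ hx hy => rw [tmul_add_left]; exact Submodule.add_mem _ hx hy
  | smul c x _ hx =>
    rw [Groth.Agent.Lib.helper12.AmpleBasis.tmul_smul_left]
    exact Submodule.smul_mem _ _ hx


section Curve

/-- the comparison isomorphism `((N₀ ⊗ L) ⊗ L) ⊗ L ≅ F ⊗ L^{⊗2}` for `F ≅ N₀ ⊗ L` -/
noncomputable def sqIso {F N₀ L : X.Modules} (e : F ≅ CohB1.tensorMod N₀ L) :
    CohB1.tensorMod (CohB1.tensorMod (CohB1.tensorMod N₀ L) L) L ≅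
      CohB1.tensorMod F (CohB1.tensorPow L 2) :=
  PicGrp.tensorModIso (PicGrp.tensorModIso e.symm (Iso.refl L)) (Iso.refl L) ≪≫
    assocMod F L L ≪≫
    PicGrp.tensorModIso (Iso.refl F) (PicGrp.tensorModIso (leftUnitor L).symm (Iso.refl L))

theorem sqIso_hom_tmul {F N₀ L : X.Modules} (e : F ≅ CohB1.tensorMod N₀ L) (U : X.Opens)
    (y : (CohB1.tensorMod N₀ L).val.obj (op U)) (a a' : L.val.obj (op U)) :
    ((sqIso e).hom.val.app (op U)).hom
        (SecTwist.tmul (CohB1.tensorMod (CohB1.tensorMod N₀ L) L) L U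
          (SecTwist.tmul (CohB1.tensorMod N₀ L) L U y a) a') =
      SecTwist.tmul F (CohB1.tensorPow L 2) U ((e.inv.val.app (op U)).hom y)
        (SecTwist.tmul (CohB1.tensorMod (Coh.structureModule X) L) L U
          (((leftUnitor L).inv.val.app (op U)).hom a) a') := by
  change ((PicGrp.tensorModIso (Iso.refl F)
      (PicGrp.tensorModIso (leftUnitor L).symm (Iso.refl L))).hom.val.app (op U)).hom
    (((assocMod F L L).hom.val.app (op U)).hom
      (((PicGrp.tensorModIso (PicGrp.tensorModIso e.symm (Iso.refl L)) (Iso.refl L)).hom.val.app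
        (op U)).hom _)) = _
  rw [tensorModIso_hom_tmul, tensorModIso_hom_tmul]
  change ((PicGrp.tensorModIso (Iso.refl F)
      (PicGrp.tensorModIso (leftUnitor L).symm (Iso.refl L))).hom.val.app (op U)).hom
    (((assocMod F L L).hom.val.app (op U)).hom
      (SecTwist.tmul (CohB1.tensorMod F L) L U
        (SecTwist.tmul F L U ((e.inv.val.app (op U)).hom y) a) a')) = _
  rw [assocMod_hom_tmul, tensorModIso_hom_tmul, tensorModIso_hom_tmul]
  rfl

variable [CompactSpace X] [QuasiSeparatedSpace X]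

/-- **Two-step multiplication**: if `F ≅ N₀ ⊗ L` with `H¹(N₀) = 0`, then `H⁰(F) ⊗ H⁰(L^{⊗2}) → H⁰(F ⊗ L^{⊗2})`
is surjective. -/
theorem span_tmul_sq (hd : topologicalKrullDim X ≤ 1) {L : X.Modules} (hL : PicF.IsInvertible L)
    (hgg : Curv2.IsGloballyGenerated L) {F N₀ : X.Modules} (e : F ≅ CohB1.tensorMod N₀ L)
    (hN₀ : Subsingleton (Coh.HH X N₀ 1)) :
    Submodule.span (X.ringCatSheaf.obj.obj (op ⊤))
        (Set.range (fun p : F.val.obj (op ⊤) × (CohB1.tensorPow L 2).val.obj (op ⊤) =>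
          SecTwist.tmul F (CohB1.tensorPow L 2) ⊤ p.1 p.2)) = ⊤ := by
  obtain ⟨J, hJ, T, hT⟩ := exists_finite_gen hL hgg
  have hN₁ : Subsingleton (Coh.HH X (CohB1.tensorMod N₀ L) 1) :=
    Groth.Agent.Lib.helper11.RelSerre.subsingleton_HH_of_iso (braid L N₀) 1
      (subsingleton_H1_tensor_of_gg hd hgg hN₀)
  have ha := span_tmul_eq_top_of_H1 hd N₀ L T hT hN₀
  have hb := span_tmul_eq_top_of_H1 hd (CohB1.tensorMod N₀ L) L T hT hN₁
  have hc := span_tmul_of_span _ ha hb
  refine span_eq_top_of_iso (sqIso e) _ _ hc ?_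
  rintro _ ⟨_, ⟨⟨y, a⟩, rfl⟩, a', rfl⟩
  refine Submodule.subset_span ?_
  exact ⟨(_, _), (sqIso_hom_tmul e ⊤ y a a').symm⟩

/-- **Multiplication of sections** for `M₂ = L^{⊗2}`: `H⁰(M₂^{⊗(m+1)}) ⊗ H⁰(M₂) → H⁰(M₂^{⊗(m+2)})` is surjective. -/
theorem span_tmul_tensorPow_sq (hd : topologicalKrullDim X ≤ 1) {L : X.Modules}
    (hL : PicF.IsInvertible L) (hgg : Curv2.IsGloballyGenerated L)
    (h1 : Subsingleton (Coh.HH X L 1)) (m : ℕ) :
    Submodule.span (X.ringCatSheaf.obj.obj (op ⊤))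
        (Set.range (fun p : (CohB1.tensorPow (CohB1.tensorPow L 2) (m + 1)).val.obj (op ⊤) ×
            (CohB1.tensorPow L 2).val.obj (op ⊤) =>
          SecTwist.tmul (CohB1.tensorPow (CohB1.tensorPow L 2) (m + 1)) (CohB1.tensorPow L 2) ⊤
            p.1 p.2)) = ⊤ := by
  have hgg1 : Curv2.IsGloballyGenerated (CohB1.tensorMod (Coh.structureModule X) L) :=
    gg_tensorMod (Groth.Agent.Lib.Helper18.NefH1Zero.gg_unit X) hgg
  have hgg2 : Curv2.IsGloballyGenerated (CohB1.tensorPow L 2) := gg_tensorMod hgg1 hgg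
  have h1' : Subsingleton (Coh.HH X (CohB1.tensorMod (Coh.structureModule X) L) 1) :=
    Groth.Agent.Lib.helper11.RelSerre.subsingleton_HH_of_iso (leftUnitor L).symm 1 h1
  have hN₀ : Subsingleton (Coh.HH X (CohB1.tensorMod (CohB1.tensorPow (CohB1.tensorPow L 2) m)
      (CohB1.tensorMod (Coh.structureModule X) L)) 1) :=
    subsingleton_H1_tensor_of_gg hd (gg_tensorPow hgg2 m) h1'
  exact span_tmul_sq hd hL hgg
    (assocMod (CohB1.tensorPow (CohB1.tensorPow L 2) m)
      (CohB1.tensorMod (Coh.structureModule X) L) L).symm hN₀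

end Curve

end Groth.Agent.Lib.helper7.VAmpSq
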