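import Mathlib
import Groth.Agent.Lib.Helper7.VAmpSqA
import Groth.Agent.Lib.Helper9.VAChart
import Groth.Agent.Lib.Helper12.TwistExtend
import Groth.Agent.Lib.Helper12.AmpleEventually
import Groth.Agent.Lib.Helper7.IdealMod

/-!
# Functions on `X_σ` are polynomials in ratios of sections of `L^{⊗2}` (helper7)
-/

set_option autoImplicit false
set_option linter.style.haveILetI false

universe u

open CategoryTheory Limits AlgebraicGeometry Opposite TopologicalSpace

namespace Groth.Agent.Lib.helper7.VAmpSq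

open Groth.Agent.Lib.Lead.ModTensor Groth.Agent.Lib.helper12.TensorPowAdd
  Groth.Agent.Lib.helper12.TensorSec Groth.Agent.Lib.helper12.TensorAssoc
  Groth.Agent.Lib.helper12.GGTensor Groth.Agent.Lib.helper7.Koszul
  Groth.Agent.Lib.helper11.GenLocus Groth.Agent.Lib.helper12.ProjUP3
  Groth.Agent.Lib.helper8.FlatCohBC

local notation "resM" => Groth.Agent.Lib.helper12.TwistExtend.res

variable {X : Scheme.{u}} {k : Type u} [Field k] (q : X ⟶ Spec (CommRingCat.of k))

theorem res_add (G : X.Modules) {V₁ V₂ : X.Opens} (h : V₂ ≤ V₁) (x y : G.val.obj (op V₁)) :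
    resM G h (x + y) = resM G h x + resM G h y :=
  map_add (G.presheaf.map (homOfLE h).op).hom x y

theorem res_zero (G : X.Modules) {V₁ V₂ : X.Opens} (h : V₂ ≤ V₁) :
    resM G h (0 : G.val.obj (op V₁)) = 0 :=
  map_zero (G.presheaf.map (homOfLE h).op).hom

theorem res_sum (G : X.Modules) {V₁ V₂ : X.Opens} (h : V₂ ≤ V₁) {ι : Type*} (s : Finset ι)
    (f : ι → G.val.obj (op V₁)) :
    resM G h (∑ i ∈ s, f i) = ∑ i ∈ s, resM G h (f i) :=
  map_sum (G.presheaf.map (homOfLE h).op).hom f s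

theorem res_smul (G : X.Modules) {V₁ V₂ : X.Opens} (h : V₂ ≤ V₁) (c : Γ(X, V₁))
    (x : G.val.obj (op V₁)) :
    resM G h (c • x) = (X.presheaf.map (homOfLE h).op c : Γ(X, V₂)) • resM G h x :=
  G.val.map_smul (homOfLE h).op c x

section base

variable {M : X.Modules} {n : ℕ} (σ : Fin (n + 1) → (Coh.structureModule X ⟶ M))

/-- every global section of `M` restricted to `X_{σ j}` is a `k[ratios]`-multiple of `σ j` -/
theorem exists_ratio_smul
    (hspan : ∀ x : M.val.obj (op ⊤), ∃ c : Fin (n + 1) → k,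
        x = ∑ l, (Coh.toGlobal q (c l)) • (show M.val.obj (op ⊤) from sec (σ l) ⊤))
    (j : Fin (n + 1)) (v : M.val.obj (op ⊤)) :
    letI := (secAlg q (CohB1.genLocus M (σ j))).toAlgebra
    ∃ d ∈ Algebra.adjoin k
        (Set.range fun l => ratio (σ j) (σ l) (CohB1.genLocus M (σ j)) le_rfl),
      resM M (le_top : CohB1.genLocus M (σ j) ≤ ⊤) v = d • sec (σ j) (CohB1.genLocus M (σ j)) := by
  letI := (secAlg q (CohB1.genLocus M (σ j))).toAlgebra
  obtain ⟨c, hc⟩ := hspan v
  refine ⟨∑ l, algebraMap k Γ(X, CohB1.genLocus M (σ j)) (c l) *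
      ratio (σ j) (σ l) (CohB1.genLocus M (σ j)) le_rfl,
    Subalgebra.sum_mem _ (fun l _ => Subalgebra.mul_mem _ (Subalgebra.algebraMap_mem _ _)
      (Algebra.subset_adjoin ⟨l, rfl⟩)), ?_⟩
  rw [hc, res_sum, Finset.sum_smul]
  refine Finset.sum_congr rfl (fun l _ => ?_)
  rw [mul_smul, ratio_smul]
  refine (res_smul M le_top (Coh.toGlobal q (c l)) (sec (σ l) ⊤)).trans ?_
  congr 1
  exact res_sec (σ l) (homOfLE le_top)

end base


section main

variable [CompactSpace X] [QuasiSeparatedSpace X]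

/-- every global section of `(L^{⊗2})^{⊗(m+1)}` restricted to `X_{σ j}` is a `k[ratios]`-multiple of
`(σ j)^{m+1}` -/
theorem exists_ratio_smul_pow (hd : topologicalKrullDim X ≤ 1) {L : X.Modules}
    (hL : PicF.IsInvertible L) (hgg : Curv2.IsGloballyGenerated L)
    (h1 : Subsingleton (Coh.HH X L 1)) {n : ℕ}
    (σ : Fin (n + 1) → (Coh.structureModule X ⟶ CohB1.tensorPow L 2))
    (hspan : ∀ x : (CohB1.tensorPow L 2).val.obj (op ⊤), ∃ c : Fin (n + 1) → k,
        x = ∑ l, (Coh.toGlobal q (c l)) •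
          (show (CohB1.tensorPow L 2).val.obj (op ⊤) from sec (σ l) ⊤))
    (j : Fin (n + 1)) (m : ℕ)
    (t : (CohB1.tensorPow (CohB1.tensorPow L 2) (m + 1)).val.obj (op ⊤)) :
    letI := (secAlg q (CohB1.genLocus _ (σ j))).toAlgebra
    ∃ c ∈ Algebra.adjoin k
        (Set.range fun l => ratio (σ j) (σ l) (CohB1.genLocus _ (σ j)) le_rfl),
      resM (CohB1.tensorPow (CohB1.tensorPow L 2) (m + 1))
          (le_top : CohB1.genLocus _ (σ j) ≤ ⊤) t =
        c • SecTwist.pow (σ j) (m + 1) (CohB1.genLocus _ (σ j)) := by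
  letI := (secAlg q (CohB1.genLocus _ (σ j))).toAlgebra
  induction m with
  | zero =>
    -- `t = 1 ⊗ λ(t)`
    set v := ((leftUnitor (CohB1.tensorPow L 2)).hom.val.app (op ⊤)).hom t with hv
    have ht : t = SecTwist.tmul (Coh.structureModule X) (CohB1.tensorPow L 2) ⊤
        ((1 : X.ringCatSheaf.obj.obj (op ⊤)) : (Coh.structureModule X).val.obj (op ⊤)) v := by
      rw [← Groth.Agent.Lib.helper7.Koszul.leftUnitor_inv_apply, hv]
      exact (iso_inv_hom_apply (leftUnitor (CohB1.tensorPow L 2)) ⊤ t).symm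
    obtain ⟨d, hd', hdv⟩ := exists_ratio_smul q σ hspan j v
    refine ⟨d, hd', ?_⟩
    rw [ht]
    refine (SecTwist.map_tmul _ _ (homOfLE le_top) _ _).trans ?_
    have h2 : (CohB1.tensorPow L 2).val.map (homOfLE (le_top : CohB1.genLocus _ (σ j) ≤ ⊤)).op v =
        d • sec (σ j) (CohB1.genLocus _ (σ j)) := hdv
    rw [h2]
    refine (Groth.Agent.Lib.helper11.TensorEpi.tmul_smul_right _ _ _ d _ _).trans ?_
    congr 1
    change SecTwist.tmul _ _ _ _ _ = SecTwist.tmul _ _ _ _ _
    congr 1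
    exact PresheafOfModules.unit_map_one _ _
  | succ m ih =>
    have hsp := span_tmul_tensorPow_sq hd hL hgg h1 m
    have ht : t ∈ Submodule.span (X.ringCatSheaf.obj.obj (op ⊤))
        (Set.range (fun p : (CohB1.tensorPow (CohB1.tensorPow L 2) (m + 1)).val.obj (op ⊤) ×
            (CohB1.tensorPow L 2).val.obj (op ⊤) =>
          SecTwist.tmul (CohB1.tensorPow (CohB1.tensorPow L 2) (m + 1)) (CohB1.tensorPow L 2) ⊤
            p.1 p.2)) := by
      rw [hsp]; trivial
    induction ht using Submodule.closure_induction with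
    | zero =>
      exact ⟨0, Subalgebra.zero_mem _, (res_zero _ _).trans (zero_smul _ _).symm⟩
    | add x y _ _ hx hy =>
      obtain ⟨c, hc, hcx⟩ := hx
      obtain ⟨c', hc', hcy⟩ := hy
      exact ⟨c + c', Subalgebra.add_mem _ hc hc',
        (res_add _ _ x y).trans ((congrArg₂ (· + ·) hcx hcy).trans (add_smul c c' _).symm)⟩
    | smul_mem γ x hx =>
      obtain ⟨⟨y, v⟩, rfl⟩ := hx
      obtain ⟨c, hc, hcy⟩ := ih (γ • y)
      obtain ⟨d, hd', hdv⟩ := exists_ratio_smul q σ hspan j v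
      refine ⟨c * d, Subalgebra.mul_mem _ hc hd', ?_⟩
      change resM _ _ (γ • SecTwist.tmul (CohB1.tensorPow (CohB1.tensorPow L 2) (m + 1))
        (CohB1.tensorPow L 2) ⊤ y v) = _
      rw [← Groth.Agent.Lib.helper12.AmpleBasis.tmul_smul_left]
      refine (SecTwist.map_tmul _ _ (homOfLE le_top) _ _).trans ?_
      have h2 : (CohB1.tensorPow L 2).val.map (homOfLE (le_top : CohB1.genLocus _ (σ j) ≤ ⊤)).op v =
          d • sec (σ j) (CohB1.genLocus _ (σ j)) := hdv
      have h3 : (CohB1.tensorPow (CohB1.tensorPow L 2) (m + 1)).val.map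
          (homOfLE (le_top : CohB1.genLocus _ (σ j) ≤ ⊤)).op (γ • y) =
          c • SecTwist.pow (σ j) (m + 1) (CohB1.genLocus _ (σ j)) := hcy
      rw [h2, h3]
      refine (Groth.Agent.Lib.helper11.TensorEpi.tmul_smul_right _ _ _ d _ _).trans ?_
      have e1 := Groth.Agent.Lib.helper12.AmpleBasis.tmul_smul_left
        (CohB1.tensorPow (CohB1.tensorPow L 2) (m + 1)) (CohB1.tensorPow L 2)
        (CohB1.genLocus _ (σ j)) c (SecTwist.pow (σ j) (m + 1) (CohB1.genLocus _ (σ j)))
        (sec (σ j) (CohB1.genLocus _ (σ j)))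
      refine (congrArg (fun z => d • z) e1).trans ?_
      refine (smul_smul d c _).trans ?_
      exact congrArg (fun z : Γ(X, CohB1.genLocus _ (σ j)) =>
        z • SecTwist.pow (σ j) (m + 1 + 1) (CohB1.genLocus _ (σ j))) (mul_comm d c)

/-- **every function on `X_{σ j}` is a polynomial in the ratios `σ l / σ j`** -/
theorem adjoin_ratio_eq_top (hd : topologicalKrullDim X ≤ 1) {L : X.Modules}
    (hL : PicF.IsInvertible L) (hgg : Curv2.IsGloballyGenerated L)
    (h1 : Subsingleton (Coh.HH X L 1)) {n : ℕ}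
    (σ : Fin (n + 1) → (Coh.structureModule X ⟶ CohB1.tensorPow L 2))
    (hspan : ∀ x : (CohB1.tensorPow L 2).val.obj (op ⊤), ∃ c : Fin (n + 1) → k,
        x = ∑ l, (Coh.toGlobal q (c l)) •
          (show (CohB1.tensorPow L 2).val.obj (op ⊤) from sec (σ l) ⊤))
    (j : Fin (n + 1)) :
    letI := (secAlg q (CohB1.genLocus _ (σ j))).toAlgebra
    Algebra.adjoin k
        (Set.range fun l => ratio (σ j) (σ l) (CohB1.genLocus _ (σ j)) le_rfl) = ⊤ := by
  letI := (secAlg q (CohB1.genLocus _ (σ j))).toAlgebra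
  have hM : PicF.IsInvertible (CohB1.tensorPow L 2) :=
    Groth.Agent.Lib.helper12.TensorInv.isInvertible_tensorPow hL 2
  rw [eq_top_iff]
  rintro f -
  obtain ⟨m, hm, t', ht'⟩ := Groth.Agent.Lib.helper12.TwistExtend.extend_top
    (Coh.structureModule X) hM (σ j) f
  obtain ⟨m, rfl⟩ : ∃ m', m = m' + 1 := ⟨m - 1, by omega⟩
  set t := ((leftUnitor (CohB1.tensorPow (CohB1.tensorPow L 2) (m + 1))).hom.val.app (op ⊤)).hom t'
    with ht
  obtain ⟨c, hc, hct⟩ := exists_ratio_smul_pow q hd hL hgg h1 σ hspan j m t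
  have h2 : resM (CohB1.tensorPow (CohB1.tensorPow L 2) (m + 1))
      (le_top : CohB1.genLocus _ (σ j) ≤ ⊤) t =
      f • SecTwist.pow (σ j) (m + 1) (CohB1.genLocus _ (σ j)) := by
    rw [ht, Groth.Agent.Lib.helper12.TwistExtend.res_app, ht']
    exact Groth.Agent.Lib.helper21.IdealPow.leftUnitor_tmul _ _ _ f
  have hV : CohB1.genLocus _ (σ j) ≤ CohB1.genLocus _ (SecTwist.powHom (σ j) (m + 1)) :=
    Groth.Agent.Lib.helper12.AmpleEventually.le_genLocus_powHom hM (σ j) (m + 1)
  have hinj := (bijective_app_of_le_genLocus (SecTwist.powHom (σ j) (m + 1)) hV).1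
  have h3 : f = c := by
    apply hinj
    change f • sec (SecTwist.powHom (σ j) (m + 1)) (CohB1.genLocus _ (σ j)) =
      c • sec (SecTwist.powHom (σ j) (m + 1)) (CohB1.genLocus _ (σ j))
    have e : sec (SecTwist.powHom (σ j) (m + 1)) (CohB1.genLocus _ (σ j)) =
        SecTwist.pow (σ j) (m + 1) (CohB1.genLocus _ (σ j)) := SecTwist.val_powHom _ _ _
    rw [e]
    exact h2.symm.trans hct
  rw [h3]
  exact hc

/-- variant over an open `W` propositionally equal to `X_{σ j}` -/
theorem adjoin_ratio_eq_top' (hd : topologicalKrullDim X ≤ 1) {L : X.Modules}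
    (hL : PicF.IsInvertible L) (hgg : Curv2.IsGloballyGenerated L)
    (h1 : Subsingleton (Coh.HH X L 1)) {n : ℕ}
    (σ : Fin (n + 1) → (Coh.structureModule X ⟶ CohB1.tensorPow L 2))
    (hspan : ∀ x : (CohB1.tensorPow L 2).val.obj (op ⊤), ∃ c : Fin (n + 1) → k,
        x = ∑ l, (Coh.toGlobal q (c l)) •
          (show (CohB1.tensorPow L 2).val.obj (op ⊤) from sec (σ l) ⊤))
    (j : Fin (n + 1)) (W : X.Opens) (hW : W = CohB1.genLocus _ (σ j)) :
    letI := (secAlg q W).toAlgebra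
    Algebra.adjoin k (Set.range fun l => ratio (σ j) (σ l) W hW.le) = ⊤ := by
  subst hW
  exact adjoin_ratio_eq_top q hd hL hgg h1 σ hspan j

end main


end Groth.Agent.Lib.helper7.VAmpSq
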