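import Mathlib
import Groth.Agent.Lib.Helper7.VAmpSqB
import Groth.Agent.Lib.Helper9.VAMain
import Groth.Agent.Lib.Helper12.UCAffine2

/-!
# `L^{⊗2}` is very ample for `L` ample, globally generated with `H¹(L) = 0` on a proper curve (helper7)
-/

set_option autoImplicit false
set_option linter.style.haveILetI false
set_option backward.isDefEq.respectTransparency false

universe u

open CategoryTheory CategoryTheory.Limits AlgebraicGeometry Opposite TopologicalSpace Module
open Scheme.Modules

namespace Groth.Agent.Lib.helper7.VAmpSq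

open Groth.Agent.Lib.Helper18 Groth.Agent.Lib.helper11.IsoLocus Groth.Agent.Lib.helper11.InvMod
open Groth.Agent.Lib.helper11.GenLocus Groth.Agent.Lib.helper12.ProjUP3
open Groth.Agent.Lib.helper12.ProjUP4 Groth.Agent.Lib.helper12.ProjUP5 Groth.Agent.Lib.helper12.ProjUP6
open Groth.Agent.Lib.helper12.VAmple1
open Groth.Agent.Lib.helper9.VAPrep Groth.Agent.Lib.helper9.VAChart Groth.Agent.Lib.helper9.VAMain
open Groth.Agent.Lib.helper8.FlatCohBC Groth.Agent.Lib.helper16.SepPts
open Groth.Agent.Lib.helper12.GGTensor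

variable (k : Type u) [Field k] (X : Scheme.{u}) [X.Over (Spec (CommRingCat.of k))]
  [IsProper (X ↘ Spec (CommRingCat.of k))]

/-- a globally generated invertible module on a nonempty proper scheme has a nonzero global section -/
theorem finrank_pos_of_gg [Nonempty X] {M : X.Modules} (hM : PicF.IsInvertible M)
    (hgg : Curv2.IsGloballyGenerated M) : 0 < finrank k (Coh.HH X M 0) := by
  have hMc : Coh.IsCoh M := Groth.Agent.Lib.Lead.CurveInv.isCoh_of_isInvertible X hM
  haveI : Module.Finite k (Coh.HH X M 0) := Groth.Agent.Lib.Lead.ProperEuler.finite_HH k X _ hMc 0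
  obtain ⟨ι, p, hp⟩ := hgg
  obtain ⟨y⟩ := ‹Nonempty X›
  obtain ⟨i, hi⟩ := Groth.Agent.Lib.helper12.GlobGen.exists_mem_genLocus_of_epi hM p y
  set t : Coh.structureModule X ⟶ M := SheafOfModules.ιFree i ≫ p with ht
  rw [Module.finrank_pos_iff_exists_ne_zero]
  refine ⟨(HH.equiv₀ M).symm (sec t ⊤), fun h0 => ?_⟩
  have h1 : sec t ⊤ = 0 := by
    have := congrArg (HH.equiv₀ M) h0
    rwa [LinearEquiv.apply_symm_apply, map_zero] at this
  have h2 : sec t (CohB1.genLocus M t) = 0 := by
    rw [← res_sec t (homOfLE (le_top : CohB1.genLocus M t ≤ ⊤)), h1]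
    exact map_zero (M.presheaf.map (homOfLE le_top).op).hom
  have hinj := (bijective_app_of_le_genLocus t (le_refl (CohB1.genLocus M t))).1
  have h3 : (1 : Γ(X, CohB1.genLocus M t)) = 0 := by
    apply hinj
    change (1 : Γ(X, CohB1.genLocus M t)) • sec t (CohB1.genLocus M t) =
      (0 : Γ(X, CohB1.genLocus M t)) • sec t (CohB1.genLocus M t)
    rw [h2, smul_zero, smul_zero]
  have h4 := congrArg (X.presheaf.germ (CohB1.genLocus M t) y hi).hom h3
  rw [map_one, map_zero] at h4
  exact one_ne_zero h4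

theorem nonempty_of_dim_eq_one (hdim : topologicalKrullDim X = 1) : Nonempty X := by
  by_contra hne
  rw [not_nonempty_iff] at hne
  have : topologicalKrullDim X = ⊥ := by
    unfold topologicalKrullDim
    rw [Order.krullDim_eq_bot_iff]
    exact ⟨fun s => hne.elim s.2.1.nonempty.some⟩
  rw [this] at hdim
  exact absurd hdim (by simp)


set_option maxHeartbeats 1600000 in
/-- **Very ampleness of the square**: on a proper one-dimensional scheme over a field, an ample globally generated
invertible module `L` with `H¹(L) = 0` has very ample tensor square. -/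
theorem veryAmple_tensorPow_two (hdim : topologicalKrullDim X = 1) (L : X.Modules)
    (hL : PicF.IsInvertible L) (hgg : Curv2.IsGloballyGenerated L)
    (h1 : Subsingleton (Coh.HH X L 1)) (hample : CohB1.IsAmple L) :
    ∃ (n : ℕ) (i : X ⟶ CohB1.ProjSpace n k), IsClosedImmersion i ∧
      i ≫ CohB1.ProjSpace.toSpec n k = X ↘ Spec (CommRingCat.of k) ∧
      Nonempty ((Scheme.Modules.pullback i).obj (Twist.twistProjSpace n k 1) ≅
        CohB1.tensorPow L 2) := by
  haveI : CompactSpace X := Groth.Agent.Lib.Lead.ProperEuler.compactSpace k X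
  haveI : QuasiSeparatedSpace X := Groth.Agent.Lib.Lead.ProperEuler.quasiSeparatedSpace k X
  haveI : Nonempty X := nonempty_of_dim_eq_one X hdim
  have hdim' : topologicalKrullDim X ≤ 1 := hdim.le
  have hM : PicF.IsInvertible (CohB1.tensorPow L 2) :=
    Groth.Agent.Lib.helper12.TensorInv.isInvertible_tensorPow hL 2
  have hMc := Groth.Agent.Lib.Lead.CurveInv.isCoh_of_isInvertible X hM
  have hggM : Curv2.IsGloballyGenerated (CohB1.tensorPow L 2) := gg_tensorPow hgg 2
  have hMample : CohB1.IsAmple (CohB1.tensorPow L 2) :=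
    (Groth.Agent.Lib.helper12.AmplePow.isAmple_tensorPow_iff hL 2 two_pos).mp hample
  have hpos := finrank_pos_of_gg k X hM hggM
  obtain ⟨n, σ, hspan⟩ := exists_spanning_sections k X (CohB1.tensorPow L 2) hMc hpos
  have hgen : ∀ y : X, ∃ t : Coh.structureModule X ⟶ CohB1.tensorPow L 2, y ∈ isoLocus t := by
    intro y
    obtain ⟨ι, p, hp⟩ := hggM
    obtain ⟨i, hi⟩ := Groth.Agent.Lib.helper12.GlobGen.exists_mem_genLocus_of_epi hM p y
    exact ⟨_, hi⟩
  have hcov : ⨆ i, gU σ i = ⊤ :=
    iSup_gU_eq_top (X ↘ Spec (CommRingCat.of k)) hM σ hspan hgen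
  obtain ⟨r, hr⟩ := exists_toProj (X ↘ Spec (CommRingCat.of k)) σ hcov
  obtain ⟨τ, hτ⟩ := exists_iso_nu (X ↘ Spec (CommRingCat.of k)) σ r hr hcov
  have hrq := toProj_toSpec (X ↘ Spec (CommRingCat.of k)) σ hcov r hr
  have hpre : ∀ j, r ⁻¹ᵁ Dp k n j = CohB1.genLocus (CohB1.tensorPow L 2) (σ j) :=
    fun j => preimage_Dp_eq r σ τ hτ j
  have haff : ∀ j, IsAffineOpen (r ⁻¹ᵁ Dp k n j) := by
    intro j
    rw [hpre j]
    exact Groth.Agent.Lib.Helper12.UCAffine.isAffineOpen_genLocus_of_universallyClosed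
      (X ↘ Spec (CommRingCat.of k)) _ hMample (σ j)
  have hsurj : ∀ j, Function.Surjective (r.app (Dp k n j)).hom := by
    intro j
    apply surjective_app_of_adjoin_eq_top (X ↘ Spec (CommRingCat.of k)) r hrq j
    have h := adjoin_ratio_eq_top' (X ↘ Spec (CommRingCat.of k)) hdim' hL hgg h1 σ hspan j
      (r ⁻¹ᵁ Dp k n j) (hpre j)
    have hfun : (fun l => ratio (σ j) (σ l) (r ⁻¹ᵁ Dp k n j) (hpre j).le) =
        fun l => (r.app (Dp k n j)).hom (cP k n j l) :=
      funext fun l => ratio_sigma_app r σ τ hτ j l (hpre j).le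
    rw [hfun] at h
    exact h
  exact ⟨n, r, isClosedImmersion_of_surjective r haff hsurj, hrq, ⟨τ⟩⟩

end Groth.Agent.Lib.helper7.VAmpSq
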