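import Mathlib
import Groth.Agent.Lib.Helper7.VAmpSqC
import Groth.Agent.Lib.Helper21.ZeroConn4
import Groth.Agent.Lib.Helper18.TensorGen
import Groth.Agent.Lib.Helper18.SemiLocalGen
import Groth.Agent.Lib.Helper18.ZeroSchemeDiv
import Groth.Agent.Lib.Helper12.GGPunctual
import Groth.Agent.Lib.Helper12.GGExt
import Groth.Agent.Lib.Helper9.CurveHopf
import Groth.Agent.Lib.Helper9.CurveGG
import Groth.Agent.Lib.Helper11.SerreGG
import Groth.Agent.Lib.Lead.CurveInv
import Groth.Agent.Lib.Lead.DimOneVanish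
import Groth.Agent.Lib.Lead.DimOneAffine
import Groth.Agent.Lib.Helper7.KerSections

/-!
# Invertible modules with a regular section on one-dimensional schemes (helper7)

`s : O ⟶ L` a monomorphism, `dim X ≤ 1`:
* points outside `X_s` are closed;
* multiplication by `s`, `mulS s G : G ⟶ G ⊗ L`, is mono for invertible `G`, an isomorphism over `X_s`;
* `H¹(G) = 0 ⇒ H¹(G ⊗ L) = 0`, and `G ⊗ L` is generated by a global section at every point outside `X_s`.
-/

set_option autoImplicit false
set_option linter.style.haveILetI false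
set_option linter.unusedSectionVars false
set_option linter.unusedVariables false

universe u

open CategoryTheory CategoryTheory.Limits AlgebraicGeometry Opposite TopologicalSpace
open Scheme.Modules

namespace Groth.Agent.Lib.helper7.RegSec

open Groth.Agent.Lib.helper11.IsoLocus Groth.Agent.Lib.helper11.GenLocus
open Groth.Agent.Lib.Helper18.InvGen Groth.Agent.Lib.Helper18.ZeroSchemeIdeal
open Groth.Agent.Lib.Helper18.ZeroSchemeDiv Groth.Agent.Lib.helper21.ZeroConn
open Groth.Agent.Lib.Lead.ModTensor Groth.Agent.Lib.helper12.PullTensor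
open Groth.Agent.Lib.helper12.AmpleBasis

variable {X : Scheme.{u}}

/-- sections of a monomorphism are injective -/
theorem injective_app_of_mono {F G : X.Modules} (φ : F ⟶ G) [Mono φ] (V : X.Opens) :
    Function.Injective (φ.app V).hom :=
  (Groth.Agent.Lib.helper7.KerSections.sections_leftExact
    (ShortComplex.mk φ (cokernel.π φ) (cokernel.condition φ))
    (ShortComplex.exact_of_g_is_cokernel _ (cokernelIsCokernel φ)) V).1

/-- **points outside `X_s` are closed**, for a regular section `s` on a scheme of dimension `≤ 1` -/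
theorem isClosed_singleton_of_not_mem_genLocus (hdim : topologicalKrullDim X ≤ 1) {L : X.Modules}
    (hL : PicF.IsInvertible L) (s : Coh.structureModule X ⟶ L) [Mono s] (x : X)
    (hx : x ∉ CohB1.genLocus L s) : IsClosed ({x} : Set X) := by
  apply Groth.Agent.Lib.Lead.DimOneAffine.isClosed_singleton_of_dim_le_one X hdim x
  intro hgen
  obtain ⟨W, ℓ, hW, hxW, -, hℓ⟩ := exists_isGen hL x ⊤ trivial
  obtain ⟨f, hf⟩ := exists_coeff hℓ s
  have hxf : x ∉ X.basicOpen f := fun h =>
    hx ((mem_genLocus_iff_of_isGen s hℓ f hf x hxW).mpr h)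
  set p := hW.primeIdealOf ⟨x, hxW⟩ with hp
  have hpx : hW.fromSpec p = x := hW.fromSpec_primeIdealOf ⟨x, hxW⟩
  have hfp : f ∈ p.asIdeal := by
    by_contra hnot
    apply hxf
    have h2 : hW.fromSpec ⁻¹ᵁ X.basicOpen f = PrimeSpectrum.basicOpen f :=
      hW.fromSpec_preimage_basicOpen f
    have h3 : p ∈ hW.fromSpec ⁻¹ᵁ X.basicOpen f := by rw [h2]; exact hnot
    rw [← hpx]; exact h3
  have hmin : p.asIdeal ∈ minimalPrimes Γ(X, W) := by
    refine ⟨⟨p.2, bot_le⟩, fun q hq hqp => ?_⟩
    have hq' : q.IsPrime := hq.1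
    have h1 : (⟨q, hq'⟩ : PrimeSpectrum Γ(X, W)) ⤳ p :=
      (PrimeSpectrum.le_iff_specializes _ _).mp hqp
    have h2 : hW.fromSpec ⟨q, hq'⟩ ⤳ hW.fromSpec p := h1.map hW.fromSpec.continuous
    rw [hpx] at h2
    set y := hW.fromSpec ⟨q, hq'⟩ with hy
    have h3 : closure ({x} : Set X) ⊆ closure {y} := specializes_iff_closure_subset.mp h2
    have h4 : closure ({y} : Set X) ⊆ closure {x} :=
      hgen.2 isIrreducible_singleton.closure h3
    have h5 : x ⤳ y := specializes_iff_closure_subset.mpr h4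
    have h6 : y = x := (h2.antisymm h5).eq
    have h7 : (⟨q, hq'⟩ : PrimeSpectrum Γ(X, W)) = p :=
      hW.fromSpec.isOpenEmbedding.injective (h6.trans hpx.symm)
    exact (congrArg PrimeSpectrum.asIdeal h7).ge
  have hdisj := Ideal.disjoint_nonZeroDivisors_of_mem_minimalPrimes hmin
  have hnzd : f ∈ nonZeroDivisors Γ(X, W) := by
    rw [mem_nonZeroDivisors_iff_right]
    intro g hg
    have hinj := injective_app_of_mono s W
    apply hinj
    have hf' : sec s W = f • ℓ := hf.symm
    have h8 : (s.app W).hom (g : Γ(Coh.structureModule X, W)) = 0 := by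
      refine (app_apply s W g).trans ?_
      rw [hf', ← mul_smul, hg, zero_smul]
    exact h8.trans (map_zero (s.app W).hom).symm
  exact Set.disjoint_left.mp hdisj hfp hnzd

/-! ### Multiplication by `s` -/

/-- multiplication by the section `s`: `G ⟶ G ⊗ L` -/
noncomputable def mulS {L : X.Modules} (s : Coh.structureModule X ⟶ L) (G : X.Modules) :
    G ⟶ CohB1.tensorMod G L :=
  (SecTwist.unitorR G).inv ≫ tensorMap (𝟙 G) s

theorem mulS_apply {L : X.Modules} (s : Coh.structureModule X ⟶ L) (G : X.Modules)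
    (W : X.Opens) (t : G.val.obj (op W)) :
    ((mulS s G).val.app (op W)).hom t = SecTwist.tmul G L W t (sec s W) := by
  change ((tensorMap (𝟙 G) s).val.app (op W)).hom
    (((SecTwist.unitorR G).inv.val.app (op W)).hom t) = _
  refine (congrArg ((tensorMap (𝟙 G) s).val.app (op W)).hom (unitorR_inv_apply G W t)).trans ?_
  exact (tensorMap_tmul (𝟙 G) s W t _).trans rfl

theorem genLocus_le_isoLocus_mulS {L : X.Modules} (s : Coh.structureModule X ⟶ L)
    (G : X.Modules) : CohB1.genLocus L s ≤ isoLocus (mulS s G) := by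
  unfold mulS
  rw [isoLocus_comp_of_isIso_left]
  refine le_trans ?_ (isoLocus_inf_le_tensorMap (𝟙 G) s)
  rw [isoLocus_id, top_inf_eq]
  exact le_rfl

theorem mono_mulS {L : X.Modules} (s : Coh.structureModule X ⟶ L) [Mono s] {G : X.Modules}
    (hG : PicF.IsInvertible G) : Mono (mulS s G) := by
  have hG' : FlatMod.IsFinLocFree G :=
    Groth.Agent.Lib.helper16.FLF.isFinLocFree_of_isFinLocFreeOfRank
      ((Groth.Agent.Lib.helper16.FLF.isInvertible_iff_isFinLocFreeOfRank_one G).1 hG)
  haveI := Groth.Agent.Lib.helper9.CurveHopf.mono_tensorMap_right_of_isFinLocFree s hG'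
  unfold mulS
  exact mono_comp _ _

theorem shortExact_mulS {L : X.Modules} (s : Coh.structureModule X ⟶ L) [Mono s] {G : X.Modules}
    (hG : PicF.IsInvertible G) :
    (ShortComplex.mk (mulS s G) (cokernel.π (mulS s G)) (cokernel.condition _)).ShortExact := by
  haveI := mono_mulS s hG
  exact { exact := ShortComplex.exact_of_g_is_cokernel _ (cokernelIsCokernel _) }

theorem sections_cokernel_mulS {L : X.Modules} (s : Coh.structureModule X ⟶ L) (G : X.Modules)
    (O : X.Opens) (hO : O ≤ CohB1.genLocus L s) : Subsingleton Γ(cokernel (mulS s G), O) :=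
  Groth.Agent.Lib.Lead.CurveInv.sections_cokernel_subsingleton (mulS s G) O
    (hO.trans (genLocus_le_isoLocus_mulS s G))

/-- `H¹(G) = 0 ⇒ H¹(G ⊗ L) = 0` when `L` has a regular section vanishing only at closed points -/
theorem subsingleton_H1_tensor [IsLocallyNoetherian X] {L : X.Modules}
    (s : Coh.structureModule X ⟶ L) [Mono s]
    (hcl : ∀ x : X, x ∉ CohB1.genLocus L s → IsClosed ({x} : Set X))
    {G : X.Modules} (hG : PicF.IsInvertible G) (hH : Subsingleton (Coh.HH X G 1)) :
    Subsingleton (Coh.HH X (CohB1.tensorMod G L) 1) := by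
  have hS := shortExact_mulS s hG
  have h3 : Subsingleton (Coh.HH X (cokernel (mulS s G)) 1) :=
    Groth.Agent.Lib.Lead.DimOneVanish.subsingleton_HH_of_sections_vanish _ (CohB1.genLocus L s) hcl
      (sections_cokernel_mulS s G) 0
  exact Groth.Agent.Lib.Helper18.HH.subsingleton_X₂ hS 1 hH h3

open Groth.Agent.Lib.helper12.TwistExtend in
/-- **a section generating at a zero of `s`**: if `H¹(G) = 0` then `G ⊗ L` is generated by a global section at every
point where the regular section `s` of `L` vanishes -/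
theorem exists_section_mem_genLocus [IsLocallyNoetherian X] {L : X.Modules} (hL : PicF.IsInvertible L)
    (s : Coh.structureModule X ⟶ L) [Mono s]
    (hcl : ∀ x : X, x ∉ CohB1.genLocus L s → IsClosed ({x} : Set X))
    {G : X.Modules} (hG : PicF.IsInvertible G) (hH : Subsingleton (Coh.HH X G 1))
    (x : X) (hx : x ∉ CohB1.genLocus L s) :
    ∃ t : Coh.structureModule X ⟶ CohB1.tensorMod G L, x ∈ CohB1.genLocus _ t := by
  have hS := shortExact_mulS s hG
  haveI : Mono (mulS s G) := mono_mulS s hG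
  have hsurj : Function.Surjective ((cokernel.π (mulS s G)).val.app (op ⊤)).hom :=
    Groth.Agent.Lib.helper12.GGExt.surjective_app_top_of_H1 hS hH
  obtain ⟨W₁, ℓ₁, -, hxW₁, -, hℓ₁⟩ := exists_isGen hL x ⊤ trivial
  obtain ⟨W₂, α₂, -, hxW₂, -, hα₂⟩ := exists_isGen hG x ⊤ trivial
  let W : X.Opens := W₁ ⊓ W₂
  have hxW : x ∈ W := ⟨hxW₁, hxW₂⟩
  let ℓ : Γ(L, W) := L.presheaf.map (homOfLE (inf_le_left : W ≤ W₁)).op ℓ₁
  let α : Γ(G, W) := G.presheaf.map (homOfLE (inf_le_right : W ≤ W₂)).op α₂
  have hℓ : IsGen L W ℓ := hℓ₁.res _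
  have hα : IsGen G W α := hα₂.res _
  let β : Γ(CohB1.tensorMod G L, W) := SecTwist.tmul G L W α ℓ
  have hβ : IsGen (CohB1.tensorMod G L) W β := Groth.Agent.Lib.Helper18.TensorGen.isGen_tmul hα hℓ
  -- extend `π(β)` to a global section of the cokernel and lift it
  obtain ⟨c, hc⟩ := Groth.Agent.Lib.helper12.GGPunctual.exists_global_of_sections_vanish
    (cokernel (mulS s G)) (CohB1.genLocus L s) hcl (sections_cokernel_mulS s G) W
    (((cokernel.π (mulS s G)).val.app (op W)).hom β)
  obtain ⟨b, hb⟩ := hsurj c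
  let bW : Γ(CohB1.tensorMod G L, W) :=
    Groth.Agent.Lib.helper12.TwistExtend.res (CohB1.tensorMod G L) (le_top : W ≤ ⊤) b
  have hker : ((cokernel.π (mulS s G)).val.app (op W)).hom (bW - β) = 0 := by
    have e1 : ((cokernel.π (mulS s G)).val.app (op W)).hom bW =
        ((cokernel.π (mulS s G)).val.app (op W)).hom β :=
      (Groth.Agent.Lib.helper12.TwistExtend.res_app (cokernel.π (mulS s G)) (le_top : W ≤ ⊤) b).symm.trans
        ((congrArg (Groth.Agent.Lib.helper12.TwistExtend.res (cokernel (mulS s G)) (le_top : W ≤ ⊤)) hb).trans hc)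
    exact (map_sub ((cokernel.π (mulS s G)).val.app (op W)).hom
      (show (CohB1.tensorMod G L).val.obj (op W) from bW) β).trans (sub_eq_zero.mpr e1)
  obtain ⟨a, ha⟩ := (Groth.Agent.Lib.helper7.KerSections.sections_leftExact _ hS.exact W).2
    (bW - β) hker
  have ha' : SecTwist.tmul G L W a (sec s W) = bW - β := (mulS_apply s G W a).symm.trans ha
  obtain ⟨r, hr⟩ := hα.exists_smul_eq le_rfl a
  rw [map_refl_apply] at hr
  obtain ⟨f, hf⟩ := exists_coeff hℓ s
  obtain ⟨g, hg⟩ := hβ.exists_smul_eq le_rfl bW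
  rw [map_refl_apply] at hg
  have h1 : SecTwist.tmul G L W a (sec s W) = (r * f) • β := by
    have hf' : sec s W = f • ℓ := hf.symm
    rw [← hr, hf']
    refine (tmul_smul_left G L W r α (f • ℓ)).trans ?_
    refine (congrArg (fun z => r • z)
      (Groth.Agent.Lib.helper11.TensorEpi.tmul_smul_right G L W f α ℓ)).trans ?_
    exact smul_smul r f β
  have h2 : (r * f) • β = (g - 1) • β := by
    rw [sub_smul, one_smul, hg, ← h1, ha']
  have h3 : r * f = g - 1 := by
    refine hβ.smul_injective le_rfl (r * f) (g - 1) ?_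
    rw [map_refl_apply]
    exact h2
  have hxf : x ∉ X.basicOpen f := fun h =>
    hx ((mem_genLocus_iff_of_isGen s hℓ f hf x hxW).mpr h)
  have hxg : x ∈ X.basicOpen g := by
    rw [X.mem_basicOpen g x hxW]
    have hnf : ¬ IsUnit (X.presheaf.germ W x hxW f) := fun h =>
      hxf ((X.mem_basicOpen f x hxW).mpr h)
    by_contra hng
    have hgm : X.presheaf.germ W x hxW g ∈ IsLocalRing.maximalIdeal (X.presheaf.stalk x) := hng
    have hfm : X.presheaf.germ W x hxW f ∈ IsLocalRing.maximalIdeal (X.presheaf.stalk x) := hnf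
    have h4 : (1 : X.presheaf.stalk x) =
        X.presheaf.germ W x hxW g - X.presheaf.germ W x hxW r * X.presheaf.germ W x hxW f := by
      rw [← map_mul, ← map_sub, h3, sub_sub_cancel, map_one]
    have h5 : (1 : X.presheaf.stalk x) ∈ IsLocalRing.maximalIdeal (X.presheaf.stalk x) := by
      rw [h4]
      exact Ideal.sub_mem _ hgm (Ideal.mul_mem_left _ _ hfm)
    exact (IsLocalRing.maximalIdeal.isMaximal (X.presheaf.stalk x)).ne_top
      ((Ideal.eq_top_iff_one _).mpr h5)
  refine ⟨homOfSec (CohB1.tensorMod G L) b,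
    (mem_genLocus_iff_of_isGen (homOfSec (CohB1.tensorMod G L) b) hβ g ?_ x hxW).mpr hxg⟩
  exact hg.trans (val_homOfSec (CohB1.tensorMod G L) b W).symm

section curve

variable (k : Type u) [Field k] (X : Scheme.{u}) [X.Over (Spec (CommRingCat.of k))]
  [IsProper (X ↘ Spec (CommRingCat.of k))]

include k in
/-- `H¹(L^{⊗(n+1)}) = 0` for `L` with a regular section and `H¹(L) = 0` on a proper scheme of dimension `≤ 1` -/
theorem subsingleton_H1_tensorPow (hdim : topologicalKrullDim X ≤ 1) {L : X.Modules}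
    (hL : PicF.IsInvertible L) (s : Coh.structureModule X ⟶ L) [Mono s]
    (h1 : Subsingleton (Coh.HH X L 1)) (n : ℕ) :
    Subsingleton (Coh.HH X (CohB1.tensorPow L (n + 1)) 1) := by
  haveI := Groth.Agent.Lib.Lead.CurveEuler.isNoetherian k X
  have hcl := fun x hx => isClosed_singleton_of_not_mem_genLocus hdim hL s x hx
  induction n with
  | zero =>
    exact Groth.Agent.Lib.Lead.DimOneVanish.subsingleton_HH_of_iso (tensorPowOne L) 1 h1
  | succ n ih =>
    exact subsingleton_H1_tensor s hcl
      (Groth.Agent.Lib.helper12.TensorInv.isInvertible_tensorPow hL (n + 1)) ih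

include k in
/-- `L^{⊗(n+2)}` is globally generated -/
theorem gg_tensorPow_of_regular (hdim : topologicalKrullDim X ≤ 1) {L : X.Modules}
    (hL : PicF.IsInvertible L) (s : Coh.structureModule X ⟶ L) [Mono s]
    (h1 : Subsingleton (Coh.HH X L 1)) (n : ℕ) :
    Curv2.IsGloballyGenerated (CohB1.tensorPow L (n + 2)) := by
  haveI := Groth.Agent.Lib.Lead.CurveEuler.isNoetherian k X
  have hcl := fun x hx => isClosed_singleton_of_not_mem_genLocus hdim hL s x hx
  apply Groth.Agent.Lib.helper11.SerreGG.isGloballyGenerated_of_genAt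
  intro y
  suffices h : ∃ t : Coh.structureModule X ⟶ CohB1.tensorPow L (n + 2), y ∈ isoLocus t by
    obtain ⟨t, ht⟩ := h
    exact Groth.Agent.Lib.helper9.CurveGG.genAt_of_mem_isoLocus t ht
  by_cases hy : y ∈ CohB1.genLocus L s
  · exact ⟨SecTwist.powHom s (n + 2),
      Groth.Agent.Lib.helper12.AmpleEventually.le_genLocus_powHom hL s (n + 2) hy⟩
  · exact exists_section_mem_genLocus hL s hcl
      (Groth.Agent.Lib.helper12.TensorInv.isInvertible_tensorPow hL (n + 1))
      (subsingleton_H1_tensorPow k X hdim hL s h1 n) y hy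

set_option maxHeartbeats 800000 in
/-- **`L^{⊗6}` is very ample** for an ample `L` with a regular section and `H¹(L) = 0` on a proper one-dimensional
scheme over a field -/
theorem veryAmple_tensorPow_six (hdim : topologicalKrullDim X = 1) (L : X.Modules)
    (hL : PicF.IsInvertible L) (s : Coh.structureModule X ⟶ L) [Mono s]
    (h1 : Subsingleton (Coh.HH X L 1)) (hample : CohB1.IsAmple L) :
    ∃ (n : ℕ) (i : X ⟶ CohB1.ProjSpace n k), IsClosedImmersion i ∧
      i ≫ CohB1.ProjSpace.toSpec n k = X ↘ Spec (CommRingCat.of k) ∧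
      Nonempty ((Scheme.Modules.pullback i).obj (Twist.twistProjSpace n k 1) ≅
        CohB1.tensorPow L 6) := by
  have hA : PicF.IsInvertible (CohB1.tensorPow L 3) :=
    Groth.Agent.Lib.helper12.TensorInv.isInvertible_tensorPow hL 3
  have hgg : Curv2.IsGloballyGenerated (CohB1.tensorPow L 3) :=
    gg_tensorPow_of_regular k X hdim.le hL s h1 1
  have hH : Subsingleton (Coh.HH X (CohB1.tensorPow L 3) 1) :=
    subsingleton_H1_tensorPow k X hdim.le hL s h1 2
  have hAample : CohB1.IsAmple (CohB1.tensorPow L 3) :=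
    (Groth.Agent.Lib.helper12.AmplePow.isAmple_tensorPow_iff hL 3 (by norm_num)).mp hample
  obtain ⟨n, i, hi, hcomp, ⟨e⟩⟩ := Groth.Agent.Lib.helper7.VAmpSq.veryAmple_tensorPow_two k X hdim
    (CohB1.tensorPow L 3) hA hgg hH hAample
  exact ⟨n, i, hi, hcomp, ⟨e ≪≫ Groth.Agent.Lib.helper12.TensorPowAdd.tensorPowMul L 3 2⟩⟩

end curve

end Groth.Agent.Lib.helper7.RegSec
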