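import Groth.Agent.Lib.Helper7.OmegaSeqAlg5

/-!
# Regular sections: the conormal module is free on the images of the generators (helper7)
-/

set_option autoImplicit false
set_option linter.style.haveILetI false
set_option linter.unusedSectionVars false
universe u
open TensorProduct

namespace Groth.Agent.Lib.helper7.OmegaSeqAlg

open Groth.Agent.Lib.helper8.PullbackUnit

section FreeBij

variable {B : Type u} [CommRing B] {n : ℕ} (b : Fin n → B)
variable (R : Type u) [CommRing R] [Algebra B R]
  (hBR : Function.Surjective (algebraMap B R))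
  {MKB N₃ : Type u} [AddCommGroup MKB] [Module B MKB] [AddCommGroup N₃] [Module R N₃]
  (ιKB : MKB →ₗ[B] B) (hιKBinj : Function.Injective ιKB)
  (hιKB : Set.range ιKB = (RingHom.ker (algebraMap B R) : Set B))
  (q₃ : MKB →+ N₃) (hq₃ : IsBC (algebraMap B R) q₃)
  (hb : CAlgX.IsH1Regular b)
  (hgen : RingHom.ker (algebraMap B R) = Ideal.span (Set.range b))

include hBR hιKBinj hιKB hq₃ hb hgen in
/-- the classes of lifts of an `H_1`-regular generating sequence form a basis of the conormal
module -/
theorem linearCombination_bijective (t : Fin n → MKB) (ht : ∀ i, ιKB (t i) = b i) :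
    Function.Bijective (Fintype.linearCombination R (fun i => q₃ (t i))) := by
  set I := RingHom.ker (algebraMap B R) with hI
  have hbI : ∀ i, b i ∈ I := fun i => by rw [hgen]; exact Ideal.subset_span ⟨i, rfl⟩
  let L : (Fin n → R) →ₗ[R] N₃ := Fintype.linearCombination R (fun i => q₃ (t i))
  have hL : ∀ c : Fin n → B, L (fun i => algebraMap B R (c i)) = q₃ (∑ i, c i • t i) := by
    intro c
    rw [Fintype.linearCombination_apply, map_sum]
    exact Finset.sum_congr rfl (fun i _ => (hq₃.map_smul _ _).symm)
  have hι : ∀ c : Fin n → B, ιKB (∑ i, c i • t i) = ∑ i, c i * b i := by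
    intro c
    rw [map_sum]
    exact Finset.sum_congr rfl (fun i _ => by rw [map_smul, ht, smul_eq_mul])
  have hsurj : Function.Surjective L := by
    intro y
    obtain ⟨sb, rfl⟩ := surjective_of_isBC hBR hq₃ y
    have h1 : ιKB sb ∈ Ideal.span (Set.range b) := by
      rw [← hgen]
      have : ιKB sb ∈ Set.range ιKB := ⟨sb, rfl⟩
      rw [hιKB] at this; exact this
    obtain ⟨c, hc⟩ := (Ideal.mem_span_range_iff_exists_fun).mp h1
    refine ⟨fun i => algebraMap B R (c i), ?_⟩
    rw [hL]
    congr 1
    exact hιKBinj ((hι c).trans hc)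
  have hinj : Function.Injective L := by
    rw [injective_iff_map_eq_zero]
    intro r hr
    choose c hc using fun i => hBR (r i)
    have hr' : r = fun i => algebraMap B R (c i) := funext (fun i => (hc i).symm)
    rw [hr', hL] at hr
    have h1 := mem_smul_top_of_isBC_eq_zero hBR hq₃ _ hr
    have h2 := ιK_mem_mul B R ιKB hιKB _ h1
    rw [hι] at h2
    have h3 : ∑ i, c i * b i ∈ I * Ideal.span (Set.range b) := by rw [← hgen]; exact h2
    obtain ⟨d, hd, hde⟩ := exists_coeff_mem b I _ h3
    have h4 : ∑ i, (c i - d i) * b i = 0 := by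
      simp only [sub_mul, Finset.sum_sub_distrib, hde, sub_self]
    have h5 := coord_mem_of_span b I hbI _ (hb (fun i => c i - d i) h4)
    funext i
    have h6 : c i ∈ I := by
      have := I.add_mem (h5 i) (hd i)
      simpa using this
    rw [hr']
    exact RingHom.mem_ker.mp h6
  exact ⟨hinj, hsurj⟩

variable {EU P : Type u} [AddCommGroup EU] [Module B EU] [AddCommGroup P] [Module R P]
  (β : Module.Basis (Fin n) B EU) (τ : EU →ₗ[B] MKB) (hτ : ∀ k, ιKB (τ (β k)) = b k)
  (qE : EU →+ P) (hqE : IsBC (algebraMap B R) qE)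
  (φ : P →ₗ[R] N₃) (hφ : ∀ e, φ (qE e) = q₃ (τ e))

include hBR hιKBinj hιKB hq₃ hb hgen hτ hqE hφ in
/-- the base change of a regular section `τ : E → I` is bijective onto the conormal module -/
theorem regularSection_bijective : Function.Bijective φ := by
  have hL := linearCombination_bijective b R hBR ιKB hιKBinj hιKB q₃ hq₃ hb hgen
    (fun k => τ (β k)) hτ
  -- the basis of `P`
  obtain ⟨e, he⟩ := exists_equiv_of_isBC hqE
  let βR : Module.Basis (Fin n) R (R ⊗[B] EU) := β.baseChange R
  let βP : Module.Basis (Fin n) R P := βR.map e.symm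
  have hβP : ∀ k, βP k = qE (β k) := by
    intro k
    show e.symm (βR k) = qE (β k)
    rw [LinearEquiv.symm_apply_eq, he]
    exact Module.Basis.baseChange_apply R β k
  have hcomp : ∀ c : Fin n → R,
      φ (βP.equivFun.symm c) = Fintype.linearCombination R (fun i => q₃ (τ (β i))) c := by
    intro c
    rw [Module.Basis.equivFun_symm_apply, map_sum, Fintype.linearCombination_apply]
    refine Finset.sum_congr rfl (fun i _ => ?_)
    rw [map_smul, hβP, hφ]
  have h1 : (φ : P → N₃) = (Fintype.linearCombination R (fun i => q₃ (τ (β i)))) ∘ βP.equivFun := by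
    funext p
    have := hcomp (βP.equivFun p)
    rw [LinearEquiv.symm_apply_apply] at this
    exact this
  rw [h1]
  exact hL.comp βP.equivFun.bijective

end FreeBij

end Groth.Agent.Lib.helper7.OmegaSeqAlg
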