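import Mathlib
import Groth.Agent.Lib.Helper7.RelFib3
import Groth.Agent.Lib.Helper9.CurveTwist
import Groth.Agent.Lib.Helper11.SerreGG
import Groth.Agent.Lib.Helper9.CurveGG

/-!
# Relatively nef invertible modules on proper schemes with fibres of dimension `≤ 1`, `H¹(O_X) = 0` (helper7)

* `deg_pullback_of_isIso`: the degree is invariant under isomorphisms of `k`-schemes.
* `nef_fib`: relative nefness restricts to nefness on the fibres.
* `subsingleton_H1_of_relNef`, `exists_section_mem_genLocus_of_relNef`, `gg_of_relNef`.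
-/

set_option autoImplicit false
set_option linter.style.haveILetI false
set_option linter.unusedSectionVars false
universe u
open CategoryTheory CategoryTheory.Limits AlgebraicGeometry Opposite TopologicalSpace Module

namespace Groth.Agent.Lib.helper7.RelFib

open Formal Groth.Agent.Lib.helper8.FF Groth.Agent.Lib.Lead.GE Groth.Agent.Lib.Helper18
  Scheme.Modules Groth.Agent.Lib.helper11.InvMod

section UnitIso

variable {X Y : Scheme.{u}} (e : X ⟶ Y) [IsIso e]

/-- the pushforward along an isomorphism of schemes is an equivalence (copy of helper8 `GEPushAff`, to avoid the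
heavy import) -/
noncomputable def pushforwardEquivalence : X.Modules ≌ Y.Modules :=
  CategoryTheory.Equivalence.mk (pushforward e) (pushforward (inv e))
    ((pushforwardId X).symm ≪≫ pushforwardCongr (IsIso.hom_inv_id e).symm ≪≫
      (pushforwardComp e (inv e)).symm)
    (pushforwardComp (inv e) e ≪≫ pushforwardCongr (IsIso.inv_hom_id e) ≪≫ pushforwardId Y)

theorem isIso_unit_of_isIso (N : Y.Modules) :
    IsIso ((pullbackPushforwardAdjunction e).unit.app N) := by
  haveI : (pushforward e).IsEquivalence := (pushforwardEquivalence e).isEquivalence_functor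
  haveI : (Scheme.Modules.pullback e).IsEquivalence :=
    (pullbackPushforwardAdjunction e).isEquivalence_left_of_isEquivalence_right
  infer_instance

end UnitIso

section IsoInv

variable (k : Type u) [Field k] {Y Z : Scheme.{u}} [Y.Over (Spec (CommRingCat.of k))]
  [Z.Over (Spec (CommRingCat.of k))] (e : Y ⟶ Z) [IsIso e]
  (he : e ≫ (Z ↘ Spec (CommRingCat.of k)) = Y ↘ Spec (CommRingCat.of k))

include he in
theorem finrank_HH_pullback_of_isIso (M : Z.Modules) [M.IsQuasicoherent] (p : ℕ) :
    finrank k (Coh.HH Y ((Scheme.Modules.pullback e).obj M) p) = finrank k (Coh.HH Z M p) := by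
  haveI : e.IsOver (Spec (CommRingCat.of k)) := ⟨he⟩
  haveI : ((Scheme.Modules.pullback e).obj M).IsQuasicoherent :=
    Groth.Agent.Lib.helper16.QCohPullback.isQuasicoherent_pullback _ M
  haveI := isIso_unit_of_isIso e M
  rw [← HH.finrank_push e ((Scheme.Modules.pullback e).obj M) k p]
  exact (Groth.Agent.Lib.helper9.CurveTwist.finrank_HH_eq_of_iso k
    (asIso ((Scheme.Modules.pullbackPushforwardAdjunction e).unit.app M)) p).symm

include he in
theorem euler_pullback_of_isIso (M : Z.Modules) [M.IsQuasicoherent] :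
    Curv2.euler k Y ((Scheme.Modules.pullback e).obj M) = Curv2.euler k Z M := by
  unfold Curv2.euler
  congr 1
  funext i
  congr 2
  exact finrank_HH_pullback_of_isIso k e he M i

include he in
theorem deg_pullback_of_isIso (M : Z.Modules) [M.IsQuasicoherent] (n : ℕ) :
    Curv2.deg k Y ((Scheme.Modules.pullback e).obj M) n = Curv2.deg k Z M n := by
  unfold Curv2.deg
  rw [euler_pullback_of_isIso k e he M]
  congr 2
  haveI : (Coh.structureModule Z).IsQuasicoherent :=
    (Groth.Agent.Lib.Lead.CurveInv.isCoh_of_isInvertible Z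
      (isInvertible_structureModule Z)).1
  rw [← euler_pullback_of_isIso k e he (Coh.structureModule Z)]
  exact Groth.Agent.Lib.Lead.CurveEuler.euler_eq_of_iso k Y (pullbackUnitIso e).symm

end IsoInv

section Nef

variable (A : Type u) [CommRing A] [IsNoetherianRing A] (X : Scheme.{u})
  [X.Over (Spec (CommRingCat.of A))] [IsProper (X ↘ Spec (CommRingCat.of A))]
  (hfib : ∀ y : ↥(Spec (CommRingCat.of A)),
    topologicalKrullDim ↥((X ↘ Spec (CommRingCat.of A)).fiber y) ≤ 1)
  (h1 : Subsingleton (Coh.HH X (Coh.structureModule X) 1))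
  (L : X.Modules) (hL : PicF.IsInvertible L)
  (hnef : ∀ (K : Type u) [Field K] (i : A →+* K) (J : X.IdealSheafData)
      (t : J.subscheme ⟶ Spec (CommRingCat.of K)),
      AlgebraicGeometry.IsIntegral J.subscheme → topologicalKrullDim ↥J.subscheme = 1 →
      t ≫ Spec.map (CommRingCat.ofHom i) = J.subschemeι ≫ (X ↘ Spec (CommRingCat.of A)) →
      0 ≤ @Curv2.deg K _ J.subscheme ⟨t⟩ ((Scheme.Modules.pullback J.subschemeι).obj L) 1)

variable (κ : Type u) [Field κ] [Algebra A κ] (hsurj : Function.Surjective (algebraMap A κ))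

include hL hnef hsurj in
/-- relative nefness gives nefness on the fibres -/
theorem nef_fib (J' : (fib A X κ).IdealSheafData) (hint : IsIntegral J'.subscheme)
    (hdim : topologicalKrullDim J'.subscheme = 1) :
    0 ≤ @Curv2.deg κ _ J'.subscheme
      ⟨J'.subschemeι ≫ ((fib A X κ) ↘ (Spec (CommRingCat.of κ)))⟩
      ((Scheme.Modules.pullback J'.subschemeι).obj
        ((Scheme.Modules.pullback (fibι A X κ)).obj L)) 1 := by
  haveI := isClosedImmersion_fibι A X κ hsurj
  haveI := hint
  let c : J'.subscheme ⟶ X := J'.subschemeι ≫ fibι A X κ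
  haveI : IsClosedImmersion c := inferInstance
  let J : X.IdealSheafData := c.ker
  let e : J'.subscheme ⟶ J.subscheme := c.toImage
  haveI : IsIso e := inferInstanceAs (IsIso c.toImage)
  have hec : e ≫ J.subschemeι = c := c.toImage_imageι
  let t : J.subscheme ⟶ Spec (CommRingCat.of κ) := inv e ≫ J'.subschemeι ≫ fibp A X κ
  have ht : t ≫ Spec.map (CommRingCat.ofHom (algebraMap A κ)) =
      J.subschemeι ≫ (X ↘ Spec (CommRingCat.of A)) := by
    change (inv e ≫ J'.subschemeι ≫ fibp A X κ) ≫ _ = _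
    rw [Category.assoc, Category.assoc, ← (isPullback_fib A X κ).w, IsIso.inv_comp_eq,
      ← Category.assoc, ← Category.assoc, hec]
  haveI hJint : IsIntegral J.subscheme := IsIntegral.of_isIso e
  have hdimJ : topologicalKrullDim J.subscheme = 1 := by
    rw [← hdim]
    exact (IsHomeomorph.topologicalKrullDim_eq _
      (Scheme.homeoOfIso (asIso e)).isHomeomorph).symm
  have h0 := hnef κ (algebraMap A κ) J t hJint hdimJ ht
  letI i1 : J'.subscheme.Over (Spec (CommRingCat.of κ)) :=
    ⟨J'.subschemeι ≫ ((fib A X κ) ↘ (Spec (CommRingCat.of κ)))⟩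
  letI i2 : J.subscheme.Over (Spec (CommRingCat.of κ)) := ⟨t⟩
  haveI : IsProper (J'.subscheme ↘ Spec (CommRingCat.of κ)) :=
    inferInstanceAs (IsProper (J'.subschemeι ≫ ((fib A X κ) ↘ Spec (CommRingCat.of κ))))
  have he : e ≫ (J.subscheme ↘ Spec (CommRingCat.of κ)) =
      J'.subscheme ↘ Spec (CommRingCat.of κ) := by
    change e ≫ inv e ≫ J'.subschemeι ≫ fibp A X κ = J'.subschemeι ≫ fibp A X κ
    rw [IsIso.hom_inv_id_assoc]
  haveI : L.IsQuasicoherent := (Groth.Agent.Lib.Lead.CurveInv.isCoh_of_isInvertible X hL).1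
  haveI : ((Scheme.Modules.pullback J.subschemeι).obj L).IsQuasicoherent :=
    Groth.Agent.Lib.helper16.QCohPullback.isQuasicoherent_pullback _ L
  have hd := deg_pullback_of_isIso κ e he ((Scheme.Modules.pullback J.subschemeι).obj L) 1
  let θ : (Scheme.Modules.pullback e).obj ((Scheme.Modules.pullback J.subschemeι).obj L) ≅
      (Scheme.Modules.pullback J'.subschemeι).obj
        ((Scheme.Modules.pullback (fibι A X κ)).obj L) :=
    (pullbackComp e J.subschemeι).app L ≪≫ (pullbackCongr hec).app L ≪≫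
      ((pullbackComp J'.subschemeι (fibι A X κ)).app L).symm
  have hθ : Curv2.deg κ J'.subscheme
      ((Scheme.Modules.pullback e).obj ((Scheme.Modules.pullback J.subschemeι).obj L)) 1 =
      Curv2.deg κ J'.subscheme ((Scheme.Modules.pullback J'.subschemeι).obj
        ((Scheme.Modules.pullback (fibι A X κ)).obj L)) 1 := by
    unfold Curv2.deg
    rw [Groth.Agent.Lib.Lead.CurveEuler.euler_eq_of_iso κ J'.subscheme θ]
  rw [← hθ, hd]
  exact h0

include hfib h1 hL hnef hsurj in
/-- on the fibre, the pullback of a relatively nef module has no `H¹` and is globally generated -/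
theorem fibre_main_of_relNef :
    Subsingleton (Coh.HH (fib A X κ) ((Scheme.Modules.pullback (fibι A X κ)).obj L) 1) ∧
    ∀ x' : fib A X κ, ∃ t' : Coh.structureModule (fib A X κ) ⟶
        (Scheme.Modules.pullback (fibι A X κ)).obj L, x' ∈ CohB1.genLocus _ t' := by
  haveI := isClosedImmersion_fibι A X κ hsurj
  have hdim := dim_fib_le A X κ hsurj hfib
  have h1' := subsingleton_H1_unit_fib A X hfib h1 κ hsurj
  have hL' : PicF.IsInvertible ((Scheme.Modules.pullback (fibι A X κ)).obj L) :=
    isInvertible_pullback _ hL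
  have hnef' := nef_fib A X L hL hnef κ hsurj
  refine ⟨Groth.Agent.Lib.Helper18.NefH1Zero.subsingleton_H1_of_nef κ (fib A X κ) hdim h1' hL' hnef',
    fun x' => ?_⟩
  obtain ⟨ι, p, hp⟩ := Groth.Agent.Lib.Helper18.NefH1Zero.gg_of_nef κ (fib A X κ) hdim h1' hL' hnef'
  obtain ⟨i, hi⟩ := Groth.Agent.Lib.helper12.GlobGen.exists_mem_genLocus_of_epi hL' p x'
  exact ⟨_, hi⟩

include hfib h1 hL hnef in
/-- **`H¹` of a relatively nef invertible module vanishes** -/
theorem subsingleton_H1_of_relNef : Subsingleton (Coh.HH X L 1) := by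
  haveI : IsNoetherian X := Groth.Agent.Lib.helper27.FibreVan.isNoetherian_of_proper A X
  have hLc := Groth.Agent.Lib.Lead.CurveInv.isCoh_of_isInvertible X hL
  haveI : L.IsQuasicoherent := hLc.1
  haveI : Module.Finite A (Coh.HH X L 1) :=
    Groth.Agent.Lib.Lead.ProperFin.finite_HH_of_isProper A X L hLc 1
  refine subsingleton_of_forall_maximal (A := A) (fun 𝔪 h𝔪 x => ?_)
  haveI := h𝔪
  letI : Field (A ⧸ 𝔪) := Ideal.Quotient.field 𝔪
  have hsurj : Function.Surjective (algebraMap A (A ⧸ 𝔪)) := Ideal.Quotient.mk_surjective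
  have hker : RingHom.ker (algebraMap A (A ⧸ 𝔪)) = 𝔪 := by
    rw [Ideal.Quotient.algebraMap_eq, Ideal.mk_ker]
  have hF := (fibre_main_of_relNef A X hfib h1 L hL hnef (A ⧸ 𝔪) hsurj).1
  haveI hQ : Subsingleton (Coh.HH X (Q 𝔪 L) 1) :=
    (subsingleton_HH_Q_iff (fibp A X (A ⧸ 𝔪)) (fibι A X (A ⧸ 𝔪)) (isPullback_fib A X (A ⧸ 𝔪)) rfl
      𝔪 hsurj hker L 1).mpr hF
  exact mem_smul_top_of_map_qπ_eq_zero 𝔪 (subsingleton_H2 A X hfib) L hLc x
    (Subsingleton.elim _ _)

include hfib h1 hL hnef in
/-- **a relatively nef invertible module is generated by global sections at every point** -/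
theorem exists_section_mem_genLocus_of_relNef (x : X) :
    ∃ t : Coh.structureModule X ⟶ L, x ∈ CohB1.genLocus L t := by
  haveI : IsNoetherian X := Groth.Agent.Lib.helper27.FibreVan.isNoetherian_of_proper A X
  have hLc := Groth.Agent.Lib.Lead.CurveInv.isCoh_of_isInvertible X hL
  haveI : L.IsQuasicoherent := hLc.1
  have hH1 := subsingleton_H1_of_relNef A X hfib h1 L hL hnef
  have key : ∀ z : X, IsClosed ({z} : Set X) →
      ∃ t : Coh.structureModule X ⟶ L, z ∈ CohB1.genLocus L t := by
    intro z hz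
    let f := X ↘ Spec (CommRingCat.of A)
    let y : PrimeSpectrum A := f z
    have hy : IsClosed ({y} : Set (PrimeSpectrum A)) := by
      have := f.isClosedMap _ hz
      rwa [Set.image_singleton] at this
    have h𝔪 : y.asIdeal.IsMaximal := (PrimeSpectrum.isClosed_singleton_iff_isMaximal y).mp hy
    set 𝔪 := y.asIdeal with h𝔪def
    haveI := h𝔪
    letI : Field (A ⧸ 𝔪) := Ideal.Quotient.field 𝔪
    have hsurj : Function.Surjective (algebraMap A (A ⧸ 𝔪)) := Ideal.Quotient.mk_surjective
    have hker : RingHom.ker (algebraMap A (A ⧸ 𝔪)) = 𝔪 := by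
      rw [Ideal.Quotient.algebraMap_eq, Ideal.mk_ker]
    have hyr : y ∈ Set.range (Spec.map (CommRingCat.ofHom (algebraMap A (A ⧸ 𝔪)))) := by
      change y ∈ Set.range (PrimeSpectrum.comap (algebraMap A (A ⧸ 𝔪)))
      rw [range_comap_of_surjective _ _ hsurj, hker, PrimeSpectrum.mem_zeroLocus]
    have hzr : z ∈ Set.range (fibι A X (A ⧸ 𝔪)) := by
      rw [Scheme.Pullback.range_fst]
      exact hyr
    obtain ⟨x', hx'z⟩ := hzr
    obtain ⟨t', ht'⟩ := (fibre_main_of_relNef A X hfib h1 L hL hnef (A ⧸ 𝔪) hsurj).2 x'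
    obtain ⟨t, ht⟩ := exists_lift_pullback_section (fibp A X (A ⧸ 𝔪)) (fibι A X (A ⧸ 𝔪))
      (isPullback_fib A X (A ⧸ 𝔪)) rfl 𝔪 hsurj hker L
      (surjective_sections_qπ 𝔪 (subsingleton_H2 A X hfib) L hLc hH1) t'
    refine ⟨t, ?_⟩
    have hg := Groth.Agent.Lib.helper11.InvPullback.genLocus_pullback (fibι A X (A ⧸ 𝔪)) L hL t
      (pullbackUnitIso (fibι A X (A ⧸ 𝔪))).symm
    have hx' : x' ∈ CohB1.genLocus ((Scheme.Modules.pullback (fibι A X (A ⧸ 𝔪))).obj L)
        ((pullbackUnitIso (fibι A X (A ⧸ 𝔪))).symm.hom ≫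
          (Scheme.Modules.pullback (fibι A X (A ⧸ 𝔪))).map t) := by
      change x' ∈ CohB1.genLocus _ ((pullbackUnitIso (fibι A X (A ⧸ 𝔪))).inv ≫ _)
      rw [ht]
      exact ht'
    rw [hg] at hx'
    rw [← hx'z]
    exact hx'
  let U : X.Opens := ⨆ t : Coh.structureModule X ⟶ L, CohB1.genLocus L t
  have hU : (U : Set X) = Set.univ := by
    by_contra hne
    have hne' : ((U : Set X)ᶜ).Nonempty := Set.nonempty_compl.mpr hne
    obtain ⟨z, hz, hzc⟩ := IsClosed.exists_closed_singleton U.isOpen.isClosed_compl hne'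
    obtain ⟨t, ht⟩ := key z hzc
    exact hz (Opens.mem_iSup.mpr ⟨t, ht⟩)
  have hx : x ∈ U := by
    change x ∈ (U : Set X)
    rw [hU]
    trivial
  exact Opens.mem_iSup.mp hx

include hfib h1 hL hnef in
/-- **a relatively nef invertible module is globally generated** -/
theorem gg_of_relNef : Curv2.IsGloballyGenerated L := by
  refine Groth.Agent.Lib.helper11.SerreGG.isGloballyGenerated_of_genAt L (fun y => ?_)
  obtain ⟨t, ht⟩ := exists_section_mem_genLocus_of_relNef A X hfib h1 L hL hnef y
  exact Groth.Agent.Lib.helper9.CurveGG.genAt_of_mem_isoLocus t ht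

end Nef

end Groth.Agent.Lib.helper7.RelFib
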