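import Mathlib
import Groth.Agent.Lib.Helper7.Seesaw4
import Groth.Agent.Lib.Helper14.UnivPush
import Groth.Agent.Lib.Helper21.GeomFibre

/-!
# The seesaw theorem `Pic(S ×_k T) = Pic(S) × Pic(T)` (helper7)

`k` a field, `t : T ⟶ Spec k` proper and geometrically integral with `H^1(T, O_T) = 0`, `S` a connected `k`-scheme
with a rational point `σ`.
* `hH1_of_h1`: `H^1` of the structure sheaf vanishes on all `T_K`.
* `isIso_app_fst`: `O_S → p₁_* O_{S ×_k T}` is an isomorphism on all opens.
* `main`: an invertible module on `S ×_k T` trivial on all fibres of `p₁` is the pullback of its direct image.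
* `surjectivity`, `injectivity`.
-/

set_option autoImplicit false
set_option linter.unusedSectionVars false
set_option linter.style.haveILetI false
universe u

open CategoryTheory CategoryTheory.Limits AlgebraicGeometry Opposite TopologicalSpace
open Scheme.Modules

namespace Groth.Agent.Lib.helper7.Seesaw

open Groth.Agent.Lib.helper11.InvMod Groth.Agent.Lib.Lead.ModTensor
  Groth.Agent.Lib.helper7.PicPnFib Groth.Agent.Lib.helper12.PullTensor

variable (k : Type u) [Field k] {T : Scheme.{u}} (t : T ⟶ Spec (CommRingCat.of k))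
  [IsProper t] [GeometricallyIntegral t]

/-- `H^1` of the structure sheaf vanishes on all `T_K` -/
theorem hH1_of_h1 (h1 : Subsingleton (Coh.HH T (Coh.structureModule T) 1))
    (K : Type u) [Field K] (z : Spec (CommRingCat.of K) ⟶ Spec (CommRingCat.of k)) :
    Subsingleton (Coh.HH (pullback z t) (Coh.structureModule (pullback z t)) 1) := by
  obtain ⟨φ, rfl⟩ : ∃ φ : CommRingCat.of k ⟶ CommRingCat.of K, Spec.map φ = z :=
    ⟨Spec.preimage z, Spec.map_preimage z⟩
  letI : Algebra k K := φ.hom.toAlgebra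
  haveI : CompactSpace T := (quasiCompact_iff_compactSpace t).mp inferInstance
  haveI : QuasiSeparatedSpace T := quasiSeparatedSpace_of_quasiSeparated t
  have hpb : IsPullback (pullback.snd (Spec.map φ) t) (pullback.fst (Spec.map φ) t) t
      (Spec.map (CommRingCat.ofHom (algebraMap k K))) :=
    (IsPullback.of_hasPullback (Spec.map φ) t).flip
  haveI : (Coh.structureModule T).IsQuasicoherent := inferInstance
  have h2 := subsingleton_HH_of_fieldExt k K t (pullback.fst (Spec.map φ) t)
    (pullback.snd (Spec.map φ) t) hpb (Coh.structureModule T) 1 h1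
  exact Groth.Agent.Lib.helper21.InvFibre.subsingleton_HH_of_iso
    (pullbackUnitIso (pullback.snd (Spec.map φ) t)) 1 h2

/-- `O_S → p₁_* O` is an isomorphism over every open -/
theorem isIso_app_fst {S : Scheme.{u}} (s : S ⟶ Spec (CommRingCat.of k)) (U : S.Opens) :
    IsIso ((pullback.fst s t).app U) := by
  haveI : Flat t := inferInstance
  haveI : GeometricallyConnected t :=
    ⟨fun _ _ y _ fst snd h => by
      haveI : IrreducibleSpace _ :=
        GeometricallyIrreducible.geometrically_irreducibleSpace y fst snd h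
      infer_instance⟩
  have h0 : ∀ y : ↥(Spec (CommRingCat.of k)),
      Module.finrank ((Spec (CommRingCat.of k)).residueField y) Γ(t.fiber y, ⊤) = 1 :=
    fun y => Groth.Agent.Lib.helper21.GeomFibre.finrank_fiber_eq_one_of_geom t y
  have h1 : ∀ V : S.Opens, IsIso ((pullback.snd t s).app V) :=
    fun V => Groth.Agent.Lib.Helper14.UnivPush.isIso_app t h0 s V
  have hfac : pullback.fst s t = (pullbackSymmetry s t).hom ≫ pullback.snd t s := by
    rw [pullbackSymmetry_hom_comp_snd]
  rw [hfac, Scheme.Hom.comp_app]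
  have ha := h1 U
  have hb : IsIso ((pullbackSymmetry s t).hom.app (pullback.snd t s ⁻¹ᵁ U)) := inferInstance
  exact @IsIso.comp_isIso _ _ _ _ _ _ _ ha hb

variable (hH1 : ∀ (K : Type u) [Field K] (z : Spec (CommRingCat.of K) ⟶ Spec (CommRingCat.of k)),
    Subsingleton (Coh.HH (pullback z t) (Coh.structureModule (pullback z t)) 1))

include hH1 in
/-- an invertible module trivial on all fibres of `p₁` is the pullback of its direct image -/
theorem main (hdesc : ModDescent.{u}) {S : Scheme.{u}} (s : S ⟶ Spec (CommRingCat.of k))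
    (N : (pullback s t).Modules) (hN : PicF.IsInvertible N) (h : ∀ y : S, FibTriv t s N y) :
    PicF.IsInvertible ((Scheme.Modules.pushforward (pullback.fst s t)).obj N) ∧
    Nonempty (N ≅ (Scheme.Modules.pullback (pullback.fst s t)).obj
      ((Scheme.Modules.pushforward (pullback.fst s t)).obj N)) := by
  have hloc : ∀ y : S, LocTriv t s N y := fun y => locTriv_general k t hH1 hdesc s N hN y (h y)
  have hP : PicF.IsInvertible ((Scheme.Modules.pushforward (pullback.fst s t)).obj N) := by
    intro y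
    obtain ⟨U, hyU, hT⟩ := hloc y
    exact ⟨U, hyU, Groth.Agent.Lib.helper21.PicFibre.isTrivOn_pushforward (pullback.fst s t) N U hT
      (fun V _ => isIso_app_fst k t s V)⟩
  refine ⟨hP, ?_⟩
  haveI : IsIso ((Scheme.Modules.pullbackPushforwardAdjunction (pullback.fst s t)).counit.app N) := by
    refine Groth.Agent.Lib.helper11.IsoLocus.isIso_of_forall_restrict _ fun x => ?_
    obtain ⟨U, hyU, ⟨eL⟩⟩ := hloc ((pullback.fst s t).base x)
    exact ⟨pullback.fst s t ⁻¹ᵁ U, hyU,
      Groth.Agent.Lib.helper21.PicFibre.isIso_restrict_counit (pullback.fst s t) N U eL hP⟩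
  exact ⟨(asIso ((Scheme.Modules.pullbackPushforwardAdjunction (pullback.fst s t)).counit.app N)).symm⟩

section Section

variable {S : Scheme.{u}} (s : S ⟶ Spec (CommRingCat.of k))
  (σ : Spec (CommRingCat.of k) ⟶ S) (hσ : σ ≫ s = 𝟙 _)

/-- the slice `T ⟶ S ×_k T` over the rational point -/
noncomputable def slice : T ⟶ pullback s t :=
  pullback.lift (t ≫ σ) (𝟙 T) (by rw [Category.assoc, hσ, Category.comp_id, Category.id_comp])

theorem slice_fst : slice k t s σ hσ ≫ pullback.fst s t = t ≫ σ := pullback.lift_fst _ _ _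

theorem slice_snd : slice k t s σ hσ ≫ pullback.snd s t = 𝟙 T := pullback.lift_snd _ _ _

theorem bcMap_section :
    bcMap t σ (𝟙 _) s hσ = pullback.snd (𝟙 _) t ≫ slice k t s σ hσ := by
  refine pullback.hom_ext ?_ ?_
  · refine (bcMap_fst t σ (𝟙 _) s hσ).trans ?_
    refine Eq.trans ?_ (Category.assoc _ _ _).symm
    refine Eq.trans ?_ (congrArg (fun m => pullback.snd (𝟙 _) t ≫ m) (slice_fst k t s σ hσ)).symm
    refine Eq.trans ?_ (Category.assoc _ _ _)
    refine congrArg (fun m => m ≫ σ) ?_
    exact (Category.comp_id _).symm.trans pullback.condition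
  · refine (bcMap_snd t σ (𝟙 _) s hσ).trans ?_
    refine Eq.trans ?_ (Category.assoc _ _ _).symm
    refine Eq.trans ?_ (congrArg (fun m => pullback.snd (𝟙 _) t ≫ m) (slice_snd k t s σ hσ)).symm
    exact (Category.comp_id _).symm

/-- a module trivial on the slice is trivial on the fibre over the rational point -/
theorem fibTriv_of_slice (N : (pullback s t).Modules) (hN : PicF.IsInvertible N)
    (e : (Scheme.Modules.pullback (slice k t s σ hσ)).obj N ≅ Coh.structureModule T)
    (x : ↥(Spec (CommRingCat.of k))) : FibTriv t s N (σ.base x) := by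
  have h1 : TrivAlong t s N σ := by
    rw [trivAlong_iff N σ (𝟙 _) hσ]
    exact ⟨(pullbackCongr (bcMap_section k t s σ hσ)).app N ≪≫
      ((pullbackComp _ _).app N).symm ≪≫ (Scheme.Modules.pullback _).mapIso e ≪≫
      pullbackUnitIso _⟩
  have h2 := h1.comp ((Spec (CommRingCat.of k)).fromSpecResidueField x)
  rw [← Scheme.Hom.SpecMap_residueFieldMap_fromSpecResidueField] at h2
  exact (trivAlong_fieldExt_iff s N hN (S.residueField (σ.base x))
    ((Spec (CommRingCat.of k)).residueField x) (σ.residueFieldMap x)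
    (S.fromSpecResidueField (σ.base x))).1 h2

include hH1 σ hσ in
/-- **surjectivity** of `(L, M) ↦ p₁^*L ⊗ p₂^*M` -/
theorem surjectivity (hdesc : ModDescent.{u}) [ConnectedSpace S] (N : (pullback s t).Modules)
    (hN : PicF.IsInvertible N) :
    ∃ (L : S.Modules) (M : T.Modules), PicF.IsInvertible L ∧ PicF.IsInvertible M ∧
      Nonempty (N ≅ CohB1.tensorMod ((Scheme.Modules.pullback (pullback.fst s t)).obj L)
        ((Scheme.Modules.pullback (pullback.snd s t)).obj M)) := by
  set j := slice k t s σ hσ with hj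
  set M := (Scheme.Modules.pullback j).obj N with hM
  have hMinv : PicF.IsInvertible M := isInvertible_pullback j hN
  obtain ⟨M', hM', ⟨eMM'⟩, ⟨eM'M⟩⟩ := Groth.Agent.Lib.helper12.InvDual.exists_inverse hMinv
  set P := (Scheme.Modules.pullback (pullback.snd s t)).obj M with hP
  set P' := (Scheme.Modules.pullback (pullback.snd s t)).obj M' with hP'
  have hPinv : PicF.IsInvertible P := isInvertible_pullback _ hMinv
  have hP'inv : PicF.IsInvertible P' := isInvertible_pullback _ hM'
  set N₁ := CohB1.tensorMod N P' with hN₁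
  have hN₁inv : PicF.IsInvertible N₁ :=
    Groth.Agent.Lib.helper12.TensorInv.isInvertible_tensorMod hN hP'inv
  -- `j^* P' ≅ M'`
  have e1 : (Scheme.Modules.pullback j).obj P' ≅ M' :=
    (pullbackComp j (pullback.snd s t)).app M' ≪≫
      (pullbackCongr (slice_snd k t s σ hσ)).app M' ≪≫ (pullbackId T).app M'
  have e2 : (Scheme.Modules.pullback j).obj N₁ ≅ Coh.structureModule T :=
    pullTensorIso j N P' hP'inv ≪≫ tensorIso (Iso.refl M) e1 ≪≫ eMM'
  obtain ⟨x⟩ : Nonempty ↥(Spec (CommRingCat.of k)) := inferInstance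
  have h0 : FibTriv t s N₁ (σ.base x) := fibTriv_of_slice k t s σ hσ N₁ hN₁inv e2 x
  have hclopen := isClopen_fibTriv k t hH1 hdesc s N₁ hN₁inv
  have huniv : {y : S | FibTriv t s N₁ y} = Set.univ := IsClopen.eq_univ hclopen ⟨_, h0⟩
  have hall : ∀ y : S, FibTriv t s N₁ y := by
    intro y
    have : y ∈ {y : S | FibTriv t s N₁ y} := by rw [huniv]; trivial
    exact this
  obtain ⟨hL, ⟨eL⟩⟩ := main k t hH1 hdesc s N₁ hN₁inv hall
  refine ⟨_, M, hL, hMinv, ?_⟩
  -- `P' ⊗ P ≅ O`
  have e3 : CohB1.tensorMod P' P ≅ Coh.structureModule (pullback s t) :=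
    (pullTensorIso (pullback.snd s t) M' M hMinv).symm ≪≫
      (Scheme.Modules.pullback (pullback.snd s t)).mapIso eM'M ≪≫ pullbackUnitIso _
  exact ⟨(rightUnitor N).symm ≪≫ tensorIso (Iso.refl N) e3.symm ≪≫ (assoc N P' P).symm ≪≫
    tensorIso eL (Iso.refl P)⟩

include σ hσ in
/-- **injectivity** of `(L, M) ↦ p₁^*L ⊗ p₂^*M` -/
theorem injectivity (L L' : S.Modules) (M M' : T.Modules) (hL : PicF.IsInvertible L)
    (hL' : PicF.IsInvertible L') (hM : PicF.IsInvertible M) (hM' : PicF.IsInvertible M')
    (e : CohB1.tensorMod ((Scheme.Modules.pullback (pullback.fst s t)).obj L)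
        ((Scheme.Modules.pullback (pullback.snd s t)).obj M) ≅
      CohB1.tensorMod ((Scheme.Modules.pullback (pullback.fst s t)).obj L')
        ((Scheme.Modules.pullback (pullback.snd s t)).obj M')) :
    Nonempty (L ≅ L') ∧ Nonempty (M ≅ M') := by
  set j := slice k t s σ hσ with hj
  obtain ⟨x⟩ : Nonempty ↥(Spec (CommRingCat.of k)) := inferInstance
  haveI : Subsingleton ↥(Spec (CommRingCat.of k)) :=
    inferInstanceAs (Subsingleton (PrimeSpectrum k))
  -- restriction to the slice
  have key : ∀ (L₀ : S.Modules) (M₀ : T.Modules), PicF.IsInvertible L₀ → PicF.IsInvertible M₀ →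
      Nonempty ((Scheme.Modules.pullback j).obj
        (CohB1.tensorMod ((Scheme.Modules.pullback (pullback.fst s t)).obj L₀)
          ((Scheme.Modules.pullback (pullback.snd s t)).obj M₀)) ≅ M₀) := by
    intro L₀ M₀ hL₀ hM₀
    obtain ⟨e0⟩ := nonempty_iso_structureModule_of_subsingleton _ x
      ((Scheme.Modules.pullback σ).obj L₀) (isInvertible_pullback σ hL₀)
    have e1 : (Scheme.Modules.pullback j).obj ((Scheme.Modules.pullback (pullback.fst s t)).obj L₀) ≅
        Coh.structureModule T :=
      (pullbackComp j (pullback.fst s t)).app L₀ ≪≫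
        (pullbackCongr (slice_fst k t s σ hσ)).app L₀ ≪≫
        ((pullbackComp t σ).app L₀).symm ≪≫ (Scheme.Modules.pullback t).mapIso e0 ≪≫
        pullbackUnitIso t
    have e2 : (Scheme.Modules.pullback j).obj ((Scheme.Modules.pullback (pullback.snd s t)).obj M₀) ≅
        M₀ :=
      (pullbackComp j (pullback.snd s t)).app M₀ ≪≫
        (pullbackCongr (slice_snd k t s σ hσ)).app M₀ ≪≫ (pullbackId T).app M₀
    exact ⟨pullTensorIso j _ _ (isInvertible_pullback _ hM₀) ≪≫ tensorIso e1 e2 ≪≫ leftUnitor M₀⟩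
  obtain ⟨a⟩ := key L M hL hM
  obtain ⟨b⟩ := key L' M' hL' hM'
  have eM : M ≅ M' := a.symm ≪≫ (Scheme.Modules.pullback j).mapIso e ≪≫ b
  refine ⟨?_, ⟨eM⟩⟩
  -- cancel `p₂^* M`
  obtain ⟨M₁, hM₁, ⟨eMM₁⟩, -⟩ := Groth.Agent.Lib.helper12.InvDual.exists_inverse hM
  set P := (Scheme.Modules.pullback (pullback.snd s t)).obj M with hP
  set P₁ := (Scheme.Modules.pullback (pullback.snd s t)).obj M₁ with hP₁
  have e3 : CohB1.tensorMod P P₁ ≅ Coh.structureModule (pullback s t) :=
    (pullTensorIso (pullback.snd s t) M M₁ hM₁).symm ≪≫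
      (Scheme.Modules.pullback (pullback.snd s t)).mapIso eMM₁ ≪≫ pullbackUnitIso _
  have cancel : ∀ C : (pullback s t).Modules,
      CohB1.tensorMod (CohB1.tensorMod C P) P₁ ≅ C := fun C =>
    assoc _ _ _ ≪≫ tensorIso (Iso.refl C) e3 ≪≫ rightUnitor C
  have e' : CohB1.tensorMod ((Scheme.Modules.pullback (pullback.fst s t)).obj L) P ≅
      CohB1.tensorMod ((Scheme.Modules.pullback (pullback.fst s t)).obj L') P :=
    e ≪≫ tensorIso (Iso.refl _) ((Scheme.Modules.pullback (pullback.snd s t)).mapIso eM.symm)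
  have e4 : (Scheme.Modules.pullback (pullback.fst s t)).obj L ≅
      (Scheme.Modules.pullback (pullback.fst s t)).obj L' :=
    (cancel _).symm ≪≫ tensorIso e' (Iso.refl P₁) ≪≫ cancel _
  exact Groth.Agent.Lib.helper7.ContrTriv.nonempty_iso_of_pullback_iso (pullback.fst s t)
    (fun U => isIso_app_fst k t s U) L L' hL hL' e4

end Section

end Groth.Agent.Lib.helper7.Seesaw
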