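import Mathlib
import Groth.Agent.Lib.Helper7.SteinU2
import Groth.Agent.Lib.Helper14.Kunneth
import Groth.Agent.Lib.Helper14.QuotProps

/-!
# helper7: `O_T → g_* O_X` is an isomorphism when the fibres have only constant global functions

* `isIso_appTop_fiber_of_isPullback`: the condition `Γ(X_s, O) = κ(s)` is stable under base change;
* `isIso_app_of_h0`: `f` proper, flat, locally of finite presentation over an arbitrary base with
  `Γ(X_s, O) = κ(s)` for all `s`: `O_S(V) → O_X(f⁻¹V)` is an isomorphism for all opens `V`;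
* `geometricallyConnected_of_algClosed`, `geometricallyReduced_of_algClosed`.
-/

set_option autoImplicit false
universe u

open CategoryTheory CategoryTheory.Limits Opposite TopologicalSpace AlgebraicGeometry
  MonoidalCategory CartesianMonoidalCategory

namespace Groth.Agent.Lib.helper7.SteinU

open Groth.Agent.Lib.helper21.FibreH0 Groth.Agent.Lib.helper11.InvMod

theorem isIso_appTop_comp {A B C : Scheme.{u}} (a : A ⟶ B) (b : B ⟶ C) (ha : IsIso a.appTop)
    (hb : IsIso b.appTop) : IsIso (a ≫ b).appTop := by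
  rw [Scheme.Hom.comp_appTop]
  exact @IsIso.comp_isIso _ _ _ _ _ _ _ hb ha

/-- the condition `Γ(X_s, O) = κ(s)` is stable under base change -/
theorem isIso_appTop_fiber_of_isPullback {X S X' S' : Scheme.{u}} {f : X ⟶ S} {g : S' ⟶ S}
    {f' : X' ⟶ S'} {g' : X' ⟶ X} (hpb : IsPullback g' f' f g) [QuasiCompact f] [QuasiSeparated f]
    (t' : S') (h : IsIso (f.fiberToSpecResidueField (g.base t')).appTop) :
    IsIso (f'.fiberToSpecResidueField t').appTop := by
  have Q := isPullback_fiberToSpecResidueField_of_isPullback hpb t'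
  let k : Type u := ↑(S.residueField (g.base t'))
  let XX : Over (Spec (CommRingCat.of k)) := Over.mk (f.fiberToSpecResidueField (g.base t'))
  let TT : Over (Spec (CommRingCat.of k)) := Over.mk (Spec.map (g.residueFieldMap t'))
  haveI : QuasiSeparatedSpace ↥(f.fiber (g.base t')) := by
    haveI : QuasiSeparated (f.fiberToSpecResidueField (g.base t')) :=
      MorphismProperty.of_isPullback (P := @QuasiSeparated)
        (IsPullback.of_hasPullback f (S.fromSpecResidueField (g.base t'))) inferInstance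
    exact quasiSeparatedSpace_of_quasiSeparated (f.fiberToSpecResidueField (g.base t'))
  haveI : CompactSpace XX.left := inferInstanceAs (CompactSpace ↥(f.fiber (g.base t')))
  haveI : QuasiSeparatedSpace XX.left :=
    inferInstanceAs (QuasiSeparatedSpace ↥(f.fiber (g.base t')))
  haveI : CompactSpace TT.left := inferInstanceAs (CompactSpace ↥(Spec (S'.residueField t')))
  haveI : QuasiSeparatedSpace TT.left :=
    inferInstanceAs (QuasiSeparatedSpace ↥(Spec (S'.residueField t')))
  haveI : IsIso XX.hom.appTop := h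
  have h1 : IsIso (snd XX TT).left.appTop := Groth.Agent.Lib.Helper14.Kunneth.isIso_snd_appTop XX TT
  have h1' : IsIso (pullback.snd (f.fiberToSpecResidueField (g.base t'))
      (Spec.map (g.residueFieldMap t'))).appTop := h1
  have h3 : f'.fiberToSpecResidueField t' = Q.isoPullback.hom ≫
      pullback.snd (f.fiberToSpecResidueField (g.base t')) (Spec.map (g.residueFieldMap t')) :=
    Q.isoPullback_hom_snd.symm
  have h4 : IsIso Q.isoPullback.hom.appTop := by
    show IsIso (Q.isoPullback.hom.app ⊤)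
    infer_instance
  have key : ∀ (φ : f'.fiber t' ⟶ Spec (S'.residueField t')),
      φ = Q.isoPullback.hom ≫ pullback.snd (f.fiberToSpecResidueField (g.base t'))
        (Spec.map (g.residueFieldMap t')) → IsIso φ.appTop := by
    rintro _ rfl
    exact isIso_appTop_comp _ _ h4 h1'
  exact key _ h3

/-- `Γ(X_y, O) = κ(y)` gives `dim_κ(y) Γ(X_y, O) = 1` -/
theorem finrank_eq_one_of_isIso_appTop {X Y : Scheme.{u}} (f : X ⟶ Y) (y : Y)
    (h : IsIso (f.fiberToSpecResidueField y).appTop) :
    Module.finrank (Y.residueField y) Γ(f.fiber y, ⊤) = 1 := by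
  apply Algebra.finrank_eq_one_iff_bijective_algebraMap.mpr
  show Function.Bijective ((f.fiberToSpecResidueField y).appTop.hom.comp
    (Scheme.ΓSpecIso (Y.residueField y)).inv.hom)
  rw [RingHom.coe_comp]
  exact (ConcreteCategory.bijective_of_isIso (f.fiberToSpecResidueField y).appTop).comp
    (ConcreteCategory.bijective_of_isIso (Scheme.ΓSpecIso (Y.residueField y)).inv)

theorem isIso_appTop_of_finrank_eq_one {X Y : Scheme.{u}} (f : X ⟶ Y) (y : Y)
    (h : Module.finrank (Y.residueField y) Γ(f.fiber y, ⊤) = 1) :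
    IsIso (f.fiberToSpecResidueField y).appTop := by
  have h1 := Algebra.finrank_eq_one_iff_bijective_algebraMap.mp h
  have h2 : Function.Bijective ((f.fiberToSpecResidueField y).appTop.hom.comp
    (Scheme.ΓSpecIso (Y.residueField y)).inv.hom) := h1
  have h3 : IsIso ((Scheme.ΓSpecIso (Y.residueField y)).inv ≫
      (f.fiberToSpecResidueField y).appTop) := by
    rw [ConcreteCategory.isIso_iff_bijective]
    exact h2
  exact IsIso.of_isIso_comp_left (Scheme.ΓSpecIso (Y.residueField y)).inv _

/-- **Stein property via a Noetherian model, numerical form**: as `isIso_app_of_model`, with the hypothesis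
`h^0 = 1` on the fibres of the model at the images of the points of `T`. -/
theorem isIso_app_of_model_of_finrank {X X₀ T Y₀ : Scheme.{u}} (f : X ⟶ T) (f₀ : X₀ ⟶ Y₀)
    (gX : X ⟶ X₀) (h : T ⟶ Y₀) (hpb : IsPullback gX f f₀ h) [IsProper f₀] [Flat f₀]
    [LocallyOfFinitePresentation f₀] [IsLocallyNoetherian Y₀] [Surjective f]
    (hH : ∀ y' : T, Module.finrank (Y₀.residueField (h.base y')) Γ(f₀.fiber (h.base y'), ⊤) = 1)
    (U : T.Opens) : IsIso (f.app U) := by
  have hO := isCoh_structureModule X₀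
  have hfl := Groth.Agent.Lib.helper21.GCStein.isFlatOver_structureModule f₀
  have hopen1 : IsOpen {y : Y₀ | CohIII.fiberRank f₀ (Coh.structureModule X₀) 0 y < 2} :=
    (upperSemicontinuous_fiberRank f₀ _ hO hfl 0).isOpen_preimage 2
  have hopen2 : IsOpen (Set.range f₀.base) := by
    have : UniversallyOpen f₀ := inferInstance
    exact f₀.isOpenMap.isOpen_range
  let U₀ : Y₀.Opens := ⟨{y : Y₀ | CohIII.fiberRank f₀ (Coh.structureModule X₀) 0 y < 2} ∩
    Set.range f₀.base, hopen1.inter hopen2⟩
  have hU₀ : ∀ y : Y₀, y ∈ U₀ → Module.finrank (Y₀.residueField y) Γ(f₀.fiber y, ⊤) = 1 := by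
    rintro y ⟨hy1, x, hx⟩
    have hy1' : CohIII.fiberRank f₀ (Coh.structureModule X₀) 0 y < 2 := hy1
    rw [fiberRank_structureModule f₀ y] at hy1'
    have hfin := finite_globalSections_fiber f₀ y
    have hne : Nonempty ↥(f₀.fiber y) := by
      have : x ∈ Set.range (f₀.fiberι y).base := by
        rw [f₀.range_fiberι y]
        exact hx
      obtain ⟨w, -⟩ := this
      exact ⟨w⟩
    have : Nonempty (⊤ : (f₀.fiber y).Opens) := by
      obtain ⟨w⟩ := hne
      exact ⟨⟨w, trivial⟩⟩
    have : Nontrivial Γ(f₀.fiber y, ⊤) := Scheme.component_nontrivial _ ⊤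
    have hpos : 0 < Module.finrank (Y₀.residueField y) Γ(f₀.fiber y, ⊤) := Module.finrank_pos
    omega
  have hle : Set.range h.base ⊆ Set.range U₀.ι.base := by
    rintro _ ⟨y', rfl⟩
    rw [Scheme.Opens.range_ι]
    have h1 := hH y'
    refine ⟨?_, ?_⟩
    · show CohIII.fiberRank f₀ (Coh.structureModule X₀) 0 (h.base y') < 2
      rw [fiberRank_structureModule f₀ _, h1]
      norm_num
    · obtain ⟨x, hx⟩ := f.surjective y'
      refine ⟨gX.base x, ?_⟩
      have := congrArg (fun φ => φ.base x) hpb.w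
      simp only [Scheme.Hom.comp_base, TopCat.comp_app] at this
      rw [this, hx]
  let f₁ : pullback f₀ U₀.ι ⟶ (U₀ : Scheme.{u}) := pullback.snd f₀ U₀.ι
  have h0 : ∀ y : (U₀ : Scheme.{u}),
      Module.finrank ((U₀ : Scheme.{u}).residueField y) Γ(f₁.fiber y, ⊤) = 1 := by
    intro y
    let e : CohIII.fiberMod (pullback.snd f₀ U₀.ι)
        ((Scheme.Modules.pullback (pullback.fst f₀ U₀.ι)).obj (Coh.structureModule X₀)) y ≅
        Coh.structureModule ((pullback.snd f₀ U₀.ι).fiber y) :=
      (Scheme.Modules.pullback ((pullback.snd f₀ U₀.ι).fiberι y)).mapIso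
        (pullbackUnitIso (pullback.fst f₀ U₀.ι)) ≪≫ pullbackUnitIso ((pullback.snd f₀ U₀.ι).fiberι y)
    have h2 := Groth.Agent.S4508.fiberRank_baseChange f₀ U₀.ι (Coh.structureModule X₀) hO hfl y 0
    rw [Groth.Agent.Lib.helper21.PicFibre.fiberRank_zero_of_iso (pullback.snd f₀ U₀.ι) _ y e,
      fiberRank_structureModule f₀ _] at h2
    exact h2.trans (hU₀ _ y.2)
  let h₁ : T ⟶ (U₀ : Scheme.{u}) := IsOpenImmersion.lift U₀.ι h hle
  have hh₁ : h₁ ≫ U₀.ι = h := IsOpenImmersion.lift_fac _ _ _
  let gX₁ : X ⟶ pullback f₀ U₀.ι := pullback.lift gX (f ≫ h₁) (by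
    rw [Category.assoc, hh₁]; exact hpb.w)
  have hg1 : gX₁ ≫ pullback.fst f₀ U₀.ι = gX := pullback.lift_fst _ _ _
  have hg2 : gX₁ ≫ f₁ = f ≫ h₁ := pullback.lift_snd _ _ _
  have hpb₁ : IsPullback gX₁ f f₁ h₁ := by
    refine IsPullback.of_right ?_ hg2 (IsPullback.of_hasPullback f₀ U₀.ι)
    rw [hg1, hh₁]
    exact hpb
  have : IsLocallyNoetherian (U₀ : Scheme.{u}) := inferInstance
  have hmain := Groth.Agent.Lib.Helper14.UnivPush.isIso_app f₁ h0 h₁ U
  have hf : f = hpb₁.isoPullback.hom ≫ pullback.snd f₁ h₁ := hpb₁.isoPullback_hom_snd.symm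
  have key : ∀ φ : X ⟶ T, φ = hpb₁.isoPullback.hom ≫ pullback.snd f₁ h₁ → IsIso (φ.app U) := by
    rintro _ rfl
    rw [Scheme.Hom.comp_app]
    have h3 : IsIso (hpb₁.isoPullback.hom.app (pullback.snd f₁ h₁ ⁻¹ᵁ U)) := inferInstance
    exact @IsIso.comp_isIso _ _ _ _ _ _ _ hmain h3
  exact key f hf

/-- `h^0 = 1` on the fibres of a Noetherian model at image points, from `Γ(X_s, O) = κ(s)` upstairs -/
theorem finrank_model_of_h0 {X X₀ T Y₀ : Scheme.{u}} (f : X ⟶ T) (f₀ : X₀ ⟶ Y₀)
    (gX : X ⟶ X₀) (h : T ⟶ Y₀) (hpb : IsPullback gX f f₀ h) [IsProper f₀] [Flat f₀]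
    [IsLocallyNoetherian Y₀] [QuasiCompact f] [QuasiSeparated f]
    (h0 : ∀ s : T, IsIso (f.fiberToSpecResidueField s).appTop) (y' : T) :
    Module.finrank (Y₀.residueField (h.base y')) Γ(f₀.fiber (h.base y'), ⊤) = 1 := by
  have hO := isCoh_structureModule X₀
  have hfl := Groth.Agent.Lib.helper21.GCStein.isFlatOver_structureModule f₀
  have hsq : IsPullback hpb.isoPullback.inv (pullback.snd f₀ h) f (𝟙 T) :=
    IsPullback.of_horiz_isIso ⟨by rw [Category.comp_id, Iso.inv_comp_eq]; exact hpb.isoPullback_hom_snd.symm⟩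
  have h1 : IsIso ((pullback.snd f₀ h).fiberToSpecResidueField y').appTop :=
    isIso_appTop_fiber_of_isPullback hsq y' (h0 _)
  have h2 := finrank_eq_one_of_isIso_appTop (pullback.snd f₀ h) y' h1
  let e : CohIII.fiberMod (pullback.snd f₀ h)
      ((Scheme.Modules.pullback (pullback.fst f₀ h)).obj (Coh.structureModule X₀)) y' ≅
      Coh.structureModule ((pullback.snd f₀ h).fiber y') :=
    (Scheme.Modules.pullback ((pullback.snd f₀ h).fiberι y')).mapIso
      (pullbackUnitIso (pullback.fst f₀ h)) ≪≫ pullbackUnitIso ((pullback.snd f₀ h).fiberι y')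
  have h3 := Groth.Agent.S4508.fiberRank_baseChange f₀ h (Coh.structureModule X₀) hO hfl y' 0
  rw [Groth.Agent.Lib.helper21.PicFibre.fiberRank_zero_of_iso (pullback.snd f₀ h) _ y' e, h2,
    fiberRank_structureModule f₀ _] at h3
  exact h3.symm

theorem surjective_of_h0 {X T : Scheme.{u}} (f : X ⟶ T)
    (h0 : ∀ s : T, IsIso (f.fiberToSpecResidueField s).appTop) : Surjective f := by
  refine ⟨fun s => ?_⟩
  have h1 := h0 s
  by_contra hne
  have hempty : IsEmpty ↥(f.fiber s) := by
    refine ⟨fun w => hne ⟨(f.fiberι s).base w, ?_⟩⟩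
    have : (f.fiberι s).base w ∈ Set.range (f.fiberι s).base := ⟨w, rfl⟩
    rw [f.range_fiberι s] at this
    exact this
  have hsub : Subsingleton Γ(f.fiber s, ⊤) := by
    have : (⊤ : (f.fiber s).Opens) = ⊥ := by
      ext w
      exact (hempty.false w).elim
    rw [this]
    infer_instance
  have hbij := ConcreteCategory.bijective_of_isIso (f.fiberToSpecResidueField s).appTop
  have hsub2 : Subsingleton Γ(Spec (T.residueField s), ⊤) := hbij.injective.subsingleton
  have hne2 : Nonempty (⊤ : (Spec (T.residueField s)).Opens) :=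
    ⟨⟨IsLocalRing.closedPoint (T.residueField s), trivial⟩⟩
  have := @Scheme.component_nontrivial (Spec (T.residueField s)) ⊤ hne2
  exact not_subsingleton _ hsub2

end Groth.Agent.Lib.helper7.SteinU
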