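import Mathlib
import Groth.Agent.Lib.Helper18.Strat3

/-!
# Degree zero cohomology and base change: surjective fibre maps and constant rank (helper7)

If the degree zero base change map of every fibre square is an epimorphism and `h^0` of the fibres is
constantly `r`, then `f_* F` is finite locally free of rank `r` and commutes with every base change.
-/

set_option autoImplicit false
universe u

open CategoryTheory CategoryTheory.Limits Opposite TopologicalSpace AlgebraicGeometry

namespace Groth.Agent.Lib.helper7.UnivEpi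

open Groth.Agent.Lib.Helper18.BCHom Groth.Agent.Lib.Helper18.NNComplex
  Groth.Agent.Lib.Helper18.NNChart Groth.Agent.Lib.Helper18.NNMaster
  Groth.Agent.Lib.Helper18.NNRows Groth.Agent.Lib.Helper18.NNGen
  Groth.Agent.Lib.Helper18.SplitAlg Groth.Agent.Lib.Helper18.NNPush
  Groth.Agent.Lib.Helper18.NNFibre Groth.Agent.Lib.Helper18.NNFree
  Groth.Agent.Lib.Helper18.Strat
  Groth.Agent.Lib.helper21.GCBase Groth.Agent.Lib.helper8.GenBCChart
  Groth.Agent.Lib.helper16.FLF
open Scheme.Modules

variable {X S : Scheme.{u}} (f : X ⟶ S) [IsProper f] [LocallyOfFinitePresentation f]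
  (F : X.Modules) [F.IsQuasicoherent] (hfp : CohB1.IsFP F) (hfl : FlatMod.IsFlatOver f F)

include hfp hfl in
/-- **cohomology and base change in degree zero** -/
theorem univFLF_of_epi (r : ℕ)
    (hepi : ∀ s : S, Epi (CohBC.bc0 f (S.fromSpecResidueField s) (f.fiberToSpecResidueField s)
      (f.fiberι s) (f.fiber_fac s) F))
    (hr : ∀ s : S, CohIII.fiberRank f F 0 s = r) : UnivFLF f F r := by
  refine univFLF_of_lc f F r (fun s => ?_)
  obtain ⟨W, hW, hsW, -⟩ := Opens.isBasis_iff_nbhd.mp S.isBasis_affineOpens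
    (show s ∈ (⊤ : S.Opens) from trivial)
  obtain ⟨C⟩ := nonempty_chartData f F hfp hfl hW
  refine ⟨W, hW, hsW, C.L, C.ff, C.comp,
    msplit_one_of_locally _ (msplit_neg_locally C.L C.ff C.neg), fun y => ?_, fun y => ?_⟩
  · obtain ⟨Θ₀, hΘ₀⟩ := chart_push f F hW C.L C.comp
    have hyW : hW.fromSpec y ∈ W := by
      have : hW.fromSpec y ∈ Set.range hW.fromSpec := ⟨y, rfl⟩
      rwa [hW.range_fromSpec] at this
    obtain ⟨a, ha, hs⟩ := exists_gsplit_of_epi₀ f F hW C.L C.ff Θ₀ hΘ₀ (hW.fromSpec y) hyW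
      (hepi _)
    refine ⟨a, ?_, (gsplit_iff_dsplit C.L (show (ComplexShape.up ℤ).Rel 0 1 by simp) a).mp hs⟩
    have := (fromSpec_mem_basicOpen_iff hW y a).mp ha
    rwa [Ne, Ideal.algebraMap_residueField_eq_zero] at this
  · have h := dRank_eq_fiberRank f hW F C.L C.comp y 0
    exact h.trans (hr _)

end Groth.Agent.Lib.helper7.UnivEpi
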