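import Mathlib
import Groth.Agent.Lib.Helper7.UnivEpi
import Groth.Agent.Lib.Helper7.NNPicClosed
import Groth.Agent.Lib.Helper7.DescRank
import Groth.Agent.Lib.Helper7.SteinU3
import Groth.Agent.Lib.Helper21.PicFibre

/-!
# A criterion for an invertible module to be pulled back from the base (helper7)

`f : X ⟶ S` proper, flat, locally of finite presentation with `O_T = (f_T)_* O_{X_T}` universally
(`hO`).  An invertible module `L` trivial on all fibres, with surjective degree zero base change maps
at all fibres, satisfies: `f_* L` is invertible, commutes with base change and `f^* f_* L ≅ L`.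
-/

set_option autoImplicit false
set_option linter.style.haveILetI false
universe u

open CategoryTheory CategoryTheory.Limits Opposite TopologicalSpace AlgebraicGeometry

namespace Groth.Agent.Lib.helper7.SeesawCrit

open Scheme.Modules
open Groth.Agent.Lib.helper16.FLF Groth.Agent.Lib.helper7.RankPt
  Groth.Agent.Lib.helper7.EpiLocus Groth.Agent.Lib.helper7.DescRank
  Groth.Agent.Lib.helper7.DescBC Groth.Agent.Lib.helper7.BCUnit
  Groth.Agent.Lib.helper7.UnitFLF
  Groth.Agent.Lib.helper11.InvMod Groth.Agent.Lib.Helper18.Strat
  Groth.Agent.Lib.helper21.InvFibre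

variable {X S : Scheme.{u}} (f : X ⟶ S)
  (hO : ∀ (T : Scheme.{u}) (g : T ⟶ S) (U : T.Opens), IsIso ((pullback.snd f g).app U))

include hO in
/-- `O_S = f_* O_X` -/
theorem isIso_app (V : S.Opens) : IsIso (f.app V) :=
  isIso_app_of_isPullback f hO
    (IsPullback.of_horiz_isIso (fst := 𝟙 X) (snd := f) (f := f) (g := 𝟙 S) ⟨by simp⟩) V

include hO in
/-- a module trivial on the fibre at `s` has `h^0 = 1` there -/
theorem fiberRank_eq_one (N : X.Modules) (s : S)
    (e : CohIII.fiberMod f N s ≅ Coh.structureModule (f.fiber s)) :
    CohIII.fiberRank f N 0 s = 1 := by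
  rw [Groth.Agent.Lib.helper21.PicFibre.fiberRank_zero_of_iso f N s e]
  exact Groth.Agent.Lib.helper7.SteinU.finrank_eq_one_of_isIso_appTop f s
    (hO _ (S.fromSpecResidueField s) ⊤)

include hO in
/-- **the counit `f^* f_* L ⟶ L` is an isomorphism** when `f_* L` is universally invertible and `L` is
trivial on the fibres -/
theorem isIso_counit (L : X.Modules) (hL : FlatMod.IsFinLocFreeOfRank 1 L)
    (hU : UnivFLF f L 1)
    (htriv : ∀ s : S, Nonempty (CohIII.fiberMod f L s ≅ Coh.structureModule (f.fiber s))) :
    IsIso ((pullbackPushforwardAdjunction f).counit.app L) := by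
  set φ := (pullbackPushforwardAdjunction f).counit.app L with hφ
  have hA : FlatMod.IsFinLocFreeOfRank 1
      ((Scheme.Modules.pullback f).obj ((pushforward f).obj L)) :=
    isFinLocFreeOfRank_pullback f hU.1
  have hB := isFinLocFree_of_isFinLocFreeOfRank hL
  have hbad : badLocus 1 φ = ∅ := by
    rw [Set.eq_empty_iff_forall_notMem]
    intro x hx
    obtain ⟨e⟩ := htriv (f x)
    have hsq : IsPullback (f.fiberι (f x)) (f.fiberToSpecResidueField (f x)) f
        (S.fromSpecResidueField (f x)) := IsPullback.of_hasPullback _ _
    haveI hbc := hU.2 _ _ _ hsq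
    have hc : IsIso ((pullbackPushforwardAdjunction (f.fiberToSpecResidueField (f x))).counit.app
        ((Scheme.Modules.pullback (f.fiberι (f x))).obj L)) :=
      isIso_counit_of_iso (f.fiberToSpecResidueField (f x))
        (fun W => hO _ (S.fromSpecResidueField (f x)) W) (Coh.structureModule _)
        (isFinLocFree_structureModule _) _
        (pullbackUnitIso (f.fiberToSpecResidueField (f x)) ≪≫ e.symm)
    have h := bc0_counit f (S.fromSpecResidueField (f x)) (f.fiberToSpecResidueField (f x))
      (f.fiberι (f x)) (f.fiber_fac (f x)) L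
    have hiso : IsIso ((Scheme.Modules.pullback (f.fiberι (f x))).map φ) := by
      have h2 : IsIso ((sqIso f (S.fromSpecResidueField (f x)) (f.fiberToSpecResidueField (f x))
          (f.fiberι (f x)) (f.fiber_fac (f x))).hom.app ((pushforward f).obj L) ≫
          (Scheme.Modules.pullback (f.fiberι (f x))).map φ) := by
        rw [← h]
        infer_instance
      exact IsIso.of_isIso_comp_left
        ((sqIso f (S.fromSpecResidueField (f x)) (f.fiberToSpecResidueField (f x))
          (f.fiberι (f x)) (f.fiber_fac (f x))).hom.app ((pushforward f).obj L)) _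
    have hd := (isIso_pullback_iff' (f.fiberι (f x)) hA hB φ).mp hiso
    have hx' : x ∈ Set.range (f.fiberι (f x)) := by
      rw [Scheme.Hom.range_fiberι]
      rfl
    exact Set.disjoint_left.mp hd hx' hx
  have hsupp : CohB1.support (cokernel φ) = ∅ := by
    rw [Set.eq_empty_iff_forall_notMem]
    intro x hx
    have : x ∈ badLocus 1 φ := Or.inl hx
    rw [hbad] at this
    exact this
  haveI : Epi φ := Preadditive.epi_of_isZero_cokernel φ (isZero_of_support_eq_empty _ hsupp)
  exact isIso_of_epi_of_isFinLocFreeOfRank hA hL φ

end Groth.Agent.Lib.helper7.SeesawCrit
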