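import Mathlib.AlgebraicGeometry.SpreadingOut
import Mathlib.AlgebraicGeometry.Birational.RationalMap
import Mathlib.AlgebraicGeometry.Morphisms.FiniteType

/-!
# Uniqueness of spreading out for targets locally of finite type (helper7)

Stacks 0BX6 without germ-injectivity: two `S`-morphisms `f g : X ⟶ Y` with `Y` locally of finite
type over `S` that agree on `Spec 𝒪_{X,x}` agree on a neighbourhood of `x`.
-/

universe u

open CategoryTheory AlgebraicGeometry

namespace Groth.Agent.Lib.helper7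

/-- Two ring maps `φ ψ : B → A` of `C`-algebras, `B` of finite type over `C`, that agree after a
localization of `A` at `M`, agree after multiplying with a single element of `M`. -/
theorem exists_mul_eq_of_finiteType {C B A L : Type*} [CommRing C] [CommRing B] [CommRing A]
    [CommRing L] (σ : C →+* B) (hσ : σ.FiniteType) (φ ψ : B →+* A)
    (hc : φ.comp σ = ψ.comp σ) (M : Submonoid A) [Algebra A L] [IsLocalization M L]
    (hl : (algebraMap A L).comp φ = (algebraMap A L).comp ψ) :
    ∃ s ∈ M, ∀ b, s * φ b = s * ψ b := by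
  classical
  letI := σ.toAlgebra
  obtain ⟨T, hT⟩ := (show Algebra.FiniteType C B from hσ).out
  have h1 : ∀ t : B, ∃ c : M, (c : A) * φ t = c * ψ t := fun t =>
    IsLocalization.exists_of_eq (S := L) (M := M) (congrFun (congrArg DFunLike.coe hl) t)
  choose c hc' using h1
  refine ⟨∏ t ∈ T, (c t : A), prod_mem (fun t _ => (c t).2), ?_⟩
  set s := ∏ t ∈ T, (c t : A) with hs
  let E : Subalgebra C B :=
    { carrier := {b | s * φ b = s * ψ b}
      mul_mem' := by
        intro a b ha hb
        simp only [Set.mem_setOf_eq] at ha hb ⊢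
        rw [map_mul, map_mul]
        calc s * (φ a * φ b) = (s * φ a) * φ b := by ring
          _ = (s * ψ a) * φ b := by rw [ha]
          _ = ψ a * (s * φ b) := by ring
          _ = ψ a * (s * ψ b) := by rw [hb]
          _ = s * (ψ a * ψ b) := by ring
      one_mem' := by simp
      add_mem' := by
        intro a b ha hb
        simp only [Set.mem_setOf_eq] at ha hb ⊢
        rw [map_add, map_add, mul_add, mul_add, ha, hb]
      zero_mem' := by simp
      algebraMap_mem' := by
        intro r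
        simp only [Set.mem_setOf_eq]
        have : φ (σ r) = ψ (σ r) := congrFun (congrArg DFunLike.coe hc) r
        change s * φ (σ r) = s * ψ (σ r)
        rw [this] }
  have hE : E = ⊤ := by
    rw [eq_top_iff, ← hT]
    refine Algebra.adjoin_le (fun t ht => ?_)
    obtain ⟨r, hr⟩ : (c t : A) ∣ s := Finset.dvd_prod_of_mem (fun t => (c t : A)) ht
    change s * φ t = s * ψ t
    rw [hr]
    calc (c t : A) * r * φ t = r * ((c t : A) * φ t) := by ring
      _ = r * ((c t : A) * ψ t) := by rw [hc' t]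
      _ = (c t : A) * r * ψ t := by ring
  intro b
  have : b ∈ E := hE ▸ Algebra.mem_top
  exact this

variable {X Y S : Scheme.{u}}

set_option backward.isDefEq.respectTransparency.types false in
/-- Stacks 0BX6 for targets locally of finite type: no germ-injectivity needed. -/
theorem spread_out_unique_of_locallyOfFiniteType (sY : Y ⟶ S) [LocallyOfFiniteType sY] {x : X}
    (f g : X ⟶ Y) (hfg : f ≫ sY = g ≫ sY) (e : f x = g x)
    (H : f.stalkMap x =
      Y.presheaf.stalkSpecializes (Inseparable.of_eq e.symm).specializes ≫ g.stalkMap x) :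
    ∃ (U : X.Opens), x ∈ U ∧ U.ι ≫ f = U.ι ≫ g := by
  obtain ⟨_, ⟨W : S.Opens, hW, rfl⟩, hxW, -⟩ :=
    S.isBasis_affineOpens.exists_subset_of_mem_open (Set.mem_univ (sY (f x))) isOpen_univ
  obtain ⟨_, ⟨V : Y.Opens, hV, rfl⟩, hxV, hVW⟩ :=
    Y.isBasis_affineOpens.exists_subset_of_mem_open (show f x ∈ sY ⁻¹ᵁ W from hxW) (sY ⁻¹ᵁ W).2
  have hxV' : g x ∈ V := e ▸ hxV
  obtain ⟨_, ⟨U : X.Opens, hU, rfl⟩, hxU, hUV⟩ :=
    X.isBasis_affineOpens.exists_subset_of_mem_open
      (show x ∈ f ⁻¹ᵁ V ⊓ g ⁻¹ᵁ V from ⟨hxV, hxV'⟩) (f ⁻¹ᵁ V ⊓ g ⁻¹ᵁ V).2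
  have hUf : U ≤ f ⁻¹ᵁ V := fun _ h => (hUV h).1
  have hUg : U ≤ g ⁻¹ᵁ V := fun _ h => (hUV h).2
  -- the ring maps
  have hσ : (sY.appLE W V hVW).hom.FiniteType :=
    HasRingHomProperty.appLE @LocallyOfFiniteType sY ‹_› ⟨W, hW⟩ ⟨V, hV⟩ hVW
  have hc : (f.appLE V U hUf).hom.comp (sY.appLE W V hVW).hom =
      (g.appLE V U hUg).hom.comp (sY.appLE W V hVW).hom := by
    rw [← CommRingCat.hom_comp, ← CommRingCat.hom_comp, Scheme.Hom.appLE_comp_appLE,
      Scheme.Hom.appLE_comp_appLE]
    congr 1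
    simp only [hfg]
  letI := X.presheaf.algebra_section_stalk ⟨x, hxU⟩
  haveI := hU.isLocalization_stalk ⟨x, hxU⟩
  have hl : (algebraMap Γ(X, U) (X.presheaf.stalk x)).comp (f.appLE V U hUf).hom =
      (algebraMap Γ(X, U) (X.presheaf.stalk x)).comp (g.appLE V U hUg).hom := by
    change (X.presheaf.germ U x hxU).hom.comp _ = (X.presheaf.germ U x hxU).hom.comp _
    rw [← CommRingCat.hom_comp, ← CommRingCat.hom_comp]
    congr 1
    simp only [Scheme.Hom.appLE, Category.assoc, X.presheaf.germ_res', ← Scheme.Hom.germ_stalkMap, H]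
    simp only [TopCat.Presheaf.germ_stalkSpecializes_assoc, Scheme.Hom.germ_stalkMap]
  obtain ⟨s, hsM, hs⟩ := exists_mul_eq_of_finiteType (L := X.presheaf.stalk x)
    (sY.appLE W V hVW).hom hσ (f.appLE V U hUf).hom (g.appLE V U hUg).hom hc
    (hU.primeIdealOf ⟨x, hxU⟩).asIdeal.primeCompl hl
  have hxs : x ∈ X.basicOpen s := by
    rw [Scheme.mem_basicOpen _ _ _ hxU]
    exact IsLocalization.map_units (M := (hU.primeIdealOf ⟨x, hxU⟩).asIdeal.primeCompl)
      (X.presheaf.stalk x) ⟨s, hsM⟩
  have hsU : X.basicOpen s ≤ U := X.basicOpen_le s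
  refine ⟨X.basicOpen s, hxs, ?_⟩
  have hunit : IsUnit (X.presheaf.map (homOfLE hsU).op s) :=
    RingedSpace.isUnit_res_basicOpen _ s
  have key : f.appLE V (X.basicOpen s) (hsU.trans hUf) = g.appLE V (X.basicOpen s) (hsU.trans hUg) := by
    rw [← Scheme.Hom.appLE_map f hUf (homOfLE hsU).op, ← Scheme.Hom.appLE_map g hUg (homOfLE hsU).op]
    ext b
    have := congrArg (X.presheaf.map (homOfLE hsU).op).hom (hs b)
    rw [map_mul, map_mul] at this
    exact hunit.mul_left_cancel this
  rw [← Scheme.Hom.resLE_comp_ι _ (hsU.trans hUf), ← Scheme.Hom.resLE_comp_ι _ (hsU.trans hUg)]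
  congr 1
  have : IsAffine V := hV
  suffices ∀ (U₀ V₀) (eU : X.basicOpen s = U₀) (eV : V = V₀),
      f.appLE V₀ U₀ (eU ▸ eV ▸ hsU.trans hUf) =
        g.appLE V₀ U₀ (eU ▸ eV ▸ hsU.trans hUg) by
    rw [← cancel_mono V.toScheme.isoSpec.hom]
    simp only [Scheme.isoSpec, asIso_hom, Scheme.toSpecΓ_naturality,
      Scheme.Hom.app_eq_appLE, Scheme.Hom.resLE_appLE]
    congr 2
    apply this <;> simp
  rintro U V rfl rfl
  exact key

set_option backward.isDefEq.respectTransparency.types false in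
/-- Variant with an equality of scheme morphisms as hypothesis. -/
theorem spread_out_unique_of_locallyOfFiniteType' (sY : Y ⟶ S) [LocallyOfFiniteType sY] {x : X}
    (f g : X ⟶ Y) (hfg : f ≫ sY = g ≫ sY)
    (e : X.fromSpecStalk x ≫ f = X.fromSpecStalk x ≫ g) :
    ∃ (U : X.Opens), x ∈ U ∧ U.ι ≫ f = U.ι ≫ g := by
  fapply spread_out_unique_of_locallyOfFiniteType sY f g hfg
  · simpa using congr($e (IsLocalRing.closedPoint _))
  · apply Spec.map_injective
    rw [← cancel_mono (Y.fromSpecStalk _)]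
    simpa [Scheme.SpecMap_stalkSpecializes_fromSpecStalk]

end Groth.Agent.Lib.helper7

namespace Groth.Agent.Lib.helper7

open AlgebraicGeometry.Scheme

variable {X Y S : Scheme.{u}}

set_option backward.defeqAttrib.useBackward true in
set_option backward.isDefEq.respectTransparency false in
/-- `PartialMap.equiv_of_fromSpecStalkOfMem_eq` for targets locally of finite type over `S`
(no germ-injectivity needed). -/
theorem equiv_of_fromSpecStalkOfMem_eq_of_locallyOfFiniteType [X.Over S] [Y.Over S]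
    [IrreducibleSpace X] [LocallyOfFiniteType (Y ↘ S)]
    {x : X} (f g : X.PartialMap Y) [f.IsOver S] [g.IsOver S]
    (hxf : x ∈ f.domain) (hxg : x ∈ g.domain)
    (H : f.fromSpecStalkOfMem hxf = g.fromSpecStalkOfMem hxg) : f.equiv g := by
  have hdense : Dense ((f.domain ⊓ g.domain) : Set X) :=
    f.dense_domain.inter_of_isOpen_left g.dense_domain f.domain.2
  have := spread_out_unique_of_locallyOfFiniteType' (Y ↘ S)
    (X := (f.domain ⊓ g.domain).toScheme)
    (X.homOfLE inf_le_left ≫ f.hom) (X.homOfLE inf_le_right ≫ g.hom) (x := ⟨x, hxf, hxg⟩) ?_ ?_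
  · obtain ⟨U, hxU, e⟩ := this
    refine ⟨(f.domain ⊓ g.domain).ι ''ᵁ U, ((f.domain ⊓ g.domain).ι ''ᵁ U).2.dense
      ⟨_, ⟨_, hxU, rfl⟩⟩,
      ((Set.image_subset_range _ _).trans_eq (Subtype.range_val)).trans inf_le_left,
      ((Set.image_subset_range _ _).trans_eq (Subtype.range_val)).trans inf_le_right, ?_⟩
    rw [← cancel_epi (Scheme.Hom.isoImage _ _).hom]
    simp only [PartialMap.restrict_hom, ← Category.assoc] at e ⊢
    convert! e using 2 <;> rw [← cancel_mono (Scheme.Opens.ι _)] <;> simp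
  · rw [Category.assoc, Category.assoc, comp_over f.hom S, comp_over g.hom S,
      comp_over (X.homOfLE _) S, comp_over (X.homOfLE _) S]
  · rw [← f.fromSpecStalkOfMem_restrict hdense inf_le_left ⟨hxf, hxg⟩,
      ← g.fromSpecStalkOfMem_restrict hdense inf_le_right ⟨hxf, hxg⟩] at H
    simpa only [PartialMap.fromSpecStalkOfMem, PartialMap.restrict_domain,
      Opens.fromSpecStalkOfMem, Spec.map_inv,
      PartialMap.restrict_hom, Category.assoc, IsIso.eq_inv_comp, IsIso.hom_inv_id_assoc] using H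

end Groth.Agent.Lib.helper7
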