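import Mathlib
import Groth.Agent.Lib.Helper7.SteinU3

/-!
# helper7: `O_S → f_* O_X` is an isomorphism when `Γ(X_s, O) = κ(s)` for all `s` (arbitrary base)

* `isIso_app_of_h0`, `isIso_unitToPush_of_h0`, `isIso_app_pullback_of_h0` (universal form);
* `geometricallyConnected_of_algClosed`, `geometricallyReduced_of_algClosed`: the geometric conditions can be
  tested on algebraically closed fields.
-/

set_option autoImplicit false
universe u

open CategoryTheory CategoryTheory.Limits Opposite TopologicalSpace AlgebraicGeometry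

namespace Groth.Agent.Lib.helper7.SteinU

theorem isIso_app_of_spec_h0 (A : Type u) [CommRing A] {X : Scheme.{u}}
    (f : X ⟶ Spec (CommRingCat.of A)) [IsProper f] [Flat f] [LocallyOfFinitePresentation f]
    (h0 : ∀ s, IsIso (f.fiberToSpecResidueField s).appTop)
    (U : (Spec (CommRingCat.of A)).Opens) : IsIso (f.app U) := by
  obtain ⟨A₀, hfg, X₀, f₀, g, hflat, hproper, hlfp, hpb⟩ :=
    Groth.Agent.Lib.helper9.GROpen.exists_flat_proper_model A f
  have : Algebra.FiniteType ℤ ↥A₀ := (Subalgebra.fg_iff_finiteType _).mp hfg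
  have : IsNoetherianRing ↥A₀ := Algebra.FiniteType.isNoetherianRing ℤ ↥A₀
  have := surjective_of_h0 f h0
  exact isIso_app_of_model_of_finrank f f₀ g _ hpb
    (fun y' => finrank_model_of_h0 f f₀ g _ hpb h0 y') U

theorem isIso_app_of_isAffineOpen_h0 {X T : Scheme.{u}} (g : X ⟶ T) [IsProper g] [Flat g]
    [LocallyOfFinitePresentation g] (h0 : ∀ s, IsIso (g.fiberToSpecResidueField s).appTop)
    {V : T.Opens} (hV : IsAffineOpen V) : IsIso (g.app V) := by
  let f' : ↑(g ⁻¹ᵁ V) ⟶ Spec (CommRingCat.of ↑Γ(T, V)) := (g ∣_ V) ≫ hV.isoSpec.hom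
  have hsq' : IsPullback (𝟙 _) f' (g ∣_ V) hV.isoSpec.inv :=
    IsPullback.of_horiz_isIso ⟨by simp [f']⟩
  have hsq2 : IsPullback (𝟙 _ ≫ (g ⁻¹ᵁ V).ι) f' g (hV.isoSpec.inv ≫ V.ι) :=
    hsq'.paste_horiz (isPullback_morphismRestrict g V).flip
  have h0' : ∀ s, IsIso (f'.fiberToSpecResidueField s).appTop := fun s =>
    isIso_appTop_fiber_of_isPullback hsq2 s (h0 _)
  have h1 : IsIso (f'.app ⊤) := isIso_app_of_spec_h0 ↑Γ(T, V) f' h0' ⊤
  have h2 : IsIso f'.appTop := h1
  have h3 : f'.appTop = hV.isoSpec.hom.appTop ≫ (g ∣_ V).appTop := Scheme.Hom.comp_appTop _ _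
  have hi : IsIso hV.isoSpec.hom.appTop := by
    show IsIso (hV.isoSpec.hom.app ⊤)
    infer_instance
  have h4 : IsIso (g ∣_ V).appTop := by
    have h5 : (g ∣_ V).appTop = inv hV.isoSpec.hom.appTop ≫ f'.appTop := by
      rw [h3, IsIso.inv_hom_id_assoc]
    rw [h5]
    infer_instance
  have h6 := Groth.Agent.Lib.Helper14.Rigid.restrict_appTop_eq g V
  have h7 : g.app V = V.topIso.inv ≫ (g ∣_ V).appTop ≫ (g ⁻¹ᵁ V).topIso.hom := by
    rw [h6, Category.assoc, Category.assoc, Iso.inv_hom_id, Category.comp_id, Iso.inv_hom_id_assoc]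
  rw [h7]
  infer_instance

theorem isIso_c_of_h0 {X T : Scheme.{u}} (g : X ⟶ T) [IsProper g] [Flat g]
    [LocallyOfFinitePresentation g] (h0 : ∀ s, IsIso (g.fiberToSpecResidueField s).appTop) :
    IsIso g.c := by
  let ι := {W : T.Opens // IsAffineOpen W}
  let Bs : ι → T.Opens := Subtype.val
  have hbasis : Opens.IsBasis (Set.range Bs) := by
    have := T.isBasis_affineOpens
    convert this using 1
    ext W
    constructor
    · rintro ⟨⟨W, hW⟩, rfl⟩
      exact hW
    · intro hW
      exact ⟨⟨W, hW⟩, rfl⟩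
  let φ : T.sheaf ⟶ (TopCat.Sheaf.pushforward CommRingCat g.base).obj X.sheaf := ⟨g.c⟩
  have : IsIso φ := by
    refine TopCat.Sheaf.isIso_iff_isIso_basis (B := Bs) hbasis (fun i => ?_)
    obtain ⟨W, hW⟩ := i
    exact isIso_app_of_isAffineOpen_h0 g h0 hW
  have h4 : IsIso ((TopCat.Sheaf.forget CommRingCat _).map φ) := inferInstance
  exact h4

/-- **Theorem U, numerical form**: `f` proper, flat, locally of finite presentation over an arbitrary base with
`Γ(X_s, O) = κ(s)` for every `s`: `O_S(V) → O_X(f⁻¹V)` is an isomorphism for every open `V`. -/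
theorem isIso_app_of_h0 {X T : Scheme.{u}} (g : X ⟶ T) [IsProper g] [Flat g]
    [LocallyOfFinitePresentation g] (h0 : ∀ s, IsIso (g.fiberToSpecResidueField s).appTop)
    (V : T.Opens) : IsIso (g.app V) := by
  have h5 : IsIso g.c := isIso_c_of_h0 g h0
  exact (NatIso.isIso_app_of_isIso g.c (op V))

/-- universal form -/
theorem isIso_app_pullback_of_h0 {X T T' : Scheme.{u}} (g : X ⟶ T) [IsProper g] [Flat g]
    [LocallyOfFinitePresentation g] (h0 : ∀ s, IsIso (g.fiberToSpecResidueField s).appTop)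
    (b : T' ⟶ T) (V : T'.Opens) : IsIso ((pullback.snd g b).app V) :=
  isIso_app_of_h0 (pullback.snd g b)
    (fun s => isIso_appTop_fiber_of_isPullback (IsPullback.of_hasPullback g b) s (h0 _)) V

theorem isIso_unitToPush_of_h0 {X T : Scheme.{u}} (g : X ⟶ T) [IsProper g] [Flat g]
    [LocallyOfFinitePresentation g] (h0 : ∀ s, IsIso (g.fiberToSpecResidueField s).appTop) :
    IsIso (ClSub.unitToPush g) := by
  rw [Scheme.Modules.Hom.isIso_iff_isIso_app]
  intro V
  rw [ConcreteCategory.isIso_iff_bijective]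
  have := isIso_app_of_h0 g h0 V
  exact ConcreteCategory.bijective_of_isIso (g.app V)

section algClosed

variable {X S : Scheme.{u}} (f : X ⟶ S)

/-- comparison with the algebraic closure: `X_K̄ → X_K` is flat and surjective -/
theorem exists_flat_surjective_of_algClosure (K : Type u) [Field K]
    (y : Spec (CommRingCat.of K) ⟶ S) {Z : Scheme.{u}} (fst : Z ⟶ X)
    (snd : Z ⟶ Spec (CommRingCat.of K)) (hpb : IsPullback fst snd f y) :
    ∃ π : pullback f (Spec.map (CommRingCat.ofHom (algebraMap K (AlgebraicClosure K))) ≫ y) ⟶ Z,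
      Flat π ∧ Surjective π := by
  let j : Spec (CommRingCat.of (AlgebraicClosure K)) ⟶ Spec (CommRingCat.of K) :=
    Spec.map (CommRingCat.ofHom (algebraMap K (AlgebraicClosure K)))
  let π : pullback f (j ≫ y) ⟶ Z :=
    hpb.lift (pullback.fst f (j ≫ y)) (pullback.snd f (j ≫ y) ≫ j)
      (by rw [pullback.condition, Category.assoc])
  have hπ1 : π ≫ fst = pullback.fst f (j ≫ y) := hpb.lift_fst _ _ _
  have hπ2 : π ≫ snd = pullback.snd f (j ≫ y) ≫ j := hpb.lift_snd _ _ _
  have hsq : IsPullback π (pullback.snd f (j ≫ y)) snd j := by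
    refine IsPullback.of_right ?_ hπ2 hpb
    rw [hπ1]
    exact IsPullback.of_hasPullback f (j ≫ y)
  have hj1 : Flat j := inferInstance
  have hj2 : Surjective j := by
    haveI : Subsingleton ↥(Spec (CommRingCat.of K)) :=
      inferInstanceAs (Subsingleton (PrimeSpectrum K))
    haveI : Nonempty ↥(Spec (CommRingCat.of (AlgebraicClosure K))) :=
      inferInstanceAs (Nonempty (PrimeSpectrum (AlgebraicClosure K)))
    exact ⟨Function.surjective_to_subsingleton _⟩
  exact ⟨π, MorphismProperty.of_isPullback (P := @Flat) hsq.flip hj1,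
    MorphismProperty.of_isPullback (P := @Surjective) hsq.flip hj2⟩

theorem geometricallyConnected_of_algClosed
    (h : ∀ (K : Type u) [Field K] [IsAlgClosed K] (g : Spec (CommRingCat.of K) ⟶ S),
      ConnectedSpace ↥(pullback f g)) : GeometricallyConnected f := by
  refine ⟨fun K _ y Z fst snd hpb => ?_⟩
  obtain ⟨π, -, hsurj⟩ := exists_flat_surjective_of_algClosure f K y fst snd hpb
  haveI := h (AlgebraicClosure K)
    (Spec.map (CommRingCat.ofHom (algebraMap K (AlgebraicClosure K))) ≫ y)
  exact Function.Surjective.connectedSpace π.surjective π.continuous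

theorem geometricallyReduced_of_algClosed
    (h : ∀ (K : Type u) [Field K] [IsAlgClosed K] (g : Spec (CommRingCat.of K) ⟶ S),
      IsReduced (pullback f g)) : GeometricallyReduced f := by
  refine ⟨fun K _ y Z fst snd hpb => ?_⟩
  obtain ⟨π, hflat, hsurj⟩ := exists_flat_surjective_of_algClosure f K y fst snd hpb
  haveI := h (AlgebraicClosure K)
    (Spec.map (CommRingCat.ofHom (algebraMap K (AlgebraicClosure K))) ≫ y)
  exact Groth.Agent.Lib.Helper14.QuotProps.isReduced_of_flat_surjective π

end algClosed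

end Groth.Agent.Lib.helper7.SteinU
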