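import Mathlib
import Groth.Agent.Lib.Helper7.SurfH2e
import Groth.Agent.Lib.Helper7.SnapperPos1
import Groth.Agent.Lib.Helper7.Kodaira
import Groth.Agent.Lib.Lead.ProperDim
import Groth.Agent.Lib.Helper12.TensorInv

/-!
# Quadratic growth of sections of large tensor powers on a projective integral surface (helper7)

* `exists_growth_sections`: if `(L·H) > 0` for an ample `H` and `(L·L) > 0` then `h⁰(X, L^{⊗ n}) > c n²` for all
  large `n`.
-/

set_option autoImplicit false
set_option linter.unusedSectionVars false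
set_option linter.unusedVariables false
set_option linter.style.haveILetI false

universe u

open CategoryTheory Limits AlgebraicGeometry Opposite Abelian TopologicalSpace Module

namespace Groth.Agent.Lib.helper7.SurfH2

open Groth.Agent.Lib.Helper20.DualDev Groth.Agent.Lib.helper11.InvMod
  Groth.Agent.Lib.helper7.IntList Groth.Agent.Lib.Lead.ModTensor

section Main

variable (k : Type u) [Field k] (X : Scheme.{u}) [X.Over (Spec (CommRingCat.of k))]
  [IsProper (X ↘ Spec (CommRingCat.of k))] [IsIntegral X]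

open Polynomial in
/-- **quadratic growth of sections of large tensor powers** -/
theorem exists_growth_sections (hdim : topologicalKrullDim X = 2) {H : X.Modules}
    (hH : CohB1.IsAmple H) {L L' : X.Modules} (hL : PicF.IsInvertible L)
    (εL : CohB1.tensorMod L L' ≅ Coh.structureModule X)
    (hLH : 0 < FGA.intNum k X 2 ![L, H] (Coh.structureModule X))
    (hLL : 0 < FGA.intNum k X 2 ![L', L'] (Coh.structureModule X)) :
    ∃ c : ℚ, 0 < c ∧ ∃ m₀ : ℕ, ∀ m : ℕ, m₀ ≤ m →
      c * (m : ℚ) ^ 2 < (Module.finrank k (Coh.HH X (CohB1.tensorPow L m) 0) : ℚ) := by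
  haveI := Groth.Agent.Lib.Lead.CurveEuler.isNoetherian k X
  have hd : topologicalKrullDim X ≤ ((2 : ℕ) : WithBot ℕ∞) := by rw [hdim]; rfl
  have hd2 : topologicalKrullDim X ≤ 2 := by rw [hdim]
  have hO : Coh.IsCoh (Coh.structureModule X) :=
    Groth.Agent.Lib.helper8.Dev.isCoh_structureModule X
  have hsupp : topologicalKrullDim (CohB1.support (Coh.structureModule X)) ≤
      ((2 : ℕ) : WithBot ℕ∞) := by
    rw [Groth.Agent.Lib.helper7.SnapperARR.dim_support_structureModule, hdim]; rfl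
  obtain ⟨n₀, hn₀⟩ := exists_bound_HH_two k X hdim hH
  obtain ⟨Q, hQ, hQdeg⟩ := Groth.Agent.Lib.Lead.HilbPos.exists_isHilbPoly k X hL hO 2 hsupp
  have hD := Groth.Agent.Lib.helper7.SnapperPos.D_top_eq k X 2 hd L L' hL ⟨εL⟩ 2
    (Coh.structureModule X) hO hsupp Q hQ
  have hfun : (fun _ : Fin 2 => L') = ![L', L'] := by
    funext i
    fin_cases i <;> rfl
  have hcoeff : 0 < Q.coeff 2 := by
    have h1 : (0 : ℚ) < ((FGA.intNum k X 2 (fun _ : Fin 2 => L') (Coh.structureModule X) : ℤ) : ℚ) := by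
      rw [hfun]
      exact_mod_cast hLL
    have h2 : ((FGA.intNum k X 2 (fun _ : Fin 2 => L') (Coh.structureModule X) : ℤ) : ℚ) =
        ((2 : ℕ).factorial : ℚ) * Q.coeff 2 := hD
    rw [h2] at h1
    have h3 : (0 : ℚ) < ((2 : ℕ).factorial : ℚ) := by exact_mod_cast Nat.factorial_pos 2
    rcases (mul_pos_iff.mp h1) with ⟨_, h⟩ | ⟨h', _⟩
    · exact h
    · exact absurd h' (not_lt.mpr h3.le)
  obtain ⟨c, hc, hev⟩ := Groth.Agent.Lib.helper7.Kodaira.exists_pos_le_eval Q 2 hQdeg hcoeff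
  obtain ⟨M₀, hM₀⟩ := Filter.eventually_atTop.mp hev
  obtain ⟨c₀, hc₀, hc₀c⟩ := exists_rat_btwn hc
  have hc₀' : (0 : ℚ) < c₀ := by exact_mod_cast hc₀
  refine ⟨c₀, hc₀', max (max M₀ 1) (n₀.toNat + 1), fun n hn => ?_⟩
  have hnM : M₀ ≤ n := le_trans (le_trans (le_max_left _ _) (le_max_left _ _)) hn
  have hn1 : 1 ≤ n := le_trans (le_trans (le_max_right _ _) (le_max_left _ _)) hn
  have hnn : n₀.toNat + 1 ≤ n := le_trans (le_max_right _ _) hn
  have hLn : PicF.IsInvertible (CohB1.tensorPow L n) :=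
    Groth.Agent.Lib.helper12.TensorInv.isInvertible_tensorPow hL n
  -- H² vanishes
  have hH2 : Subsingleton (Coh.HH X (CohB1.tensorPow L n) 2) := by
    apply hn₀ _ hLn
    rw [intNum2_tensorPow_left k X hdim hL hH.1 n]
    have h1 : n₀ < (n : ℤ) := by
      have := Int.self_le_toNat n₀
      omega
    have h2 : (n : ℤ) * 1 ≤ (n : ℤ) * FGA.intNum k X 2 ![L, H] (Coh.structureModule X) :=
      mul_le_mul_of_nonneg_left hLH (by positivity)
    linarith
  -- Euler characteristic is large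
  have hn0 : (0 : ℝ) < (n : ℝ) := by exact_mod_cast hn1
  have h1 := hM₀ n hnM
  have h6 : Curv2.euler k X (ShStab.twist X L (Coh.structureModule X) n) =
      Curv2.euler k X (CohB1.tensorPow L n) :=
    Groth.Agent.Lib.Lead.CurveEuler.euler_eq_of_iso k X (leftUnitor (CohB1.tensorPow L n))
  have h7 : ((Curv2.euler k X (CohB1.tensorPow L n) : ℤ) : ℚ) = Q.eval (n : ℚ) := by
    rw [← h6]; exact hQ n
  have h8 := Groth.Agent.Lib.Lead.ProperDim.euler_eq_surface k X hd2 (CohB1.tensorPow L n)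
  have h2 : finrank k (Coh.HH X (CohB1.tensorPow L n) 2) = 0 := finrank_zero_of_subsingleton
  rw [h2] at h8
  have h9 : (Curv2.euler k X (CohB1.tensorPow L n) : ℤ) ≤
      (finrank k (Coh.HH X (CohB1.tensorPow L n) 0) : ℤ) := by
    have : (0 : ℤ) ≤ (finrank k (Coh.HH X (CohB1.tensorPow L n) 1) : ℤ) := Int.natCast_nonneg _
    simp only [Nat.cast_zero, add_zero] at h8
    linarith
  have h10 : ((Q.eval (n : ℚ) : ℚ) : ℝ) ≤ (finrank k (Coh.HH X (CohB1.tensorPow L n) 0) : ℝ) := by
    rw [← h7]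
    exact_mod_cast h9
  have h11 : (c₀ : ℝ) * (n : ℝ) ^ 2 < c * (n : ℝ) ^ 2 := by
    have : (0 : ℝ) < (n : ℝ) ^ 2 := by positivity
    exact mul_lt_mul_of_pos_right hc₀c this
  have h12 : (c₀ : ℝ) * (n : ℝ) ^ 2 < (finrank k (Coh.HH X (CohB1.tensorPow L n) 0) : ℝ) :=
    lt_of_lt_of_le h11 (le_trans h1 h10)
  exact_mod_cast h12

end Main

end Groth.Agent.Lib.helper7.SurfH2
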