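import Mathlib
import Groth.Agent.Lib.Helper7.SurfNefA

/-!
# Nef + ample is ample for real classes on a smooth projective surface (helper7)

* `span_range_toN1R`, `intForm_curveCl_pos_of_mem_ampleCone`
* `add_mem_ampleCone_of_mem_nefCone` (S19731)
-/

set_option autoImplicit false
set_option linter.unusedSectionVars false
set_option linter.style.haveILetI false
universe u

open CategoryTheory CategoryTheory.Limits AlgebraicGeometry Opposite TopologicalSpace

namespace Groth.Agent.Lib.helper7.SurfNef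

open Groth.Agent.Lib.helper7.IntList Groth.Agent.Lib.Lead.ModTensor
open Groth.Agent.Lib.Helper18.NefPull Groth.Agent.Lib.helper7.BigCone
open Groth.Agent.Lib.helper12.TensorInv

section Cone

variable (k : Type u) [Field k] (X : Scheme.{u}) [X.Over (Spec (CommRingCat.of k))]
  [IsProper (X ↘ Spec (CommRingCat.of k))] [PicGrp.Law X]

/-- the lattice of integral classes -/
theorem span_range_toN1R :
    Submodule.span ℝ ((NumR.toN1R k X).range : Set (NumR.N1R k X)) = ⊤ := by
  rw [← NumR.span_clR (k := k) (X := X)]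
  congr 1
  ext v
  constructor
  · rintro ⟨y, rfl⟩
    obtain ⟨L, hL, rfl⟩ := NumR.exists_eq_cl y
    exact ⟨L, hL, rfl⟩
  · rintro ⟨L, hL, rfl⟩
    exact ⟨NumR.cl k X L hL, rfl⟩

/-- an ample class pairs positively with every (Cartier) integral curve -/
theorem intForm_curveCl_pos_of_mem_ampleCone (hdim : topologicalKrullDim X ≤ 2)
    (B : NumR.N1R k X →ₗ[ℝ] NumR.N1R k X →ₗ[ℝ] ℝ) (hB : NumR.IsIntForm₂ k X B)
    {a : NumR.N1R k X} (ha : a ∈ NumR.ampleCone k X) (I : X.IdealSheafData)
    (hIi : IsIntegral I.subscheme) (hId : topologicalKrullDim (I.support : Set X) = 1)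
    (hI : PicF.IsInvertible (ClSub.idealMod I)) :
    0 < B a (NumR.curveCl k X I hI) := by
  let K : ConvexCone ℝ (NumR.N1R k X) :=
    { carrier := {x | 0 < B x (NumR.curveCl k X I hI)}
      smul_mem' := by
        rintro c hc x hx
        change 0 < B (c • x) _
        rw [map_smul, LinearMap.smul_apply, smul_eq_mul]
        exact mul_pos hc hx
      add_mem' := by
        rintro x hx y hy
        change 0 < B (x + y) _
        rw [map_add, LinearMap.add_apply]
        exact add_pos hx hy }
  have hK : NumR.ampleCone k X ≤ K := by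
    apply ConvexCone.hull_min
    rintro _ ⟨A, hAi, hA, rfl⟩
    change 0 < B _ _
    rw [intForm_clR_curveCl k X hdim B hB A hAi I hI]
    exact_mod_cast Groth.Agent.Lib.helper7.NefAmple.nefq_pos_of_isAmple k X hA I hIi hId
  exact hK ha

end Cone

section Main

variable (k : Type u) [Field k] [PerfectField k] (X : Scheme.{u}) [X.Over (Spec (CommRingCat.of k))]
  [IsProper (X ↘ Spec (CommRingCat.of k))] [Smooth (X ↘ Spec (CommRingCat.of k))]
  [IsIntegral X] [PicGrp.Law X] [Module.Finite ℝ (NumR.N1R k X)]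

/-- **nef + ample is ample** for real classes on a smooth projective surface. -/
theorem add_mem_ampleCone_of_mem_nefCone (hdim : topologicalKrullDim X = 2)
    (B : NumR.N1R k X →ₗ[ℝ] NumR.N1R k X →ₗ[ℝ] ℝ) (hB : NumR.IsIntForm₂ k X B)
    {H : X.Modules} (hH : CohB1.IsAmple H)
    {x y : NumR.N1R k X} (hx : x ∈ NumR.nefCone₂ k X B)
    (hy : y ∈ (NumR.ampleCone k X : Set (NumR.N1R k X))) :
    x + y ∈ (NumR.ampleCone k X : Set (NumR.N1R k X)) := by
  haveI : IsTopologicalAddGroup (NumR.N1R k X) := IsModuleTopology.topologicalAddGroup ℝ _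
  have hAopen : IsOpen (NumR.ampleCone k X : Set (NumR.N1R k X)) := isOpen_ampleCone k X
  set A := NumR.ampleCone k X with hA
  -- the open set `W`
  set W : Set (NumR.N1R k X) := {a | a ∈ A ∧ y - a ∈ A} with hW
  have hWopen : IsOpen W := by
    refine hAopen.inter ?_
    exact hAopen.preimage (continuous_const.sub continuous_id)
  have hhalf : (1 / 2 : ℝ) • y ∈ W := by
    have h1 : (1 / 2 : ℝ) • y ∈ A := A.smul_mem (by norm_num) hy
    refine ⟨h1, ?_⟩
    have : y - (1 / 2 : ℝ) • y = (1 / 2 : ℝ) • y := by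
      rw [show y - (1 / 2 : ℝ) • y = (1 : ℝ) • y - (1 / 2 : ℝ) • y by rw [one_smul], ← sub_smul]
      norm_num
    rw [this]; exact h1
  set U : Set (NumR.N1R k X) := {v | v - x ∈ W} with hU
  have hUopen : IsOpen U := hWopen.preimage (continuous_id.sub continuous_const)
  have hUne : U.Nonempty := ⟨x + (1 / 2 : ℝ) • y, by
    change x + (1 / 2 : ℝ) • y - x ∈ W
    rwa [add_sub_cancel_left]⟩
  obtain ⟨q, ⟨n, hn, L', hL'⟩, hqU⟩ := (dense_rat_multiples (NumR.toN1R k X).range
    (span_range_toN1R k X)).exists_mem_open hUopen hUne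
  obtain ⟨L, hL, rfl⟩ := NumR.exists_eq_cl L'
  have hqL : (n : ℝ) • q = NumR.clR k X L hL := hL'.symm
  set a₁ := q - x with ha₁
  have ha₁A : a₁ ∈ A := hqU.1
  have hbA : y - a₁ ∈ A := hqU.2
  have hnpos : (0 : ℝ) < n := by exact_mod_cast hn
  -- `L` is nef
  have hLnef : ∀ C : X.IdealSheafData, IsIntegral C.subscheme →
      topologicalKrullDim (C.support : Set X) = 1 → 0 ≤ nefq k X C L := by
    intro C hCi hCd
    have hC : PicF.IsInvertible (ClSub.idealMod C) :=
      Groth.Agent.Lib.helper7.SurfCartier.isInvertible_idealMod_of_curve k X hdim C hCi hCd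
    have h1 := intForm_clR_curveCl k X hdim.le B hB L hL C hC
    rw [← hqL, map_smul, LinearMap.smul_apply, smul_eq_mul] at h1
    have h2 : q = x + a₁ := by rw [ha₁]; abel
    have h3 : 0 ≤ B q (NumR.curveCl k X C hC) := by
      rw [h2, map_add, LinearMap.add_apply]
      exact add_nonneg (hx C hCi hCd hC)
        (intForm_curveCl_pos_of_mem_ampleCone k X hdim.le B hB ha₁A C hCi hCd hC).le
    have h4 : (0 : ℝ) ≤ (nefq k X C L : ℝ) := h1 ▸ mul_nonneg hnpos.le h3
    exact_mod_cast h4
  have hKl := fun ν => isAmple_tensorPow_tensor_of_nef k X hL hH hLnef ν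
  -- choose `ν`
  set h := NumR.clR k X H hH.1 with hh
  set b := y - a₁ with hb
  have hcont : Continuous (fun ε : ℝ => b - ε • h) := by
    have h1 : Continuous (fun ε : ℝ => ε • h) := by fun_prop
    exact continuous_const.sub h1
  have hopen2 : IsOpen ((fun ε : ℝ => b - ε • h) ⁻¹' (A : Set (NumR.N1R k X))) :=
    hAopen.preimage hcont
  have h0mem : (0 : ℝ) ∈ (fun ε : ℝ => b - ε • h) ⁻¹' (A : Set (NumR.N1R k X)) := by
    change b - (0 : ℝ) • h ∈ A
    rw [zero_smul, sub_zero]; exact hbA
  obtain ⟨δ, hδ, hball⟩ := Metric.isOpen_iff.mp hopen2 0 h0mem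
  obtain ⟨m, hm⟩ := exists_nat_one_div_lt hδ
  set ν := m + 1 with hν
  set ε : ℝ := 1 / ((n : ℝ) * (ν : ℝ)) with hε
  have hνpos : (0 : ℝ) < ν := by rw [hν]; positivity
  have hεpos : 0 < ε := by rw [hε]; positivity
  have hεlt : ε < δ := by
    refine lt_of_le_of_lt ?_ hm
    rw [hε, hν]
    push_cast
    apply one_div_le_one_div_of_le (by positivity)
    have : (1 : ℝ) ≤ n := by exact_mod_cast hn
    nlinarith
  have h2A : b - ε • h ∈ A := by
    apply hball
    rw [Metric.mem_ball, dist_zero_right, Real.norm_eq_abs, abs_of_pos hεpos]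
    exact hεlt
  have h1A : q + ε • h ∈ A := by
    have hT := (hKl ν)
    have hLν := isInvertible_tensorPow hL ν
    have e1 : NumR.clR k X _ hT.1 = ν • NumR.clR k X L hL + h := by
      rw [clR_tensor k hLν hH.1 hT.1, clR_pow k hL ν hLν]
    have e2 : q + ε • h = ε • NumR.clR k X _ hT.1 := by
      rw [e1, ← hqL, smul_add, ← Nat.cast_smul_eq_nsmul ℝ ν, smul_smul, smul_smul]
      have : ε * (ν : ℝ) * (n : ℝ) = 1 := by
        rw [hε]; field_simp
      rw [this, one_smul]
    rw [e2]
    exact A.smul_mem hεpos (ConvexCone.subset_hull ⟨_, hT.1, hT, rfl⟩)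
  have hsum : x + y = (q + ε • h) + (b - ε • h) := by
    rw [hb, ha₁]; abel
  rw [hsum]
  exact A.add_mem h1A h2A

end Main

end Groth.Agent.Lib.helper7.SurfNef
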