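import Mathlib
import Groth.Agent.Lib.Helper7.SurfHodgeA
import Groth.Agent.Lib.Helper7.SurfNefB

/-!
# The Hodge index theorem on `N¹(X)_ℝ` of a projective integral surface (helper7)

* `intForm_symm`: the intersection form is symmetric.
* `rcs`: reverse Cauchy–Schwarz `B(x,x)·B(h,h) ≤ B(x,h)²` for `h` the class of an ample module.
* `selfInt_nonpos_of_orth`: `B(x,h) = 0` implies `B(x,x) ≤ 0`.
* `intForm_pos_of_mem_posCone`: `x ∈ C₊`, `B(y,y) ≥ 0`, `B(y,h) > 0` imply `B(x,y) > 0`.
* `isOpen_posCone`, `convex_posCone`.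
-/

set_option autoImplicit false
set_option linter.unusedSectionVars false
set_option linter.unusedVariables false
set_option linter.style.haveILetI false

universe u

open CategoryTheory Limits AlgebraicGeometry Opposite TopologicalSpace

namespace Groth.Agent.Lib.helper7.SurfHodge

open Groth.Agent.Lib.helper7.BigCone Groth.Agent.Lib.helper7.SurfNef

variable (k : Type u) [Field k] (X : Scheme.{u}) [X.Over (Spec (CommRingCat.of k))]
  [IsProper (X ↘ Spec (CommRingCat.of k))] [PicGrp.Law X]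

theorem intForm_symm (hd : topologicalKrullDim X ≤ ((2 : ℕ) : WithBot ℕ∞))
    (B : NumR.N1R k X →ₗ[ℝ] NumR.N1R k X →ₗ[ℝ] ℝ) (hB : NumR.IsIntForm₂ k X B)
    (x y : NumR.N1R k X) : B x y = B y x := by
  have h : B = B.flip := by
    refine LinearMap.ext_on NumR.span_clR ?_
    rintro _ ⟨L, hL, rfl⟩
    refine LinearMap.ext_on NumR.span_clR ?_
    rintro _ ⟨M, hM, rfl⟩
    rw [LinearMap.flip_apply, hB, hB, intNum2_symm k X 2 hd]
  have h2 : B x y = B.flip x y := by rw [← h]
  rw [h2, LinearMap.flip_apply]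

section Int

variable [IsIntegral X]

/-- Hodge index on integral classes -/
theorem selfInt_nonpos_of_orth_int (hdim : topologicalKrullDim X = 2)
    (B : NumR.N1R k X →ₗ[ℝ] NumR.N1R k X →ₗ[ℝ] ℝ) (hB : NumR.IsIntForm₂ k X B)
    {H : X.Modules} (hH : CohB1.IsAmple H) {y : NumR.N1R k X}
    (hy : y ∈ (NumR.toN1R k X).range) (horth : B y (NumR.clR k X H hH.1) = 0) : B y y ≤ 0 := by
  obtain ⟨z, rfl⟩ := hy
  obtain ⟨D, hD, rfl⟩ := NumR.exists_eq_cl z
  change B (NumR.clR k X D hD) (NumR.clR k X H hH.1) = 0 at horth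
  change B (NumR.clR k X D hD) (NumR.clR k X D hD) ≤ 0
  rw [hB] at horth ⊢
  have h0 : P k X D H = 0 := by exact_mod_cast horth
  have h1 := hodge_orth k X hdim hH hD h0
  exact_mod_cast h1

/-- reverse Cauchy–Schwarz on integral classes -/
theorem rcs_int (hdim : topologicalKrullDim X = 2)
    (B : NumR.N1R k X →ₗ[ℝ] NumR.N1R k X →ₗ[ℝ] ℝ) (hB : NumR.IsIntForm₂ k X B)
    {H : X.Modules} (hH : CohB1.IsAmple H) {y : NumR.N1R k X}
    (hy : y ∈ (NumR.toN1R k X).range) :
    B y y * B (NumR.clR k X H hH.1) (NumR.clR k X H hH.1) ≤ (B y (NumR.clR k X H hH.1)) ^ 2 := by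
  have hd : topologicalKrullDim X ≤ ((2 : ℕ) : WithBot ℕ∞) := by rw [hdim]; rfl
  set h := NumR.clR k X H hH.1 with hh
  have hhΛ : h ∈ (NumR.toN1R k X).range := ⟨NumR.cl k X H hH.1, rfl⟩
  have hc : B h h = ((P k X H H : ℤ) : ℝ) := hB H H hH.1 hH.1
  have hcpos : 0 < B h h := by
    rw [hc]
    exact_mod_cast intNum2_pos k X hdim hH hH
  obtain ⟨z, hz⟩ := hy
  obtain ⟨L, hL, hzL⟩ := NumR.exists_eq_cl z
  have hyL : y = NumR.clR k X L hL := by rw [← hz, hzL]; rfl
  have ha : B y h = ((P k X L H : ℤ) : ℝ) := by rw [hyL]; exact hB L H hL hH.1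
  set w : NumR.N1R k X := (B h h) • y - (B y h) • h with hw
  have hwΛ : w ∈ (NumR.toN1R k X).range := by
    rw [hw, hc, ha, Int.cast_smul_eq_zsmul, Int.cast_smul_eq_zsmul]
    exact (NumR.toN1R k X).range.sub_mem ((NumR.toN1R k X).range.zsmul_mem ⟨z, hz⟩ _)
      ((NumR.toN1R k X).range.zsmul_mem hhΛ _)
  have hwh : B w h = 0 := by
    rw [hw, map_sub, map_smul, map_smul, LinearMap.sub_apply, LinearMap.smul_apply,
      LinearMap.smul_apply, smul_eq_mul, smul_eq_mul]
    ring
  have h1 := selfInt_nonpos_of_orth_int k X hdim B hB hH hwΛ hwh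
  have hsymm : B h y = B y h := intForm_symm k X hd B hB h y
  have h2 : B w w = B h h * (B h h * B y y - (B y h) ^ 2) := by
    rw [hw]
    simp only [map_sub, map_smul, LinearMap.sub_apply, LinearMap.smul_apply, smul_eq_mul, hsymm]
    ring
  rw [h2] at h1
  have h3 : B h h * B y y - (B y h) ^ 2 ≤ 0 := by
    by_contra hcon
    rw [not_le] at hcon
    have := mul_pos hcpos hcon
    linarith
  linarith

end Int

section Real

variable [IsIntegral X] [Module.Finite ℝ (NumR.N1R k X)]

/-- **reverse Cauchy–Schwarz** for the intersection form against an ample class -/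
theorem rcs (hdim : topologicalKrullDim X = 2)
    (B : NumR.N1R k X →ₗ[ℝ] NumR.N1R k X →ₗ[ℝ] ℝ) (hB : NumR.IsIntForm₂ k X B)
    {H : X.Modules} (hH : CohB1.IsAmple H) (x : NumR.N1R k X) :
    B x x * B (NumR.clR k X H hH.1) (NumR.clR k X H hH.1) ≤ (B x (NumR.clR k X H hH.1)) ^ 2 := by
  set h := NumR.clR k X H hH.1 with hh
  have hcont2 := IsModuleTopology.continuous_bilinear_of_finite_left B
  have hc1 : Continuous (fun v : NumR.N1R k X => B v v) :=
    hcont2.comp (continuous_id.prodMk continuous_id)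
  have hc2 : Continuous (fun v : NumR.N1R k X => B v h) :=
    hcont2.comp (continuous_id.prodMk continuous_const)
  have hclosed : IsClosed {v : NumR.N1R k X | B v v * B h h ≤ (B v h) ^ 2} :=
    isClosed_le (hc1.mul continuous_const) (hc2.pow 2)
  have hdense := dense_rat_multiples (NumR.toN1R k X).range (span_range_toN1R k X)
  have hsub : {v : NumR.N1R k X | ∃ n : ℕ, 0 < n ∧ (n : ℝ) • v ∈ (NumR.toN1R k X).range} ⊆
      {v : NumR.N1R k X | B v v * B h h ≤ (B v h) ^ 2} := by
    rintro v ⟨n, hn, hv⟩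
    have h1 := rcs_int k X hdim B hB hH hv
    simp only [map_smul, LinearMap.smul_apply, smul_eq_mul] at h1
    have hn' : (0 : ℝ) < (n : ℝ) := by exact_mod_cast hn
    have h2 : (n : ℝ) ^ 2 * (B v v * B h h) ≤ (n : ℝ) ^ 2 * (B v h) ^ 2 := by
      calc (n : ℝ) ^ 2 * (B v v * B h h) = (n : ℝ) * ((n : ℝ) * B v v) * B h h := by ring
        _ ≤ ((n : ℝ) * B v h) ^ 2 := h1
        _ = (n : ℝ) ^ 2 * (B v h) ^ 2 := by ring
    exact le_of_mul_le_mul_left h2 (by positivity)
  have huniv : {v : NumR.N1R k X | B v v * B h h ≤ (B v h) ^ 2} = Set.univ := by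
    apply Set.eq_univ_of_univ_subset
    rw [← hdense.closure_eq]
    exact hclosed.closure_subset_iff.mpr hsub
  have : x ∈ {v : NumR.N1R k X | B v v * B h h ≤ (B v h) ^ 2} := by rw [huniv]; trivial
  exact this

theorem selfInt_clR_pos (hdim : topologicalKrullDim X = 2)
    (B : NumR.N1R k X →ₗ[ℝ] NumR.N1R k X →ₗ[ℝ] ℝ) (hB : NumR.IsIntForm₂ k X B)
    {H : X.Modules} (hH : CohB1.IsAmple H) :
    0 < B (NumR.clR k X H hH.1) (NumR.clR k X H hH.1) := by
  rw [hB]
  exact_mod_cast intNum2_pos k X hdim hH hH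

/-- **Hodge index theorem on `N¹(X)_ℝ`** -/
theorem selfInt_nonpos_of_orth (hdim : topologicalKrullDim X = 2)
    (B : NumR.N1R k X →ₗ[ℝ] NumR.N1R k X →ₗ[ℝ] ℝ) (hB : NumR.IsIntForm₂ k X B)
    {H : X.Modules} (hH : CohB1.IsAmple H) {x : NumR.N1R k X}
    (horth : B x (NumR.clR k X H hH.1) = 0) : B x x ≤ 0 := by
  have h1 := rcs k X hdim B hB hH x
  have h2 := selfInt_clR_pos k X hdim B hB hH
  rw [horth] at h1
  by_contra hcon
  rw [not_le] at hcon
  have := mul_pos hcon h2
  nlinarith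

/-- **S19728** -/
theorem intForm_pos_of_mem_posCone (hdim : topologicalKrullDim X = 2)
    (B : NumR.N1R k X →ₗ[ℝ] NumR.N1R k X →ₗ[ℝ] ℝ) (hB : NumR.IsIntForm₂ k X B)
    {H : X.Modules} (hH : CohB1.IsAmple H) {x y : NumR.N1R k X}
    (hx : x ∈ NumR.posCone k X B H hH.1) (hy : 0 ≤ B y y)
    (hyH : 0 < B y (NumR.clR k X H hH.1)) : 0 < B x y := by
  have hd : topologicalKrullDim X ≤ ((2 : ℕ) : WithBot ℕ∞) := by rw [hdim]; rfl
  set h := NumR.clR k X H hH.1 with hh
  obtain ⟨hxx, hxh⟩ := hx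
  set a := B x h with ha
  set b := B y h with hb
  have hw : B (b • x - a • y) h = 0 := by
    rw [map_sub, map_smul, map_smul, LinearMap.sub_apply, LinearMap.smul_apply,
      LinearMap.smul_apply, smul_eq_mul, smul_eq_mul]
    ring
  have h1 := selfInt_nonpos_of_orth k X hdim B hB hH hw
  have hsymm : B y x = B x y := intForm_symm k X hd B hB y x
  have h2 : B (b • x - a • y) (b • x - a • y) =
      b ^ 2 * B x x - 2 * a * b * B x y + a ^ 2 * B y y := by
    simp only [map_sub, map_smul, LinearMap.sub_apply, LinearMap.smul_apply, smul_eq_mul, hsymm]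
    ring
  rw [h2] at h1
  have h3 : 0 < b ^ 2 * B x x := mul_pos (pow_pos hyH 2) hxx
  have h4 : 0 ≤ a ^ 2 * B y y := mul_nonneg (sq_nonneg a) hy
  have h5 : 0 < 2 * a * b * B x y := by linarith
  have h6 : 0 < 2 * a * b := by positivity
  by_contra hcon
  rw [not_lt] at hcon
  have := mul_nonpos_of_nonneg_of_nonpos h6.le hcon
  linarith

theorem isOpen_posCone
    (B : NumR.N1R k X →ₗ[ℝ] NumR.N1R k X →ₗ[ℝ] ℝ)
    {H : X.Modules} (hH : PicF.IsInvertible H) : IsOpen (NumR.posCone k X B H hH) := by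
  have hcont2 := IsModuleTopology.continuous_bilinear_of_finite_left B
  have hc1 : Continuous (fun v : NumR.N1R k X => B v v) :=
    hcont2.comp (continuous_id.prodMk continuous_id)
  have hc2 : Continuous (fun v : NumR.N1R k X => B v (NumR.clR k X H hH)) :=
    hcont2.comp (continuous_id.prodMk continuous_const)
  exact (isOpen_lt continuous_const hc1).inter (isOpen_lt continuous_const hc2)

/-- **S19726** (convexity) -/
theorem convex_posCone (hdim : topologicalKrullDim X = 2)
    (B : NumR.N1R k X →ₗ[ℝ] NumR.N1R k X →ₗ[ℝ] ℝ) (hB : NumR.IsIntForm₂ k X B)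
    {H : X.Modules} (hH : CohB1.IsAmple H) : Convex ℝ (NumR.posCone k X B H hH.1) := by
  have hd : topologicalKrullDim X ≤ ((2 : ℕ) : WithBot ℕ∞) := by rw [hdim]; rfl
  intro x hx y hy s t hs ht hst
  have hxy : 0 < B x y := intForm_pos_of_mem_posCone k X hdim B hB hH hx hy.1.le hy.2
  have hsymm : B y x = B x y := intForm_symm k X hd B hB y x
  obtain ⟨hxx, hxh⟩ := hx
  obtain ⟨hyy, hyh⟩ := hy
  constructor
  · have h2 : B (s • x + t • y) (s • x + t • y) =
        s ^ 2 * B x x + 2 * s * t * B x y + t ^ 2 * B y y := by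
      simp only [map_add, map_smul, LinearMap.add_apply, LinearMap.smul_apply, smul_eq_mul, hsymm]
      ring
    rw [h2]
    rcases lt_or_eq_of_le hs with hs' | hs'
    · have : 0 < s ^ 2 * B x x := mul_pos (pow_pos hs' 2) hxx
      have h3 : 0 ≤ 2 * s * t * B x y := by positivity
      have h4 : 0 ≤ t ^ 2 * B y y := by positivity
      linarith
    · have ht1 : t = 1 := by rw [← hs'] at hst; linarith
      rw [← hs', ht1]
      simp only [ne_eq, OfNat.ofNat_ne_zero, not_false_eq_true, zero_pow, zero_mul, mul_zero,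
        add_zero, one_pow, one_mul, zero_add]
      exact hyy
  · rw [map_add, map_smul, map_smul, LinearMap.add_apply, LinearMap.smul_apply,
      LinearMap.smul_apply, smul_eq_mul, smul_eq_mul]
    rcases lt_or_eq_of_le hs with hs' | hs'
    · have : 0 < s * B x (NumR.clR k X H hH.1) := mul_pos hs' hxh
      have h3 : 0 ≤ t * B y (NumR.clR k X H hH.1) := mul_nonneg ht hyh.le
      linarith
    · have ht1 : t = 1 := by rw [← hs'] at hst; linarith
      rw [← hs', ht1]
      simp only [zero_mul, one_mul, zero_add]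
      exact hyh

end Real

end Groth.Agent.Lib.helper7.SurfHodge
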