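import Mathlib

set_option autoImplicit false
set_option linter.unusedSectionVars false
set_option linter.style.haveILetI false
universe u

namespace Groth.Agent.Lib.helper7.SurfRDiv

open Module

/-- a finitely supported real vector is a real combination of integral vectors, each of which satisfies every
integral linear relation satisfied by the real vector -/
theorem exists_int_decomp {σ : Type u} (N : σ →₀ ℝ) :
    ∃ (ι : Type) (_ : Fintype ι) (β : ι → ℝ) (Z : ι → σ →₀ ℤ),
      (N = ∑ j, β j • Finsupp.mapRange.addMonoidHom (Int.castAddHom ℝ) (Z j)) ∧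
      (∀ μ : σ → ℤ, (N.sum fun c a => a * (μ c : ℝ)) = 0 →
        ∀ j, ((Z j).sum fun c z => z * μ c) = 0) := by
  classical
  set G : Submodule ℤ ℝ := Submodule.span ℤ (Set.range N) with hG
  haveI : Module.Finite ℤ G := Module.Finite.iff_fg.mpr (Submodule.fg_span (Finsupp.finite_range N))
  haveI : Module.Free ℤ G := inferInstance
  let ι := Module.Free.ChooseBasisIndex ℤ G
  let b : Basis ι ℤ G := Module.Free.chooseBasis ℤ G
  have hmem : ∀ c, N c ∈ G := fun c => Submodule.subset_span (Set.mem_range_self c)
  let f : ℝ → ι → ℤ := fun x j => if h : x ∈ G then b.repr ⟨x, h⟩ j else 0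
  have hf0 : ∀ j, f 0 j = 0 := by
    intro j
    simp only [f, dif_pos (Submodule.zero_mem G)]
    have : (⟨0, Submodule.zero_mem G⟩ : G) = 0 := rfl
    rw [this, map_zero, Finsupp.zero_apply]
  let Z : ι → σ →₀ ℤ := fun j => N.mapRange (fun x => f x j) (hf0 j)
  have hZ : ∀ j c, Z j c = b.repr ⟨N c, hmem c⟩ j := by
    intro j c
    simp only [Z, Finsupp.mapRange_apply, f, dif_pos (hmem c)]
  have hrepr : ∀ c, N c = ∑ j, (Z j c : ℝ) * (b j : ℝ) := by
    intro c
    have h1 := b.sum_repr ⟨N c, hmem c⟩
    have h2 := congrArg (G.subtype) h1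
    rw [map_sum] at h2
    simp only [map_zsmul, Submodule.subtype_apply, zsmul_eq_mul] at h2
    rw [← h2]
    refine Finset.sum_congr rfl (fun j _ => ?_)
    rw [hZ]
  refine ⟨ι, inferInstance, fun j => (b j : ℝ), Z, ?_, ?_⟩
  · ext c
    rw [Finsupp.finsetSum_apply]
    simp only [Finsupp.smul_apply, Finsupp.mapRange.addMonoidHom_apply, Finsupp.mapRange_apply,
      Int.coe_castAddHom, smul_eq_mul]
    rw [hrepr c]
    exact Finset.sum_congr rfl (fun j _ => mul_comm _ _)
  · intro μ hμ j
    -- the relation holds in `G`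
    have hsupp : ∀ j, (Z j).support ⊆ N.support := fun j => Finsupp.support_mapRange
    have key : ∑ j, (∑ c ∈ N.support, Z j c * μ c) • b j = 0 := by
      apply Subtype.ext
      rw [Submodule.coe_sum, Submodule.coe_zero]
      simp only [Submodule.coe_smul, zsmul_eq_mul]
      rw [← hμ, Finsupp.sum]
      push_cast
      simp only [Finset.sum_mul]
      rw [Finset.sum_comm]
      refine Finset.sum_congr rfl (fun c _ => ?_)
      rw [hrepr c, Finset.sum_mul]
      refine Finset.sum_congr rfl (fun j _ => ?_)
      ring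
    have hli := Fintype.linearIndependent_iff.mp b.linearIndependent _ key j
    rw [Finsupp.sum, ← hli]
    refine Finset.sum_subset (hsupp j) (fun c _ hc => ?_)
    rw [Finsupp.notMem_support_iff.mp hc, zero_mul]

end Groth.Agent.Lib.helper7.SurfRDiv
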