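import Mathlib
import Groth.Agent.Lib.Helper7.SurfRDivAlg
import Groth.Agent.Lib.Helper7.SurfNefA
import Groth.Agent.Lib.Helper7.SurfNefB
import Groth.Agent.Lib.Helper7.SurfCartier
import Groth.Agent.Lib.Helper7.NumEq3

/-!
# Nondegeneracy of the intersection form on `N¹(X)_ℝ` of a smooth projective surface (helper7)

* `eq_zero_of_forall_curveCl`: a real class pairing to zero with every integral curve is zero.
-/

set_option autoImplicit false
set_option linter.unusedSectionVars false
set_option linter.unusedVariables false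
set_option linter.style.haveILetI false

universe u

open CategoryTheory Limits AlgebraicGeometry Opposite TopologicalSpace

namespace Groth.Agent.Lib.helper7.SurfNondeg

open Groth.Agent.Lib.helper7.SurfNef Groth.Agent.Lib.helper7.SurfRDiv
  Groth.Agent.Lib.Helper18.NefPull Groth.Agent.Lib.helper7.NumEq

variable (k : Type u) [Field k] [PerfectField k] (X : Scheme.{u}) [X.Over (Spec (CommRingCat.of k))]
  [IsProper (X ↘ Spec (CommRingCat.of k))] [Smooth (X ↘ Spec (CommRingCat.of k))]
  [IsIntegral X] [PicGrp.Law X]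

/-- an integral class pairing to zero with every integral curve is zero -/
theorem toN1R_eq_zero_of_forall_curveCl (hdim : topologicalKrullDim X = 2)
    (B : NumR.N1R k X →ₗ[ℝ] NumR.N1R k X →ₗ[ℝ] ℝ) (hB : NumR.IsIntForm₂ k X B)
    (y : NumR.N1 k X)
    (h : ∀ (I : X.IdealSheafData), IsIntegral I.subscheme →
      topologicalKrullDim (I.support : Set X) = 1 → ∀ hI : PicF.IsInvertible (ClSub.idealMod I),
        B (NumR.toN1R k X y) (NumR.curveCl k X I hI) = 0) : y = 0 := by
  obtain ⟨M, hM, rfl⟩ := NumR.exists_eq_cl y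
  apply NumR.cl_eq_zero hM
  intro Y ι _ hY hdY
  haveI := hY
  rw [curveDeg_eq_nefq k X ι hdY.le hM]
  have hCi : IsIntegral ι.ker.subscheme := isIntegral_ker_subscheme ι
  have hCd : topologicalKrullDim (ι.ker.support : Set X) = 1 := by rw [dim_support_ker, hdY]
  have hI := Groth.Agent.Lib.helper7.SurfCartier.isInvertible_idealMod_of_curve k X hdim ι.ker hCi hCd
  have h1 := h ι.ker hCi hCd hI
  change B (NumR.clR k X M hM) (NumR.curveCl k X ι.ker hI) = 0 at h1
  rw [intForm_clR_curveCl k X (by rw [hdim]) B hB M hM ι.ker hI] at h1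
  exact_mod_cast h1

/-- **nondegeneracy**: a real class pairing to zero with every integral curve is zero -/
theorem eq_zero_of_forall_curveCl (hdim : topologicalKrullDim X = 2)
    (B : NumR.N1R k X →ₗ[ℝ] NumR.N1R k X →ₗ[ℝ] ℝ) (hB : NumR.IsIntForm₂ k X B)
    (x : NumR.N1R k X)
    (h : ∀ (I : X.IdealSheafData), IsIntegral I.subscheme →
      topologicalKrullDim (I.support : Set X) = 1 → ∀ hI : PicF.IsInvertible (ClSub.idealMod I),
        B x (NumR.curveCl k X I hI) = 0) : x = 0 := by
  classical
  let Φ : (NumR.N1 k X →₀ ℝ) →ₗ[ℝ] NumR.N1R k X :=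
    Finsupp.linearCombination ℝ (fun z : NumR.N1 k X => NumR.toN1R k X z)
  have hΦsurj : Function.Surjective Φ := by
    rw [← LinearMap.range_eq_top, Finsupp.range_linearCombination]
    have := span_range_toN1R k X
    convert this using 2
    ext v
    simp
  obtain ⟨N, rfl⟩ := hΦsurj x
  obtain ⟨ι, _, β, Z, hNeq, hrel⟩ := exists_int_decomp N
  -- the integral classes `y j`
  let yj : ι → NumR.N1 k X := fun j => (Z j).sum (fun c z => z • c)
  have hΦZ : ∀ j, Φ (Finsupp.mapRange.addMonoidHom (Int.castAddHom ℝ) (Z j)) =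
      NumR.toN1R k X (yj j) := by
    intro j
    have h4 : Finsupp.mapRange.addMonoidHom (Int.castAddHom ℝ) (Z j) =
        Finsupp.mapRange (Int.cast : ℤ → ℝ) Int.cast_zero (Z j) := rfl
    rw [h4]
    simp only [Φ, yj, Finsupp.linearCombination_apply]
    rw [Finsupp.sum_mapRange_index (by intro c; simp), map_finsuppSum]
    refine Finsupp.sum_congr (fun c _ => ?_)
    rw [map_zsmul, Int.cast_smul_eq_zsmul]
  have hy0 : ∀ j, yj j = 0 := by
    intro j
    apply toN1R_eq_zero_of_forall_curveCl k X hdim B hB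
    intro I hIi hId hI
    -- the integer-valued functional
    have hex : ∀ z : NumR.N1 k X, ∃ n : ℤ,
        B (NumR.toN1R k X z) (NumR.curveCl k X I hI) = (n : ℝ) := by
      intro z
      obtain ⟨L, hL, rfl⟩ := NumR.exists_eq_cl z
      exact ⟨nefq k X I L, intForm_clR_curveCl k X (by rw [hdim]) B hB L hL I hI⟩
    choose μ hμ using hex
    have h1 := h I hIi hId hI
    have h2 : B (Φ N) (NumR.curveCl k X I hI) = N.sum (fun c a => a * (μ c : ℝ)) := by
      simp only [Φ, Finsupp.linearCombination_apply]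
      rw [Finsupp.sum, map_sum, LinearMap.sum_apply, Finsupp.sum]
      refine Finset.sum_congr rfl (fun c _ => ?_)
      rw [map_smul, LinearMap.smul_apply, smul_eq_mul, hμ]
    rw [h2] at h1
    have h3 := hrel μ h1 j
    have h5 : B (NumR.toN1R k X (yj j)) (NumR.curveCl k X I hI) =
        (((Z j).sum fun c z => z * μ c : ℤ) : ℝ) := by
      simp only [yj]
      rw [map_finsuppSum, Finsupp.sum, map_sum, LinearMap.sum_apply, Finsupp.sum]
      push_cast
      refine Finset.sum_congr rfl (fun c _ => ?_)
      rw [map_zsmul, map_zsmul, LinearMap.smul_apply, hμ, zsmul_eq_mul]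
    rw [h5, h3]
    simp
  rw [hNeq, map_sum]
  apply Finset.sum_eq_zero
  intro j _
  rw [map_smul, hΦZ j, hy0 j, map_zero, smul_zero]

end Groth.Agent.Lib.helper7.SurfNondeg
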