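import Mathlib
import Groth.Agent.Lib.Helper7.SurfHodgeB
import Groth.Agent.Lib.Helper7.SurfNondeg

/-!
# Strict Hodge index on `N¹(X)_ℝ` of a smooth projective surface (helper7)

* `selfInt_nonpos_of_orth_posCone`: `x ∈ C₊`, `B(x,z) = 0` imply `B(z,z) ≤ 0`.
* `eq_zero_of_orth_posCone`: `x ∈ C₊`, `B(y,y) ≥ 0`, `B(x,y) = 0` imply `y = 0`.
-/

set_option autoImplicit false
set_option linter.unusedSectionVars false
set_option linter.unusedVariables false
set_option linter.style.haveILetI false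

universe u

open CategoryTheory Limits AlgebraicGeometry Opposite TopologicalSpace

namespace Groth.Agent.Lib.helper7.SurfHodge

section Semi

variable (k : Type u) [Field k] (X : Scheme.{u}) [X.Over (Spec (CommRingCat.of k))]
  [IsProper (X ↘ Spec (CommRingCat.of k))] [PicGrp.Law X] [IsIntegral X]
  [Module.Finite ℝ (NumR.N1R k X)]

/-- Hodge index relative to a class of the positive cone -/
theorem selfInt_nonpos_of_orth_posCone (hdim : topologicalKrullDim X = 2)
    (B : NumR.N1R k X →ₗ[ℝ] NumR.N1R k X →ₗ[ℝ] ℝ) (hB : NumR.IsIntForm₂ k X B)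
    {H : X.Modules} (hH : CohB1.IsAmple H) {x z : NumR.N1R k X}
    (hx : x ∈ NumR.posCone k X B H hH.1) (hxz : B x z = 0) : B z z ≤ 0 := by
  by_contra hcon
  rw [not_le] at hcon
  rcases lt_trichotomy (B z (NumR.clR k X H hH.1)) 0 with hz | hz | hz
  · have h1 : 0 ≤ B (-z) (-z) := by
      simp only [map_neg, LinearMap.neg_apply, neg_neg]; exact hcon.le
    have h2 : 0 < B (-z) (NumR.clR k X H hH.1) := by
      rw [map_neg, LinearMap.neg_apply]; linarith
    have h3 := intForm_pos_of_mem_posCone k X hdim B hB hH hx h1 h2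
    rw [map_neg, hxz, neg_zero] at h3
    exact lt_irrefl _ h3
  · have := selfInt_nonpos_of_orth k X hdim B hB hH hz
    linarith
  · have h3 := intForm_pos_of_mem_posCone k X hdim B hB hH hx hcon.le hz
    rw [hxz] at h3
    exact lt_irrefl _ h3

/-- a quadratic `2 t b + t² c ≤ 0` for all `t` forces `b = 0` -/
theorem eq_zero_of_forall_quad_nonpos {b c : ℝ} (h : ∀ t : ℝ, 2 * t * b + t ^ 2 * c ≤ 0) : b = 0 := by
  have h1 := h (b / (|c| + 1))
  have hpos : 0 < |c| + 1 := by positivity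
  have h2 : 2 * (b / (|c| + 1)) * b + (b / (|c| + 1)) ^ 2 * c =
      b ^ 2 * (2 * (|c| + 1) + c) / (|c| + 1) ^ 2 := by
    field_simp
  rw [h2] at h1
  have h3 : 0 < 2 * (|c| + 1) + c := by
    have := neg_abs_le c
    linarith
  have h4 : b ^ 2 * (2 * (|c| + 1) + c) ≤ 0 := by
    have h5 : (0 : ℝ) < (|c| + 1) ^ 2 := by positivity
    by_contra hcon
    rw [not_le] at hcon
    have := div_pos hcon h5
    linarith
  have h6 : b ^ 2 ≤ 0 := by
    by_contra hcon
    rw [not_le] at hcon
    have := mul_pos hcon h3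
    linarith
  have h7 : b ^ 2 = 0 := le_antisymm h6 (sq_nonneg b)
  exact pow_eq_zero_iff (two_ne_zero) |>.mp h7

/-- `x ∈ C₊`, `B(y,y) ≥ 0`, `B(x,y) = 0` imply `B(y,w) = 0` for all `w` -/
theorem intForm_eq_zero_of_orth_posCone (hdim : topologicalKrullDim X = 2)
    (B : NumR.N1R k X →ₗ[ℝ] NumR.N1R k X →ₗ[ℝ] ℝ) (hB : NumR.IsIntForm₂ k X B)
    {H : X.Modules} (hH : CohB1.IsAmple H) {x y : NumR.N1R k X}
    (hx : x ∈ NumR.posCone k X B H hH.1) (hy : 0 ≤ B y y) (hxy : B x y = 0)
    (w : NumR.N1R k X) : B y w = 0 := by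
  have hd : topologicalKrullDim X ≤ ((2 : ℕ) : WithBot ℕ∞) := by rw [hdim]; rfl
  have hyy : B y y = 0 :=
    le_antisymm (selfInt_nonpos_of_orth_posCone k X hdim B hB hH hx hxy) hy
  have hxx : 0 < B x x := hx.1
  set c := B x w / B x x with hc
  set w' := w - c • x with hw'
  have hxw' : B x w' = 0 := by
    rw [hw', map_sub, map_smul, smul_eq_mul, hc]
    field_simp
    ring
  have hyx : B y x = 0 := by rw [intForm_symm k X hd B hB y x, hxy]
  have hw'y : B w' y = B y w' := intForm_symm k X hd B hB w' y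
  have hquad : ∀ t : ℝ, 2 * t * B y w' + t ^ 2 * B w' w' ≤ 0 := by
    intro t
    have h1 : B x (y + t • w') = 0 := by
      rw [map_add, map_smul, hxy, hxw', smul_zero, add_zero]
    have h2 := selfInt_nonpos_of_orth_posCone k X hdim B hB hH hx h1
    have h3 : B (y + t • w') (y + t • w') = 2 * t * B y w' + t ^ 2 * B w' w' := by
      simp only [map_add, map_smul, LinearMap.add_apply, LinearMap.smul_apply, smul_eq_mul,
        hyy, hw'y]
      ring
    rw [h3] at h2
    exact h2
  have h4 : B y w' = 0 := eq_zero_of_forall_quad_nonpos hquad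
  have h5 : B y w = B y w' + c * B y x := by
    rw [hw', map_sub, map_smul, smul_eq_mul]
    ring
  rw [h5, h4, hyx, mul_zero, add_zero]

end Semi

section Strict

variable (k : Type u) [Field k] [PerfectField k] (X : Scheme.{u}) [X.Over (Spec (CommRingCat.of k))]
  [IsProper (X ↘ Spec (CommRingCat.of k))] [Smooth (X ↘ Spec (CommRingCat.of k))]
  [IsIntegral X] [PicGrp.Law X] [Module.Finite ℝ (NumR.N1R k X)]

/-- **S19727** -/
theorem eq_zero_of_orth_posCone (hdim : topologicalKrullDim X = 2)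
    (B : NumR.N1R k X →ₗ[ℝ] NumR.N1R k X →ₗ[ℝ] ℝ) (hB : NumR.IsIntForm₂ k X B)
    {H : X.Modules} (hH : CohB1.IsAmple H) {x y : NumR.N1R k X}
    (hx : x ∈ NumR.posCone k X B H hH.1) (hy : 0 ≤ B y y) (hxy : B x y = 0) : y = 0 := by
  apply Groth.Agent.Lib.helper7.SurfNondeg.eq_zero_of_forall_curveCl k X hdim B hB y
  intro I hIi hId hI
  exact intForm_eq_zero_of_orth_posCone k X hdim B hB hH hx hy hxy _

end Strict

end Groth.Agent.Lib.helper7.SurfHodge
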