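import Mathlib
import Groth.Agent.Lib.Helper7.SurfHodgeA
import Groth.Agent.Lib.Helper7.SurfNefA
import Groth.Agent.Lib.Helper7.IntList6
import Groth.Agent.Lib.Helper7.NefAmple

/-!
# Strict Hodge index for invertible modules on a projective integral surface (helper7)

* `P_self_nonneg_of_nef`: a nef invertible module has `(N·N) ≥ 0`.
* `P_eq_zero_of_null`: `(D·D) > 0`, `(D·N) = 0`, `(N·N) = 0` imply `(N·A) = 0` for every invertible `A`.
-/

set_option autoImplicit false
set_option linter.unusedSectionVars false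
set_option linter.unusedVariables false
set_option linter.style.haveILetI false

universe u

open CategoryTheory Limits AlgebraicGeometry Opposite TopologicalSpace

namespace Groth.Agent.Lib.helper7.SurfHodge

open Groth.Agent.Lib.helper7.IntList Groth.Agent.Lib.Helper18.NefPull

variable (k : Type u) [Field k] (X : Scheme.{u}) [X.Over (Spec (CommRingCat.of k))]
  [IsProper (X ↘ Spec (CommRingCat.of k))]

/-- a nef invertible module has nonnegative self-intersection (Kleiman) -/
theorem P_self_nonneg_of_nef (hdim : topologicalKrullDim X = 2) {H : X.Modules}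
    (hH : CohB1.IsAmple H) {N : X.Modules} (hN : PicF.IsInvertible N)
    (hnef : ∀ C : X.IdealSheafData, IsIntegral C.subscheme →
      topologicalKrullDim (C.support : Set X) = 1 → 0 ≤ nefq k X C N) : 0 ≤ P k X N N := by
  haveI := Groth.Agent.Lib.Lead.CurveEuler.isNoetherian k X
  have hd : topologicalKrullDim X ≤ ((2 : ℕ) : WithBot ℕ∞) := by rw [hdim]; rfl
  obtain ⟨N', hN', ⟨εN⟩, -⟩ := Groth.Agent.Lib.helper12.InvDual.exists_inverse hN
  obtain ⟨H', hH', ⟨εH⟩, -⟩ := Groth.Agent.Lib.helper12.InvDual.exists_inverse hH.1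
  have h1 : NefInv k X N' := nefInv_of_nef k X hN hN' εN hnef
  have h2 : IsAmpleInv X H' := ⟨H, hH, ⟨εH⟩⟩
  have hsupp : topologicalKrullDim (CohB1.support (Coh.structureModule X)) ≤
      ((2 : ℕ) : WithBot ℕ∞) := suppO k X hd
  have h3 := km k 2 X N' H' h1 h2 2 0 rfl (Coh.structureModule X) (isCohO X) hsupp
  have h4 : List.replicate 2 N' ++ List.replicate 0 H' = List.ofFn ![N', N'] := by simp
  rw [h4, E_ofFn k X 2 hd] at h3
  have h5 : P k X N' N' = P k X N N := P_inv_inv k X hd hN hN' εN hN hN' εN
  rw [← h5]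
  exact h3

variable [IsIntegral X]

/-- orthogonal to a class of positive square: null classes are orthogonal to the orthogonal complement -/
theorem P_eq_zero_of_orth_null (hdim : topologicalKrullDim X = 2) {H : X.Modules}
    (hH : CohB1.IsAmple H) {D N A : X.Modules} (hD : PicF.IsInvertible D)
    (hN : PicF.IsInvertible N) (hA : PicF.IsInvertible A) (hD2 : 0 < P k X D D)
    (hDN : P k X D N = 0) (hN2 : P k X N N = 0) (hDA : P k X D A = 0) : P k X N A = 0 := by
  have hd : topologicalKrullDim X ≤ ((2 : ℕ) : WithBot ℕ∞) := by rw [hdim]; rfl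
  obtain ⟨A', hA', ⟨εA⟩, -⟩ := Groth.Agent.Lib.helper12.InvDual.exists_inverse hA
  have key : ∀ (B : X.Modules), PicF.IsInvertible B → P k X D B = 0 → ∀ m : ℕ,
      2 * (m : ℤ) * P k X N B + P k X B B ≤ 0 := by
    intro B hB hDB m
    have hNm := Groth.Agent.Lib.helper12.TensorInv.isInvertible_tensorPow hN m
    have hM := Groth.Agent.Lib.helper12.TensorInv.isInvertible_tensorMod hNm hB
    have h1 : P k X D (CohB1.tensorMod (CohB1.tensorPow N m) B) = 0 := by
      rw [P_tensor_right k X hd hD hNm hB, P_pow_right k X hd hD hN m, hDN, hDB]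
      ring
    have h2 := hodge_index k X hdim hH hD hM hD2 h1
    have h3 : P k X (CohB1.tensorMod (CohB1.tensorPow N m) B)
        (CohB1.tensorMod (CohB1.tensorPow N m) B) =
        2 * (m : ℤ) * P k X N B + P k X B B := by
      rw [P_tensor_left k X hd hM hNm hB, P_tensor_right k X hd hNm hNm hB,
        P_tensor_right k X hd hB hNm hB, P_pow_left k X hd hNm hN m, P_pow_left k X hd hB hN m,
        P_pow_right k X hd hN hN m, P_pow_right k X hd hB hN m, hN2, P_symm k X hd B N]
      ring
    rw [h3] at h2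
    exact h2
  have hDA' : P k X D A' = 0 := by rw [P_inv_right k X hd hD hA hA' εA, hDA, neg_zero]
  have hNA' : P k X N A' = - P k X N A := P_inv_right k X hd hN hA hA' εA
  have hA'A' : P k X A' A' = P k X A A := P_inv_inv k X hd hA hA' εA hA hA' εA
  set c := P k X N A with hc
  set q := P k X A A with hq
  set m : ℕ := q.natAbs + 1 with hm
  have h1 := key A hA hDA m
  have h2 := key A' hA' hDA' m
  rw [hNA', hA'A'] at h2
  have hmq : (q.natAbs : ℤ) < (m : ℤ) := by rw [hm]; push_cast; linarith
  have hq1 : -q ≤ (q.natAbs : ℤ) := by omega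
  by_contra hne
  rcases lt_or_gt_of_ne hne with hlt | hgt
  · have : (m : ℤ) ≤ (m : ℤ) * (-c) := by
      have h5 : (1 : ℤ) ≤ -c := by omega
      have h6 : (0 : ℤ) ≤ (m : ℤ) := Int.natCast_nonneg m
      nlinarith
    nlinarith
  · have : (m : ℤ) ≤ (m : ℤ) * c := by
      have h5 : (1 : ℤ) ≤ c := by omega
      have h6 : (0 : ℤ) ≤ (m : ℤ) := Int.natCast_nonneg m
      nlinarith
    nlinarith

/-- **strict Hodge index**: `(D·D) > 0`, `(D·N) = 0`, `(N·N) = 0` imply that `N` is orthogonal to everything -/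
theorem P_eq_zero_of_null (hdim : topologicalKrullDim X = 2) {H : X.Modules}
    (hH : CohB1.IsAmple H) {D N A : X.Modules} (hD : PicF.IsInvertible D)
    (hN : PicF.IsInvertible N) (hA : PicF.IsInvertible A) (hD2 : 0 < P k X D D)
    (hDN : P k X D N = 0) (hN2 : P k X N N = 0) : P k X N A = 0 := by
  have hd : topologicalKrullDim X ≤ ((2 : ℕ) : WithBot ℕ∞) := by rw [hdim]; rfl
  obtain ⟨D', hD', ⟨εD⟩, -⟩ := Groth.Agent.Lib.helper12.InvDual.exists_inverse hD
  have hND : P k X N D = 0 := by rw [P_symm k X hd, hDN]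
  obtain ⟨d, hd'⟩ := Int.eq_ofNat_of_zero_le hD2.le
  have hdpos : (0 : ℤ) < (d : ℤ) := by rw [← hd']; exact hD2
  have hAd := Groth.Agent.Lib.helper12.TensorInv.isInvertible_tensorPow hA d
  rcases le_total 0 (P k X D A) with ha | ha
  · obtain ⟨a, ha'⟩ := Int.eq_ofNat_of_zero_le ha
    have hDa := Groth.Agent.Lib.helper12.TensorInv.isInvertible_tensorPow hD' a
    have hA1 := Groth.Agent.Lib.helper12.TensorInv.isInvertible_tensorMod hAd hDa
    have h1 : P k X D (CohB1.tensorMod (CohB1.tensorPow A d) (CohB1.tensorPow D' a)) = 0 := by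
      rw [P_tensor_right k X hd hD hAd hDa, P_pow_right k X hd hD hA d,
        P_pow_right k X hd hD hD' a, P_inv_right k X hd hD hD hD' εD, ha', hd']
      ring
    have h2 := P_eq_zero_of_orth_null k X hdim hH hD hN hA1 hD2 hDN hN2 h1
    rw [P_tensor_right k X hd hN hAd hDa, P_pow_right k X hd hN hA d,
      P_pow_right k X hd hN hD' a, P_inv_right k X hd hN hD hD' εD, hND] at h2
    have h3 : (d : ℤ) * P k X N A = 0 := by linarith
    rcases mul_eq_zero.mp h3 with h | h
    · omega
    · exact h
  · obtain ⟨a, ha'⟩ := Int.eq_ofNat_of_zero_le (neg_nonneg.mpr ha)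
    have hDa := Groth.Agent.Lib.helper12.TensorInv.isInvertible_tensorPow hD a
    have hA1 := Groth.Agent.Lib.helper12.TensorInv.isInvertible_tensorMod hAd hDa
    have h1 : P k X D (CohB1.tensorMod (CohB1.tensorPow A d) (CohB1.tensorPow D a)) = 0 := by
      rw [P_tensor_right k X hd hD hAd hDa, P_pow_right k X hd hD hA d,
        P_pow_right k X hd hD hD a, hd', ← ha']
      ring
    have h2 := P_eq_zero_of_orth_null k X hdim hH hD hN hA1 hD2 hDN hN2 h1
    rw [P_tensor_right k X hd hN hAd hDa, P_pow_right k X hd hN hA d,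
      P_pow_right k X hd hN hD a, hND] at h2
    have h3 : (d : ℤ) * P k X N A = 0 := by linarith
    rcases mul_eq_zero.mp h3 with h | h
    · omega
    · exact h

/-- a null class orthogonal to a class of positive square has degree zero on every Cartier curve -/
theorem nefq_eq_zero_of_null (hdim : topologicalKrullDim X = 2) {H : X.Modules}
    (hH : CohB1.IsAmple H) {D N : X.Modules} (hD : PicF.IsInvertible D)
    (hN : PicF.IsInvertible N) (hD2 : 0 < P k X D D)
    (hDN : P k X D N = 0) (hN2 : P k X N N = 0) (I : X.IdealSheafData)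
    (hI : PicF.IsInvertible (ClSub.idealMod I)) : nefq k X I N = 0 := by
  have hd : topologicalKrullDim X ≤ ((2 : ℕ) : WithBot ℕ∞) := by rw [hdim]; rfl
  have h1 := P_eq_zero_of_null k X hdim hH hD hN hI hD2 hDN hN2
  have h2 : P k X N (ClSub.idealMod I) =
      E k X [N, ClSub.idealMod I] (Coh.structureModule X) := by
    have h3 := E_ofFn k X 2 hd ![N, ClSub.idealMod I] (Coh.structureModule X)
    have h4 : List.ofFn (![N, ClSub.idealMod I] : Fin 2 → X.Modules) = [N, ClSub.idealMod I] := by
      simp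
    rw [h4] at h3
    exact h3.symm
  rw [h2, Groth.Agent.Lib.helper7.SurfNef.E_pair_idealMod k X N hN I hI] at h1
  linarith

end Groth.Agent.Lib.helper7.SurfHodge
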