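import Mathlib
import Groth.Agent.Lib.Helper7.SurfHodgeA
import Groth.Agent.Lib.Helper7.SurfCone

/-!
# The Hodge inequality `(D·D)(H·H) ≤ (D·H)²` on a projective integral surface (helper7)
-/

set_option autoImplicit false
set_option linter.unusedSectionVars false
set_option linter.unusedVariables false
set_option linter.style.haveILetI false

universe u

open CategoryTheory Limits AlgebraicGeometry Opposite TopologicalSpace

namespace Groth.Agent.Lib.helper7.SurfHodge

variable (k : Type u) [Field k] (X : Scheme.{u}) [X.Over (Spec (CommRingCat.of k))]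
  [IsProper (X ↘ Spec (CommRingCat.of k))] [IsIntegral X]

/-- **Hodge inequality**: `(D·D)(H·H) ≤ (D·H)²` for `H` ample -/
theorem hodge_ineq (hdim : topologicalKrullDim X = 2) {H : X.Modules} (hH : CohB1.IsAmple H)
    {D : X.Modules} (hD : PicF.IsInvertible D) :
    P k X D D * P k X H H ≤ P k X D H ^ 2 := by
  have hd : topologicalKrullDim X ≤ ((2 : ℕ) : WithBot ℕ∞) := by rw [hdim]; rfl
  have hapos : 0 < P k X H H := Groth.Agent.Lib.helper7.BigCone.intNum2_pos k X hdim hH hH
  obtain ⟨a, ha⟩ := Int.eq_ofNat_of_zero_le hapos.le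
  obtain ⟨H', hH', ⟨εH⟩, ⟨εH'⟩⟩ := Groth.Agent.Lib.helper12.InvDual.exists_inverse hH.1
  have hDa := Groth.Agent.Lib.helper12.TensorInv.isInvertible_tensorPow hD a
  -- general computation
  have key : ∀ (B : X.Modules) (hB : PicF.IsInvertible B) (m : ℕ) (c : ℤ)
      (hBH : P k X B H = c * P k X H H) (hDB : P k X D B = c * P k X D H)
      (hBB : P k X B B = P k X H H) (hc : c * c = 1)
      (hm : (m : ℤ) * c = - P k X D H),
      P k X D D * P k X H H ≤ P k X D H ^ 2 := by
    intro B hB m c hBH hDB hBB hc hm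
    have hBm := Groth.Agent.Lib.helper12.TensorInv.isInvertible_tensorPow hB m
    have hE := Groth.Agent.Lib.helper12.TensorInv.isInvertible_tensorMod hDa hBm
    have hEH : P k X (CohB1.tensorMod (CohB1.tensorPow D a) (CohB1.tensorPow B m)) H = 0 := by
      rw [P_tensor_left k X hd hH.1 hDa hBm, P_pow_left k X hd hH.1 hD a,
        P_pow_left k X hd hH.1 hB m, hBH, ← ha]
      have : (m : ℤ) * (c * P k X H H) = ((m : ℤ) * c) * P k X H H := by ring
      rw [this, hm]
      ring
    have h1 := hodge_orth k X hdim hH hE hEH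
    have hBD : P k X B D = c * P k X D H := by rw [P_symm k X hd, hDB]
    have h2 : P k X (CohB1.tensorMod (CohB1.tensorPow D a) (CohB1.tensorPow B m))
        (CohB1.tensorMod (CohB1.tensorPow D a) (CohB1.tensorPow B m)) =
        P k X H H * (P k X H H * P k X D D - P k X D H ^ 2) := by
      rw [P_tensor_left k X hd hE hDa hBm, P_tensor_right k X hd hDa hDa hBm,
        P_tensor_right k X hd hBm hDa hBm, P_pow_left k X hd hDa hD a,
        P_pow_left k X hd hBm hD a, P_pow_left k X hd hDa hB m, P_pow_left k X hd hBm hB m,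
        P_pow_right k X hd hD hD a, P_pow_right k X hd hD hB m, P_pow_right k X hd hB hD a,
        P_pow_right k X hd hB hB m, hDB, hBD, hBB, ← ha]
      have e1 : (m : ℤ) * ((m : ℤ) * P k X H H) = ((m : ℤ) * c) * ((m : ℤ) * c) * P k X H H := by
        have : ((m : ℤ) * c) * ((m : ℤ) * c) = (m : ℤ) * (m : ℤ) * (c * c) := by ring
        rw [this, hc]; ring
      have e2 : (m : ℤ) * (P k X H H * (c * P k X D H)) =
          ((m : ℤ) * c) * (P k X H H * P k X D H) := by ring
      have e3 : P k X H H * ((m : ℤ) * (c * P k X D H)) =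
          ((m : ℤ) * c) * (P k X H H * P k X D H) := by ring
      rw [e1, e2, e3, hm]
      ring
    rw [h2] at h1
    have h3 : P k X H H * P k X D D - P k X D H ^ 2 ≤ 0 := by
      by_contra hcon
      rw [not_le] at hcon
      have := mul_pos hapos hcon
      linarith
    linarith
  rcases le_total 0 (P k X D H) with hb | hb
  · obtain ⟨m, hm⟩ := Int.eq_ofNat_of_zero_le hb
    refine key H' hH' m (-1) ?_ ?_ ?_ (by ring) (by rw [hm]; ring)
    · rw [P_inv_left k X hd hH.1 hH.1 hH' εH]; ring
    · rw [P_inv_right k X hd hD hH.1 hH' εH]; ring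
    · exact P_inv_inv k X hd hH.1 hH' εH hH.1 hH' εH
  · obtain ⟨m, hm⟩ := Int.eq_ofNat_of_zero_le (neg_nonneg.mpr hb)
    refine key H hH.1 m 1 (by ring) (by ring) rfl (by ring) (by rw [← hm]; ring)

end Groth.Agent.Lib.helper7.SurfHodge
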