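import Mathlib
import Groth.Agent.Lib.Helper7.SurfNefB

/-!
# The nef cone of a smooth projective surface is the closure of the ample cone (helper7)

* `selfInt_nonneg_of_mem_nefCone` (S19730)
* `closure_ampleCone_eq_nefCone`, `closure_ampleCone_eq`, `closure_ampleCone_inter_posCone` (S19734)
-/

set_option autoImplicit false
set_option linter.unusedSectionVars false
set_option linter.style.haveILetI false
universe u

open CategoryTheory CategoryTheory.Limits AlgebraicGeometry Opposite TopologicalSpace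
open Filter Topology

namespace Groth.Agent.Lib.helper7.SurfNef

open Groth.Agent.Lib.helper7.BigCone

section Main

variable (k : Type u) [Field k] [PerfectField k] (X : Scheme.{u}) [X.Over (Spec (CommRingCat.of k))]
  [IsProper (X ↘ Spec (CommRingCat.of k))] [Smooth (X ↘ Spec (CommRingCat.of k))]
  [IsIntegral X] [PicGrp.Law X] [Module.Finite ℝ (NumR.N1R k X)]

theorem continuous_selfInt (B : NumR.N1R k X →ₗ[ℝ] NumR.N1R k X →ₗ[ℝ] ℝ) :
    Continuous (fun v : NumR.N1R k X => B v v) := by
  have h1 := IsModuleTopology.continuous_bilinear_of_finite_left B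
  exact h1.comp (continuous_id.prodMk continuous_id)

theorem clR_mem_ampleCone {H : X.Modules} (hH : CohB1.IsAmple H) :
    NumR.clR k X H hH.1 ∈ NumR.ampleCone k X :=
  ConvexCone.subset_hull ⟨H, hH.1, hH, rfl⟩

/-- **S19730** -/
theorem selfInt_nonneg_of_mem_nefCone (hdim : topologicalKrullDim X = 2)
    (B : NumR.N1R k X →ₗ[ℝ] NumR.N1R k X →ₗ[ℝ] ℝ) (hB : NumR.IsIntForm₂ k X B)
    {H : X.Modules} (hH : CohB1.IsAmple H)
    {x : NumR.N1R k X} (hx : x ∈ NumR.nefCone₂ k X B) : 0 ≤ B x x := by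
  set h := NumR.clR k X H hH.1 with hh
  have hhA : h ∈ NumR.ampleCone k X := clR_mem_ampleCone k X hH
  set f : ℝ → ℝ := fun ε => B (x + ε • h) (x + ε • h) with hf
  have hpath : Continuous (fun ε : ℝ => x + ε • h) := by fun_prop
  have hfc : Continuous f := (continuous_selfInt k X B).comp hpath
  have hpos : ∀ ε : ℝ, 0 < ε → 0 < f ε := by
    intro ε hε
    have h1 : x + ε • h ∈ (NumR.ampleCone k X : Set (NumR.N1R k X)) :=
      add_mem_ampleCone_of_mem_nefCone k X hdim B hB hH hx
        ((NumR.ampleCone k X).smul_mem hε hhA)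
    exact (ampleCone_subset_posCone k X hdim B hB hH h1).1
  have h0 : Tendsto f (𝓝[>] 0) (𝓝 (f 0)) := hfc.continuousAt.tendsto.mono_left nhdsWithin_le_nhds
  have hev : ∀ᶠ ε in 𝓝[>] (0 : ℝ), 0 ≤ f ε := by
    filter_upwards [self_mem_nhdsWithin] with ε hε
    exact (hpos ε hε).le
  have := ge_of_tendsto h0 hev
  simpa [hf] using this

/-- ample classes pair positively -/
theorem intForm_pos_of_mem_ampleCone_of_mem_ampleCone (hdim : topologicalKrullDim X = 2)
    (B : NumR.N1R k X →ₗ[ℝ] NumR.N1R k X →ₗ[ℝ] ℝ) (hB : NumR.IsIntForm₂ k X B)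
    {a a' : NumR.N1R k X} (ha : a ∈ NumR.ampleCone k X) (ha' : a' ∈ NumR.ampleCone k X) :
    0 < B a a' := by
  let K' : ConvexCone ℝ (NumR.N1R k X) :=
    { carrier := {y | 0 < B a y}
      smul_mem' := by
        rintro c hc y hy
        change 0 < B a (c • y)
        rw [map_smul, smul_eq_mul]
        exact mul_pos hc hy
      add_mem' := by
        rintro y hy z hz
        change 0 < B a (y + z)
        rw [map_add]
        exact add_pos hy hz }
  have hK' : NumR.ampleCone k X ≤ K' := by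
    apply ConvexCone.hull_min
    rintro _ ⟨A, hAi, hA, rfl⟩
    exact intForm_pos_of_mem_ampleCone k X hdim B hB ha hA
  exact hK' ha'

theorem closure_ampleCone_subset_nefCone (hdim : topologicalKrullDim X = 2)
    (B : NumR.N1R k X →ₗ[ℝ] NumR.N1R k X →ₗ[ℝ] ℝ) (hB : NumR.IsIntForm₂ k X B) :
    closure (NumR.ampleCone k X : Set (NumR.N1R k X)) ⊆ NumR.nefCone₂ k X B := by
  intro x hx C hCi hCd hC
  have hcl : IsClosed {v : NumR.N1R k X | 0 ≤ B v (NumR.curveCl k X C hC)} := by
    have hc : Continuous (fun v : NumR.N1R k X => B v (NumR.curveCl k X C hC)) :=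
      IsModuleTopology.continuous_of_linearMap (B.flip (NumR.curveCl k X C hC))
    exact isClosed_le continuous_const hc
  have hsub : (NumR.ampleCone k X : Set (NumR.N1R k X)) ⊆
      {v : NumR.N1R k X | 0 ≤ B v (NumR.curveCl k X C hC)} := fun a ha =>
    (intForm_curveCl_pos_of_mem_ampleCone k X hdim.le B hB ha C hCi hCd hC).le
  exact closure_minimal hsub hcl hx

theorem nefCone_subset_closure_ampleCone (hdim : topologicalKrullDim X = 2)
    (B : NumR.N1R k X →ₗ[ℝ] NumR.N1R k X →ₗ[ℝ] ℝ) (hB : NumR.IsIntForm₂ k X B)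
    {H : X.Modules} (hH : CohB1.IsAmple H) :
    NumR.nefCone₂ k X B ⊆ closure (NumR.ampleCone k X : Set (NumR.N1R k X)) := by
  intro x hx
  set h := NumR.clR k X H hH.1 with hh
  have hhA : h ∈ NumR.ampleCone k X := clR_mem_ampleCone k X hH
  have hpath : Continuous (fun ε : ℝ => x + ε • h) := by fun_prop
  have h0 : Tendsto (fun ε : ℝ => x + ε • h) (𝓝[>] 0) (𝓝 x) := by
    have := hpath.continuousAt (x := (0 : ℝ))
    have h1 : Tendsto (fun ε : ℝ => x + ε • h) (𝓝 0) (𝓝 (x + (0 : ℝ) • h)) := this.tendsto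
    rw [zero_smul, add_zero] at h1
    exact h1.mono_left nhdsWithin_le_nhds
  refine mem_closure_of_tendsto h0 ?_
  filter_upwards [self_mem_nhdsWithin] with ε hε
  exact add_mem_ampleCone_of_mem_nefCone k X hdim B hB hH hx
    ((NumR.ampleCone k X).smul_mem hε hhA)

theorem closure_ampleCone_eq_nefCone (hdim : topologicalKrullDim X = 2)
    (B : NumR.N1R k X →ₗ[ℝ] NumR.N1R k X →ₗ[ℝ] ℝ) (hB : NumR.IsIntForm₂ k X B)
    {H : X.Modules} (hH : CohB1.IsAmple H) :
    closure (NumR.ampleCone k X : Set (NumR.N1R k X)) = NumR.nefCone₂ k X B :=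
  Set.Subset.antisymm (closure_ampleCone_subset_nefCone k X hdim B hB)
    (nefCone_subset_closure_ampleCone k X hdim B hB hH)

/-- a nef class of positive self-intersection pairs positively with an ample module -/
theorem intForm_pos_of_nef_of_selfInt_pos (hdim : topologicalKrullDim X = 2)
    (B : NumR.N1R k X →ₗ[ℝ] NumR.N1R k X →ₗ[ℝ] ℝ) (hB : NumR.IsIntForm₂ k X B)
    {H : X.Modules} (hH : CohB1.IsAmple H)
    {x : NumR.N1R k X} (hx : x ∈ NumR.nefCone₂ k X B) (hxx : 0 < B x x) :
    0 < B x (NumR.clR k X H hH.1) := by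
  haveI : IsTopologicalAddGroup (NumR.N1R k X) := IsModuleTopology.topologicalAddGroup ℝ _
  set h := NumR.clR k X H hH.1 with hh
  have hhA : h ∈ NumR.ampleCone k X := clR_mem_ampleCone k X hH
  have hxcl : x ∈ closure (NumR.ampleCone k X : Set (NumR.N1R k X)) :=
    nefCone_subset_closure_ampleCone k X hdim B hB hH hx
  -- `B x ≥ 0` on the ample cone
  have hnn : ∀ a ∈ NumR.ampleCone k X, 0 ≤ B x a := by
    intro a ha
    have hcl : IsClosed {v : NumR.N1R k X | 0 ≤ B v a} := by
      have hc : Continuous (fun v : NumR.N1R k X => B v a) :=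
        IsModuleTopology.continuous_of_linearMap (B.flip a)
      exact isClosed_le continuous_const hc
    have hsub : (NumR.ampleCone k X : Set (NumR.N1R k X)) ⊆ {v : NumR.N1R k X | 0 ≤ B v a} :=
      fun a' ha' => (intForm_pos_of_mem_ampleCone_of_mem_ampleCone k X hdim B hB ha' ha).le
    exact closure_minimal hsub hcl hxcl
  rcases (hnn h hhA).lt_or_eq with hlt | heq
  · exact hlt
  exfalso
  have hAopen : IsOpen (NumR.ampleCone k X : Set (NumR.N1R k X)) := isOpen_ampleCone k X
  have hcont : Continuous (fun t : ℝ => h + t • x) := by fun_prop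
  have hopen2 : IsOpen ((fun t : ℝ => h + t • x) ⁻¹' (NumR.ampleCone k X : Set (NumR.N1R k X))) :=
    hAopen.preimage hcont
  have h0mem : (0 : ℝ) ∈ (fun t : ℝ => h + t • x) ⁻¹' (NumR.ampleCone k X : Set (NumR.N1R k X)) := by
    change h + (0 : ℝ) • x ∈ NumR.ampleCone k X
    rw [zero_smul, add_zero]; exact hhA
  obtain ⟨δ, hδ, hball⟩ := Metric.isOpen_iff.mp hopen2 0 h0mem
  have hmem : (-(δ / 2) : ℝ) ∈ Metric.ball (0 : ℝ) δ := by
    rw [Metric.mem_ball, dist_zero_right, Real.norm_eq_abs, abs_neg, abs_of_pos (by positivity)]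
    linarith
  have h1 : h + (-(δ / 2) : ℝ) • x ∈ NumR.ampleCone k X := hball hmem
  have h2 := hnn _ h1
  rw [map_add, map_smul, ← heq, smul_eq_mul, zero_add] at h2
  nlinarith

end Main

end Groth.Agent.Lib.helper7.SurfNef
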