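import Mathlib

/-!
# Integer matrices with non-negative off-diagonal entries (helper7)

* `eq_zero_of_orth`: if `G i j ≥ 0` for `i ≠ j`, `b i < 0`, the quadratic form of `G` is negative on every integer
  vector `a` with `a · b ≠ 0`, and `a` is orthogonal to all columns of `G`, then `a = 0`.
-/

set_option autoImplicit false

namespace Groth.Agent.Lib.helper7.SurfNegDef

open Finset

variable {r : ℕ}

theorem nonpos_of_orth (G : Fin r → Fin r → ℤ) (hG : ∀ i j, i ≠ j → 0 ≤ G i j)
    (b : Fin r → ℤ) (hb : ∀ i, b i < 0)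
    (hneg : ∀ a : Fin r → ℤ, ∑ i, a i * b i ≠ 0 → ∑ i, ∑ j, a i * a j * G i j < 0)
    (a : Fin r → ℤ) (ha : ∀ j, ∑ i, a i * G i j = 0) : ∀ i, a i ≤ 0 := by
  by_contra hcon
  push Not at hcon
  obtain ⟨i₀, hi₀⟩ := hcon
  set p : Fin r → ℤ := fun i => max (a i) 0 with hp
  set n : Fin r → ℤ := fun i => max (- a i) 0 with hn
  have hp0 : ∀ i, 0 ≤ p i := fun i => le_max_right _ _
  have hn0 : ∀ i, 0 ≤ n i := fun i => le_max_right _ _
  have hpn : ∀ i, p i = a i + n i := by
    intro i
    simp only [hp, hn]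
    rcases le_total 0 (a i) with h | h
    · rw [max_eq_left h, max_eq_right (by omega)]; ring
    · rw [max_eq_right h, max_eq_left (by omega)]; ring
  have hmul : ∀ i, p i * n i = 0 := by
    intro i
    simp only [hp, hn]
    rcases le_total 0 (a i) with h | h
    · rw [max_eq_right (by omega : - a i ≤ 0), mul_zero]
    · rw [max_eq_right h, zero_mul]
  have hpi₀ : 0 < p i₀ := by
    simp only [hp]
    exact lt_max_of_lt_left hi₀
  have hsum : ∑ i, p i * b i ≠ 0 := by
    have h1 : ∑ i, p i * b i < 0 := by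
      have hle : ∀ i ∈ (univ : Finset (Fin r)), p i * b i ≤ 0 := fun i _ =>
        mul_nonpos_of_nonneg_of_nonpos (hp0 i) (hb i).le
      have hlt : p i₀ * b i₀ < 0 := mul_neg_of_pos_of_neg hpi₀ (hb i₀)
      exact Finset.sum_neg' hle ⟨i₀, mem_univ _, hlt⟩
    exact h1.ne
  have hQ := hneg p hsum
  have hQ' : ∑ i, ∑ j, p i * p j * G i j = ∑ j, ∑ i, p j * n i * G i j := by
    rw [Finset.sum_comm]
    refine Finset.sum_congr rfl (fun j _ => ?_)
    have h1 : ∑ i, p i * p j * G i j = p j * ∑ i, p i * G i j := by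
      rw [Finset.mul_sum]
      refine Finset.sum_congr rfl (fun i _ => ?_)
      ring
    have h2 : ∑ i, p i * G i j = ∑ i, n i * G i j := by
      have : ∑ i, p i * G i j = ∑ i, a i * G i j + ∑ i, n i * G i j := by
        rw [← Finset.sum_add_distrib]
        refine Finset.sum_congr rfl (fun i _ => ?_)
        rw [hpn i]; ring
      rw [this, ha j, zero_add]
    rw [h1, h2, Finset.mul_sum]
    refine Finset.sum_congr rfl (fun i _ => ?_)
    ring
  rw [hQ'] at hQ
  have hnonneg : 0 ≤ ∑ j, ∑ i, p j * n i * G i j := by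
    refine Finset.sum_nonneg (fun j _ => Finset.sum_nonneg (fun i _ => ?_))
    by_cases hij : i = j
    · subst hij
      rw [hmul i, zero_mul]
    · exact mul_nonneg (mul_nonneg (hp0 j) (hn0 i)) (hG i j hij)
  linarith

theorem eq_zero_of_orth (G : Fin r → Fin r → ℤ) (hG : ∀ i j, i ≠ j → 0 ≤ G i j)
    (b : Fin r → ℤ) (hb : ∀ i, b i < 0)
    (hneg : ∀ a : Fin r → ℤ, ∑ i, a i * b i ≠ 0 → ∑ i, ∑ j, a i * a j * G i j < 0)
    (a : Fin r → ℤ) (ha : ∀ j, ∑ i, a i * G i j = 0) : a = 0 := by
  have h1 := nonpos_of_orth G hG b hb hneg a ha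
  have h2 := nonpos_of_orth G hG b hb hneg (fun i => - a i) (by
    intro j
    have : ∑ i, (- a i) * G i j = - ∑ i, a i * G i j := by
      rw [← Finset.sum_neg_distrib]
      refine Finset.sum_congr rfl (fun i _ => ?_)
      ring
    rw [this, ha j, neg_zero])
  funext i
  have := h1 i
  have := h2 i
  simp only [Pi.zero_apply]
  omega

end Groth.Agent.Lib.helper7.SurfNegDef
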