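import Mathlib
import Groth.Agent.Lib.Helper7.SurfRDivAlg
import Groth.Agent.Lib.Helper7.SurfHodgeA

/-!
# Curves spanning a negative definite lattice are independent of an ample class (helper7)

* `linearIndependent_curves_ample`: the classes of `r` curves with negative definite intersection matrix, together
  with an ample class, are linearly independent in `N¹(X)_ℝ`.
-/

set_option autoImplicit false
set_option linter.unusedSectionVars false
set_option linter.unusedVariables false
set_option linter.style.haveILetI false

universe u

open CategoryTheory Limits AlgebraicGeometry Opposite TopologicalSpace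

namespace Groth.Agent.Lib.helper7.SurfNegDef

open Groth.Agent.Lib.helper7.SurfHodge Groth.Agent.Lib.helper7.BigCone
  Groth.Agent.Lib.helper7.SurfRDiv

variable (k : Type u) [Field k] (X : Scheme.{u}) [X.Over (Spec (CommRingCat.of k))]
  [IsProper (X ↘ Spec (CommRingCat.of k))] [PicGrp.Law X]

theorem linearIndependent_curves_ample (hdim : topologicalKrullDim X = 2)
    (B : NumR.N1R k X →ₗ[ℝ] NumR.N1R k X →ₗ[ℝ] ℝ) (hB : NumR.IsIntForm₂ k X B)
    {H : X.Modules} (hH : CohB1.IsAmple H) (r : ℕ) (I : Fin r → X.Modules)
    (hI : ∀ i, PicF.IsInvertible (I i))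
    (hneg : ∀ a : Fin r → ℤ, a ≠ 0 → ∑ i, ∑ j, a i * a j * P k X (I i) (I j) < 0) :
    LinearIndependent ℝ (fun o : Option (Fin r) =>
      Option.elim o (NumR.clR k X H hH.1) (fun i => NumR.clR k X (I i) (hI i))) := by
  classical
  have hd : topologicalKrullDim X ≤ ((2 : ℕ) : WithBot ℕ∞) := by rw [hdim]; rfl
  have hHH : 0 < P k X H H := intNum2_pos k X hdim hH hH
  set v : Option (Fin r) → NumR.N1R k X := fun o =>
    Option.elim o (NumR.clR k X H hH.1) (fun i => NumR.clR k X (I i) (hI i)) with hv
  rw [Fintype.linearIndependent_iff]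
  intro g hg
  set N : Option (Fin r) →₀ ℝ := Finsupp.equivFunOnFinite.symm g with hN
  obtain ⟨ι, _, β, Z, hNeq, hrel⟩ := exists_int_decomp N
  -- the integer functionals
  let μ : X.Modules → Option (Fin r) → ℤ := fun M o =>
    Option.elim o (P k X H M) (fun i => P k X (I i) M)
  have hvμ : ∀ (M : X.Modules) (hM : PicF.IsInvertible M) (o : Option (Fin r)),
      B (v o) (NumR.clR k X M hM) = ((μ M o : ℤ) : ℝ) := by
    intro M hM o
    cases o with
    | none => exact hB H M hH.1 hM
    | some i => exact hB (I i) M (hI i) hM
  have hrelM : ∀ (M : X.Modules), PicF.IsInvertible M → ∀ j,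
      ∑ o, (Z j) o * μ M o = 0 := by
    intro M hM j
    have h1 : (N.sum fun c a => a * (μ M c : ℝ)) = 0 := by
      rw [Finsupp.sum_fintype _ _ (fun c => by simp)]
      have h2 : B (∑ o, g o • v o) (NumR.clR k X M hM) = 0 := by rw [hg, map_zero]; rfl
      rw [map_sum, LinearMap.sum_apply] at h2
      rw [← h2]
      refine Finset.sum_congr rfl (fun o _ => ?_)
      rw [map_smul, LinearMap.smul_apply, smul_eq_mul, hvμ M hM o]
      rfl
    have h3 := hrel (μ M) h1 j
    rw [Finsupp.sum_fintype _ _ (fun c => by simp)] at h3
    exact h3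
  -- each integral vector vanishes
  have hZ0 : ∀ j, Z j = 0 := by
    intro j
    set w : ℤ := (Z j) none with hw
    set y : Fin r → ℤ := fun i => (Z j) (some i) with hy
    have e1 := hrelM H hH.1 j
    rw [Fintype.sum_option] at e1
    have e2 : ∀ l, w * P k X H (I l) + ∑ i, y i * P k X (I i) (I l) = 0 := by
      intro l
      have := hrelM (I l) (hI l) j
      rw [Fintype.sum_option] at this
      exact this
    have e1' : w * P k X H H + ∑ i, y i * P k X (I i) H = 0 := e1
    have hQ : ∑ i, ∑ l, y i * y l * P k X (I i) (I l) = w * w * P k X H H := by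
      have h1 : ∑ l, y l * (w * P k X H (I l) + ∑ i, y i * P k X (I i) (I l)) = 0 := by
        apply Finset.sum_eq_zero
        intro l _
        rw [e2 l, mul_zero]
      have h2 : ∑ l, y l * (w * P k X H (I l) + ∑ i, y i * P k X (I i) (I l)) =
          w * ∑ l, y l * P k X (I l) H + ∑ i, ∑ l, y i * y l * P k X (I i) (I l) := by
        rw [Finset.mul_sum, Finset.sum_comm, ← Finset.sum_add_distrib]
        refine Finset.sum_congr rfl (fun l _ => ?_)
        rw [mul_add, Finset.mul_sum, P_symm k X hd H (I l)]
        congr 1
        · ring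
        · refine Finset.sum_congr rfl (fun i _ => ?_)
          ring
      rw [h2] at h1
      have h3 : ∑ l, y l * P k X (I l) H = - (w * P k X H H) := by linarith
      rw [h3] at h1
      linarith
    have hy0 : y = 0 := by
      by_contra hne
      have := hneg y hne
      rw [hQ] at this
      have h4 : 0 ≤ w * w * P k X H H := mul_nonneg (mul_self_nonneg w) hHH.le
      linarith
    have hw0 : w = 0 := by
      have h5 : ∑ i, y i * P k X (I i) H = 0 := by
        apply Finset.sum_eq_zero
        intro i _
        rw [hy0, Pi.zero_apply, zero_mul]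
      rw [h5, add_zero] at e1'
      rcases mul_eq_zero.mp e1' with h | h
      · exact h
      · exact absurd h hHH.ne'
    ext o
    cases o with
    | none => exact hw0
    | some i => exact congrFun hy0 i
  have hN0 : N = 0 := by
    rw [hNeq]
    apply Finset.sum_eq_zero
    intro j _
    rw [hZ0 j, map_zero, smul_zero]
  intro o
  have : N o = 0 := by rw [hN0]; rfl
  exact this

end Groth.Agent.Lib.helper7.SurfNegDef
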