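import Mathlib

/-!
# Negative definite integer matrices: effective combinations (helper7)

* `nonpos_of_effective`: if `G` is negative definite with non-negative off-diagonal entries and `s G = f ≥ 0`,
  then `s ≤ 0`.
-/

set_option autoImplicit false

namespace Groth.Agent.Lib.helper7.SurfNegDef

open Finset

variable {r : ℕ}

theorem nonpos_of_effective (G : Fin r → Fin r → ℤ) (hG : ∀ i j, i ≠ j → 0 ≤ G i j)
    (hneg : ∀ a : Fin r → ℤ, a ≠ 0 → ∑ i, ∑ j, a i * a j * G i j < 0)
    (f : Fin r → ℤ) (hf : ∀ j, 0 ≤ f j) (s : Fin r → ℤ)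
    (hs : ∀ j, f j = ∑ i, s i * G i j) : ∀ i, s i ≤ 0 := by
  by_contra hcon
  push Not at hcon
  obtain ⟨i₀, hi₀⟩ := hcon
  set p : Fin r → ℤ := fun i => max (s i) 0 with hp
  set n : Fin r → ℤ := fun i => max (- s i) 0 with hn
  have hp0 : ∀ i, 0 ≤ p i := fun i => le_max_right _ _
  have hn0 : ∀ i, 0 ≤ n i := fun i => le_max_right _ _
  have hspn : ∀ i, s i = p i - n i := by
    intro i
    simp only [hp, hn]
    rcases le_total 0 (s i) with h | h
    · rw [max_eq_left h, max_eq_right (by omega)]; ring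
    · rw [max_eq_right h, max_eq_left (by omega)]; ring
  have hmul : ∀ i, p i * n i = 0 := by
    intro i
    simp only [hp, hn]
    rcases le_total 0 (s i) with h | h
    · rw [max_eq_right (by omega : - s i ≤ 0), mul_zero]
    · rw [max_eq_right h, zero_mul]
  have hpne : p ≠ 0 := by
    intro h0
    have : p i₀ = 0 := congrFun h0 i₀
    simp only [hp] at this
    have h1 : s i₀ ≤ max (s i₀) 0 := le_max_left _ _
    omega
  have hQ := hneg p hpne
  have h1 : ∑ j, p j * f j =
      ∑ i, ∑ j, p i * p j * G i j - ∑ j, ∑ i, p j * n i * G i j := by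
    rw [Finset.sum_comm, ← Finset.sum_sub_distrib]
    refine Finset.sum_congr rfl (fun j _ => ?_)
    rw [hs j, Finset.mul_sum, ← Finset.sum_sub_distrib]
    refine Finset.sum_congr rfl (fun i _ => ?_)
    rw [hspn i]; ring
  have h2 : 0 ≤ ∑ j, p j * f j :=
    Finset.sum_nonneg (fun j _ => mul_nonneg (hp0 j) (hf j))
  have h3 : 0 ≤ ∑ j, ∑ i, p j * n i * G i j := by
    refine Finset.sum_nonneg (fun j _ => Finset.sum_nonneg (fun i _ => ?_))
    by_cases hij : i = j
    · subst hij
      rw [hmul i, zero_mul]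
    · exact mul_nonneg (mul_nonneg (hp0 j) (hn0 i)) (hG i j hij)
  linarith

end Groth.Agent.Lib.helper7.SurfNegDef
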