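import Mathlib
import Groth.Agent.Lib.Helper7.SurfNefB
import Groth.Agent.Lib.Helper7.SurfRDivAlg

/-!
# Ample real divisors on a smooth surface are stable under numerically trivial perturbation (helper7)

* `isAmpleRDiv_add`, `isAmpleRDiv_smul`, `isAmpleRDiv_sum`
* `NT`, `AmpleCl`, `ampleCl_add`, `isAmpleRDiv_add_smul`, `isAmpleRDiv_add_smul_of_isAmpleRDiv`
* `isAmpleRDiv_of_isNumTrivialRDiv_sub` (S19733)
-/

set_option autoImplicit false
set_option linter.unusedSectionVars false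
set_option linter.style.haveILetI false
universe u

open CategoryTheory CategoryTheory.Limits AlgebraicGeometry Opposite TopologicalSpace

namespace Groth.Agent.Lib.helper7.SurfRDiv

open Groth.Agent.Lib.helper7.IntList Groth.Agent.Lib.Lead.ModTensor
open Groth.Agent.Lib.Helper18.NefPull Groth.Agent.Lib.helper7.BigCone
open Groth.Agent.Lib.helper12.TensorInv Groth.Agent.Lib.helper7.SurfNef

section Closure

variable {X : Scheme.{u}} [PicGrp.Law X]

theorem isAmpleRDiv_add {D D' : NumR.CDivR X} (h : NumR.IsAmpleRDiv X D) (h' : NumR.IsAmpleRDiv X D') :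
    NumR.IsAmpleRDiv X (D + D') := by
  obtain ⟨n, E, t, hn, ht, hE, rfl⟩ := h
  obtain ⟨m, E', t', hm, ht', hE', rfl⟩ := h'
  refine ⟨n + m, Fin.append E E', Fin.append t t', by omega, ?_, ?_, ?_⟩
  · intro i
    refine Fin.addCases (fun i => ?_) (fun i => ?_) i
    · rw [Fin.append_left]; exact ht i
    · rw [Fin.append_right]; exact ht' i
  · intro i
    refine Fin.addCases (fun i => ?_) (fun i => ?_) i
    · rw [Fin.append_left]; exact hE i
    · rw [Fin.append_right]; exact hE' i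
  · rw [Fin.sum_univ_add]
    simp only [Fin.append_left, Fin.append_right]

theorem isAmpleRDiv_smul {D : NumR.CDivR X} (h : NumR.IsAmpleRDiv X D) {c : ℝ} (hc : 0 < c) :
    NumR.IsAmpleRDiv X (c • D) := by
  obtain ⟨n, E, t, hn, ht, hE, rfl⟩ := h
  refine ⟨n, E, fun i => c * t i, hn, fun i => mul_pos hc (ht i), hE, ?_⟩
  rw [Finset.smul_sum]
  exact Finset.sum_congr rfl (fun i _ => (smul_smul _ _ _))

theorem isAmpleRDiv_sum : ∀ (n : ℕ) (f : Fin (n + 1) → NumR.CDivR X),
    (∀ i, NumR.IsAmpleRDiv X (f i)) → NumR.IsAmpleRDiv X (∑ i, f i)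
  | 0, f, hf => by
    rw [Fin.sum_univ_one]; exact hf 0
  | n + 1, f, hf => by
    rw [Fin.sum_univ_castSucc]
    exact isAmpleRDiv_add (isAmpleRDiv_sum n _ (fun i => hf _)) (hf _)

end Closure

section Geo

variable (k : Type u) [Field k] [PerfectField k] (X : Scheme.{u}) [X.Over (Spec (CommRingCat.of k))]
  [IsProper (X ↘ Spec (CommRingCat.of k))] [Smooth (X ↘ Spec (CommRingCat.of k))]
  [IsIntegral X] [PicGrp.Law X]

/-- an integral divisor pairing to zero with every curve -/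
def NT (B : NumR.N1R k X →ₗ[ℝ] NumR.N1R k X →ₗ[ℝ] ℝ) (N : NumR.CDiv X) : Prop :=
  ∀ C : NumR.Curve X, B (NumR.divClR k X (NumR.CDiv.toR X N)) (NumR.curveCl k X C.1 C.2.2.2) = 0

/-- an integral divisor whose Picard class is the class of an ample module -/
def AmpleCl (E : NumR.CDiv X) : Prop :=
  ∃ (L : X.Modules) (hL : PicF.IsInvertible L), CohB1.IsAmple L ∧
    Additive.ofMul (PicGrp.cls L hL) = NumR.divCl X E

variable {k X} in
theorem NT.zsmul {B : NumR.N1R k X →ₗ[ℝ] NumR.N1R k X →ₗ[ℝ] ℝ} {N : NumR.CDiv X} (h : NT k X B N)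
    (z : ℤ) : NT k X B (z • N) := by
  intro C
  rw [map_zsmul, map_zsmul, map_zsmul, LinearMap.smul_apply, h C, smul_zero]

theorem ampleCl_add (hdim : topologicalKrullDim X = 2)
    (B : NumR.N1R k X →ₗ[ℝ] NumR.N1R k X →ₗ[ℝ] ℝ) (hB : NumR.IsIntForm₂ k X B)
    {E N : NumR.CDiv X} (hE : AmpleCl X E) (hN : NT k X B N) : AmpleCl X (E + N) := by
  obtain ⟨L, hL, hLa, hLE⟩ := hE
  obtain ⟨M, hM, hMeq⟩ := PicGrp.exists_eq_cls (Additive.toMul (NumR.divCl X N))
  have hMeq' : Additive.ofMul (PicGrp.cls M hM) = NumR.divCl X N := by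
    rw [← hMeq]; rfl
  have hL' : PicF.IsInvertible (CohB1.tensorMod L M) := isInvertible_tensorMod hL hM
  have hclR : NumR.clR k X M hM = NumR.divClR k X (NumR.CDiv.toR X N) := by
    rw [NumR.divClR_toR, ← hMeq']
    rfl
  refine ⟨CohB1.tensorMod L M, hL', ?_, ?_⟩
  · refine isAmple_of_numEquiv k X hLa hL' (fun C hCi hCd => ?_)
    have hC : PicF.IsInvertible (ClSub.idealMod C) :=
      Groth.Agent.Lib.helper7.SurfCartier.isInvertible_idealMod_of_curve k X hdim C hCi hCd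
    have h1 := intForm_clR_curveCl k X hdim.le B hB M hM C hC
    rw [hclR, hN ⟨C, hCi, hCd, hC⟩] at h1
    have h2 : nefq k X C M = 0 := by exact_mod_cast h1.symm
    rw [nefq_tensorMod k X hL hM C hCd, h2, add_zero]
  · rw [cls_tensor hL hM hL', ofMul_mul, hLE, hMeq', map_add]

/-- an integral divisor with ample class plus a real multiple of a numerically trivial integral divisor is an ample
real divisor -/
theorem isAmpleRDiv_add_smul (hdim : topologicalKrullDim X = 2)
    (B : NumR.N1R k X →ₗ[ℝ] NumR.N1R k X →ₗ[ℝ] ℝ) (hB : NumR.IsIntForm₂ k X B)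
    {E N : NumR.CDiv X} (hE : AmpleCl X E) (hN : NT k X B N) (γ : ℝ) :
    NumR.IsAmpleRDiv X (NumR.CDiv.toR X E + γ • NumR.CDiv.toR X N) := by
  obtain ⟨p, hp⟩ := exists_nat_gt |γ|
  have hp0 : (0 : ℝ) < p := lt_of_le_of_lt (abs_nonneg γ) hp
  have hγ1 : γ / p < 1 := by
    rw [div_lt_one hp0]; exact lt_of_le_of_lt (le_abs_self γ) hp
  have hγ2 : -1 < γ / p := by
    rw [lt_div_iff₀ hp0]
    have := neg_abs_le γ
    linarith
  set lam : ℝ := (1 + γ / p) / 2 with hlam
  set mu : ℝ := (1 - γ / p) / 2 with hmu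
  have hlam0 : 0 < lam := by rw [hlam]; linarith
  have hmu0 : 0 < mu := by rw [hmu]; linarith
  have h1 : AmpleCl X (E + (p : ℤ) • N) := ampleCl_add k X hdim B hB hE (hN.zsmul _)
  have h2 : AmpleCl X (E + (-(p : ℤ)) • N) := ampleCl_add k X hdim B hB hE (hN.zsmul _)
  refine ⟨2, ![E + (p : ℤ) • N, E + (-(p : ℤ)) • N], ![lam, mu], two_pos, ?_, ?_, ?_⟩
  · intro i; fin_cases i
    · exact hlam0
    · exact hmu0
  · intro i; fin_cases i
    · exact h1
    · exact h2
  · rw [Fin.sum_univ_two]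
    simp only [Matrix.cons_val_zero, Matrix.cons_val_one, map_add, map_zsmul]
    rw [← Int.cast_smul_eq_zsmul ℝ, ← Int.cast_smul_eq_zsmul ℝ]
    have hp' : (p : ℝ) ≠ 0 := hp0.ne'
    have e1 : lam + mu = 1 := by rw [hlam, hmu]; ring
    have e2 : lam * ((p : ℤ) : ℝ) + mu * ((-(p : ℤ) : ℤ) : ℝ) = γ := by
      rw [hlam, hmu]; push_cast; field_simp; ring
    rw [smul_add, smul_add, smul_smul, smul_smul]
    rw [show lam • NumR.CDiv.toR X E + (lam * ((p : ℤ) : ℝ)) • NumR.CDiv.toR X N +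
        (mu • NumR.CDiv.toR X E + (mu * ((-(p : ℤ) : ℤ) : ℝ)) • NumR.CDiv.toR X N) =
        (lam + mu) • NumR.CDiv.toR X E +
          (lam * ((p : ℤ) : ℝ) + mu * ((-(p : ℤ) : ℤ) : ℝ)) • NumR.CDiv.toR X N by
      rw [add_smul, add_smul]; abel]
    rw [e1, e2, one_smul]

/-- an ample real divisor plus a real multiple of a numerically trivial integral divisor is ample -/
theorem isAmpleRDiv_add_smul_of_isAmpleRDiv (hdim : topologicalKrullDim X = 2)
    (B : NumR.N1R k X →ₗ[ℝ] NumR.N1R k X →ₗ[ℝ] ℝ) (hB : NumR.IsIntForm₂ k X B)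
    {D : NumR.CDivR X} (hD : NumR.IsAmpleRDiv X D) {N : NumR.CDiv X} (hN : NT k X B N) (β : ℝ) :
    NumR.IsAmpleRDiv X (D + β • NumR.CDiv.toR X N) := by
  obtain ⟨n, E, t, hn, ht, hE, rfl⟩ := hD
  obtain ⟨n, rfl⟩ : ∃ n', n = n' + 1 := ⟨n - 1, by omega⟩
  have hn0 : ((n + 1 : ℕ) : ℝ) ≠ 0 := by positivity
  have key : ∑ i, t i • NumR.CDiv.toR X (E i) + β • NumR.CDiv.toR X N =
      ∑ i, t i • (NumR.CDiv.toR X (E i) + (β / (((n + 1 : ℕ) : ℝ) * t i)) • NumR.CDiv.toR X N) := by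
    simp only [smul_add, smul_smul, Finset.sum_add_distrib]
    congr 1
    rw [← Finset.sum_smul]
    congr 1
    have : ∀ i : Fin (n + 1), t i * (β / (((n + 1 : ℕ) : ℝ) * t i)) = β / ((n + 1 : ℕ) : ℝ) := by
      intro i
      have := (ht i).ne'
      field_simp
    rw [Finset.sum_congr rfl (fun i _ => this i), Finset.sum_const, Finset.card_univ, Fintype.card_fin,
      nsmul_eq_mul]
    field_simp
  rw [key]
  apply isAmpleRDiv_sum
  intro i
  exact isAmpleRDiv_smul (isAmpleRDiv_add_smul k X hdim B hB (hE i) hN _) (ht i)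

theorem intForm_divClR_curveCl (B : NumR.N1R k X →ₗ[ℝ] NumR.N1R k X →ₗ[ℝ] ℝ)
    (hB : NumR.IsIntForm₂ k X B) (C : NumR.Curve X) (F : NumR.CDivR X) :
    B (NumR.divClR k X F) (NumR.curveCl k X C.1 C.2.2.2) =
      F.sum (fun c a => a * ((FGA.intNum k X 2 ![ClSub.idealMod c.1, ClSub.idealMod C.1]
        (Coh.structureModule X) : ℤ) : ℝ)) := by
  rw [NumR.divClR, Finsupp.linearCombination_apply, Finsupp.sum, map_sum, LinearMap.sum_apply,
    Finsupp.sum]
  refine Finset.sum_congr rfl (fun c _ => ?_)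
  rw [map_smul, LinearMap.smul_apply, smul_eq_mul]
  congr 1
  unfold NumR.curveCl
  simp only [map_neg, LinearMap.neg_apply, neg_neg]
  exact hB _ _ _ _

/-- **S19733** -/
theorem isAmpleRDiv_of_isNumTrivialRDiv_sub (hdim : topologicalKrullDim X = 2)
    (B : NumR.N1R k X →ₗ[ℝ] NumR.N1R k X →ₗ[ℝ] ℝ) (hB : NumR.IsIntForm₂ k X B)
    {D D' : NumR.CDivR X} (hD : NumR.IsAmpleRDiv X D)
    (h : NumR.IsNumTrivialRDiv k X B (D' - D)) : NumR.IsAmpleRDiv X D' := by
  classical
  obtain ⟨ι, _, β, Z, hNeq, hrel⟩ := exists_int_decomp (D' - D)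
  have hNT : ∀ j, NT k X B (Z j) := by
    intro j C
    have h1 := h (Finsupp.single C 1)
    have h2 : NumR.divClR k X (NumR.CDiv.toR X (Finsupp.single C 1)) =
        NumR.curveCl k X C.1 C.2.2.2 := by
      have : NumR.CDiv.toR X (Finsupp.single C 1) = Finsupp.single C (1 : ℝ) := by
        simp [NumR.CDiv.toR]
      rw [this, NumR.divClR, Finsupp.linearCombination_single, one_smul]
    rw [h2, intForm_divClR_curveCl k X B hB C] at h1
    have h3 := hrel (fun c => FGA.intNum k X 2 ![ClSub.idealMod c.1, ClSub.idealMod C.1]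
      (Coh.structureModule X)) h1 j
    rw [intForm_divClR_curveCl k X B hB C]
    have h4 : NumR.CDiv.toR X (Z j) = Finsupp.mapRange (Int.cast : ℤ → ℝ) Int.cast_zero (Z j) := rfl
    rw [h4, Finsupp.sum_mapRange_index (by intro c; simp)]
    have h5 : (((Z j).sum fun c z => z * FGA.intNum k X 2 ![ClSub.idealMod c.1, ClSub.idealMod C.1]
        (Coh.structureModule X) : ℤ) : ℝ) = 0 := by rw [h3]; simp
    rw [← h5, Finsupp.sum, Finsupp.sum]
    push_cast
    rfl
  have hind : ∀ s : Finset ι, NumR.IsAmpleRDiv X (D + ∑ j ∈ s, β j • NumR.CDiv.toR X (Z j)) := by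
    intro s
    induction s using Finset.induction_on with
    | empty => simpa using hD
    | insert j s hj ih =>
      rw [Finset.sum_insert hj, add_comm (β j • _) _, ← add_assoc]
      exact isAmpleRDiv_add_smul_of_isAmpleRDiv k X hdim B hB ih (hNT j) (β j)
  have hfin : D' = D + ∑ j, β j • NumR.CDiv.toR X (Z j) := by
    have : D' = D + (D' - D) := by abel
    rw [this, hNeq]
    rfl
  rw [hfin]
  exact hind Finset.univ

end Geo

end Groth.Agent.Lib.helper7.SurfRDiv
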