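import Mathlib
import Groth.Agent.Lib.Helper7.SurfHodgeC
import Groth.Agent.Lib.Helper7.SurfCurvesB
import Groth.Agent.Lib.Helper7.SurfNegDefA
import Groth.Agent.Lib.Helper7.SurfNegDefC
import Groth.Agent.Lib.Helper7.SurfNefC

/-!
# Walls of curves in the closure of the ample cone (helper7)

* `negDef_of_exists`: if a class of the positive cone is orthogonal to the curves `C_i`, their intersection matrix is
  negative definite.
* `exists_of_negDef`: conversely a nef class of the positive cone orthogonal to all `C_i` exists.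
-/

set_option autoImplicit false
set_option linter.unusedSectionVars false
set_option linter.unusedVariables false
set_option linter.style.haveILetI false

universe u

open CategoryTheory Limits AlgebraicGeometry Opposite TopologicalSpace

namespace Groth.Agent.Lib.helper7.SurfWalls

open Groth.Agent.Lib.helper7.SurfHodge Groth.Agent.Lib.helper7.SurfCurves
  Groth.Agent.Lib.helper7.SurfNegDef Groth.Agent.Lib.helper7.BigCone
  Groth.Agent.Lib.Helper18.NefPull

variable (k : Type u) [Field k] [PerfectField k] (X : Scheme.{u}) [X.Over (Spec (CommRingCat.of k))]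
  [IsProper (X ↘ Spec (CommRingCat.of k))] [Smooth (X ↘ Spec (CommRingCat.of k))]
  [IsIntegral X] [PicGrp.Law X] [Module.Finite ℝ (NumR.N1R k X)]

section

variable (hdim : topologicalKrullDim X = 2)
  (B : NumR.N1R k X →ₗ[ℝ] NumR.N1R k X →ₗ[ℝ] ℝ) (hB : NumR.IsIntForm₂ k X B)
  {H : X.Modules} (hH : CohB1.IsAmple H)
  (r : ℕ) (C : Fin r → X.IdealSheafData) (hC : Function.Injective C)
  (hCi : ∀ i, IsIntegral (C i).subscheme)
  (hCd : ∀ i, topologicalKrullDim ((C i).support : Set X) = 1)
  (hCinv : ∀ i, PicF.IsInvertible (ClSub.idealMod (C i)))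

include hB in
theorem intForm_sum_sum (a a' : Fin r → ℝ) :
    B (∑ i, a i • NumR.clR k X (ClSub.idealMod (C i)) (hCinv i))
      (∑ j, a' j • NumR.clR k X (ClSub.idealMod (C j)) (hCinv j)) =
    ∑ i, ∑ j, a i * a' j *
      ((P k X (ClSub.idealMod (C i)) (ClSub.idealMod (C j)) : ℤ) : ℝ) := by
  rw [map_sum, Finset.sum_comm]
  refine Finset.sum_congr rfl (fun j _ => ?_)
  rw [map_smul, smul_eq_mul, map_sum, LinearMap.sum_apply, Finset.mul_sum]
  refine Finset.sum_congr rfl (fun i _ => ?_)
  rw [map_smul, LinearMap.smul_apply, smul_eq_mul, hB _ _ (hCinv i) (hCinv j)]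
  ring

include hdim hB hH hC hCi hCd in
/-- **S19735 (⇒)** -/
theorem negDef_of_exists (x : NumR.N1R k X) (hxpos : x ∈ NumR.posCone k X B H hH.1)
    (hxw : ∀ i, B x (NumR.clR k X (ClSub.idealMod (C i)) (hCinv i)) = 0) :
    ∀ a : Fin r → ℤ, a ≠ 0 →
      ∑ i, ∑ j, a i * a j * P k X (ClSub.idealMod (C i)) (ClSub.idealMod (C j)) < 0 := by
  have hd : topologicalKrullDim X ≤ ((2 : ℕ) : WithBot ℕ∞) := by rw [hdim]; rfl
  set e : Fin r → NumR.N1R k X := fun i => NumR.clR k X (ClSub.idealMod (C i)) (hCinv i) with he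
  set h := NumR.clR k X H hH.1 with hh
  let va : (Fin r → ℤ) → NumR.N1R k X := fun a => ∑ i, (a i : ℝ) • e i
  let Q : (Fin r → ℤ) → ℤ := fun a =>
    ∑ i, ∑ j, a i * a j * P k X (ClSub.idealMod (C i)) (ClSub.idealMod (C j))
  have hvv : ∀ a, B (va a) (va a) = ((Q a : ℤ) : ℝ) := by
    intro a
    have := intForm_sum_sum k X B hB r C hCinv (fun i => (a i : ℝ)) (fun i => (a i : ℝ))
    simp only [va, Q, he]
    rw [this]
    push_cast
    rfl
  have hxv : ∀ a, B x (va a) = 0 := by
    intro a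
    simp only [va]
    rw [map_sum]
    apply Finset.sum_eq_zero
    intro i _
    rw [map_smul, hxw i, smul_zero]
  have hle : ∀ a, Q a ≤ 0 := by
    intro a
    have h1 := selfInt_nonpos_of_orth_posCone k X hdim B hB hH hxpos (hxv a)
    rw [hvv a] at h1
    exact_mod_cast h1
  have hzero : ∀ a, Q a = 0 → va a = 0 := by
    intro a ha
    apply eq_zero_of_orth_posCone k X hdim B hB hH hxpos _ (hxv a)
    rw [hvv a, ha]
    simp
  have hvh : ∀ a, B (va a) h =
      ((∑ i, a i * P k X (ClSub.idealMod (C i)) H : ℤ) : ℝ) := by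
    intro a
    simp only [va]
    rw [map_sum, LinearMap.sum_apply]
    push_cast
    refine Finset.sum_congr rfl (fun i _ => ?_)
    rw [map_smul, LinearMap.smul_apply, smul_eq_mul, hB _ _ (hCinv i) hH.1]
  have hve : ∀ a j, B (va a) (e j) =
      ((∑ i, a i * P k X (ClSub.idealMod (C i)) (ClSub.idealMod (C j)) : ℤ) : ℝ) := by
    intro a j
    simp only [va]
    rw [map_sum, LinearMap.sum_apply]
    push_cast
    refine Finset.sum_congr rfl (fun i _ => ?_)
    rw [map_smul, LinearMap.smul_apply, smul_eq_mul, hB _ _ (hCinv i) (hCinv j)]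
  have hneg' : ∀ a : Fin r → ℤ, ∑ i, a i * P k X (ClSub.idealMod (C i)) H ≠ 0 → Q a < 0 := by
    intro a hab
    refine lt_of_le_of_ne (hle a) (fun h0 => hab ?_)
    have h1 := hvh a
    rw [hzero a h0, map_zero, LinearMap.zero_apply] at h1
    exact_mod_cast h1.symm
  intro a ha
  by_contra hQ
  have h0 : Q a = 0 := le_antisymm (hle a) (not_lt.mp hQ)
  apply ha
  refine eq_zero_of_orth
    (fun i j => P k X (ClSub.idealMod (C i)) (ClSub.idealMod (C j)))
    (fun i j hij => intNum_idealMod_nonneg k X hdim (hCi i) (hCi j) (hCd i) (hCd j)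
      (fun h => hij (hC h)))
    (fun i => P k X (ClSub.idealMod (C i)) H)
    (fun i => intNum_idealMod_ample_neg k X hd hH (C i) (hCi i) (hCd i) (hCinv i))
    hneg' a (fun j => ?_)
  have h1 := hve a j
  rw [hzero a h0, map_zero, LinearMap.zero_apply] at h1
  exact_mod_cast h1.symm

include hdim hB hH hC hCi hCd in
/-- **S19735 (⇐)** -/
theorem exists_of_negDef
    (hneg : ∀ a : Fin r → ℤ, a ≠ 0 →
      ∑ i, ∑ j, a i * a j * P k X (ClSub.idealMod (C i)) (ClSub.idealMod (C j)) < 0) :
    ∃ x : NumR.N1R k X, x ∈ closure (NumR.ampleCone k X : Set (NumR.N1R k X)) ∧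
      x ∈ NumR.posCone k X B H hH.1 ∧ ∀ i, x ∈ NumR.wall k X B (C i) (hCinv i) := by
  have hd : topologicalKrullDim X ≤ ((2 : ℕ) : WithBot ℕ∞) := by rw [hdim]; rfl
  set e : Fin r → NumR.N1R k X := fun i => NumR.clR k X (ClSub.idealMod (C i)) (hCinv i) with he
  set h := NumR.clR k X H hH.1 with hh
  have hbneg : ∀ i, P k X (ClSub.idealMod (C i)) H < 0 := fun i =>
    intNum_idealMod_ample_neg k X hd hH (C i) (hCi i) (hCd i) (hCinv i)
  obtain ⟨t, ht0, hts⟩ := exists_nonneg_solution
    (fun i j => P k X (ClSub.idealMod (C i)) (ClSub.idealMod (C j)))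
    (fun i j hij => intNum_idealMod_nonneg k X hdim (hCi i) (hCi j) (hCd i) (hCd j)
      (fun h => hij (hC h))) hneg
    (fun i => P k X (ClSub.idealMod (C i)) H) (fun i => (hbneg i).le)
  have ht0' : ∀ i, (0 : ℝ) ≤ ((t i : ℚ) : ℝ) := fun i => by exact_mod_cast ht0 i
  set x : NumR.N1R k X := h - ∑ i, ((t i : ℚ) : ℝ) • e i with hx
  have hhe : ∀ l, B h (e l) = ((P k X (ClSub.idealMod (C l)) H : ℤ) : ℝ) := by
    intro l
    rw [intForm_symm k X hd B hB h (e l)]
    exact hB _ _ (hCinv l) hH.1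
  have hxe : ∀ l, B x (e l) = 0 := by
    intro l
    rw [hx, map_sub, LinearMap.sub_apply, hhe l, map_sum, LinearMap.sum_apply]
    have h1 : ∑ i, (B (((t i : ℚ) : ℝ) • e i)) (e l) =
        ((∑ i, t i * ((P k X (ClSub.idealMod (C i)) (ClSub.idealMod (C l)) : ℤ) : ℚ) : ℚ) : ℝ) := by
      push_cast
      refine Finset.sum_congr rfl (fun i _ => ?_)
      rw [map_smul, LinearMap.smul_apply, smul_eq_mul, hB _ _ (hCinv i) (hCinv l)]
    rw [h1, hts l]
    push_cast
    ring
  have hhh : 0 < B h h := selfInt_clR_pos k X hdim B hB hH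
  have hxh : 0 < B x h := by
    rw [hx, map_sub, LinearMap.sub_apply, map_sum, LinearMap.sum_apply]
    have h1 : ∑ i, (B (((t i : ℚ) : ℝ) • e i)) h ≤ 0 := by
      apply Finset.sum_nonpos
      intro i _
      rw [map_smul, LinearMap.smul_apply, smul_eq_mul, hB _ _ (hCinv i) hH.1]
      exact mul_nonpos_of_nonneg_of_nonpos (ht0' i) (by exact_mod_cast (hbneg i).le)
    linarith
  have hxx : B x x = B x h := by
    have h1 : B x x = B x h - ∑ i, ((t i : ℚ) : ℝ) * B x (e i) := by
      conv_lhs => rw [hx]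
      rw [map_sub, map_sum]
      congr 1
      refine Finset.sum_congr rfl (fun i _ => ?_)
      rw [map_smul, smul_eq_mul]
    rw [h1]
    have h2 : ∑ i, ((t i : ℚ) : ℝ) * B x (e i) = 0 := by
      apply Finset.sum_eq_zero
      intro i _
      rw [hxe i, mul_zero]
    rw [h2, sub_zero]
  refine ⟨x, ?_, ⟨by rw [hxx]; exact hxh, hxh⟩, ?_⟩
  · rw [Groth.Agent.Lib.helper7.SurfNef.closure_ampleCone_eq_nefCone k X hdim B hB hH]
    intro I hIi hId hI
    unfold NumR.curveCl
    rw [map_neg]
    by_cases hex : ∃ l, I = C l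
    · obtain ⟨l, rfl⟩ := hex
      have : B x (NumR.clR k X (ClSub.idealMod (C l)) hI) = 0 := hxe l
      rw [this, neg_zero]
    · push Not at hex
      have h1 : B x (NumR.clR k X (ClSub.idealMod I) hI) =
          B h (NumR.clR k X (ClSub.idealMod I) hI) -
            ∑ i, ((t i : ℚ) : ℝ) * B (e i) (NumR.clR k X (ClSub.idealMod I) hI) := by
        rw [hx, map_sub, LinearMap.sub_apply, map_sum, LinearMap.sum_apply]
        congr 1
        refine Finset.sum_congr rfl (fun i _ => ?_)
        rw [map_smul, LinearMap.smul_apply, smul_eq_mul]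
      have h2 : B h (NumR.clR k X (ClSub.idealMod I) hI) < 0 := by
        rw [hB _ _ hH.1 hI]
        have h3 := P_idealMod_eq_neg_nefq k X hd hH.1 I hI
        have h4 := Groth.Agent.Lib.helper7.NefAmple.nefq_pos_of_isAmple k X hH I hIi hId
        have h5 : P k X H (ClSub.idealMod I) < 0 := by rw [h3]; linarith
        exact_mod_cast h5
      have h3 : 0 ≤ ∑ i, ((t i : ℚ) : ℝ) * B (e i) (NumR.clR k X (ClSub.idealMod I) hI) := by
        apply Finset.sum_nonneg
        intro i _
        apply mul_nonneg (ht0' i)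
        rw [hB _ _ (hCinv i) hI]
        have := intNum_idealMod_nonneg k X hdim (hCi i) hIi (hCd i) hId (fun h => hex i h.symm)
        exact_mod_cast this
      rw [h1]
      linarith
  · intro i
    unfold NumR.wall NumR.curveCl
    rw [Set.mem_ofPred_eq, map_neg, neg_eq_zero]
    exact hxe i

end

end Groth.Agent.Lib.helper7.SurfWalls
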