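import Groth.Agent.Lib.Helper7.ThickAff2
import Groth.Agent.Lib.Helper11.SerreCritFT
import Groth.Agent.Lib.Helper11.IdealOfMono

/-!
# Thickenings of affine schemes III: gluing lemmas and finite type subideals (helper7)
-/

set_option autoImplicit false
universe u
open CategoryTheory CategoryTheory.Limits AlgebraicGeometry TopologicalSpace Opposite

namespace Groth.Agent.Lib.helper7.ThickAff

/-- gluing sections which agree locally on overlaps -/
theorem exists_glue {Y : Scheme.{u}} {κ : Type*} (V : κ → Y.Opens) (hV : ⨆ k, V k = ⊤)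
    (μ : ∀ k, Γ(Y, V k))
    (h : ∀ k l, ∀ y ∈ V k ⊓ V l, ∃ T : Y.Opens, y ∈ T ∧ ∃ (h1 : T ≤ V k) (h2 : T ≤ V l),
      Y.presheaf.map (homOfLE h1).op (μ k) = Y.presheaf.map (homOfLE h2).op (μ l)) :
    ∃ c : Γ(Y, ⊤), ∀ k, Y.presheaf.map (homOfLE le_top).op c = μ k := by
  have hcomp : TopCat.Presheaf.IsCompatible Y.sheaf.1 V μ := by
    intro k l
    choose T hyT h1 h2 hT using fun y : ↥(V k ⊓ V l) => h k l y.1 y.2
    refine Y.sheaf.eq_of_locally_eq' T (V k ⊓ V l)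
      (fun y => homOfLE (le_inf (h1 y) (h2 y))) ?_ _ _ ?_
    · intro y hy
      exact Opens.mem_iSup.mpr ⟨⟨y, hy⟩, hyT ⟨y, hy⟩⟩
    · intro y
      change Y.presheaf.map _ (Y.presheaf.map _ (μ k)) = Y.presheaf.map _ (Y.presheaf.map _ (μ l))
      rw [← ConcreteCategory.comp_apply, ← ConcreteCategory.comp_apply, ← Y.presheaf.map_comp,
        ← Y.presheaf.map_comp]
      exact hT y
  obtain ⟨c, hc, -⟩ := Y.sheaf.existsUnique_gluing' V ⊤ (fun k => homOfLE le_top)
    (by rw [hV]) μ hcomp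
  exact ⟨c, hc⟩

open Groth.Agent.Lib.helper7.IdealMod Groth.Agent.Lib.helper11.IdealOfMono in
/-- finitely many local sections of an ideal sheaf on a qcqs scheme lie in a finite type
sub-ideal sheaf -/
theorem exists_ft_subideal {X : Scheme.{u}} [CompactSpace X] [QuasiSeparatedSpace X]
    (N : X.IdealSheafData) (l : List (Σ T : X.affineOpens, N.ideal T)) :
    ∃ G : X.IdealSheafData, G ≤ N ∧ BlowUp.IsFiniteTypeIdeal G ∧
      ∀ p ∈ l, (p.2 : Γ(X, p.1.1)) ∈ G.ideal p.1 := by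
  let l' : List (Σ V : X.affineOpens, Γ(ClSub.idealMod N, V.1)) :=
    l.map fun p => ⟨p.1, (sectionsEquiv N p.1).symm p.2⟩
  obtain ⟨G₀, j, hj, hq, hft, hl⟩ :=
    Groth.Agent.Lib.helper11.SerreCritFT.exists_ft_sub_list (ClSub.idealMod N) l'
  refine ⟨idealOfHom G₀ (j ≫ ClSub.idealModι N), ?_, isFiniteTypeIdeal_idealOfHom _ _ hft, ?_⟩
  · intro U s hs
    obtain ⟨a, rfl⟩ := hs
    exact idealModι_app_mem N U ((j.app U.1).hom a)
  · intro p hp
    have hp' : (⟨p.1, (sectionsEquiv N p.1).symm p.2⟩ :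
        Σ V : X.affineOpens, Γ(ClSub.idealMod N, V.1)) ∈ l' :=
      List.mem_map.mpr ⟨p, hp, rfl⟩
    obtain ⟨τ, hτ⟩ := hl _ hp'
    refine ⟨τ, ?_⟩
    have h1 : ((ClSub.idealModι N).app p.1.1).hom ((sectionsEquiv N p.1).symm p.2) =
        (p.2 : Γ(X, p.1.1)) := by
      rw [← sectionsEquiv_coe, LinearEquiv.apply_symm_apply]
    have hτ' : (j.app p.1.1).hom τ = (sectionsEquiv N p.1).symm p.2 := hτ
    change ((ClSub.idealModι N).app p.1.1).hom ((j.app p.1.1).hom τ) = (p.2 : Γ(X, p.1.1))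
    rw [hτ', h1]

/-- a finite type ideal sheaf consisting of nilpotent functions on a quasi-compact scheme is
nilpotent -/
theorem exists_pow_eq_bot {X : Scheme.{u}} [CompactSpace X] (G : X.IdealSheafData)
    (hft : BlowUp.IsFiniteTypeIdeal G)
    (hnil : ∀ (U : X.affineOpens) (a : Γ(X, U.1)), a ∈ G.ideal U → IsNilpotent a) :
    ∃ n : ℕ, G ^ (n + 1) = ⊥ := by
  have hcov : ∀ x : X, ∃ U : X.affineOpens, x ∈ U.1 := KerSections.exists_affine_mem
  choose U hU using hcov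
  obtain ⟨s, hs⟩ := CompactSpace.elim_nhds_subcover (fun x => ((U x).1 : Set X))
    (fun x => (U x).1.2.mem_nhds (hU x))
  have hex : ∀ x : X, ∃ e : ℕ, (G.ideal (U x)) ^ e = ⊥ := by
    intro x
    have := ((hft (U x)).isNilpotent_iff_le_nilradical).mpr (fun a ha => hnil (U x) a ha)
    exact this
  choose e he using hex
  refine ⟨s.sup e, ?_⟩
  refine Scheme.IdealSheafData.ext_of_iSup_eq_top (fun x : s => U x.1) ?_ ?_
  · rw [eq_top_iff]
    intro x _
    have : x ∈ ⋃ y ∈ s, ((U y).1 : Set X) := by rw [hs]; trivial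
    obtain ⟨y, hy, hxy⟩ := Set.mem_iUnion₂.mp this
    exact Opens.mem_iSup.mpr ⟨⟨y, hy⟩, hxy⟩
  · rintro ⟨x, hx⟩
    rw [Scheme.IdealSheafData.ideal_pow, Pi.pow_apply, Scheme.IdealSheafData.ideal_bot,
      Pi.bot_apply, eq_bot_iff]
    have h1 : e x ≤ s.sup e + 1 := (Finset.le_sup hx).trans (Nat.le_succ _)
    exact (Ideal.pow_le_pow_right h1).trans (he x).le

end Groth.Agent.Lib.helper7.ThickAff
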