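import Groth.Agent.Lib.Helper7.ThickAff3

set_option autoImplicit false
universe u
open CategoryTheory CategoryTheory.Limits AlgebraicGeometry TopologicalSpace Opposite

namespace Groth.Agent.Lib.helper7.ThickAff

theorem app_res {X Y : Scheme.{u}} (f : X ⟶ Y) {U V : Y.Opens} (h : U ≤ V) (a : Γ(Y, V)) :
    (f.app U).hom (Y.presheaf.map (homOfLE h).op a) =
      X.presheaf.map (homOfLE (show f ⁻¹ᵁ U ≤ f ⁻¹ᵁ V from fun _ hx => h hx)).op
        ((f.app V).hom a) :=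
  congr($(f.naturality (homOfLE h).op).hom a)

variable {X X' : Scheme.{u}} (t : X ⟶ X') [IsClosedImmersion t]

theorem exists_ideal_lift [CompactSpace X'] [QuasiSeparatedSpace X'] {κ : Type*} [Fintype κ]
    (W : κ → X'.affineOpens) (hW : ⨆ k, (W k).1 = ⊤) (c : Γ(X, ⊤)) :
    ∃ G : X'.IdealSheafData, G ≤ t.ker ∧ BlowUp.IsFiniteTypeIdeal G ∧
      ∀ {Y' : Scheme.{u}} (ι : Y' ⟶ X') [IsClosedImmersion ι] (u : X ⟶ Y'), u ≫ ι = t →
        G ≤ ι.ker → ∃ c' : Γ(Y', ⊤), u.appTop.hom c' = c := by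
  classical
  have hlift : ∀ k, ∃ a : Γ(X', (W k).1), (t.app (W k).1).hom a =
      X.presheaf.map (homOfLE le_top).op c := fun k => t.app_surjective (W k).1 (W k).2 _
  choose lam hlam using hlift
  have hcomp : ∀ k l, IsCompact (((W k).1 ⊓ (W l).1 : X'.Opens) : Set X') := fun k l =>
    QuasiSeparatedSpace.inter_isCompact _ _ (W k).1.2 (W k).2.isCompact (W l).1.2
      (W l).2.isCompact
  have hs : ∀ k l, ∃ s : Set X'.affineOpens, s.Finite ∧
      ((W k).1 ⊓ (W l).1 : X'.Opens) = ⨆ i ∈ s, (i : X'.Opens) := fun k l =>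
    isCompact_iff_finite_and_eq_biUnion_affineOpens.mp (hcomp k l)
  choose s hsfin hseq using hs
  have hmem : ∀ (k l : κ) (T : X'.affineOpens) (h : T.1 ≤ (W k).1 ⊓ (W l).1),
      X'.presheaf.map (homOfLE (h.trans inf_le_left)).op (lam k) -
        X'.presheaf.map (homOfLE (h.trans inf_le_right)).op (lam l) ∈ t.ker.ideal T := by
    intro k l T h
    rw [Scheme.Hom.ker_apply, RingHom.mem_ker, map_sub, sub_eq_zero, app_res, app_res, hlam,
      hlam, ← ConcreteCategory.comp_apply, ← ConcreteCategory.comp_apply, ← X.presheaf.map_comp,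
      ← X.presheaf.map_comp]
    rfl
  let δ : ∀ (k l : κ) (T : X'.affineOpens), t.ker.ideal T := fun k l T =>
    if h : T.1 ≤ (W k).1 ⊓ (W l).1 then ⟨_, hmem k l T h⟩ else 0
  let L : List (Σ T : X'.affineOpens, t.ker.ideal T) :=
    (Finset.univ : Finset (κ × κ)).toList.flatMap fun kl =>
      (hsfin kl.1 kl.2).toFinset.toList.map fun T => ⟨T, δ kl.1 kl.2 T⟩
  obtain ⟨G, hGN, hGft, hGL⟩ := exists_ft_subideal t.ker L
  refine ⟨G, hGN, hGft, ?_⟩
  intro Y' ι _ u hu hGι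
  subst hu
  -- the sections to glue
  have hδG : ∀ (k l : κ) (T : X'.affineOpens), T ∈ s k l →
      ∀ h : T.1 ≤ (W k).1 ⊓ (W l).1,
      X'.presheaf.map (homOfLE (h.trans inf_le_left)).op (lam k) -
        X'.presheaf.map (homOfLE (h.trans inf_le_right)).op (lam l) ∈ G.ideal T := by
    intro k l T hT h
    have h1 : (⟨T, δ k l T⟩ : Σ T : X'.affineOpens, (u ≫ ι).ker.ideal T) ∈ L := by
      refine List.mem_flatMap.mpr ⟨(k, l), Finset.mem_toList.mpr (Finset.mem_univ _), ?_⟩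
      refine List.mem_map.mpr ⟨T, Finset.mem_toList.mpr ((hsfin k l).mem_toFinset.mpr hT), rfl⟩
    have h2 := hGL _ h1
    simp only [δ, dif_pos h] at h2
    exact h2
  obtain ⟨c', hc'⟩ := exists_glue (fun k => ι ⁻¹ᵁ (W k).1)
    (by
      rw [eq_top_iff]
      intro y _
      have : ι y ∈ (⊤ : X'.Opens) := trivial
      rw [← hW] at this
      obtain ⟨k, hk⟩ := Opens.mem_iSup.mp this
      exact Opens.mem_iSup.mpr ⟨k, hk⟩)
    (fun k => (ι.app (W k).1).hom (lam k))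
    (by
      intro k l y hy
      have hy' : ι y ∈ (W k).1 ⊓ (W l).1 := hy
      rw [hseq k l] at hy'
      obtain ⟨T, hT⟩ := Opens.mem_iSup.mp hy'
      obtain ⟨hTs, hyT⟩ := Opens.mem_iSup.mp hT
      have hle : T.1 ≤ (W k).1 ⊓ (W l).1 := by
        rw [hseq k l]
        exact le_iSup₂_of_le T hTs le_rfl
      refine ⟨ι ⁻¹ᵁ T.1, hyT, fun _ hx => (hle hx).1, fun _ hx => (hle hx).2, ?_⟩
      have h3 := hGι T (hδG k l T hTs hle)
      rw [Scheme.Hom.ker_apply, RingHom.mem_ker, map_sub, sub_eq_zero, app_res, app_res] at h3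
      exact h3)
  refine ⟨c', ?_⟩
  refine X.sheaf.eq_of_locally_eq' (fun k => (u ≫ ι) ⁻¹ᵁ (W k).1) ⊤ (fun k => homOfLE le_top)
    ?_ _ _ ?_
  · intro x _
    have : (u ≫ ι) x ∈ (⊤ : X'.Opens) := trivial
    rw [← hW] at this
    obtain ⟨k, hk⟩ := Opens.mem_iSup.mp this
    exact Opens.mem_iSup.mpr ⟨k, hk⟩
  · intro k
    have h4 : (u.app (ι ⁻¹ᵁ (W k).1)).hom ((ι.app (W k).1).hom (lam k)) =
        X.presheaf.map (homOfLE le_top).op c := hlam k
    change X.presheaf.map _ (u.appTop.hom c') = X.presheaf.map _ c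
    refine Eq.trans ?_ h4
    rw [← hc' k]
    exact (app_res u (le_top : ι ⁻¹ᵁ (W k).1 ≤ ⊤) c').symm

theorem exists_ideal_lift_family [CompactSpace X'] [QuasiSeparatedSpace X'] {κ : Type*} [Fintype κ]
    (W : κ → X'.affineOpens) (hW : ⨆ k, (W k).1 = ⊤) {σ : Type*} [Finite σ] (c : σ → Γ(X, ⊤)) :
    ∃ G : X'.IdealSheafData, G ≤ t.ker ∧ BlowUp.IsFiniteTypeIdeal G ∧
      ∀ {Y' : Scheme.{u}} (ι : Y' ⟶ X') [IsClosedImmersion ι] (u : X ⟶ Y'), u ≫ ι = t →
        G ≤ ι.ker → ∀ j, ∃ c' : Γ(Y', ⊤), u.appTop.hom c' = c j := by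
  choose G hGN hGft hG using fun j => exists_ideal_lift t W hW (c j)
  refine ⟨⨆ j, G j, iSup_le hGN, ?_, ?_⟩
  · intro U
    rw [Scheme.IdealSheafData.ideal_iSup, iSup_apply]
    exact Submodule.fg_iSup _ (fun j => hGft j U)
  · intro Y' ι _ u hu hle j
    exact hG j ι u hu ((le_iSup G j).trans hle)

end Groth.Agent.Lib.helper7.ThickAff
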