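import Groth.Agent.Lib.Lead.OmegaSmooth
import Groth.Agent.Lib.Helper20.ExtPowCoh2
import Groth.Agent.Lib.Helper16.FLF5
import Groth.Prelude.Def_Canon

/-!
# The canonical sheaf of a smooth morphism of relative dimension `n` is invertible (helper7)

* `isInvertible_of_isExtPow_omega`: for `f : X ⟶ S` quasi-separated and smooth of relative dimension `n`, any
  `n`-th exterior power (`ExtPow.IsExtPow n (Omega.sheaf f) ω`) of `Ω_{X/S}` is an invertible module.
* `isInvertible_of_isTopDiff`: the same for `Canon.IsTopDiff f n ω`.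
-/

set_option autoImplicit false
set_option linter.style.haveILetI false
set_option linter.unusedSectionVars false
universe u
open CategoryTheory CategoryTheory.Limits AlgebraicGeometry TopologicalSpace Opposite
open Scheme.Modules
open Groth.Agent.Lib.helper7

namespace Groth.Agent.Lib.helper7.TopDiffInv

/-- the top exterior power of a free module of rank `n` is free of rank one -/
theorem nonempty_equiv_of_basis {R M : Type*} [CommRing R] [AddCommGroup M] [Module R M] (n : ℕ)
    (b : Module.Basis (Fin n) R M) : Nonempty ((⋀[R]^n M) ≃ₗ[R] (Fin 1 → R)) := by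
  classical
  let B := b.exteriorPower n
  have hcard : Nat.card (Set.powersetCard (Fin n) n) = 1 := by
    rw [Set.powersetCard.card]
    simp
  haveI : Finite (Set.powersetCard (Fin n) n) := Nat.finite_of_card_ne_zero (by omega)
  let eq : Set.powersetCard (Fin n) n ≃ Fin 1 := Finite.equivFinOfCardEq hcard
  exact ⟨(B.reindex eq).equivFun⟩

variable {X S : Scheme.{u}} (f : X ⟶ S) [QuasiSeparated f]

theorem isInvertible_of_isExtPow_omega (n : ℕ) [SmoothOfRelativeDimension n f] (ω : X.Modules)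
    (hω : ExtPow.IsExtPow n (Omega.sheaf f) ω) : PicF.IsInvertible ω := by
  haveI : (Omega.sheaf f).IsQuasicoherent := OmegaAffine.omega_qcoh f
  haveI : ω.IsQuasicoherent :=
    Groth.Agent.Lib.helper20.ExtPowCoh2.isQuasicoherent_of_isExtPow hω
  obtain ⟨φ, -⟩ := hω
  intro x
  obtain ⟨W, hW, V, hV, hxV, e, hst⟩ :=
    SmoothOfRelativeDimension.exists_isStandardSmoothOfRelativeDimension (n := n) (f := f) x
  refine ⟨V, hxV, ?_⟩
  letI := (f.appLE W V e).hom.toAlgebra
  obtain ⟨ψ, -⟩ := OmegaStruct.exists_sectionsEquiv f (OmegaSh.dOmega f)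
    (OmegaUniv.isUniversal_dOmega f) hV hW e
  haveI : Algebra.IsStandardSmoothOfRelativeDimension n Γ(S, W) Γ(X, V) := hst
  haveI : Nonempty V := ⟨⟨x, hxV⟩⟩
  haveI : Nontrivial Γ(X, V) := Scheme.component_nontrivial X V
  haveI : Algebra.IsStandardSmooth Γ(S, W) Γ(X, V) :=
    Algebra.IsStandardSmoothOfRelativeDimension.isStandardSmooth n
  have hrank : Module.rank Γ(X, V) Ω[Γ(X, V)⁄Γ(S, W)] = n :=
    Algebra.IsStandardSmoothOfRelativeDimension.rank_kaehlerDifferential n
  haveI : Module.Finite Γ(X, V) Ω[Γ(X, V)⁄Γ(S, W)] := inferInstance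
  have hfr : Module.finrank Γ(X, V) Ω[Γ(X, V)⁄Γ(S, W)] = n := by
    rw [Module.finrank, hrank]
    simp
  let b := Module.finBasisOfFinrankEq Γ(X, V) Ω[Γ(X, V)⁄Γ(S, W)] hfr
  let b' : Module.Basis (Fin n) Γ(X, V) Γ(Omega.sheaf f, V) := b.map ψ.symm
  obtain ⟨e1⟩ := nonempty_equiv_of_basis n b'
  let e2 : Γ(ω, V) ≃ₗ[Γ(X, V)] (Fin 1 → Γ(X, V)) := (φ ⟨V, hV⟩) ≪≫ₗ e1
  obtain ⟨i⟩ := Groth.Agent.Lib.helper16.FLF.restrict_iso_freeMod_of_sections ω hV 1 e2
  exact ⟨i ≪≫ Groth.Agent.Lib.helper16.FLF.freeModOneIso _⟩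

theorem isInvertible_of_isTopDiff (n : ℕ) [SmoothOfRelativeDimension n f] (ω : X.Modules)
    (hω : Canon.IsTopDiff f n ω) : PicF.IsInvertible ω :=
  isInvertible_of_isExtPow_omega f n ω hω

end Groth.Agent.Lib.helper7.TopDiffInv
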