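import Groth.Agent.Lib.Helper7.TorAPI4
import Groth.Agent.Lib.Helper7.LeftDerivedLES2

/-!
# helper7: Tor on `ModuleCat`: the embedding `Tor_1(M, X₃) ↪ M ⊗ X₁`, natural in `M`
-/

universe u

open CategoryTheory Category Limits MonoidalCategory

namespace Groth.Agent.Lib.helper7.TorAPI

variable {A : Type u} [CommRing A]
variable {S : ShortComplex (ModuleCat.{u} A)} (hS : S.ShortExact)
variable (P' : ProjectiveResolution S.X₁) (P'' : ProjectiveResolution S.X₃)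

/-- the connecting map `Tor_1(M, X₃) ⟶ Tor_0(M, X₁)` attached to a choice of resolutions. -/
noncomputable def δ₀ (M : ModuleCat.{u} A) : (T 1 M).obj S.X₃ ⟶ (T 0 M).obj S.X₁ :=
  LeftDerivedLES.δ' hS P' P'' (tF M) 0

lemma δ₀_comp_map (M : ModuleCat.{u} A) : δ₀ hS P' P'' M ≫ (T 0 M).map S.f = 0 :=
  LeftDerivedLES.δ'_comp_map hS P' P'' (tF M) 0

lemma map_comp_δ₀ (M : ModuleCat.{u} A) : (T 1 M).map S.g ≫ δ₀ hS P' P'' M = 0 :=
  LeftDerivedLES.map_comp_δ' hS P' P'' (tF M) 0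

lemma exact_δ₀_map (M : ModuleCat.{u} A) :
    (ShortComplex.mk (δ₀ hS P' P'' M) ((T 0 M).map S.f) (δ₀_comp_map hS P' P'' M)).Exact :=
  LeftDerivedLES.exact_δ'_map hS P' P'' (tF M) 0

lemma exact_map_δ₀ (M : ModuleCat.{u} A) :
    (ShortComplex.mk ((T 1 M).map S.g) (δ₀ hS P' P'' M) (map_comp_δ₀ hS P' P'' M)).Exact :=
  LeftDerivedLES.exact_map_δ' hS P' P'' (tF M) 0

lemma δ₀_naturality {M M' : ModuleCat.{u} A} (α : M ⟶ M') :
    δ₀ hS P' P'' M ≫ T₁map 0 α S.X₁ = T₁map 1 α S.X₃ ≫ δ₀ hS P' P'' M' :=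
  LeftDerivedLES.δ'_naturality hS P' P'' ((tensoringLeft (ModuleCat.{u} A)).map α) 0

/-- the map `Tor_1(M, X₃) ⟶ M ⊗ X₁` attached to a choice of resolutions. -/
noncomputable def dMap (M : ModuleCat.{u} A) : (T 1 M).obj S.X₃ ⟶ (tF M).obj S.X₁ :=
  δ₀ hS P' P'' M ≫ (tor0Iso M).hom.app S.X₁

lemma dMap_comp (M : ModuleCat.{u} A) : dMap hS P' P'' M ≫ (tF M).map S.f = 0 := by
  have hnat : (T 0 M).map S.f ≫ (tor0Iso M).hom.app S.X₂ =
      (tor0Iso M).hom.app S.X₁ ≫ (tF M).map S.f := (tor0Iso M).hom.naturality S.f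
  rw [dMap, assoc, ← hnat, reassoc_of% (δ₀_comp_map hS P' P'' M), zero_comp]

lemma dMap_exact (M : ModuleCat.{u} A) :
    (ShortComplex.mk (dMap hS P' P'' M) ((tF M).map S.f) (dMap_comp hS P' P'' M)).Exact := by
  have hnat : (T 0 M).map S.f ≫ (tor0Iso M).hom.app S.X₂ =
      (tor0Iso M).hom.app S.X₁ ≫ (tF M).map S.f := (tor0Iso M).hom.naturality S.f
  refine ShortComplex.exact_of_iso ?_ (exact_δ₀_map hS P' P'' M)
  exact ShortComplex.isoMk (Iso.refl _) ((tor0Iso M).app S.X₁) ((tor0Iso M).app S.X₂)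
    (by simp [dMap]) (by simp)

lemma dMap_mono (M : ModuleCat.{u} A) (h₁ : IsZero ((T 1 M).obj S.X₂)) :
    Mono (dMap hS P' P'' M) := by
  haveI : Mono (δ₀ hS P' P'' M) :=
    (exact_map_δ₀ hS P' P'' M).mono_g (h₁.eq_of_src _ _)
  rw [dMap]
  infer_instance

lemma dMap_naturality {M M' : ModuleCat.{u} A} (α : M ⟶ M') :
    dMap hS P' P'' M ≫ (α ▷ S.X₁) = T₁map 1 α S.X₃ ≫ dMap hS P' P'' M' := by
  have h1 := tor0Iso_naturality₁ α S.X₁
  have h2 := δ₀_naturality hS P' P'' α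
  rw [dMap, dMap, assoc, ← h1, reassoc_of% h2]

include hS in
/-- `Tor_1(M, X₃) ↪ M ⊗ X₁` with image the kernel of `M ⊗ X₁ → M ⊗ X₂`, naturally in `M`. -/
theorem exists_linearMap_tor_one_natural {M M' : ModuleCat.{u} A} (α : M ⟶ M')
    (h₁ : IsZero ((T 1 M).obj S.X₂)) (h₁' : IsZero ((T 1 M').obj S.X₂)) :
    ∃ (d : ((T 1 M).obj S.X₃) →ₗ[A] (TensorProduct A M S.X₁))
      (d' : ((T 1 M').obj S.X₃) →ₗ[A] (TensorProduct A M' S.X₁)),
      Function.Injective d ∧ LinearMap.range d = LinearMap.ker (LinearMap.lTensor M S.f.hom) ∧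
      Function.Injective d' ∧
        LinearMap.range d' = LinearMap.ker (LinearMap.lTensor M' S.f.hom) ∧
      ∀ x, d' ((T₁map 1 α S.X₃).hom x) = LinearMap.rTensor S.X₁ α.hom (d x) := by
  obtain ⟨P'⟩ : Nonempty (ProjectiveResolution S.X₁) := HasProjectiveResolution.out
  obtain ⟨P''⟩ : Nonempty (ProjectiveResolution S.X₃) := HasProjectiveResolution.out
  haveI := dMap_mono hS P' P'' M h₁
  haveI := dMap_mono hS P' P'' M' h₁'
  refine ⟨(dMap hS P' P'' M).hom, (dMap hS P' P'' M').hom,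
    (ModuleCat.mono_iff_injective _).1 inferInstance,
    (ShortComplex.moduleCat_exact_iff_range_eq_ker _).1 (dMap_exact hS P' P'' M),
    (ModuleCat.mono_iff_injective _).1 inferInstance,
    (ShortComplex.moduleCat_exact_iff_range_eq_ker _).1 (dMap_exact hS P' P'' M'), ?_⟩
  intro x
  have h := dMap_naturality hS P' P'' α
  have h' := congrArg (fun t => t.hom x) h
  exact h'.symm

end Groth.Agent.Lib.helper7.TorAPI
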