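import Groth.Prelude.Def_DRing2
import Mathlib.Algebra.Category.ModuleCat.Projective
import Mathlib.Algebra.Category.ModuleCat.Monoidal.Basic
import Mathlib.CategoryTheory.Monoidal.Tor
import Mathlib.CategoryTheory.Abelian.LeftDerived
import Mathlib.Algebra.Homology.ShortComplex.ModuleCat
import Mathlib.LinearAlgebra.TensorProduct.RightExactness
import Mathlib.Algebra.Exact.Basic

/-!
# helper7: a criterion for the vanishing of `Tor_1` (Mathlib's `Tor`, resolving the second argument)
-/

universe u

namespace Groth.Agent.Lib.helper7.TorOne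

open CategoryTheory CategoryTheory.Limits MonoidalCategory TensorProduct

variable {A : Type u} [CommRing A]

/-- If `M ⊗ ker π → M ⊗ P` is injective for every surjection `π : P → N` from a projective
module, then `Tor_1(M, N) = 0`. -/
theorem tor_one_subsingleton (M N : Type u) [AddCommGroup M] [Module A M] [AddCommGroup N]
    [Module A N]
    (H : ∀ (P : Type u) [AddCommGroup P] [Module A P] [Module.Projective A P] (π : P →ₗ[A] N),
      Function.Surjective π → Function.Injective (LinearMap.lTensor M (LinearMap.ker π).subtype)) :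
    Subsingleton (DRing.Tor A 1 M N) := by
  let F := (tensoringLeft (ModuleCat.{u} A)).obj (ModuleCat.of A M)
  suffices hz : IsZero ((F.leftDerived 1).obj (ModuleCat.of A N)) from
    ModuleCat.subsingleton_of_isZero hz
  obtain ⟨P⟩ : Nonempty (ProjectiveResolution (ModuleCat.of A N)) :=
    ⟨ProjectiveResolution.of (ModuleCat.of A N)⟩
  refine IsZero.of_iso ?_ (P.isoLeftDerivedObj F 1)
  erw [← HomologicalComplex.exactAt_iff_isZero_homology]
  rw [HomologicalComplex.exactAt_iff' _ 2 1 0 (by simp) (by simp)]
  rw [ShortComplex.moduleCat_exact_iff]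
  intro x hx
  have hx' : LinearMap.lTensor M (P.complex.d 1 0).hom x = 0 := hx
  change ∃ x₁ : M ⊗[A] (P.complex.X 2), LinearMap.lTensor M (P.complex.d 2 1).hom x₁ = x
  clear hx
  obtain ⟨x, rfl⟩ : ∃ x' : M ⊗[A] (P.complex.X 1), x' = x := ⟨x, rfl⟩
  -- the augmentation
  obtain ⟨π, hπ⟩ : ∃ π : P.complex.X 0 →ₗ[A] N, π = (P.π.f 0).hom := ⟨_, rfl⟩
  have hπ_surj : Function.Surjective π := by
    rw [hπ]
    exact (ModuleCat.epi_iff_surjective (P.π.f 0)).mp inferInstance
  have hproj : Module.Projective A (P.complex.X 0) := by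
    rw [IsProjective.iff_projective]
    exact P.projective 0
  have hinj := H (P.complex.X 0) π hπ_surj
  -- exactness at `P₀`
  have hex0 : ∀ y : P.complex.X 0, π y = 0 ↔ ∃ z : P.complex.X 1, (P.complex.d 1 0).hom z = y := by
    have := (ShortComplex.mk (P.complex.d 1 0) (P.π.f 0) P.complex_d_comp_π_f_zero).exact_of_g_is_cokernel
      P.isColimitCokernelCofork
    rw [ShortComplex.moduleCat_exact_iff] at this
    intro y
    constructor
    · intro hy
      exact this y (by rw [hπ] at hy; exact hy)
    · rintro ⟨z, rfl⟩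
      rw [hπ]
      exact ShortComplex.moduleCat_zero_apply
        (ShortComplex.mk (P.complex.d 1 0) (P.π.f 0) P.complex_d_comp_π_f_zero) z
  -- exactness at `P₁`
  have hex1 : ∀ y : P.complex.X 1, (P.complex.d 1 0).hom y = 0 ↔
      ∃ z : P.complex.X 2, (P.complex.d 2 1).hom z = y := by
    have := P.exact_succ 0
    rw [ShortComplex.moduleCat_exact_iff] at this
    intro y
    constructor
    · intro hy
      exact this y hy
    · rintro ⟨z, rfl⟩
      exact ShortComplex.moduleCat_zero_apply
        (ShortComplex.mk _ _ (P.complex.d_comp_d 2 1 0)) z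
  -- factor `d₁`
  obtain ⟨d1', hd1'⟩ : ∃ d1' : P.complex.X 1 →ₗ[A] LinearMap.ker π,
      ∀ y, ((d1' y : LinearMap.ker π) : P.complex.X 0) = (P.complex.d 1 0).hom y :=
    ⟨LinearMap.codRestrict _ (P.complex.d 1 0).hom (fun y => (hex0 _).mpr ⟨y, rfl⟩), fun y => rfl⟩
  have hd1'_surj : Function.Surjective d1' := by
    rintro ⟨y, hy⟩
    obtain ⟨z, rfl⟩ := (hex0 y).mp hy
    exact ⟨z, Subtype.ext (hd1' z)⟩
  have hfac : (P.complex.d 1 0).hom = (LinearMap.ker π).subtype ∘ₗ d1' :=
    LinearMap.ext fun y => (hd1' y).symm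
  have hexact : Function.Exact (P.complex.d 2 1).hom d1' := by
    intro y
    rw [Set.mem_range, ← hex1 y]
    constructor
    · intro h
      rw [← hd1', h]
      rfl
    · intro h
      exact Subtype.ext ((hd1' y).trans h)
  rw [hfac, LinearMap.lTensor_comp, LinearMap.comp_apply] at hx'
  have h0 := hinj (hx'.trans (map_zero _).symm)
  exact ((lTensor_exact M hexact hd1'_surj) x).mp h0

end Groth.Agent.Lib.helper7.TorOne
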