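import Groth.Agent.Lib.Helper7.TorOne
import Groth.Agent.Lib.Helper7.GlueTor

/-!
# helper7: `Tor_1` (Mathlib's `Tor`, resolving the second argument) via projective presentations
-/

universe u

namespace Groth.Agent.Lib.helper7.TorPres

open CategoryTheory CategoryTheory.Limits MonoidalCategory TensorProduct

variable {A : Type u} [CommRing A]

/-- If `Tor_1(M, N) = 0` then `M ⊗ ker π → M ⊗ P` is injective for the presentation coming from
Mathlib's chosen projective resolution, hence for every projective presentation. -/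
theorem lTensor_ker_injective_of_isZero (M N : Type u) [AddCommGroup M] [Module A M] [AddCommGroup N]
    [Module A N]
    (h : IsZero (((Tor (ModuleCat.{u} A) 1).obj (ModuleCat.of A M)).obj (ModuleCat.of A N)))
    (P₀ : Type u) [AddCommGroup P₀] [Module A P₀] [Module.Projective A P₀] (π₀ : P₀ →ₗ[A] N)
    (hπ₀ : Function.Surjective π₀) :
    Function.Injective (LinearMap.lTensor M (LinearMap.ker π₀).subtype) := by
  let F := (tensoringLeft (ModuleCat.{u} A)).obj (ModuleCat.of A M)
  have hz : IsZero ((F.leftDerived 1).obj (ModuleCat.of A N)) := h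
  obtain ⟨P⟩ : Nonempty (ProjectiveResolution (ModuleCat.of A N)) :=
    ⟨ProjectiveResolution.of (ModuleCat.of A N)⟩
  have hz' := IsZero.of_iso hz (P.isoLeftDerivedObj F 1).symm
  erw [← HomologicalComplex.exactAt_iff_isZero_homology] at hz'
  rw [HomologicalComplex.exactAt_iff' _ 2 1 0 (by simp) (by simp)] at hz'
  rw [ShortComplex.moduleCat_exact_iff] at hz'
  have hE : ∀ x : M ⊗[A] (P.complex.X 1), LinearMap.lTensor M (P.complex.d 1 0).hom x = 0 →
      ∃ x₁ : M ⊗[A] (P.complex.X 2), LinearMap.lTensor M (P.complex.d 2 1).hom x₁ = x := hz'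
  clear hz' hz h
  -- the augmentation
  obtain ⟨π, hπ⟩ : ∃ π : P.complex.X 0 →ₗ[A] N, π = (P.π.f 0).hom := ⟨_, rfl⟩
  have hπ_surj : Function.Surjective π := by
    rw [hπ]
    exact (ModuleCat.epi_iff_surjective (P.π.f 0)).mp inferInstance
  have hproj : Module.Projective A (P.complex.X 0) := by
    rw [IsProjective.iff_projective]
    exact P.projective 0
  have hex0 : ∀ y : P.complex.X 0, π y = 0 ↔ ∃ z : P.complex.X 1, (P.complex.d 1 0).hom z = y := by
    have := (ShortComplex.mk (P.complex.d 1 0) (P.π.f 0) P.complex_d_comp_π_f_zero).exact_of_g_is_cokernel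
      P.isColimitCokernelCofork
    rw [ShortComplex.moduleCat_exact_iff] at this
    intro y
    constructor
    · intro hy
      exact this y (by rw [hπ] at hy; exact hy)
    · rintro ⟨z, rfl⟩
      rw [hπ]
      exact ShortComplex.moduleCat_zero_apply
        (ShortComplex.mk (P.complex.d 1 0) (P.π.f 0) P.complex_d_comp_π_f_zero) z
  have hdd : ∀ z : P.complex.X 2, (P.complex.d 1 0).hom ((P.complex.d 2 1).hom z) = 0 := fun z =>
    ShortComplex.moduleCat_zero_apply (ShortComplex.mk _ _ (P.complex.d_comp_d 2 1 0)) z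
  obtain ⟨d1', hd1'⟩ : ∃ d1' : P.complex.X 1 →ₗ[A] LinearMap.ker π,
      ∀ y, ((d1' y : LinearMap.ker π) : P.complex.X 0) = (P.complex.d 1 0).hom y :=
    ⟨LinearMap.codRestrict _ (P.complex.d 1 0).hom (fun y => (hex0 _).mpr ⟨y, rfl⟩), fun y => rfl⟩
  have hd1'_surj : Function.Surjective d1' := by
    rintro ⟨y, hy⟩
    obtain ⟨z, rfl⟩ := (hex0 y).mp hy
    exact ⟨z, Subtype.ext (hd1' z)⟩
  have hfac : (P.complex.d 1 0).hom = (LinearMap.ker π).subtype ∘ₗ d1' :=
    LinearMap.ext fun y => (hd1' y).symm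
  have hzero : d1' ∘ₗ (P.complex.d 2 1).hom = 0 := by
    ext z
    rw [LinearMap.comp_apply, LinearMap.zero_apply, Submodule.coe_zero, hd1', hdd]
  have hinj : Function.Injective (LinearMap.lTensor M (LinearMap.ker π).subtype) := by
    rw [injective_iff_map_eq_zero]
    intro z hz
    obtain ⟨x, rfl⟩ := LinearMap.lTensor_surjective M hd1'_surj z
    rw [← LinearMap.comp_apply, ← LinearMap.lTensor_comp, ← hfac] at hz
    obtain ⟨w, rfl⟩ := hE x hz
    rw [← LinearMap.comp_apply, ← LinearMap.lTensor_comp, hzero, LinearMap.lTensor_zero,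
      LinearMap.zero_apply]
  exact GlueTor.lTensor_ker_injective_of_pres π hπ_surj π₀ hπ₀ hinj

/-- Conversely. -/
theorem isZero_of_lTensor_ker_injective (M N : Type u) [AddCommGroup M] [Module A M]
    [AddCommGroup N] [Module A N]
    (P₀ : Type u) [AddCommGroup P₀] [Module A P₀] [Module.Projective A P₀] (π₀ : P₀ →ₗ[A] N)
    (hπ₀ : Function.Surjective π₀)
    (hinj : Function.Injective (LinearMap.lTensor M (LinearMap.ker π₀).subtype)) :
    IsZero (((Tor (ModuleCat.{u} A) 1).obj (ModuleCat.of A M)).obj (ModuleCat.of A N)) := by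
  have : Subsingleton (DRing.Tor A 1 M N) := TorOne.tor_one_subsingleton M N
    (fun P _ _ _ π hπ => GlueTor.lTensor_ker_injective_of_pres π₀ hπ₀ π hπ hinj)
  exact ModuleCat.isZero_of_subsingleton _

theorem isZero_iff (M N : Type u) [AddCommGroup M] [Module A M]
    [AddCommGroup N] [Module A N]
    (P₀ : Type u) [AddCommGroup P₀] [Module A P₀] [Module.Projective A P₀] (π₀ : P₀ →ₗ[A] N)
    (hπ₀ : Function.Surjective π₀) :
    IsZero (((Tor (ModuleCat.{u} A) 1).obj (ModuleCat.of A M)).obj (ModuleCat.of A N)) ↔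
      Function.Injective (LinearMap.lTensor M (LinearMap.ker π₀).subtype) :=
  ⟨fun h => lTensor_ker_injective_of_isZero M N h P₀ π₀ hπ₀,
    isZero_of_lTensor_ker_injective M N P₀ π₀ hπ₀⟩

/-- Version with an arbitrary short exact sequence `0 → K → P → N → 0`, `P` projective. -/
theorem isZero_iff_of_exact (M N : Type u) [AddCommGroup M] [Module A M]
    [AddCommGroup N] [Module A N]
    {K P₀ : Type u} [AddCommGroup K] [Module A K] [AddCommGroup P₀] [Module A P₀]
    [Module.Projective A P₀] (j : K →ₗ[A] P₀) (π₀ : P₀ →ₗ[A] N)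
    (hj : Function.Injective j) (hex : Function.Exact j π₀) (hπ₀ : Function.Surjective π₀) :
    IsZero (((Tor (ModuleCat.{u} A) 1).obj (ModuleCat.of A M)).obj (ModuleCat.of A N)) ↔
      Function.Injective (LinearMap.lTensor M j) := by
  rw [isZero_iff M N P₀ π₀ hπ₀]
  obtain ⟨e, he⟩ : ∃ e : K ≃ₗ[A] LinearMap.ker π₀, (LinearMap.ker π₀).subtype ∘ₗ e.toLinearMap = j := by
    have hr : LinearMap.range j = LinearMap.ker π₀ := (LinearMap.exact_iff.1 hex).symm
    refine ⟨(LinearEquiv.ofInjective j hj).trans (LinearEquiv.ofEq _ _ hr), ?_⟩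
    ext x
    rfl
  rw [← he, LinearMap.lTensor_comp]
  constructor
  · intro h
    exact h.comp (LinearEquiv.lTensor M e).injective
  · intro h
    have := h.comp (LinearEquiv.lTensor M e).symm.injective
    convert this using 1
    ext x
    simp only [Function.comp_apply, LinearMap.comp_apply]
    congr 1
    exact ((LinearEquiv.lTensor M e).apply_symm_apply x).symm

end Groth.Agent.Lib.helper7.TorPres
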