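import Mathlib.RingTheory.FiniteLength
import Mathlib.RingTheory.SimpleModule.Basic
import Mathlib.RingTheory.LocalRing.MaximalIdeal.Basic
import Mathlib.RingTheory.KrullDimension.Field
import Mathlib.RingTheory.Flat.Basic
import Mathlib.Algebra.Module.Torsion.Basic

/-!
# helper7: finite length modules over a local domain are killed by a nonzero element; consequences
-/

universe u

open TensorProduct

namespace Groth.Agent.Lib.helper7.TorsionAux

variable {O : Type u} [CommRing O]

/-- a finite length module over a local domain which is not a field is killed by a nonzero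
element. -/
theorem exists_ne_zero_smul_eq_zero_of_isFiniteLength [IsDomain O] [IsLocalRing O]
    (hO : ¬ IsField O) {T : Type*} [AddCommGroup T] [Module O T] (h : IsFiniteLength O T) :
    ∃ a : O, a ≠ 0 ∧ ∀ t : T, a • t = 0 := by
  obtain ⟨b, hbm, hb0⟩ : ∃ b : O, b ∈ IsLocalRing.maximalIdeal O ∧ b ≠ 0 := by
    by_contra hcon
    push Not at hcon
    apply hO
    rw [IsLocalRing.isField_iff_maximalIdeal_eq]
    exact (Submodule.eq_bot_iff _).2 hcon
  induction h with
  | of_subsingleton => exact ⟨1, one_ne_zero, fun t => Subsingleton.elim _ _⟩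
  | @of_simple_quotient M _ _ N _ _ ih =>
    obtain ⟨a, ha0, ha⟩ := ih
    refine ⟨a * b, mul_ne_zero ha0 hb0, fun t => ?_⟩
    have hmax : (Module.annihilator O (M ⧸ N)).IsMaximal := IsSimpleModule.annihilator_isMaximal
    have hann : Module.annihilator O (M ⧸ N) = IsLocalRing.maximalIdeal O :=
      IsLocalRing.eq_maximalIdeal hmax
    have hb : b ∈ Module.annihilator O (M ⧸ N) := hann ▸ hbm
    have hbt : b • (Submodule.Quotient.mk t : M ⧸ N) = 0 :=
      Module.mem_annihilator.1 hb _
    rw [← Submodule.Quotient.mk_smul, Submodule.Quotient.mk_eq_zero] at hbt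
    have := ha ⟨b • t, hbt⟩
    rw [mul_smul]
    exact congrArg Subtype.val this

variable {N M : Type*} [AddCommGroup N] [Module O N] [AddCommGroup M] [Module O M]

/-- if `a` kills the cokernel of an injective map `f`, there is `g` with `g ∘ f = a`, `f ∘ g = a`. -/
theorem exists_quasi_inverse (f : N →ₗ[O] M) (hf : Function.Injective f) (a : O)
    (ha : ∀ t : M ⧸ LinearMap.range f, a • t = 0) :
    ∃ g : M →ₗ[O] N, (∀ x, g (f x) = a • x) ∧ ∀ y, f (g y) = a • y := by
  have hmem : ∀ y : M, a • y ∈ LinearMap.range f := by
    intro y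
    have := ha (Submodule.Quotient.mk y)
    rwa [← Submodule.Quotient.mk_smul, Submodule.Quotient.mk_eq_zero] at this
  let e := LinearEquiv.ofInjective f hf
  let c : M →ₗ[O] LinearMap.range f := LinearMap.codRestrict _ (a • LinearMap.id) hmem
  refine ⟨e.symm.toLinearMap ∘ₗ c, ?_, ?_⟩
  · intro x
    apply hf
    have h1 : f (e.symm (c (f x))) = (c (f x) : M) := by
      have := e.apply_symm_apply (c (f x))
      exact congrArg Subtype.val this
    change f (e.symm (c (f x))) = f (a • x)
    rw [h1, map_smul]
    rfl
  · intro y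
    have h1 : f (e.symm (c y)) = (c y : M) := by
      have := e.apply_symm_apply (c y)
      exact congrArg Subtype.val this
    change f (e.symm (c y)) = a • y
    rw [h1]
    rfl

/-- multiplication by a nonzero element is injective on `E ⊗ F`, `E` torsion-free, `F` flat. -/
theorem smul_tensor_injective [IsDomain O] (E F : Type*) [AddCommGroup E] [Module O E]
    [NoZeroSMulDivisors O E] [AddCommGroup F] [Module O F] [Module.Flat O F] {a : O}
    (ha : a ≠ 0) : Function.Injective (fun x : E ⊗[O] F => a • x) := by
  have h1 : Function.Injective (a • (LinearMap.id : E →ₗ[O] E)) := by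
    intro x y hxy
    exact smul_right_injective E ha hxy
  have h2 := Module.Flat.rTensor_preserves_injective_linearMap (M := F) _ h1
  have h3 : LinearMap.rTensor F (a • (LinearMap.id : E →ₗ[O] E)) =
      a • (LinearMap.id : E ⊗[O] F →ₗ[O] E ⊗[O] F) := by
    rw [LinearMap.rTensor_smul, LinearMap.rTensor_id]
  rw [h3] at h2
  exact h2

end Groth.Agent.Lib.helper7.TorsionAux
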