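import Groth.Agent.Lib.Helper7.IdealMod
import Groth.Agent.Lib.Helper7.AbSheafExact
import Groth.Agent.Lib.Helper7.LocalLift
import Groth.Prelude.Def_UnitsSh

/-!
# The units sequence of a square-zero ideal (helper7)

For `J * J = ⊥`: `phi J hJ : Coh.toAb (idealMod J) ⟶ unitsAb X`, `f ↦ 1 + f`, and
`0 → J → O_X^× → i_* O_{X₀}^× → 0` is short exact (`main15747`).
Also `iot` (sections of the ideal as functions, any open), `iot_mul_eq_zero`, `sub_iot`,
`exists_iot`, `iot_injective`.
-/

set_option autoImplicit false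
universe u
open CategoryTheory CategoryTheory.Limits AlgebraicGeometry TopologicalSpace Opposite
open Scheme.Modules Groth.Agent.Lib.helper7

namespace Groth.Agent.Lib.helper7.UnitsSeq

variable {X : Scheme.{u}} (J : X.IdealSheafData)

/-- the inclusion of sections of the ideal into functions -/
noncomputable def iot (U : X.Opens) (f : Γ(ClSub.idealMod J, U)) : Γ(X, U) :=
  ((ClSub.idealModι J).app U).hom f

theorem iot_map {U V : X.Opens} (h : V ≤ U) (f : Γ(ClSub.idealMod J, U)) :
    iot J V ((ClSub.idealMod J).presheaf.map (homOfLE h).op f) =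
      X.presheaf.map (homOfLE h).op (iot J U f) := by
  have := LocalLift.app_naturality' (ClSub.idealModι J) (homOfLE h).op
  exact congr($(this).hom f)

theorem iot_mul_eq_zero (hJ : J * J = ⊥) (U : X.Opens) (f g : Γ(ClSub.idealMod J, U)) :
    iot J U f * iot J U g = 0 := by
  let S := {V : X.affineOpens // V.1 ≤ U}
  have hcov : U ≤ ⨆ i : S, (i.1.1 : X.Opens) := by
    intro x hx
    obtain ⟨V, hV, hxV, hVU⟩ := Opens.isBasis_iff_nbhd.mp X.isBasis_affineOpens hx
    exact Opens.mem_iSup.mpr ⟨⟨⟨V, hV⟩, hVU⟩, hxV⟩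
  apply TopCat.Sheaf.eq_of_locally_eq' X.sheaf (fun i : S => (i.1.1 : X.Opens)) U
    (fun i => homOfLE i.2) hcov
  intro i
  change X.presheaf.map (homOfLE i.2).op (iot J U f * iot J U g) =
    X.presheaf.map (homOfLE i.2).op 0
  rw [map_zero, map_mul, ← iot_map, ← iot_map]
  have h1 := IdealMod.idealModι_app_mem J i.1 ((ClSub.idealMod J).presheaf.map (homOfLE i.2).op f)
  have h2 := IdealMod.idealModι_app_mem J i.1 ((ClSub.idealMod J).presheaf.map (homOfLE i.2).op g)
  have h3 : iot J i.1.1 ((ClSub.idealMod J).presheaf.map (homOfLE i.2).op f) *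
      iot J i.1.1 ((ClSub.idealMod J).presheaf.map (homOfLE i.2).op g) ∈ (J * J).ideal i.1 :=
    Ideal.mul_mem_mul h1 h2
  rw [hJ] at h3
  exact h3

/-- the unit `1 + f` attached to a section `f` of a square-zero ideal -/
noncomputable def oneAdd (hJ : J * J = ⊥) (U : X.Opens) (f : Γ(ClSub.idealMod J, U)) : (Γ(X, U))ˣ :=
  ⟨1 + iot J U f, 1 - iot J U f,
    by
      have := iot_mul_eq_zero J hJ U f f
      linear_combination -this,
    by
      have := iot_mul_eq_zero J hJ U f f
      linear_combination -this⟩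

theorem oneAdd_val (hJ : J * J = ⊥) (U : X.Opens) (f : Γ(ClSub.idealMod J, U)) :
    (oneAdd J hJ U f).val = 1 + iot J U f := rfl

theorem iot_add (U : X.Opens) (f g : Γ(ClSub.idealMod J, U)) :
    iot J U (f + g) = iot J U f + iot J U g := map_add _ f g

theorem iot_zero (U : X.Opens) : iot J U 0 = 0 := map_zero _

theorem oneAdd_add (hJ : J * J = ⊥) (U : X.Opens) (f g : Γ(ClSub.idealMod J, U)) :
    oneAdd J hJ U (f + g) = oneAdd J hJ U f * oneAdd J hJ U g := by
  apply Units.ext
  rw [Units.val_mul, oneAdd_val, oneAdd_val, oneAdd_val, iot_add]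
  have := iot_mul_eq_zero J hJ U f g
  linear_combination -this

theorem oneAdd_zero (hJ : J * J = ⊥) (U : X.Opens) : oneAdd J hJ U 0 = 1 := by
  apply Units.ext
  rw [oneAdd_val, iot_zero, add_zero, Units.val_one]

theorem oneAdd_map (hJ : J * J = ⊥) {U V : X.Opens} (h : V ≤ U) (f : Γ(ClSub.idealMod J, U)) :
    oneAdd J hJ V ((ClSub.idealMod J).presheaf.map (homOfLE h).op f) =
      Units.map (X.presheaf.map (homOfLE h).op).hom.toMonoidHom (oneAdd J hJ U f) := by
  apply Units.ext
  rw [oneAdd_val, iot_map]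
  change _ = (X.presheaf.map (homOfLE h).op).hom (1 + iot J U f)
  rw [map_add, map_one]

noncomputable def phi (hJ : J * J = ⊥) : Coh.toAb (ClSub.idealMod J) ⟶ UnitsSh.unitsAb X :=
  ⟨{ app := fun U => AddCommGrpCat.ofHom
        { toFun := fun f => UnitsSh.sectOfUnit (O := X.presheaf) (U := U)
            (oneAdd J hJ U.unop (show Γ(ClSub.idealMod J, U.unop) from f))
          map_zero' := by
            change UnitsSh.sectOfUnit (O := X.presheaf) (U := U) (oneAdd J hJ U.unop 0) = 0
            rw [oneAdd_zero]; rfl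
          map_add' := fun f g => by
            change UnitsSh.sectOfUnit (O := X.presheaf) (U := U) (oneAdd J hJ U.unop
              ((show Γ(ClSub.idealMod J, U.unop) from f) + (show Γ(ClSub.idealMod J, U.unop) from g))) = _
            rw [oneAdd_add]; rfl }
     naturality := by
      intro U V i
      ext f
      have hi : i = (homOfLE (leOfHom i.unop)).op := Subsingleton.elim _ _
      have := oneAdd_map J hJ (leOfHom i.unop) (show Γ(ClSub.idealMod J, U.unop) from f)
      rw [← hi] at this
      exact congrArg (UnitsSh.sectOfUnit (O := X.presheaf) (U := V)) this }⟩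

theorem sub_iot (U : X.Opens) (f : Γ(ClSub.idealMod J, U)) :
    (J.subschemeι.app U).hom (iot J U f) = 0 :=
  (IdealMod.mem_range_idealModι_iff J U _).mp ⟨f, rfl⟩

theorem exists_iot (U : X.Opens) (s : Γ(X, U)) (h : (J.subschemeι.app U).hom s = 0) :
    ∃ f : Γ(ClSub.idealMod J, U), iot J U f = s :=
  (IdealMod.mem_range_idealModι_iff J U s).mpr h

theorem iot_injective (U : X.Opens) : Function.Injective (iot J U) :=
  IdealMod.idealModι_app_injective J U

theorem phi_app (hJ : J * J = ⊥) (U : X.Opens) (f : Γ(ClSub.idealMod J, U)) :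
    UnitsSh.unitOfSect (O := X.presheaf) ((phi J hJ).hom.app (op U) f) = oneAdd J hJ U f := rfl

theorem comap_phi (hJ : J * J = ⊥) : phi J hJ ≫ UnitsSh.comap J.subschemeι = 0 := by
  apply Sheaf.hom_ext
  ext U f
  have h1 : Units.map (J.subschemeι.app U.unop).hom.toMonoidHom
      (oneAdd J hJ U.unop (show Γ(ClSub.idealMod J, U.unop) from f)) = 1 := by
    apply Units.ext
    change (J.subschemeι.app U.unop).hom (1 + iot J U.unop _) = 1
    rw [map_add, map_one, sub_iot, add_zero]
  exact congrArg (UnitsSh.sectOfUnit (O := J.subschemeι.base _* J.subscheme.presheaf) (U := U)) h1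

theorem main15747 (hJ : J * J = ⊥) :
    ∃ φ : Coh.toAb (ClSub.idealMod J) ⟶ UnitsSh.unitsAb X,
      (∀ (U : X.Opens) (f : (ClSub.idealMod J).val.obj (op U)),
        (UnitsSh.unitOfSect (φ.hom.app (op U) f)).val =
          1 + (show X.sheaf.obj.obj (op U) from (ClSub.idealModι J).val.app (op U) f)) ∧
      ∃ w : φ ≫ UnitsSh.comap J.subschemeι = 0,
        (ShortComplex.mk φ (UnitsSh.comap J.subschemeι) w).ShortExact := by
  refine ⟨phi J hJ, fun U f => rfl, comap_phi J hJ, ?_⟩
  apply AbSheafExact.shortExact_of_sections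
  · intro U a b hab
    have h1 : oneAdd J hJ U (show Γ(ClSub.idealMod J, U) from a) =
        oneAdd J hJ U (show Γ(ClSub.idealMod J, U) from b) :=
      congrArg (UnitsSh.unitOfSect (O := X.presheaf) (U := op U)) hab
    have h2 := congrArg Units.val h1
    rw [oneAdd_val, oneAdd_val] at h2
    exact iot_injective J U (add_left_cancel h2)
  · intro U s hs
    let u : (Γ(X, U))ˣ := UnitsSh.unitOfSect (O := X.presheaf) (U := op U) s
    have h1 : Units.map (J.subschemeι.app U).hom.toMonoidHom u = 1 :=
      congrArg (UnitsSh.unitOfSect (O := J.subschemeι.base _* J.subscheme.presheaf) (U := op U)) hs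
    have h2 : (J.subschemeι.app U).hom u.val = 1 := congrArg Units.val h1
    have h3 : (J.subschemeι.app U).hom (u.val - 1) = 0 := by
      rw [map_sub, map_one, h2, sub_self]
    obtain ⟨f, hf⟩ := exists_iot J U _ h3
    refine ⟨f, ?_⟩
    have h4 : oneAdd J hJ U f = u := by
      apply Units.ext
      rw [oneAdd_val, hf]; ring
    exact congrArg (UnitsSh.sectOfUnit (O := X.presheaf) (U := op U)) h4
  · intro U s x hx
    obtain ⟨W, hW, hxW, hWU⟩ := Opens.isBasis_iff_nbhd.mp X.isBasis_affineOpens hx
    refine ⟨W, hWU, hxW, ?_⟩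
    let AW : X.affineOpens := ⟨W, hW⟩
    set s' := ((CohTop.push J.subschemeι.base).obj (UnitsSh.unitsAb J.subscheme)).obj.map
      (homOfLE hWU).op s with hs'
    let v : (Γ(J.subscheme, J.subschemeι ⁻¹ᵁ W))ˣ :=
      UnitsSh.unitOfSect (O := J.subschemeι.base _* J.subscheme.presheaf) (U := op W) s'
    obtain ⟨a, ha⟩ := J.subschemeι_app_surjective AW v.val
    obtain ⟨b, hb⟩ := J.subschemeι_app_surjective AW v⁻¹.val
    have h3 : (J.subschemeι.app W).hom (a * b - 1) = 0 := by
      rw [map_sub, map_mul, map_one]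
      have ha' : (J.subschemeι.app W).hom a = v.val := ha
      have hb' : (J.subschemeι.app W).hom b = v⁻¹.val := hb
      rw [ha', hb', Units.mul_inv, sub_self]
    obtain ⟨e, he⟩ := exists_iot J W _ h3
    have hab : a * (b * (oneAdd J hJ W e)⁻¹.val) = 1 := by
      have h5 : a * b = (oneAdd J hJ W e).val := by rw [oneAdd_val, he]; ring
      rw [← mul_assoc, h5, Units.mul_inv]
    let A : (Γ(X, W))ˣ := Units.mkOfMulEqOne a _ hab
    refine ⟨UnitsSh.sectOfUnit (O := X.presheaf) (U := op W) A, ?_⟩
    have h6 : Units.map (J.subschemeι.app W).hom.toMonoidHom A = v := by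
      apply Units.ext
      exact ha
    exact congrArg (UnitsSh.sectOfUnit (O := J.subschemeι.base _* J.subscheme.presheaf) (U := op W)) h6

end Groth.Agent.Lib.helper7.UnitsSeq
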