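import Groth.Agent.Lib.Helper7.OmegaSeqAlg

/-!
# Differentials of a thickening, receptacle form (helper7)

The map `B ⊗_{B'} (B' ⊗_A Ω_{A/R}) → B ⊗_{B'} Ω_{B'/R}` in "universal property" form.
-/

set_option autoImplicit false
set_option linter.style.haveILetI false
set_option linter.unusedSectionVars false
universe u

namespace Groth.Agent.Lib.helper7.OmegaSeqAlg

open Groth.Agent.Lib.helper8.PullbackUnit TensorProduct KaehlerDifferential

section Thick

variable (R A B' B : Type u) [CommRing R] [CommRing A] [CommRing B'] [CommRing B]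
  [Algebra R A] [Algebra A B'] [Algebra R B'] [IsScalarTower R A B'] [Algebra B' B]
  {M₁ M₂ P₁ P₂ P₃ : Type u} [AddCommGroup M₁] [Module A M₁] [AddCommGroup M₂] [Module B' M₂]
  [AddCommGroup P₁] [Module B' P₁] [AddCommGroup P₂] [Module B P₂] [AddCommGroup P₃] [Module B P₃]
  (d₁ : A →+ M₁) (ψ₁ : M₁ ≃ₗ[A] Ω[A⁄R]) (hψ₁ : ∀ a, ψ₁ (d₁ a) = D R A a)
  (d₂ : B' →+ M₂) (ψ₂ : M₂ ≃ₗ[B'] Ω[B'⁄R]) (hψ₂ : ∀ a, ψ₂ (d₂ a) = D R B' a)
  (k₁ : M₁ →+ P₁) (hk₁ : IsBC (algebraMap A B') k₁)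
  (c : P₁ →ₗ[B'] M₂) (hc : ∀ a, c (k₁ (d₁ a)) = d₂ (algebraMap A B' a))
  (k₂ : P₁ →+ P₂) (hk₂ : IsBC (algebraMap B' B) k₂)
  (k₃ : M₂ →+ P₃) (hk₃ : IsBC (algebraMap B' B) k₃)
  (ic : P₂ →ₗ[B] P₃) (hic : ∀ x, ic (k₂ x) = k₃ (c x))
  (hbij : Function.Bijective ((KaehlerDifferential.mapBaseChange R A B').baseChange B))

include hψ₁ in
theorem span_range_d : Submodule.span A (Set.range d₁) = ⊤ := by
  have h1 := KaehlerDifferential.span_range_derivation R A
  rw [eq_top_iff]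
  intro x _
  have hx : ψ₁ x ∈ (⊤ : Submodule A Ω[A⁄R]) := trivial
  rw [← h1] at hx
  have h2 : Submodule.span A (Set.range (D R A)) =
      Submodule.map ψ₁.toLinearMap (Submodule.span A (Set.range d₁)) := by
    rw [Submodule.map_span]
    congr 1
    ext y
    constructor
    · rintro ⟨a, rfl⟩
      exact ⟨d₁ a, ⟨a, rfl⟩, hψ₁ a⟩
    · rintro ⟨_, ⟨a, rfl⟩, rfl⟩
      exact ⟨a, (hψ₁ a).symm⟩
  rw [h2] at hx
  obtain ⟨q, hq, hqx⟩ := hx
  have : q = x := ψ₁.injective hqx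
  rwa [← this]

include hψ₁ hψ₂ hk₁ hc hk₂ hk₃ hic hbij in
theorem thick_bijective : Function.Bijective ic := by
  obtain ⟨e₁, he₁⟩ := exists_equiv_of_isBC hk₁
  obtain ⟨e₂, he₂⟩ := exists_equiv_of_isBC hk₂
  obtain ⟨e₃, he₃⟩ := exists_equiv_of_isBC hk₃
  let E₁ : P₁ ≃ₗ[B'] B' ⊗[A] Ω[A⁄R] :=
    e₁ ≪≫ₗ TensorProduct.AlgebraTensorModule.congr (LinearEquiv.refl B' B') ψ₁
  -- `c` is `mapBaseChange`
  have h : ψ₂.toLinearMap ∘ₗ c = (KaehlerDifferential.mapBaseChange R A B') ∘ₗ E₁.toLinearMap := by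
    refine ext_of_isBC hk₁ _ _ (fun n => ?_)
    change ψ₂ (c (k₁ n)) = KaehlerDifferential.mapBaseChange R A B'
      ((TensorProduct.AlgebraTensorModule.congr (LinearEquiv.refl B' B') ψ₁) (e₁ (k₁ n)))
    rw [he₁]
    change _ = KaehlerDifferential.mapBaseChange R A B' ((1 : B') ⊗ₜ[A] ψ₁ n)
    have hn : n ∈ Submodule.span A (Set.range d₁) := by
      rw [span_range_d R A d₁ ψ₁ hψ₁]; trivial
    induction hn using Submodule.span_induction with
    | mem y hy =>
      obtain ⟨b, rfl⟩ := hy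
      rw [hc, hψ₂, hψ₁, KaehlerDifferential.mapBaseChange_tmul, one_smul,
        KaehlerDifferential.map_D]
    | zero => simp
    | add y z _ _ hy hz =>
      rw [map_add, map_add, map_add, map_add, tmul_add, map_add, hy, hz]
    | smul b y _ hy =>
      rw [hk₁.map_smul, map_smul, map_smul, hy, map_smul ψ₁, tmul_smul,
        ← algebraMap_smul B' b ((1 : B') ⊗ₜ[A] ψ₁ y), map_smul]
  have hc' : ∀ x, c x = ψ₂.symm (KaehlerDifferential.mapBaseChange R A B' (E₁ x)) := by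
    intro x
    have := congr($h x)
    change ψ₂ (c x) = _ at this
    rw [LinearEquiv.eq_symm_apply, this]
    rfl
  let F : P₂ →ₗ[B] P₃ := e₃.symm.toLinearMap ∘ₗ
    (TensorProduct.AlgebraTensorModule.congr (LinearEquiv.refl B B) ψ₂.symm).toLinearMap ∘ₗ
    ((KaehlerDifferential.mapBaseChange R A B').baseChange B) ∘ₗ
    (TensorProduct.AlgebraTensorModule.congr (LinearEquiv.refl B B) E₁).toLinearMap ∘ₗ
    e₂.toLinearMap
  have hF : ic = F := by
    refine ext_of_isBC hk₂ _ _ (fun x => ?_)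
    change ic (k₂ x) = e₃.symm
      ((TensorProduct.AlgebraTensorModule.congr (LinearEquiv.refl B B) ψ₂.symm)
        (((KaehlerDifferential.mapBaseChange R A B').baseChange B)
          ((TensorProduct.AlgebraTensorModule.congr (LinearEquiv.refl B B) E₁) (e₂ (k₂ x)))))
    rw [he₂, hic, TensorProduct.AlgebraTensorModule.congr_tmul, LinearMap.baseChange_tmul,
      TensorProduct.AlgebraTensorModule.congr_tmul, LinearEquiv.refl_apply, ← hc',
      LinearEquiv.eq_symm_apply, he₃]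
    rfl
  rw [hF]
  have hF' : (F : P₂ → P₃) = e₃.symm ∘
      (TensorProduct.AlgebraTensorModule.congr (LinearEquiv.refl B B) ψ₂.symm) ∘
      ((KaehlerDifferential.mapBaseChange R A B').baseChange B) ∘
      (TensorProduct.AlgebraTensorModule.congr (LinearEquiv.refl B B) E₁) ∘ e₂ := rfl
  rw [hF']
  exact (LinearEquiv.bijective _).comp ((LinearEquiv.bijective _).comp
    (hbij.comp ((LinearEquiv.bijective _).comp (LinearEquiv.bijective _))))

end Thick

end Groth.Agent.Lib.helper7.OmegaSeqAlg
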