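import Mathlib
import Groth.Agent.Lib.Helper7.VAmpSqC

/-!
# Very ampleness from surjectivity of multiplication of sections (helper7)

General form of the chart argument of `VAmpSqB/C`: an ample, globally generated invertible module `M` on a proper
scheme over a field whose section ring is generated in degree one (`hmult`) is very ample.
-/

set_option autoImplicit false
set_option linter.style.haveILetI false
set_option linter.unusedSectionVars false
set_option linter.unusedVariables false
set_option backward.isDefEq.respectTransparency false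

universe u

open CategoryTheory CategoryTheory.Limits AlgebraicGeometry Opposite TopologicalSpace Module
open Scheme.Modules

namespace Groth.Agent.Lib.helper7.VAmpGen

open Groth.Agent.Lib.Helper18 Groth.Agent.Lib.helper11.IsoLocus Groth.Agent.Lib.helper11.InvMod
open Groth.Agent.Lib.helper11.GenLocus Groth.Agent.Lib.helper12.ProjUP3
open Groth.Agent.Lib.helper12.ProjUP4 Groth.Agent.Lib.helper12.ProjUP5 Groth.Agent.Lib.helper12.ProjUP6
open Groth.Agent.Lib.helper12.VAmple1
open Groth.Agent.Lib.helper9.VAPrep Groth.Agent.Lib.helper9.VAChart Groth.Agent.Lib.helper9.VAMain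
open Groth.Agent.Lib.helper8.FlatCohBC Groth.Agent.Lib.helper16.SepPts
open Groth.Agent.Lib.helper12.GGTensor Groth.Agent.Lib.helper7.VAmpSq
open Groth.Agent.Lib.Lead.ModTensor Groth.Agent.Lib.helper12.TensorSec

local notation "resM" => Groth.Agent.Lib.helper12.TwistExtend.res

section chart

variable {X : Scheme.{u}} {k : Type u} [Field k] (q : X ⟶ Spec (CommRingCat.of k))
variable [CompactSpace X] [QuasiSeparatedSpace X]

/-- every global section of `M^{⊗(m+1)}` restricted to `X_{σ j}` is a `k[ratios]`-multiple of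
`(σ j)^{m+1}` -/
theorem exists_ratio_smul_pow {M : X.Modules} (hM : PicF.IsInvertible M)
    (hmult : ∀ m : ℕ, Submodule.span (X.ringCatSheaf.obj.obj (op ⊤))
        (Set.range (fun p : (CohB1.tensorPow M (m + 1)).val.obj (op ⊤) × M.val.obj (op ⊤) =>
          SecTwist.tmul (CohB1.tensorPow M (m + 1)) M ⊤ p.1 p.2)) = ⊤) {n : ℕ}
    (σ : Fin (n + 1) → (Coh.structureModule X ⟶ M))
    (hspan : ∀ x : M.val.obj (op ⊤), ∃ c : Fin (n + 1) → k,
        x = ∑ l, (Coh.toGlobal q (c l)) •
          (show M.val.obj (op ⊤) from sec (σ l) ⊤))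
    (j : Fin (n + 1)) (m : ℕ)
    (t : (CohB1.tensorPow M (m + 1)).val.obj (op ⊤)) :
    letI := (secAlg q (CohB1.genLocus _ (σ j))).toAlgebra
    ∃ c ∈ Algebra.adjoin k
        (Set.range fun l => ratio (σ j) (σ l) (CohB1.genLocus _ (σ j)) le_rfl),
      resM (CohB1.tensorPow M (m + 1))
          (le_top : CohB1.genLocus _ (σ j) ≤ ⊤) t =
        c • SecTwist.pow (σ j) (m + 1) (CohB1.genLocus _ (σ j)) := by
  letI := (secAlg q (CohB1.genLocus _ (σ j))).toAlgebra
  induction m with
  | zero =>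
    -- `t = 1 ⊗ λ(t)`
    set v := ((leftUnitor M).hom.val.app (op ⊤)).hom t with hv
    have ht : t = SecTwist.tmul (Coh.structureModule X) M ⊤
        ((1 : X.ringCatSheaf.obj.obj (op ⊤)) : (Coh.structureModule X).val.obj (op ⊤)) v := by
      rw [← Groth.Agent.Lib.helper7.Koszul.leftUnitor_inv_apply, hv]
      exact (iso_inv_hom_apply (leftUnitor M) ⊤ t).symm
    obtain ⟨d, hd', hdv⟩ := exists_ratio_smul q σ hspan j v
    refine ⟨d, hd', ?_⟩
    rw [ht]
    refine (SecTwist.map_tmul _ _ (homOfLE le_top) _ _).trans ?_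
    have h2 : M.val.map (homOfLE (le_top : CohB1.genLocus _ (σ j) ≤ ⊤)).op v =
        d • sec (σ j) (CohB1.genLocus _ (σ j)) := hdv
    rw [h2]
    refine (Groth.Agent.Lib.helper11.TensorEpi.tmul_smul_right _ _ _ d _ _).trans ?_
    congr 1
    change SecTwist.tmul _ _ _ _ _ = SecTwist.tmul _ _ _ _ _
    congr 1
    exact PresheafOfModules.unit_map_one _ _
  | succ m ih =>
    have hsp := hmult m
    have ht : t ∈ Submodule.span (X.ringCatSheaf.obj.obj (op ⊤))
        (Set.range (fun p : (CohB1.tensorPow M (m + 1)).val.obj (op ⊤) ×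
            M.val.obj (op ⊤) =>
          SecTwist.tmul (CohB1.tensorPow M (m + 1)) M ⊤
            p.1 p.2)) := by
      rw [hsp]; trivial
    induction ht using Submodule.closure_induction with
    | zero =>
      exact ⟨0, Subalgebra.zero_mem _, (res_zero _ _).trans (zero_smul _ _).symm⟩
    | add x y _ _ hx hy =>
      obtain ⟨c, hc, hcx⟩ := hx
      obtain ⟨c', hc', hcy⟩ := hy
      exact ⟨c + c', Subalgebra.add_mem _ hc hc',
        (res_add _ _ x y).trans ((congrArg₂ (· + ·) hcx hcy).trans (add_smul c c' _).symm)⟩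
    | smul_mem γ x hx =>
      obtain ⟨⟨y, v⟩, rfl⟩ := hx
      obtain ⟨c, hc, hcy⟩ := ih (γ • y)
      obtain ⟨d, hd', hdv⟩ := exists_ratio_smul q σ hspan j v
      refine ⟨c * d, Subalgebra.mul_mem _ hc hd', ?_⟩
      change resM _ _ (γ • SecTwist.tmul (CohB1.tensorPow M (m + 1))
        M ⊤ y v) = _
      rw [← Groth.Agent.Lib.helper12.AmpleBasis.tmul_smul_left]
      refine (SecTwist.map_tmul _ _ (homOfLE le_top) _ _).trans ?_
      have h2 : M.val.map (homOfLE (le_top : CohB1.genLocus _ (σ j) ≤ ⊤)).op v =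
          d • sec (σ j) (CohB1.genLocus _ (σ j)) := hdv
      have h3 : (CohB1.tensorPow M (m + 1)).val.map
          (homOfLE (le_top : CohB1.genLocus _ (σ j) ≤ ⊤)).op (γ • y) =
          c • SecTwist.pow (σ j) (m + 1) (CohB1.genLocus _ (σ j)) := hcy
      rw [h2, h3]
      refine (Groth.Agent.Lib.helper11.TensorEpi.tmul_smul_right _ _ _ d _ _).trans ?_
      have e1 := Groth.Agent.Lib.helper12.AmpleBasis.tmul_smul_left
        (CohB1.tensorPow M (m + 1)) M
        (CohB1.genLocus _ (σ j)) c (SecTwist.pow (σ j) (m + 1) (CohB1.genLocus _ (σ j)))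
        (sec (σ j) (CohB1.genLocus _ (σ j)))
      refine (congrArg (fun z => d • z) e1).trans ?_
      refine (smul_smul d c _).trans ?_
      exact congrArg (fun z : Γ(X, CohB1.genLocus _ (σ j)) =>
        z • SecTwist.pow (σ j) (m + 1 + 1) (CohB1.genLocus _ (σ j))) (mul_comm d c)

/-- **every function on `X_{σ j}` is a polynomial in the ratios `σ l / σ j`** -/
theorem adjoin_ratio_eq_top {M : X.Modules} (hM : PicF.IsInvertible M)
    (hmult : ∀ m : ℕ, Submodule.span (X.ringCatSheaf.obj.obj (op ⊤))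
        (Set.range (fun p : (CohB1.tensorPow M (m + 1)).val.obj (op ⊤) × M.val.obj (op ⊤) =>
          SecTwist.tmul (CohB1.tensorPow M (m + 1)) M ⊤ p.1 p.2)) = ⊤) {n : ℕ}
    (σ : Fin (n + 1) → (Coh.structureModule X ⟶ M))
    (hspan : ∀ x : M.val.obj (op ⊤), ∃ c : Fin (n + 1) → k,
        x = ∑ l, (Coh.toGlobal q (c l)) •
          (show M.val.obj (op ⊤) from sec (σ l) ⊤))
    (j : Fin (n + 1)) :
    letI := (secAlg q (CohB1.genLocus _ (σ j))).toAlgebra
    Algebra.adjoin k
        (Set.range fun l => ratio (σ j) (σ l) (CohB1.genLocus _ (σ j)) le_rfl) = ⊤ := by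
  letI := (secAlg q (CohB1.genLocus _ (σ j))).toAlgebra
  rw [eq_top_iff]
  rintro f -
  obtain ⟨m, hm, t', ht'⟩ := Groth.Agent.Lib.helper12.TwistExtend.extend_top
    (Coh.structureModule X) hM (σ j) f
  obtain ⟨m, rfl⟩ : ∃ m', m = m' + 1 := ⟨m - 1, by omega⟩
  set t := ((leftUnitor (CohB1.tensorPow M (m + 1))).hom.val.app (op ⊤)).hom t'
    with ht
  obtain ⟨c, hc, hct⟩ := exists_ratio_smul_pow q hM hmult σ hspan j m t
  have h2 : resM (CohB1.tensorPow M (m + 1))
      (le_top : CohB1.genLocus _ (σ j) ≤ ⊤) t =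
      f • SecTwist.pow (σ j) (m + 1) (CohB1.genLocus _ (σ j)) := by
    rw [ht, Groth.Agent.Lib.helper12.TwistExtend.res_app, ht']
    exact Groth.Agent.Lib.helper21.IdealPow.leftUnitor_tmul _ _ _ f
  have hV : CohB1.genLocus _ (σ j) ≤ CohB1.genLocus _ (SecTwist.powHom (σ j) (m + 1)) :=
    Groth.Agent.Lib.helper12.AmpleEventually.le_genLocus_powHom hM (σ j) (m + 1)
  have hinj := (bijective_app_of_le_genLocus (SecTwist.powHom (σ j) (m + 1)) hV).1
  have h3 : f = c := by
    apply hinj
    change f • sec (SecTwist.powHom (σ j) (m + 1)) (CohB1.genLocus _ (σ j)) =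
      c • sec (SecTwist.powHom (σ j) (m + 1)) (CohB1.genLocus _ (σ j))
    have e : sec (SecTwist.powHom (σ j) (m + 1)) (CohB1.genLocus _ (σ j)) =
        SecTwist.pow (σ j) (m + 1) (CohB1.genLocus _ (σ j)) := SecTwist.val_powHom _ _ _
    rw [e]
    exact h2.symm.trans hct
  rw [h3]
  exact hc

/-- variant over an open `W` propositionally equal to `X_{σ j}` -/
theorem adjoin_ratio_eq_top' {M : X.Modules} (hM : PicF.IsInvertible M)
    (hmult : ∀ m : ℕ, Submodule.span (X.ringCatSheaf.obj.obj (op ⊤))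
        (Set.range (fun p : (CohB1.tensorPow M (m + 1)).val.obj (op ⊤) × M.val.obj (op ⊤) =>
          SecTwist.tmul (CohB1.tensorPow M (m + 1)) M ⊤ p.1 p.2)) = ⊤) {n : ℕ}
    (σ : Fin (n + 1) → (Coh.structureModule X ⟶ M))
    (hspan : ∀ x : M.val.obj (op ⊤), ∃ c : Fin (n + 1) → k,
        x = ∑ l, (Coh.toGlobal q (c l)) •
          (show M.val.obj (op ⊤) from sec (σ l) ⊤))
    (j : Fin (n + 1)) (W : X.Opens) (hW : W = CohB1.genLocus _ (σ j)) :
    letI := (secAlg q W).toAlgebra
    Algebra.adjoin k (Set.range fun l => ratio (σ j) (σ l) W hW.le) = ⊤ := by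
  subst hW
  exact adjoin_ratio_eq_top q hM hmult σ hspan j

end chart

section main

variable (k : Type u) [Field k] (X : Scheme.{u}) [X.Over (Spec (CommRingCat.of k))]
  [IsProper (X ↘ Spec (CommRingCat.of k))]

set_option maxHeartbeats 1600000 in
/-- **Very ampleness from multiplication**: an ample globally generated invertible module on a nonempty proper
`k`-scheme whose section ring is generated in degree one is very ample. -/
theorem veryAmple_of_mult [Nonempty X] (M : X.Modules)
    (hggM : Curv2.IsGloballyGenerated M) (hMample : CohB1.IsAmple M)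
    (hmult : ∀ m : ℕ, Submodule.span (X.ringCatSheaf.obj.obj (op ⊤))
        (Set.range (fun p : (CohB1.tensorPow M (m + 1)).val.obj (op ⊤) × M.val.obj (op ⊤) =>
          SecTwist.tmul (CohB1.tensorPow M (m + 1)) M ⊤ p.1 p.2)) = ⊤) :
    ∃ (n : ℕ) (i : X ⟶ CohB1.ProjSpace n k), IsClosedImmersion i ∧
      i ≫ CohB1.ProjSpace.toSpec n k = X ↘ Spec (CommRingCat.of k) ∧
      Nonempty ((Scheme.Modules.pullback i).obj (Twist.twistProjSpace n k 1) ≅ M) := by
  haveI : CompactSpace X := Groth.Agent.Lib.Lead.ProperEuler.compactSpace k X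
  haveI : QuasiSeparatedSpace X := Groth.Agent.Lib.Lead.ProperEuler.quasiSeparatedSpace k X
  have hM : PicF.IsInvertible M := hMample.1
  have hMc := Groth.Agent.Lib.Lead.CurveInv.isCoh_of_isInvertible X hM
  have hpos := finrank_pos_of_gg k X hM hggM
  obtain ⟨n, σ, hspan⟩ := exists_spanning_sections k X M hMc hpos
  have hgen : ∀ y : X, ∃ t : Coh.structureModule X ⟶ M, y ∈ isoLocus t := by
    intro y
    obtain ⟨ι, p, hp⟩ := hggM
    obtain ⟨i, hi⟩ := Groth.Agent.Lib.helper12.GlobGen.exists_mem_genLocus_of_epi hM p y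
    exact ⟨_, hi⟩
  have hcov : ⨆ i, gU σ i = ⊤ :=
    iSup_gU_eq_top (X ↘ Spec (CommRingCat.of k)) hM σ hspan hgen
  obtain ⟨r, hr⟩ := exists_toProj (X ↘ Spec (CommRingCat.of k)) σ hcov
  obtain ⟨τ, hτ⟩ := exists_iso_nu (X ↘ Spec (CommRingCat.of k)) σ r hr hcov
  have hrq := toProj_toSpec (X ↘ Spec (CommRingCat.of k)) σ hcov r hr
  have hpre : ∀ j, r ⁻¹ᵁ Dp k n j = CohB1.genLocus M (σ j) :=
    fun j => preimage_Dp_eq r σ τ hτ j
  have haff : ∀ j, IsAffineOpen (r ⁻¹ᵁ Dp k n j) := by
    intro j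
    rw [hpre j]
    exact Groth.Agent.Lib.Helper12.UCAffine.isAffineOpen_genLocus_of_universallyClosed
      (X ↘ Spec (CommRingCat.of k)) _ hMample (σ j)
  have hsurj : ∀ j, Function.Surjective (r.app (Dp k n j)).hom := by
    intro j
    apply surjective_app_of_adjoin_eq_top (X ↘ Spec (CommRingCat.of k)) r hrq j
    have h := adjoin_ratio_eq_top' (X ↘ Spec (CommRingCat.of k)) hM hmult σ hspan j
      (r ⁻¹ᵁ Dp k n j) (hpre j)
    have hfun : (fun l => ratio (σ j) (σ l) (r ⁻¹ᵁ Dp k n j) (hpre j).le) =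
        fun l => (r.app (Dp k n j)).hom (cP k n j l) :=
      funext fun l => ratio_sigma_app r σ τ hτ j l (hpre j).le
    rw [hfun] at h
    exact h
  exact ⟨n, r, isClosedImmersion_of_surjective r haff hsurj, hrq, ⟨τ⟩⟩

/-- on a proper one-dimensional `X` with `H¹(O_X) = 0`, an ample globally generated invertible module is very ample -/
theorem veryAmple_of_H1_unit (hdim : topologicalKrullDim X = 1)
    (h1 : Subsingleton (Coh.HH X (Coh.structureModule X) 1)) (L : X.Modules)
    (hgg : Curv2.IsGloballyGenerated L) (hA : CohB1.IsAmple L) :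
    ∃ (n : ℕ) (i : X ⟶ CohB1.ProjSpace n k), IsClosedImmersion i ∧
      i ≫ CohB1.ProjSpace.toSpec n k = X ↘ Spec (CommRingCat.of k) ∧
      Nonempty ((Scheme.Modules.pullback i).obj (Twist.twistProjSpace n k 1) ≅ L) := by
  haveI : CompactSpace X := Groth.Agent.Lib.Lead.ProperEuler.compactSpace k X
  haveI : QuasiSeparatedSpace X := Groth.Agent.Lib.Lead.ProperEuler.quasiSeparatedSpace k X
  haveI : Nonempty X := nonempty_of_dim_eq_one X hdim
  refine veryAmple_of_mult k X L hgg hA (fun m => ?_)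
  exact Groth.Agent.Lib.helper7.Koszul.span_tmul_tensorPow hdim.le hA.1 hgg 0 h1 (m + 1) (by omega)

end main

end Groth.Agent.Lib.helper7.VAmpGen
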