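import Mathlib
import Groth.Agent.Lib.Helper7.VAmpGen

/-!
# Very ampleness from multiplication of sections, with prescribed spanning sections (helper7)
-/

set_option autoImplicit false
set_option linter.style.haveILetI false
set_option linter.unusedSectionVars false
set_option backward.isDefEq.respectTransparency false

universe u

open CategoryTheory CategoryTheory.Limits AlgebraicGeometry Opposite TopologicalSpace Module
open Scheme.Modules

namespace Groth.Agent.Lib.helper7.VAmpGen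

open Groth.Agent.Lib.Helper18 Groth.Agent.Lib.helper11.IsoLocus Groth.Agent.Lib.helper11.InvMod
open Groth.Agent.Lib.helper11.GenLocus Groth.Agent.Lib.helper12.ProjUP3
open Groth.Agent.Lib.helper12.ProjUP4 Groth.Agent.Lib.helper12.ProjUP5 Groth.Agent.Lib.helper12.ProjUP6
open Groth.Agent.Lib.helper12.VAmple1
open Groth.Agent.Lib.helper9.VAPrep Groth.Agent.Lib.helper9.VAChart Groth.Agent.Lib.helper9.VAMain
open Groth.Agent.Lib.helper8.FlatCohBC Groth.Agent.Lib.helper16.SepPts
open Groth.Agent.Lib.helper12.GGTensor Groth.Agent.Lib.helper7.VAmpSq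
open Groth.Agent.Lib.Lead.ModTensor Groth.Agent.Lib.helper12.TensorSec Groth.Agent.Lib.Lead.CurveSec
open Groth.Agent.Lib.helper9.CurveVanish

variable (k : Type u) [Field k] (X : Scheme.{u}) [X.Over (Spec (CommRingCat.of k))]
  [IsProper (X ↘ Spec (CommRingCat.of k))]

/-- a basis of `H⁰(L)` of prescribed size gives sections spanning `Γ(X, L)` -/
theorem exists_spanning_sections' (L : X.Modules) (hLc : Coh.IsCoh L) (n : ℕ)
    (hn : finrank k (Coh.HH X L 0) = n + 1) :
    ∃ σ : Fin (n + 1) → (Coh.structureModule X ⟶ L),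
      ∀ x : L.val.obj (op ⊤), ∃ c : Fin (n + 1) → k,
        x = ∑ l, (Coh.toGlobal (X ↘ Spec (CommRingCat.of k)) (c l)) •
          (show L.val.obj (op ⊤) from sec (σ l) ⊤) := by
  haveI : Module.Finite k (Coh.HH X L 0) := Groth.Agent.Lib.Lead.ProperEuler.finite_HH k X _ hLc 0
  let b : Basis (Fin (n + 1)) k (Coh.HH X L 0) := (Module.finBasis k _).reindex (finCongr hn)
  refine ⟨fun l => secHom L (b l), fun x => ?_⟩
  refine ⟨fun l => b.repr ((HH.equiv₀ L).symm x) l, ?_⟩
  have h1 := b.sum_repr ((HH.equiv₀ L).symm x)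
  have h2 := congrArg (HH.equiv₀ L) h1
  rw [LinearEquiv.apply_symm_apply, map_sum] at h2
  refine h2.symm.trans (Finset.sum_congr rfl fun l _ => ?_)
  have h3 : (show L.val.obj (op ⊤) from sec (secHom L (b l)) ⊤) = HH.equiv₀ L (b l) :=
    secHom_top L (b l)
  rw [h3]
  exact (HH.equiv₀ L).map_smul (Coh.toGlobal (X ↘ Spec (CommRingCat.of k))
    (b.repr ((HH.equiv₀ L).symm x) l)) (b l)

set_option maxHeartbeats 1600000 in
/-- **Very ampleness from multiplication, for given spanning sections.** -/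
theorem veryAmple_of_sections (M : X.Modules)
    (hggM : Curv2.IsGloballyGenerated M) (hMample : CohB1.IsAmple M)
    (hmult : ∀ m : ℕ, Submodule.span (X.ringCatSheaf.obj.obj (op ⊤))
        (Set.range (fun p : (CohB1.tensorPow M (m + 1)).val.obj (op ⊤) × M.val.obj (op ⊤) =>
          SecTwist.tmul (CohB1.tensorPow M (m + 1)) M ⊤ p.1 p.2)) = ⊤)
    {n : ℕ} (σ : Fin (n + 1) → (Coh.structureModule X ⟶ M))
    (hspan : ∀ x : M.val.obj (op ⊤), ∃ c : Fin (n + 1) → k,
        x = ∑ l, (Coh.toGlobal (X ↘ Spec (CommRingCat.of k)) (c l)) •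
          (show M.val.obj (op ⊤) from sec (σ l) ⊤)) :
    ∃ i : X ⟶ CohB1.ProjSpace n k, IsClosedImmersion i ∧
      i ≫ CohB1.ProjSpace.toSpec n k = X ↘ Spec (CommRingCat.of k) ∧
      Nonempty ((Scheme.Modules.pullback i).obj (Twist.twistProjSpace n k 1) ≅ M) := by
  haveI : CompactSpace X := Groth.Agent.Lib.Lead.ProperEuler.compactSpace k X
  haveI : QuasiSeparatedSpace X := Groth.Agent.Lib.Lead.ProperEuler.quasiSeparatedSpace k X
  have hM : PicF.IsInvertible M := hMample.1
  have hgen : ∀ y : X, ∃ t : Coh.structureModule X ⟶ M, y ∈ isoLocus t := by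
    intro y
    obtain ⟨ι, p, hp⟩ := hggM
    obtain ⟨i, hi⟩ := Groth.Agent.Lib.helper12.GlobGen.exists_mem_genLocus_of_epi hM p y
    exact ⟨_, hi⟩
  have hcov : ⨆ i, gU σ i = ⊤ :=
    iSup_gU_eq_top (X ↘ Spec (CommRingCat.of k)) hM σ hspan hgen
  obtain ⟨r, hr⟩ := exists_toProj (X ↘ Spec (CommRingCat.of k)) σ hcov
  obtain ⟨τ, hτ⟩ := exists_iso_nu (X ↘ Spec (CommRingCat.of k)) σ r hr hcov
  have hrq := toProj_toSpec (X ↘ Spec (CommRingCat.of k)) σ hcov r hr
  have hpre : ∀ j, r ⁻¹ᵁ Dp k n j = CohB1.genLocus M (σ j) :=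
    fun j => preimage_Dp_eq r σ τ hτ j
  have haff : ∀ j, IsAffineOpen (r ⁻¹ᵁ Dp k n j) := by
    intro j
    rw [hpre j]
    exact Groth.Agent.Lib.Helper12.UCAffine.isAffineOpen_genLocus_of_universallyClosed
      (X ↘ Spec (CommRingCat.of k)) _ hMample (σ j)
  have hsurj : ∀ j, Function.Surjective (r.app (Dp k n j)).hom := by
    intro j
    apply surjective_app_of_adjoin_eq_top (X ↘ Spec (CommRingCat.of k)) r hrq j
    have h := adjoin_ratio_eq_top' (X ↘ Spec (CommRingCat.of k)) hM hmult σ hspan j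
      (r ⁻¹ᵁ Dp k n j) (hpre j)
    have hfun : (fun l => ratio (σ j) (σ l) (r ⁻¹ᵁ Dp k n j) (hpre j).le) =
        fun l => (r.app (Dp k n j)).hom (cP k n j l) :=
      funext fun l => ratio_sigma_app r σ τ hτ j l (hpre j).le
    rw [hfun] at h
    exact h
  exact ⟨r, isClosedImmersion_of_surjective r haff hsurj, hrq, ⟨τ⟩⟩

/-- on a proper one-dimensional `X` with `H¹(O_X) = 0`, an ample globally generated invertible module `L` with
`h⁰(L) = n + 1` embeds `X` into `P^n`. -/
theorem veryAmple_of_H1_unit' (hdim : topologicalKrullDim X = 1)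
    (h1 : Subsingleton (Coh.HH X (Coh.structureModule X) 1)) (L : X.Modules)
    (hgg : Curv2.IsGloballyGenerated L) (hA : CohB1.IsAmple L) (n : ℕ)
    (hn : finrank k (Coh.HH X L 0) = n + 1) :
    ∃ i : X ⟶ CohB1.ProjSpace n k, IsClosedImmersion i ∧
      i ≫ CohB1.ProjSpace.toSpec n k = X ↘ Spec (CommRingCat.of k) ∧
      Nonempty ((Scheme.Modules.pullback i).obj (Twist.twistProjSpace n k 1) ≅ L) := by
  haveI : CompactSpace X := Groth.Agent.Lib.Lead.ProperEuler.compactSpace k X
  haveI : QuasiSeparatedSpace X := Groth.Agent.Lib.Lead.ProperEuler.quasiSeparatedSpace k X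
  have hLc := Groth.Agent.Lib.Lead.CurveInv.isCoh_of_isInvertible X hA.1
  obtain ⟨σ, hspan⟩ := exists_spanning_sections' k X L hLc n hn
  refine veryAmple_of_sections k X L hgg hA (fun m => ?_) σ hspan
  exact Groth.Agent.Lib.helper7.Koszul.span_tmul_tensorPow hdim.le hA.1 hgg 0 h1 (m + 1) (by omega)

end Groth.Agent.Lib.helper7.VAmpGen
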