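import Mathlib
import Groth.Agent.Lib.Helper7.VAmpGen2
import Groth.Agent.Lib.Helper12.VAmple2
import Groth.Agent.Lib.Helper12.UCAffine2
import Groth.Agent.Lib.Helper12.ProjG1
import Groth.Agent.Lib.Lead.ProperFin2

/-!
# Relative very ampleness from normal generation (helper7)

Chart argument of `VAmpGen` over an arbitrary base ring `R`, and the resulting criterion: an ample invertible
module on a proper scheme over a Noetherian ring whose section ring is generated in degree one is very ample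
relative to the base (`RelAmple.IsRelVeryAmplePn`).
-/

set_option autoImplicit false
set_option linter.style.haveILetI false
set_option linter.unusedSectionVars false
set_option linter.unusedVariables false
set_option backward.isDefEq.respectTransparency false

universe u

open CategoryTheory CategoryTheory.Limits AlgebraicGeometry Opposite TopologicalSpace Module
open Scheme.Modules

namespace Groth.Agent.Lib.helper7.VAmpRel

open Groth.Agent.Lib.Helper18 Groth.Agent.Lib.helper11.IsoLocus Groth.Agent.Lib.helper11.InvMod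
open Groth.Agent.Lib.helper11.GenLocus Groth.Agent.Lib.helper12.ProjUP3
open Groth.Agent.Lib.helper12.ProjUP4 Groth.Agent.Lib.helper12.ProjUP5 Groth.Agent.Lib.helper12.ProjUP6
open Groth.Agent.Lib.helper12.VAmple1
open Groth.Agent.Lib.helper9.VAPrep Groth.Agent.Lib.helper9.VAChart Groth.Agent.Lib.helper9.VAMain
open Groth.Agent.Lib.helper8.FlatCohBC Groth.Agent.Lib.helper16.SepPts
open Groth.Agent.Lib.helper12.GGTensor Groth.Agent.Lib.helper7.VAmpSq
open Groth.Agent.Lib.Lead.ModTensor Groth.Agent.Lib.helper12.TensorSec Groth.Agent.Lib.Lead.CurveSec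
open Groth.Agent.Lib.helper9.CurveVanish Groth.Agent.Lib.helper12.AmpleBasis

local notation "resM" => Groth.Agent.Lib.helper12.TwistExtend.res

section chart

variable {X : Scheme.{u}} {R : Type u} [CommRing R] (q : X ⟶ Spec (CommRingCat.of R))

/-- every global section of `M` restricted to `X_{σ j}` is an `R[ratios]`-multiple of `σ j` -/
theorem exists_ratio_smul {M : X.Modules} {n : ℕ} (σ : Fin (n + 1) → (Coh.structureModule X ⟶ M))
    (hspan : ∀ x : M.val.obj (op ⊤), ∃ c : Fin (n + 1) → R,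
        x = ∑ l, (Coh.toGlobal q (c l)) • (show M.val.obj (op ⊤) from sec (σ l) ⊤))
    (j : Fin (n + 1)) (v : M.val.obj (op ⊤)) :
    letI := (secAlg q (CohB1.genLocus M (σ j))).toAlgebra
    ∃ d ∈ Algebra.adjoin R
        (Set.range fun l => ratio (σ j) (σ l) (CohB1.genLocus M (σ j)) le_rfl),
      resM M (le_top : CohB1.genLocus M (σ j) ≤ ⊤) v = d • sec (σ j) (CohB1.genLocus M (σ j)) := by
  letI := (secAlg q (CohB1.genLocus M (σ j))).toAlgebra
  obtain ⟨c, hc⟩ := hspan v
  refine ⟨∑ l, algebraMap R Γ(X, CohB1.genLocus M (σ j)) (c l) *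
      ratio (σ j) (σ l) (CohB1.genLocus M (σ j)) le_rfl,
    Subalgebra.sum_mem _ (fun l _ => Subalgebra.mul_mem _ (Subalgebra.algebraMap_mem _ _)
      (Algebra.subset_adjoin ⟨l, rfl⟩)), ?_⟩
  rw [hc, res_sum, Finset.sum_smul]
  refine Finset.sum_congr rfl (fun l _ => ?_)
  rw [mul_smul, ratio_smul]
  refine (res_smul M le_top (Coh.toGlobal q (c l)) (sec (σ l) ⊤)).trans ?_
  congr 1
  exact res_sec (σ l) (homOfLE le_top)

variable [CompactSpace X] [QuasiSeparatedSpace X]

/-- every global section of `M^{⊗(m+1)}` restricted to `X_{σ j}` is an `R[ratios]`-multiple of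
`(σ j)^{m+1}` -/
theorem exists_ratio_smul_pow {M : X.Modules} (hM : PicF.IsInvertible M)
    (hmult : ∀ m : ℕ, Submodule.span (X.ringCatSheaf.obj.obj (op ⊤))
        (Set.range (fun p : (CohB1.tensorPow M (m + 1)).val.obj (op ⊤) × M.val.obj (op ⊤) =>
          SecTwist.tmul (CohB1.tensorPow M (m + 1)) M ⊤ p.1 p.2)) = ⊤) {n : ℕ}
    (σ : Fin (n + 1) → (Coh.structureModule X ⟶ M))
    (hspan : ∀ x : M.val.obj (op ⊤), ∃ c : Fin (n + 1) → R,
        x = ∑ l, (Coh.toGlobal q (c l)) •
          (show M.val.obj (op ⊤) from sec (σ l) ⊤))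
    (j : Fin (n + 1)) (m : ℕ)
    (t : (CohB1.tensorPow M (m + 1)).val.obj (op ⊤)) :
    letI := (secAlg q (CohB1.genLocus _ (σ j))).toAlgebra
    ∃ c ∈ Algebra.adjoin R
        (Set.range fun l => ratio (σ j) (σ l) (CohB1.genLocus _ (σ j)) le_rfl),
      resM (CohB1.tensorPow M (m + 1))
          (le_top : CohB1.genLocus _ (σ j) ≤ ⊤) t =
        c • SecTwist.pow (σ j) (m + 1) (CohB1.genLocus _ (σ j)) := by
  letI := (secAlg q (CohB1.genLocus _ (σ j))).toAlgebra
  induction m with
  | zero =>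
    -- `t = 1 ⊗ λ(t)`
    set v := ((leftUnitor M).hom.val.app (op ⊤)).hom t with hv
    have ht : t = SecTwist.tmul (Coh.structureModule X) M ⊤
        ((1 : X.ringCatSheaf.obj.obj (op ⊤)) : (Coh.structureModule X).val.obj (op ⊤)) v := by
      rw [← Groth.Agent.Lib.helper7.Koszul.leftUnitor_inv_apply, hv]
      exact (iso_inv_hom_apply (leftUnitor M) ⊤ t).symm
    obtain ⟨d, hd', hdv⟩ := exists_ratio_smul q σ hspan j v
    refine ⟨d, hd', ?_⟩
    rw [ht]
    refine (SecTwist.map_tmul _ _ (homOfLE le_top) _ _).trans ?_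
    have h2 : M.val.map (homOfLE (le_top : CohB1.genLocus _ (σ j) ≤ ⊤)).op v =
        d • sec (σ j) (CohB1.genLocus _ (σ j)) := hdv
    rw [h2]
    refine (Groth.Agent.Lib.helper11.TensorEpi.tmul_smul_right _ _ _ d _ _).trans ?_
    congr 1
    change SecTwist.tmul _ _ _ _ _ = SecTwist.tmul _ _ _ _ _
    congr 1
    exact PresheafOfModules.unit_map_one _ _
  | succ m ih =>
    have hsp := hmult m
    have ht : t ∈ Submodule.span (X.ringCatSheaf.obj.obj (op ⊤))
        (Set.range (fun p : (CohB1.tensorPow M (m + 1)).val.obj (op ⊤) ×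
            M.val.obj (op ⊤) =>
          SecTwist.tmul (CohB1.tensorPow M (m + 1)) M ⊤
            p.1 p.2)) := by
      rw [hsp]; trivial
    induction ht using Submodule.closure_induction with
    | zero =>
      exact ⟨0, Subalgebra.zero_mem _, (res_zero _ _).trans (zero_smul _ _).symm⟩
    | add x y _ _ hx hy =>
      obtain ⟨c, hc, hcx⟩ := hx
      obtain ⟨c', hc', hcy⟩ := hy
      exact ⟨c + c', Subalgebra.add_mem _ hc hc',
        (res_add _ _ x y).trans ((congrArg₂ (· + ·) hcx hcy).trans (add_smul c c' _).symm)⟩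
    | smul_mem γ x hx =>
      obtain ⟨⟨y, v⟩, rfl⟩ := hx
      obtain ⟨c, hc, hcy⟩ := ih (γ • y)
      obtain ⟨d, hd', hdv⟩ := exists_ratio_smul q σ hspan j v
      refine ⟨c * d, Subalgebra.mul_mem _ hc hd', ?_⟩
      change resM _ _ (γ • SecTwist.tmul (CohB1.tensorPow M (m + 1))
        M ⊤ y v) = _
      rw [← Groth.Agent.Lib.helper12.AmpleBasis.tmul_smul_left]
      refine (SecTwist.map_tmul _ _ (homOfLE le_top) _ _).trans ?_
      have h2 : M.val.map (homOfLE (le_top : CohB1.genLocus _ (σ j) ≤ ⊤)).op v =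
          d • sec (σ j) (CohB1.genLocus _ (σ j)) := hdv
      have h3 : (CohB1.tensorPow M (m + 1)).val.map
          (homOfLE (le_top : CohB1.genLocus _ (σ j) ≤ ⊤)).op (γ • y) =
          c • SecTwist.pow (σ j) (m + 1) (CohB1.genLocus _ (σ j)) := hcy
      rw [h2, h3]
      refine (Groth.Agent.Lib.helper11.TensorEpi.tmul_smul_right _ _ _ d _ _).trans ?_
      have e1 := Groth.Agent.Lib.helper12.AmpleBasis.tmul_smul_left
        (CohB1.tensorPow M (m + 1)) M
        (CohB1.genLocus _ (σ j)) c (SecTwist.pow (σ j) (m + 1) (CohB1.genLocus _ (σ j)))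
        (sec (σ j) (CohB1.genLocus _ (σ j)))
      refine (congrArg (fun z => d • z) e1).trans ?_
      refine (smul_smul d c _).trans ?_
      exact congrArg (fun z : Γ(X, CohB1.genLocus _ (σ j)) =>
        z • SecTwist.pow (σ j) (m + 1 + 1) (CohB1.genLocus _ (σ j))) (mul_comm d c)

/-- **every function on `X_{σ j}` is a polynomial in the ratios `σ l / σ j`** -/
theorem adjoin_ratio_eq_top {M : X.Modules} (hM : PicF.IsInvertible M)
    (hmult : ∀ m : ℕ, Submodule.span (X.ringCatSheaf.obj.obj (op ⊤))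
        (Set.range (fun p : (CohB1.tensorPow M (m + 1)).val.obj (op ⊤) × M.val.obj (op ⊤) =>
          SecTwist.tmul (CohB1.tensorPow M (m + 1)) M ⊤ p.1 p.2)) = ⊤) {n : ℕ}
    (σ : Fin (n + 1) → (Coh.structureModule X ⟶ M))
    (hspan : ∀ x : M.val.obj (op ⊤), ∃ c : Fin (n + 1) → R,
        x = ∑ l, (Coh.toGlobal q (c l)) •
          (show M.val.obj (op ⊤) from sec (σ l) ⊤))
    (j : Fin (n + 1)) :
    letI := (secAlg q (CohB1.genLocus _ (σ j))).toAlgebra
    Algebra.adjoin R
        (Set.range fun l => ratio (σ j) (σ l) (CohB1.genLocus _ (σ j)) le_rfl) = ⊤ := by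
  letI := (secAlg q (CohB1.genLocus _ (σ j))).toAlgebra
  rw [eq_top_iff]
  rintro f -
  obtain ⟨m, hm, t', ht'⟩ := Groth.Agent.Lib.helper12.TwistExtend.extend_top
    (Coh.structureModule X) hM (σ j) f
  obtain ⟨m, rfl⟩ : ∃ m', m = m' + 1 := ⟨m - 1, by omega⟩
  set t := ((leftUnitor (CohB1.tensorPow M (m + 1))).hom.val.app (op ⊤)).hom t'
    with ht
  obtain ⟨c, hc, hct⟩ := exists_ratio_smul_pow q hM hmult σ hspan j m t
  have h2 : resM (CohB1.tensorPow M (m + 1))
      (le_top : CohB1.genLocus _ (σ j) ≤ ⊤) t =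
      f • SecTwist.pow (σ j) (m + 1) (CohB1.genLocus _ (σ j)) := by
    rw [ht, Groth.Agent.Lib.helper12.TwistExtend.res_app, ht']
    exact Groth.Agent.Lib.helper21.IdealPow.leftUnitor_tmul _ _ _ f
  have hV : CohB1.genLocus _ (σ j) ≤ CohB1.genLocus _ (SecTwist.powHom (σ j) (m + 1)) :=
    Groth.Agent.Lib.helper12.AmpleEventually.le_genLocus_powHom hM (σ j) (m + 1)
  have hinj := (bijective_app_of_le_genLocus (SecTwist.powHom (σ j) (m + 1)) hV).1
  have h3 : f = c := by
    apply hinj
    change f • sec (SecTwist.powHom (σ j) (m + 1)) (CohB1.genLocus _ (σ j)) =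
      c • sec (SecTwist.powHom (σ j) (m + 1)) (CohB1.genLocus _ (σ j))
    have e : sec (SecTwist.powHom (σ j) (m + 1)) (CohB1.genLocus _ (σ j)) =
        SecTwist.pow (σ j) (m + 1) (CohB1.genLocus _ (σ j)) := SecTwist.val_powHom _ _ _
    rw [e]
    exact h2.symm.trans hct
  rw [h3]
  exact hc

end chart

section closure

variable {X : Scheme.{u}} {R : Type u} [CommRing R] (q : X ⟶ Spec (CommRingCat.of R))

theorem range_secAlg (W : X.Opens) (hW : W ≤ q ⁻¹ᵁ ⊤) :
    Set.range (secAlg q W) = Set.range (q.appLE ⊤ W hW).hom := by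
  ext b
  constructor
  · rintro ⟨a, rfl⟩
    exact ⟨(Scheme.ΓSpecIso (CommRingCat.of R)).inv.hom a, rfl⟩
  · rintro ⟨a, rfl⟩
    refine ⟨(Scheme.ΓSpecIso (CommRingCat.of R)).hom.hom a, ?_⟩
    change (q.appLE ⊤ W hW).hom ((Scheme.ΓSpecIso (CommRingCat.of R)).inv.hom
      ((Scheme.ΓSpecIso (CommRingCat.of R)).hom.hom a)) = _
    congr 1
    exact congrArg (fun φ => φ.hom a) (Scheme.ΓSpecIso (CommRingCat.of R)).hom_inv_id

theorem closure_eq_top_of_adjoin (W : X.Opens) (hW : W ≤ q ⁻¹ᵁ ⊤) (S : Set Γ(X, W))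
    (h : letI := (secAlg q W).toAlgebra
      Algebra.adjoin R S = ⊤) :
    Subring.closure (Set.range (q.appLE ⊤ W hW).hom ∪ S) = ⊤ := by
  letI := (secAlg q W).toAlgebra
  rw [← range_secAlg q W hW]
  have h1 := Algebra.adjoin_eq_ring_closure (R := R) S
  rw [h] at h1
  exact h1.symm.trans Algebra.top_toSubring

end closure

section gen

variable {X : Scheme.{u}}

/-- a point where a section of `L^{⊗(n+1)}` generates, when `Γ(L^{⊗ n}) ⊗ Γ(L) → Γ(L^{⊗(n+1)})` is onto, is a point
where some section of `L` generates -/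
theorem exists_genLocus_of_span {L : X.Modules} (hL : PicF.IsInvertible L) (n : ℕ)
    (hsp : Submodule.span (X.ringCatSheaf.obj.obj (op ⊤))
      (Set.range (fun p : (CohB1.tensorPow L n).val.obj (op ⊤) × L.val.obj (op ⊤) =>
        SecTwist.tmul (CohB1.tensorPow L n) L ⊤ p.1 p.2)) = ⊤)
    (s : Coh.structureModule X ⟶ CohB1.tensorPow L (n + 1)) (x : X)
    (hx : x ∈ CohB1.genLocus _ s) :
    ∃ t : Coh.structureModule X ⟶ L, x ∈ CohB1.genLocus L t := by
  let σ : (CohB1.tensorPow L n).val.obj (op ⊤) × L.val.obj (op ⊤) →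
      (Coh.structureModule X ⟶ CohB1.tensorPow L (n + 1)) :=
    fun p => SecTwist.tmulHom (homOfSec _ p.1) (homOfSec _ p.2)
  have hσ : ∀ p, sec (σ p) ⊤ = SecTwist.tmul (CohB1.tensorPow L n) L ⊤ p.1 p.2 := by
    intro p
    refine (SecTwist.val_tmulHom _ _ ⊤).trans ?_
    rw [val_homOfSec, val_homOfSec, Groth.Agent.Lib.helper12.TensorInvLocal.res_self',
      Groth.Agent.Lib.helper12.TensorInvLocal.res_self']
  have hs : Submodule.span (X.presheaf.stalk x)
      (Set.range fun p => ((CohB1.tensorPow L (n + 1)).presheaf.germ ⊤ x trivial).hom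
        (sec (σ p) ⊤)) = ⊤ := by
    rw [eq_top_iff]
    rintro v -
    obtain ⟨a, rfl⟩ := exists_eq_smul_gen s x hx v
    refine Submodule.smul_mem _ _ ?_
    have key : ∀ w : (CohB1.tensorPow L (n + 1)).val.obj (op ⊤),
        w ∈ Submodule.span (X.ringCatSheaf.obj.obj (op ⊤))
          (Set.range (fun p : (CohB1.tensorPow L n).val.obj (op ⊤) × L.val.obj (op ⊤) =>
            SecTwist.tmul (CohB1.tensorPow L n) L ⊤ p.1 p.2)) →
        ((CohB1.tensorPow L (n + 1)).presheaf.germ ⊤ x trivial).hom w ∈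
          Submodule.span (X.presheaf.stalk x)
            (Set.range fun p => ((CohB1.tensorPow L (n + 1)).presheaf.germ ⊤ x trivial).hom
              (sec (σ p) ⊤)) := by
      intro w hw
      induction hw using Submodule.span_induction with
      | mem y hy =>
        obtain ⟨p, rfl⟩ := hy
        refine Submodule.subset_span ⟨p, ?_⟩
        exact congrArg ((CohB1.tensorPow L (n + 1)).presheaf.germ ⊤ x trivial).hom (hσ p)
      | zero =>
        rw [map_zero]; exact Submodule.zero_mem _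
      | add y z _ _ hy hz =>
        rw [map_add]; exact Submodule.add_mem _ hy hz
      | smul c y _ hy =>
        have h2 := germ_smul'' (CohB1.tensorPow L (n + 1)) ⊤ x trivial c y
        rw [h2]
        exact Submodule.smul_mem _ _ hy
    exact key _ (by rw [hsp]; trivial)
  obtain ⟨p, hp⟩ := Groth.Agent.Lib.helper12.ProjG.exists_mem_genLocus_of_spanI
    (Groth.Agent.Lib.helper12.TensorInv.isInvertible_tensorPow hL (n + 1)) σ x hs
  have h3 := genLocus_tmulHom (Groth.Agent.Lib.helper12.TensorInv.isInvertible_tensorPow hL n) hL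
    (homOfSec _ p.1) (homOfSec _ p.2)
  have hp' : x ∈ CohB1.genLocus (CohB1.tensorMod (CohB1.tensorPow L n) L)
      (SecTwist.tmulHom (homOfSec _ p.1) (homOfSec _ p.2)) := hp
  rw [h3] at hp'
  exact ⟨homOfSec L p.2, hp'.2⟩

/-- every global section of `O ⊗ L` is `1 ⊗ v` -/
theorem span_tmul_zero (L : X.Modules) :
    Submodule.span (X.ringCatSheaf.obj.obj (op ⊤))
      (Set.range (fun p : (CohB1.tensorPow L 0).val.obj (op ⊤) × L.val.obj (op ⊤) =>
        SecTwist.tmul (CohB1.tensorPow L 0) L ⊤ p.1 p.2)) = ⊤ := by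
  rw [eq_top_iff]
  rintro t -
  set v := ((leftUnitor L).hom.val.app (op ⊤)).hom t with hv
  have ht : t = SecTwist.tmul (Coh.structureModule X) L ⊤
      ((1 : X.ringCatSheaf.obj.obj (op ⊤)) : (Coh.structureModule X).val.obj (op ⊤)) v := by
    rw [← Groth.Agent.Lib.helper7.Koszul.leftUnitor_inv_apply, hv]
    exact (iso_inv_hom_apply (leftUnitor L) ⊤ t).symm
  rw [ht]
  exact Submodule.subset_span
    ⟨(((1 : X.ringCatSheaf.obj.obj (op ⊤)) : (Coh.structureModule X).val.obj (op ⊤)), v), rfl⟩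

theorem span_of_closure (L : X.Modules) (n : ℕ)
    (h : AddSubgroup.closure {t | ∃ (m : (CohB1.tensorPow L n).val.obj (op ⊤))
      (s : L.val.obj (op ⊤)), t = SecTwist.tmul (CohB1.tensorPow L n) L ⊤ m s} = ⊤) :
    Submodule.span (X.ringCatSheaf.obj.obj (op ⊤))
      (Set.range (fun p : (CohB1.tensorPow L n).val.obj (op ⊤) × L.val.obj (op ⊤) =>
        SecTwist.tmul (CohB1.tensorPow L n) L ⊤ p.1 p.2)) = ⊤ := by
  rw [eq_top_iff]
  rintro t -
  have ht : t ∈ AddSubgroup.closure {t | ∃ (m : (CohB1.tensorPow L n).val.obj (op ⊤))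
      (s : L.val.obj (op ⊤)), t = SecTwist.tmul (CohB1.tensorPow L n) L ⊤ m s} := by
    rw [h]; trivial
  induction ht using AddSubgroup.closure_induction with
  | mem y hy =>
    obtain ⟨m, s, rfl⟩ := hy
    exact Submodule.subset_span ⟨(m, s), rfl⟩
  | zero => exact Submodule.zero_mem _
  | add y z _ _ hy hz => exact Submodule.add_mem _ hy hz
  | neg y _ hy => exact Submodule.neg_mem _ hy

end gen

section main

variable (R : Type u) [CommRing R] [IsNoetherianRing R] (X : Scheme.{u})
  [X.Over (Spec (CommRingCat.of R))] [IsProper (X ↘ Spec (CommRingCat.of R))]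

/-- finitely many sections spanning `Γ(X, L)` over `R` -/
theorem exists_spanning_sections (L : X.Modules) (hLc : Coh.IsCoh L) :
    ∃ (n : ℕ) (σ : Fin (n + 1) → (Coh.structureModule X ⟶ L)),
      ∀ x : L.val.obj (op ⊤), ∃ c : Fin (n + 1) → R,
        x = ∑ l, (Coh.toGlobal (X ↘ Spec (CommRingCat.of R)) (c l)) •
          (show L.val.obj (op ⊤) from sec (σ l) ⊤) := by
  haveI : Module.Finite R (Coh.HH X L 0) :=
    Groth.Agent.Lib.Lead.ProperFin.finite_HH_of_isProper R X L hLc 0
  obtain ⟨n, s, hs⟩ := Module.Finite.exists_fin (R := R) (M := Coh.HH X L 0)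
  let s' : Fin (n + 1) → Coh.HH X L 0 := Fin.cons 0 s
  have hs' : Submodule.span R (Set.range s') = ⊤ := by
    rw [eq_top_iff, ← hs]
    apply Submodule.span_mono
    rintro _ ⟨i, rfl⟩
    exact ⟨i.succ, by simp [s']⟩
  refine ⟨n, fun l => secHom L (s' l), fun x => ?_⟩
  have hx : (HH.equiv₀ L).symm x ∈ Submodule.span R (Set.range s') := by rw [hs']; trivial
  obtain ⟨c, hc⟩ := (Submodule.mem_span_range_iff_exists_fun R).mp hx
  refine ⟨c, ?_⟩
  have h2 := congrArg (HH.equiv₀ L) hc
  rw [LinearEquiv.apply_symm_apply, map_sum] at h2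
  refine h2.symm.trans (Finset.sum_congr rfl fun l _ => ?_)
  have h3 : (show L.val.obj (op ⊤) from sec (secHom L (s' l)) ⊤) = HH.equiv₀ L (s' l) :=
    secHom_top L (s' l)
  rw [h3]
  exact (HH.equiv₀ L).map_smul (Coh.toGlobal (X ↘ Spec (CommRingCat.of R)) (c l)) (s' l)

end main

section final

set_option maxHeartbeats 1600000 in
/-- **Normally generated ample invertible modules are relatively very ample** (proper over a Noetherian ring). -/
theorem isRelVeryAmplePn_of_normallyGenerated (R : Type u) [CommRing R] [IsNoetherianRing R]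
    {X : Scheme.{u}} (f : X ⟶ Spec (CommRingCat.of R)) [IsProper f]
    (L : X.Modules) (hLa : CohB1.IsAmple L)
    (hng : ∀ n : ℕ, 1 ≤ n → AddSubgroup.closure {t | ∃ (m : (CohB1.tensorPow L n).val.obj (op ⊤))
      (s : L.val.obj (op ⊤)), t = SecTwist.tmul (CohB1.tensorPow L n) L ⊤ m s} = ⊤) :
    RelAmple.IsRelVeryAmplePn f L := by
  have hL : PicF.IsInvertible L := hLa.1
  haveI : CompactSpace X := hLa.2.1
  haveI : QuasiSeparatedSpace X := quasiSeparatedSpace_of_quasiSeparated f
  letI : X.Over (Spec (CommRingCat.of R)) := ⟨f⟩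
  haveI : IsProper (X ↘ Spec (CommRingCat.of R)) := ‹IsProper f›
  have hLc := Groth.Agent.Lib.Lead.CurveInv.isCoh_of_isInvertible X hL
  have hmult' : ∀ n : ℕ, Submodule.span (X.ringCatSheaf.obj.obj (op ⊤))
      (Set.range (fun p : (CohB1.tensorPow L n).val.obj (op ⊤) × L.val.obj (op ⊤) =>
        SecTwist.tmul (CohB1.tensorPow L n) L ⊤ p.1 p.2)) = ⊤ := by
    intro n
    rcases Nat.eq_zero_or_pos n with rfl | hn
    · exact span_tmul_zero L
    · exact span_of_closure L n (hng n hn)
  obtain ⟨n, σ, hspan⟩ := exists_spanning_sections R X L hLc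
  have hgen : ∀ y : X, ∃ t : Coh.structureModule X ⟶ L, y ∈ isoLocus t := by
    intro y
    obtain ⟨m, s, hy, -⟩ := hLa.2.2 y
    exact exists_genLocus_of_span hL m (hmult' m) s y hy
  have hcov : ⨆ i, gU σ i = ⊤ := iSup_gU_eq_top f hL σ hspan hgen
  refine Groth.Agent.Lib.helper12.VAmple2.isRelVeryAmplePn_of_sections f σ (fun _ => True)
    (fun _ => ⊤) (fun _ _ => isAffineOpen_top _) (fun j _ => ?_) (fun j _ => le_top) (fun j _ => ?_)
    (fun x => ?_)
  · exact Groth.Agent.Lib.Helper12.UCAffine.isAffineOpen_genLocus_of_universallyClosed f L hLa (σ j)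
  · exact closure_eq_top_of_adjoin f _ _ _
      (adjoin_ratio_eq_top f hL (fun m => hmult' (m + 1)) σ hspan j)
  · have hx : x ∈ ⨆ i, gU σ i := by rw [hcov]; trivial
    obtain ⟨j, hj⟩ := Opens.mem_iSup.mp hx
    exact ⟨j, trivial, hj⟩

end final

end Groth.Agent.Lib.helper7.VAmpRel
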